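-- Certificate data for Fw4; generated by a coset enumerator, checked by the kernel.
import Cfsg.Agent.Lib.Compute.TCFast

set_option autoImplicit false
set_option maxRecDepth 1000000

open Cfsg.Agent.Lib.Compute.ToddCoxeterCore Cfsg.Agent.Lib.Compute.ToddCoxeterPresented Cfsg.Agent.Lib.Compute.TCFast

namespace Cfsg.Agent.Lib.Compute.TC.Fw4

/-- the packed entries -/
noncomputable def tE : TT := .node (nat_lit 5120) (.node (nat_lit 2048) (.node (nat_lit 1024) (.leaf (nat_lit 0x300014c30003ea00014c00000000c320002600000cc000000000010004670001750000000065300025f00006500000000000ffffff0000000003000064300025d00006400000000001000465000174000000000010004610001730000000000100045f00017200000000000ffffff0000000003000063300025b000063000200016730004400001670000000000100045a0001710000000000100045800017000000000000ffffff0000000000000000100045600016f000200016a300044800016a0000000000100045200016e0000000063300025900006300000000000ffffff000000000300006230002570000620000000000100045000016d00010000d130002750000d100000000cf300026d0000cf00000000000ffffff0000000000000000100044e00016c000200006230002550000620000000000100044a00016b0000000000100044500016a00000000000ffffff000000000000003020002530000c600020001663000438000166000100006130002520000610000000000100044300016900000000000ffffff000000000000001820002500000c50002000161300042a000161000000000010004410001680000000061300024f00006100000000000ffffff0000000000000000100043b0001670002000060300024d000060000000000010004350001660000000000100043300016500000000000ffffff00000000030000cf300026f0000cf0000000000100043100016400010000d630002840000d60000000060300024b00006000000000000ffffff0000000000000000100042d000163000200005f300024900005f0000000000100042b0001620000000000100042700016100000000000ffffff000000000000003020002470000c100000000001000425000160000100005f300024600005f00000000d630002860000d600000000000ffffff000000000000003c2000243000061000200005e300024000005e000000002520002420000c0000000000d20002410000c000000000000ffffff00000000030001053000314000105000000019b200023e0000bf000100005e300023d00005e0000000000100042300015f00000000000ffffff000000000300015b300041c00015b00000000c3200023b0000be0000000000100042100015e000000005e300023a00005e00000000000ffffff000000000300005d300023800005d0000000000100041f00015d0000000000100041d00015c0000000000100041900015b00000000000ffffff000000000000003020002350000670000000000100041600015a000100005c300023300005c000000000120002340000bc00000000000ffffff0000000000000018200022f00005f00000000001000413000159000000007b20002310000bb000000005c300022e00005c00000000000ffffff000000000300005a300022800005a000000003d20002290000a30000000000100041100015800000000c2200022b0000a000000000000ffffff0000000000000000100040f00015700020001523000401000152000100005a300022600005a0000000000100040b00015600000000000ffffff0000000003000059300022400005900000000001000409000155000100014430003d20001440000000000100040400015400000000000ffffff0000000000000000100040200015300020000593000222000059000000000010003fd000152000000000010003f900015100000000000ffffff000000000300014e30003f000014e0002000058300021f000058000000002520002200000b6000000000010003f600015000000000000ffffff000000000300013b30003ba00013b000000019b200021d0000b50001000058300021c000058000000000010003f100014f00000000000ffffff0000000003000057300021a000057000000000010003ed00014e000000000010003eb00014d000000000010003e700014c00000000000ffffff000000000000000010003e300014b000200014830003de00014800010000563000218000056000000000010003e100014a00000000000ffffff000000000000001820002160000b2000000000c20002140000a6000000000010003df0001490000000056300021300005600000000000ffffff000000000000003c20002110000b100020000553000210000055000000000010003db000148000000000010003d900014700000000000ffffff0000000000000018200020e0000b0000000000010003d7000146000100014230003cc0001420000000055300020d00005500000000000ffffff0000000000000302200020a0000a300020000543000207000054000000000010003d500014500000000c020002080000a600000000000ffffff000000000000000010003cf000144000000000010003cd00014300010000543000205000054000000000010003c900014200000000000ffffff000000000300013f30003c400013f00020000533000202000053000000002520002030000ad000000000010003c700014100000000000ffffff000000000000003020001fe000055000000019b20002000000ac000100005330001fc000053000000000120001fd0000ac00000000000ffffff000000000300013a30003b600013a000000000010003c5000140000000007b20001fa0000ab000000005330001f900005300000000000ffffff000000000300005230001f7000052000000000010003c100013f000000000010003bf00013e000000000010003bd00013d00000000000ffffff000000000300005130001f5000051000000000010003bb00013c000000000010003b700013b000000000010003b300013a00000000000ffffff000000000300005030001f3000050000000000010003ae00013900010001313000396000131000000000010003ac00013800000000000ffffff000000000000000010003aa000137000000000010003a60001360001000132300039c000132000000005030001f100005000000000000ffffff000000000300004f30001ef00004f00020000b230002150000b2000000000010003a400013500000000af30002090000af00000000000ffffff000000000000000010003a20001340000000000100039e000133000100004f30001ed00004f0000000000100039900013200000000000ffffff00000000000000001000393000131000200012e300038c00012e000100004e30001eb00004e0000000000100039100013000000000000ffffff00000000030000af300020b0000af00020000ba300022a0000ba0000000000100038f00012f000000004e30001e900004e00000000000ffffff000000000000003c20001e70000a2000200004d30001e600004d0000000000100038900012e0000000000100038700012d00000000000ffffff000000000000001820001e40000a10000000000100038500012c0001000128300037c000128000000004d30001e300004d00000000000ffffff000000000000003c20001e10000a0000200004c30001e000004c0000000000100038300012b00000000ba300022c0000ba00000000000ffffff0000000000000000100037f00012a0000000000100037d000129000100004c30001de00004c0000000000100037900012800000000000ffffff00000000030000e030002a40000e0000200004b30001db00004b000000002520001dc00009e0000000000100037700012700000000000ffffff000000000000003020001d700004d000000019b20001d900009d000100004b30001d500004b000000000120001d600009d00000000000ffffff0000000003000123300037000012300000000001000375000126000000007b20001d300009c000000004b30001d200004b00000000000ffffff000000000300004a30001d000004a00000000001000373000125000000000010003710001240000000000100036d00012300000000000ffffff000000000000003c20001cd000056000200004930001cb0000490000000000100036a000122000000000d20001cc00009a00000000000ffffff000000000000001820001c700004c00000000c320001c900009900000000001000367000121000000004930001c600004900000000000ffffff000000000300004730001c0000047000000003d20001c100007f000000019a20001c300007d0000000000100036500012000000000000ffffff0000000000000000100036300011f000200011930003500001190000000000100035f00011e000000004730001be00004700000000000ffffff000000000300004630001bc0000460000000000100035d00011d0000000000100035800011c0000000114300034000011400000000000ffffff0000000000000000100035600011b000200004630001ba0000460000000000100035200011a0000000000100034d00011900000000000ffffff000000000000003020001b8000094000000002420001b6000083000100004530001b50000450000000000100034b00011800000000000ffffff000000000000000010003470001170002000111300033800011100000000001000345000116000000004530001b300004500000000000ffffff000000000000034a20001b000007f000200004430001ad000044000000019820001ae0000830000000000100034300011500000000000ffffff0000000000000000100033d0001140000000000100033b000113000100010f300033000010f000000004430001ab00004400000000000ffffff000000000000003c20001a9000090000200004330001a8000043000000000010003390001120000000000100033500011100000000000ffffff000000000000003020001a600008f00000000001000333000110000100004330001a50000430000000000100032d00010f00000000000ffffff000000000300010c300032800010c000200004230001a20000420000000000100032b00010e000000000d20001a300008e00000000000ffffff000000000300010130003090001010000000000100032900010d0001000042300019f000042000000000120001a000008d00000000000ffffff0000000000000018200019a00004300000000c3200019d00008c000000007b200019c00008c0000000042300019900004200000000000ffffff000000000300004130001970000410000000000100032500010c0000000000100032300010b0000000000100032100010a00000000000ffffff0000000000000000100031f0001090000000024200019400004a000100004130001910000410000000001200019200006400000000000ffffff000000000300010630003180001060002000040300018e0000400000000000100031c000108000000000d200018f00008900000000000ffffff0000000003000100300030500010000000000c3200018c000088000000000010003190001070000000040300018b00004000000000000ffffff000000000300003f300018900003f00000000001000315000106000000000010003110001050000000000100030f00010400000000000ffffff0000000000000000100030c000103000000000c200018600004800000000002000184000052000000003f300018300003f00000000000ffffff000000000300003e300018100003e0000000000100030a000102000000000010003060001010000000000100030200010000000000000ffffff000000000000000010002ff0000ff000200003e300017b00003e000000013a200017e00004a0000000062200017c00004800000000000ffffff000000000300003d300017900003d000200009430001b7000094000100009230001af000092000000000010002fd0000fe00000000000ffffff000000000000000010002fb0000fd000000000010002f70000fc00010000f730002e80000f7000000003d300017700003d00000000000ffffff000000000300003c300017500003c000000000010002f20000fb000000000010002f00000fa00000000f530002e00000f500000000000ffffff000000000000000010002ee0000f9000000000010002ea0000f8000100003c300017300003c000000000010002e50000f700000000000ffffff000000000300009230001b1000092000200009830001c2000098000100003b300017100003b000000000010002e30000f600000000000ffffff000000000000000010002dd0000f500020000ef30002ce0000ef000000000010002db0000f4000000003b300016f00003b00000000000ffffff000000000000003c200016d00007d000200003a300016c00003a000100009830001c4000098000000000010002d90000f300000000000ffffff000000000000000010002d50000f2000000000010002d30000f100010000ed30002c80000ed000000003a300016a00003a00000000000ffffff000000000000003c200016800007b00020000393000167000039000000000010002d10000f0000000000010002cb0000ef00000000000ffffff0000000000000030200016500007a000000000010002c90000ee00010000393000164000039000000000010002c50000ed00000000000ffffff000000000000003c20001610000450002000038300015f00003800000000252000160000079000000000010002c20000ec00000000000ffffff0000000000000030200015b00003a000000019b200015d0000780001000038300015a000038000000000010002bf0000eb00000000000ffffff000000000000000010002bc0000ea0002000037300015400003700000000252000157000057000000000d200015500004100000000000ffffff00000000030000dc30002970000dc00020000363000151000036000000000010002ba0000e9000000000d200015200007600000000000ffffff00000000030000e630002b50000e6000000000010002b80000e80001000036300014e0000360000000001200014f00007500000000000ffffff0000000000000018200014900003900000000c3200014c000074000000007b200014b0000740000000036300014800003600000000000ffffff00000000030000353000146000035000000000010002b60000e7000000000010002b20000e6000000000010002b00000e500000000000ffffff000000000000000010002ae0000e4000200003530001400000350000000025200014300005d000000000d200014100005200000000000ffffff000000000000000010002ab0000e30000000061200013d0000510000000000200013b0000370000000035300013a00003500000000000ffffff00000000030000df30002a00000df000000000010002a80000e2000100003430001370000340000000001200013800007000000000000ffffff00000000030000da30002910000da000000000010002a50000e1000000007b200013500006f0000000034300013400003400000000000ffffff00000000030000333000132000033000000000010002a10000e00000000000100029d0000df0000000000100029b0000de00000000000ffffff000000000000000010002980000dd0000000210200012f0000640000000000200012d00005b0000000033300012c00003300000000000ffffff0000000003000032300012a000032000000000010002940000dc000000000010002920000db0000000000100028e0000da00000000000ffffff0000000000000000100028b0000d90000000212200012700005d000100003230001240000320000000060200012500005b00000000000ffffff000000000000000010002890000d800020000313000121000031000000000010002870000d7000000000d200012200006a00000000000ffffff000000000000000010002810000d60000000000100027f0000d50001000031300011e0000310000000001200011f00006900000000000ffffff00000000030000ce30002690000ce0002000030300011c0000300000000000100027c0000d4000000000010002790000d300000000000ffffff00000000030000bc30002360000bc000000000010002770000d20001000030300011a000030000000000010002720000d100000000000ffffff00000000000000182000117000031000000000010002700000d00000000000100026a0000cf0000000030300011600003000000000000ffffff000000000300002f300011400002f000000000010002640000ce000000000010002610000cd0000000000100025e0000cc00000000000ffffff0000000000000000100025c0000cb000200006d300013000006d000100002f300011200002f000000008a300019300008a00000000000ffffff0000000000000000100025a0000ca000200002e300010f00002e00000000252000110000063000000000010002580000c900000000000ffffff000000000000000010002560000c8000000000010002540000c70000000000200010d000062000000002e300010c00002e00000000000ffffff00000000030000c030002440000c0000200002d300010a00002d000000000010002510000c60000000000100024e0000c500000000000ffffff0000000000000030200010700002e0000000000100024c0000c4000100002d300010600002d0000000000100024a0000c300000000000ffffff00000000030000bb30002300000bb000000000010002480000c2000000000010002450000c1000000002d300010400002d00000000000ffffff000000000300002c300010200002c0000000000100023f0000c00000000000100023c0000bf000000000010002390000be00000000000ffffff000000000000000010002370000bd000200006b300012800006b00010000723000144000072000000002c300010000002c00000000000ffffff000000000300002b30000fd00002b000000003d20000fe00005c000000000010002320000bc0000000000100022d0000bb00000000000ffffff000000000000053620000fb00005b000200002b30000fa00002b000100006d300012e00006d000000006b300012600006b00000000000ffffff000000000000000010002270000ba000200002a30000f700002a000000000010002250000b9000000000d20000f800005a00000000000ffffff000000000000000010002230000b8000000000010002210000b7000100002a30000f400002a000000000120000f500005900000000000ffffff000000000300002930000f10000290000000000100021e0000b60000000000100021b0000b5000000001920000f200005800000000000ffffff000000000000000010002190000b4000200002930000ed00002900010000773000158000077000000000d20000ee00002f00000000000ffffff000000000300009a30001ce00009a000200002830000eb000028000000000010002170000b3000000000010002120000b200000000000ffffff00000000030000ac30001ff0000ac0000000000100020f0000b1000100002830000e90000280000000000100020c0000b000000000000ffffff000000000000001820000e600002a000000000010002060000af000000000010002040000ae000000002830000e500002800000000000ffffff000000000300002730000e3000027000000000010002010000ad000000000010001fb0000ac000000000010001f80000ab00000000000ffffff000000000000000010001f60000aa000200002730000e1000027000100008630001850000860000000072300014200007200000000000ffffff000000000000000010001f40000a90002000071300013e000071000000000020000de000029000000002730000dd00002700000000000ffffff000000000000000010001f20000a8000000002420000db000050000100002630000da000026000000000010001f00000a700000000000ffffff000000000000000010001ee0000a6000000000c20000d800004f000000000010001ec0000a5000000002630000d700002600000000000ffffff000000000000003c20000d4000026000200002530000d3000025000000000010001ea0000a4000000000010001e80000a300000000000ffffff000000000300009d30001d800009d000000000010001e50000a2000100002530000d1000025000000000010001e20000a100000000000ffffff000000000300009930001c8000099000000000010001df0000a0000000000010001dd00009f000000002530000cf00002500000000000ffffff000000000300002430000cd000024000000000010001da00009e000000000010001d400009d000000000010001d100009c00000000000ffffff000000000000000010001cf00009b000200008a300019500008a0001000084300017f000084000000002430000cb00002400000000000ffffff000000000300002330000c8000023000000000010001ca00009a000000003120000c9000049000000000010001c500009900000000000ffffff000000000000045e20000c600004800020000863000187000086000100002330000c50000230000000084300017d00008400000000000ffffff000000000000000010001bf000098000200002230000c2000022000000002520000c3000047000000000010001bd00009700000000000ffffff000000000000000010001bb000096000000000010001b9000095000000000020000c0000046000000002230000bf00002200000000000ffffff00000000030000793000162000079000200002130000bd000021000000000010001b4000094000000000010001b200009300000000000ffffff000000000000003020000ba000022000000000010001ac000092000100002130000b9000021000000000010001aa00009100000000000ffffff000000000300008c300019b00008c000000000010001a7000090000000000010001a400008f000000002130000b700002100000000000ffffff000000000300002030000b5000020000000000010001a100008e0000000000100019e00008d0000000000100019800008c00000000000ffffff0000000000000000100019600008b000200002030000b30000200000000000100019000008a0000000077300015600007700000000000ffffff000000000300001f30000b000001f0000000000100018d000089000000003120000b10000400000000000100018a00008800000000000ffffff00000000000000001000188000087000200001f30000ac00001f000000002520000ad00002c0000000000100018200008600000000000ffffff000000000000000010001800000850000000000100017a000084000000000020000a9000020000000001f30000a800001f00000000000ffffff00000000000000001000178000083000000002420000a600003d000100001e30000a500001e0000000000100017600008200000000000ffffff00000000000000001000174000081000000000c20000a300003c00000000001000172000080000000001e30000a200001e00000000000ffffff000000000000003c200009f00001e000200001d300009e00001d0000000000100017000007f0000000000100016e00007e00000000000ffffff0000000003000078300015c0000780000000000100016b00007d000100001d300009c00001d0000000000100016900007c00000000000ffffff0000000003000074300014a0000740000000000100016600007b0000000000100016300007a000000001d300009a00001d00000000000ffffff000000000300001c300009700001c0000000000100015e000079000000000010001590000780000000019200009800003800000000000ffffff00000000000004a92000095000037000000000010001530000770001000071300013c000071000000001c300009400001c00000000000ffffff000000000300001b300009200001b000000000010001500000760000000000100014d0000750000000000100014700007400000000000ffffff000000000000000010001450000730000000000100013f000072000100001b300009000001b0000000000100013900007100000000000ffffff000000000300001a300008d00001a000000003d200008e000034000000000010001360000700000000000100013300006f00000000000ffffff0000000000000000100013100006e0000000024200008a000024000100001a300008900001a0000000000100012b00006d00000000000ffffff0000000000000000100012900006c000000000c200008600001b0000000000100012300006b000000001a300008500001a00000000000ffffff000000000300006630001180000660000000000100012000006a0000000000100011d0000690000000019300008300001900000000000ffffff000000000300001830000810000180000000000100011b000068000000000010001190000670000000000100011500006600000000000ffffff000000000000000010001130000650002000018300007f00001800000000001000111000064000000005730000ef00005700000000000ffffff000000000300006030001080000600000000000100010e0000630001000017300007d0000170000000000100010b00006200000000000ffffff0000000003000016300007b00001600000000001000109000061000000000010001050000600000000000100010300005f00000000000ffffff0000000000000000100010100005e00020000163000079000016000100003f30000ae00003f000000000010000ff00005d00000000000ffffff000000000000000010000fc00005c000000000010000f900005b000000000020000760000180000000016300007500001600000000000ffffff000000000300005430000e7000054000000000010000f600005a000000000010000f30000590000000015300007300001500000000000ffffff000000000000000010000f0000058000000000010000ec000057000100005130000df0000510000000014300007100001400000000000ffffff0000000003000013300006f000013000000000010000ea000056000000000010000e8000055000000000010000e400005400000000000ffffff000000000000000010000e2000053000000000010000e00000520001000013300006d000013000000000010000dc00005100000000000ffffff000000000300004e30000d500004e0002000012300006b000012000000000010000d9000050000000000010000d600004f00000000000ffffff00000000030000113000069000011000000000010000d200004e000000000010000d000004d000000000010000ce00004c00000000000ffffff000000000000000010000cc00004b0002000033300008b00003300010000113000067000011000000000010000ca00004a00000000000ffffff000000000000000010000c7000049000000000c2000064000013000000000010000c40000480000000011300006300001100000000000ffffff000000000300004430000bb000044000000000010000c100004700010000103000061000010000000000010000be00004600000000000ffffff000000000300000f300005f00000f000000000010000bc000045000000000010000b8000044000000000010000b600004300000000000ffffff000000000000000010000b4000042000000000010000b2000041000100003e30000aa00003e000000000f300005d00000f00000000000ffffff000000000000000010000af000040000000000010000ab00003f000100000e300005b00000e000000000010000a700003e00000000000ffffff000000000300003b30000a000003b000200000d300005900000d000000000010000a400003d000000000010000a100003c00000000000ffffff000000000300000c300005700000c0000000000100009d00003b0000000000100009b00003a0000000000100009900003900000000000ffffff000000000000000010000960000380000000024200005400000f000100000c300005300000c0000000000100009300003700000000000ffffff00000000000000001000091000036000200003230000870000320000000000100008f000035000000000c300005100000c00000000000ffffff0000000000000000100008c000034000200000b300004f00000b000000000010000880000330000000000100008400003200000000000ffffff000000000300000a300004b00000a000000003d200004d0000190000000031200004c0000190000000000100008200003100000000000ffffff000000000000000010000800000300000000000100007e00002f000100002b300007700002b000000000a300004900000a00000000000ffffff00000000030000093000045000009000000003d20000470000170000000000100007c00002e0000000019200004600001700000000000ffffff0000000000000000100007a00002d0000000000100007800002c000100000930000430000090000000000100007400002b00000000000ffffff0000000003000008300003f000008000000003d2000041000015000000003120000400000150000000000100007200002a00000000000ffffff0000000000000199200003d0000140000000024200003b00000a0001000008300003a0000080000000000100007000002900000000000ffffff0000000000000000100006e000028000200002330000650000230000000000100006c0000270000000008300003800000800000000000ffffff000000000300000730000340000070000000000100006a000026000000003120000360000120000000019200003500001200000000000ffffff0000000000000000100006800002500020000073000032000007000000000010000660000240000000000100006200002300000000000ffffff0000000003000006300002e000006000000003d2000030000010000000000010000600000220000000019200002f00001000000000000ffffff0000000000000000100005e000021000200001c300005500001c0001000006300002c0000060000000000100005c00002000000000000ffffff00000000000000c1200002a00000e000000000c20000280000090000000000100005a00001f0000000006300002700000600000000000ffffff000000000300000530000230000050000000000100005800001e0000000031200002500000d0000000019200002400000d00000000000ffffff0000000000000000100005600001d000200000530000210000050000000000100005200001c0000000000100005000001b00000000000ffffff0000000000000079200001f00000b0000000000100004e00001a0000000000200001d0000070000000005300001c00000500000000000ffffff0000000000000000100004a0000190002000014300003c0000140001000004300001a0000040000000000100004800001800000000000ffffff00000000000000001000044000017000200000e300002900000e000000000010000420000160000000004300001800000400000000000ffffff0000000000000000100003e00001500020000033000016000003000000000010000390000140000000000100003700001300000000000ffffff0000000000000000100003300001200000000001000031000011000100000b300001e00000b0000000003300001400000300000000000ffffff0000000000000000100002d000010000200000230000120000020000000000100002b00000f0000000000100002600000e00000000000ffffff0000000000000000100002200000d0000000000100002000000c000100000230000100000020000000000100001b00000b00000000000ffffff000000000000003c200000e0000040002000001300000d0000010000000000100001900000a0000000000100001700000900000000000ffffff0000000000000030200000b000003000000000010000150000080001000001300000a0000010000000000100001300000700000000000ffffff00000000000000182000008000002000000000010000110000060000000000100000f0000050000000001300000700000100000000000ffffff000000000300000030000050000000000000000100000c000004000000000010000090000030000000000100000600000200000000000ffffff00000000000000001000004000001000000000250000030000000000000001500000200000000000000005000001000000)) (.leaf (nat_lit 0x10008cd0002e5000000000010008cb0002e400000000e430004d80000e400000000000ffffff000000000000003c20004d500013c00020000e330004d40000e3000000000010008c70002e3000000000010008c40002e200000000000ffffff000000000000001820004d10000e5000000000010008c10002e100010001ad300051e0001ad00000000e330004d00000e300000000000ffffff000000000000000010008bf0002e0000000000c20004ce000196000000000010008ba0002df00000000e230004cd0000e200000000000ffffff000000000000000010008b80002de000000002420004cb00019500010000e130004ca0000e1000000000010008b50002dd00000000000ffffff000000000000000010008b10002dc00020002d730008a80002d7000000000010008af0002db00000000e030004c80000e000000000000ffffff000000000000001820004c6000193000000000010008ad0002da00010002d530008a00002d500000000df30004c50000df00000000000ffffff000000000000000010008ab0002d900020000de30004c30000de000000000010008a90002d8000000000010008a50002d700000000000ffffff00000000000002ea20004c000018c000000000010008a30002d600010000de30004bf0000de0000000000100089d0002d500000000000ffffff000000000000003c20004bc00017400020000dd30004bb0000dd00010002b3300083a0002b30000000000100089a0002d400000000000ffffff000000000000001820004b80000de000000000010008970002d3000000000010008910002d200000000dd30004b70000dd00000000000ffffff0000000000000000100088d0002d100020002ce30008880002ce00010000dc30004b50000dc0000000000100088b0002d000000000000ffffff000000000000000010008890002cf00020000db30004b30000db000000000010008850002ce000000000010008830002cd00000000000ffffff000000000300019130004c1000191000000000010008810002cc00010002ca300087e0002ca00000000db30004b10000db00000000000ffffff000000000000003020004af00018b0000000000100087f0002cb00010000da30004ae0000da0000000000100087b0002ca00000000000ffffff000000000000003c20004ab00015d00020000d930004aa0000d9000000000010008780002c9000000028130007a600028100000000000ffffff000000000000003020004a70000db000000000010008750002c800010000d930004a60000d9000000000010008710002c700000000000ffffff00000000030001f130005f50001f10000000000100086f0002c600010000d830004a40000d80000000000100086d0002c500000000000ffffff000000000000001820004a2000187000000000c20004a000014c0000000000100086b0002c400000000d8300049f0000d800000000000ffffff00000000030000d7300049d0000d7000000000010008690002c300010001f130005f30001f1000000000010008670002c200000000000ffffff000000000000000010008650002c1000000000c200049b0001850000000000200049a00018500000000d730004990000d700000000000ffffff00000000030002be300085c0002be00020000d630004970000d6000000000010008610002c00000000000100085d0002bf00000000000ffffff00000000030000d530004950000d5000000000010008590002be000000000010008570002bd000000000010008550002bc00000000000ffffff000000000000000010008530002bb000000002420004920000d700010000d530004900000d50000000001200049100018200000000000ffffff000000000000000010008510002ba000000000c200048d0001810000000063200048e00018100000000d5300048c0000d500000000000ffffff0000000000000000100084c0002b9000000000010008490002b800010002b530008410002b500000000d4300048a0000d400000000000ffffff000000000000000010008450002b7000000000010008430002b600010000d330004880000d30000000000100083e0002b500000000000ffffff00000000030000d230004840000d200020002723000778000272000000019a20004850001740000000000100083c0002b400000000000ffffff000000000000000010008360002b3000000002420004810000d400010000d230004800000d2000000000010008330002b200000000000ffffff000000000000000010008310002b100020002ad30008270002ad0000000000100082f0002b000000000d2300047e0000d200000000000ffffff0000000000000000100082c0002af00020000d1300047c0000d1000000000010008280002ae000000000010008240002ad00000000000ffffff00000000030000d030004760000d0000000003d20004790000d8000000000010008220002ac0000000019200047700014e00000000000ffffff0000000000000000100081f0002ab000200023430006c100023400010000d030004740000d00000000000100081c0002aa00000000000ffffff00000000000000c12000471000150000000000c200046f0000d30000000000100081a0002a900000000d0300046e0000d000000000000ffffff000000000000000010008140002a800020000cf300046c0000cf000100023430006bf0002340000000000100080e0002a700000000000ffffff0000000000000000100080c0002a6000000000010008080002a500010002a230008000002a200000000cd300046a0000cd00000000000ffffff000000000000000010008060002a4000000000010008020002a300010000cc30004680000cc000000000010007fd0002a200000000000ffffff000000000300019030004bd00019000020000cb30004660000cb000100017e300048600017e000000000010007fb0002a100000000000ffffff000000000000003020004630000cd000000000010007f60002a000010000cb30004620000cb000000000010007f400029f00000000000ffffff00000000030001dc30005a90001dc000000000010007f200029e000000000010007f000029d00000000cb30004600000cb00000000000ffffff0000000000000030200045e0001710000000024200045c00010500010000ca300045b0000ca000000000010007ee00029c00000000000ffffff000000000300024a30006ff00024a000000000010007ec00029b000000000010007ea00029a00000000ca30004590000ca00000000000ffffff00000000030000c930004570000c9000000000010007e8000299000000000010007e6000298000000024a30006fd00024a00000000000ffffff000000000000000010007e40002970000000024200045500016e00010000c930004530000c90000000001200045400016e00000000000ffffff000000000300029430007df00029400020000c830004510000c8000000000010007e2000296000000000010007e000029500000000000ffffff00000000030000c7300044f0000c7000000000010007dc000294000000000010007da000293000000000010007d800029200000000000ffffff000000000000000010007d60002910000000024200044d00016b00010000c7300044b0000c70000000001200044c00016b00000000000ffffff000000000000000010007d4000290000000000c20004470000c90000000063200044900016a00000000c730004460000c700000000000ffffff000000000000000010007d000028f000000000010007ce00028e000100028b30007c400028b00000000c630004440000c600000000000ffffff000000000000000010007c900028d000000000010007c600028c00010000c530004420000c5000000000010007c100028b00000000000ffffff00000000030000c4300043c0000c4000000003d200043f0000ca0000000031200043d000106000000000010007bf00028a00000000000ffffff00000000000001992000439000108000000002420004370000c600010000c430004360000c4000000000010007bd00028900000000000ffffff000000000000000010007ba00028800020001c330005650001c3000000000010007b700028700000000c430004340000c400000000000ffffff000000000000000010007b300028600020000c330004320000c3000000000010007af00028500000001c330005630001c300000000000ffffff00000000030000c2300042e0000c200020002703000771000270000000000010007ad00028400000000c2200042f00015d00000000000ffffff000000000000000010007ab000283000200027e300079c00027e00010000c2300042c0000c2000000000010007a900028200000000000ffffff000000000000000010007a3000281000000000c20004290000c5000000000010007a000028000000000c230004280000c200000000000ffffff0000000000000000100079d00027f00020000c130004260000c10000000000100079900027e0000000000100079700027d00000000000ffffff0000000000000000100079500027c0000000000100079100027b0001000278300078900027800000000bf30004240000bf00000000000ffffff0000000000000000100078f00027a0000000000100078b00027900010000be30004220000be0000000000100078600027800000000000ffffff000000000300018a30004ac00018a00020000bd30004200000bd000000000010007840002770000000163300043000016300000000000ffffff000000000300019a30004de00019a0000000000100078200027600010000bd300041e0000bd0000000000100078000027500000000000ffffff0000000000000018200041b0000be0000000000100077b0002740000000000100077900027300000000bd300041a0000bd00000000000ffffff0000000000000000100077500027200020000bc30004170000bc0000000025200041800015a0000000000100077200027100000000000ffffff0000000000000000100076e00027000020000bb30004140000bb0000000000100076b00026f000000000d200041500015900000000000ffffff000000000300026b300076000026b0000000000100076700026e00010000ba30004120000ba0000000000100076300026d00000000000ffffff00000000030000b930004100000b90000000000100076100026c0000000000100075d00026b0000000000100075b00026a00000000000ffffff00000000000000001000759000269000000000c200040e0001560000000000200040d00015600000000b9300040c0000b900000000000ffffff00000000030001ba300054b0001ba00020000b8300040a0000b8000000000010007570002680000000000100075500026700000000000ffffff00000000000000182000408000154000000000010007530002660000000000200040600013a00000000b830004050000b800000000000ffffff00000000030000b730004030000b700020001ba30005490001ba000000000010007510002650000000000100074f00026400000000000ffffff0000000000000000100074d000263000000002420004000000b900010000b730003fe0000b7000000000120003ff00015200000000000ffffff0000000000000000100074b000262000000000c20003fb000151000000006320003fc00015100000000b730003fa0000b700000000000ffffff00000000030001783000472000178000000000c20003f80001500000000000100074800026100000000b630003f70000b600000000000ffffff000000000000001820003f400014200000000001000745000260000000000020003f300014f00000000b530003f20000b500000000000ffffff000000000000003c20003ef0000b600020000b430003ee0000b40000000000100074200025f000000017a300047800017a00000000000ffffff00000000030001a730005060001a70000000000100073e00025e00010000b430003ec0000b40000000000100073c00025d00000000000ffffff000000000000001820003e90000cc000200018730004a10001870000000000100073a00025c00000000b430003e80000b400000000000ffffff00000000030000b330003e40000b3000000027220003e500013e000100020e300064c00020e0000000000100073800025b00000000000ffffff0000000000000000100073600025a000000000010007340002590001000256300072c00025600000000b330003e20000b300000000000ffffff000000000000000010007310002580000000000100072d00025700010000b230003e00000b20000000000100072900025600000000000ffffff00000000000000001000723000255000000002420003dd0000b300010000b130003dc0000b10000000000100072000025400000000000ffffff0000000000000000100071b000253000200024f300071000024f0000000000100071800025200000000b130003da0000b100000000000ffffff0000000000000000100071400025100020000b030003d80000b0000000000010007120002500000000000100070d00024f00000000000ffffff0000000000000000100070900024e000200024a30006fb00024a00010000af30003d60000af0000000000100070500024d00000000000ffffff00000000030000ae30003d00000ae0000000000100070300024c000000003120003d10000b8000000007a20003d300013b00000000000ffffff0000000000000000100070000024b00020000ae30003ce0000ae000000000010006f800024a000000000010006f500024900000000000ffffff000000000300014f30003f500014f000000000010006f3000248000000000020003cb0000b000000000ae30003ca0000ae00000000000ffffff000000000000000010006f1000247000200024330006e5000243000000000010006ed00024600000000ad30003c80000ad00000000000ffffff000000000000000010006eb00024500020000ab30003c60000ab000000000010006e7000244000000000010006e200024300000000000ffffff000000000000003c20003c30000ad00020000aa30003c20000aa000000000010006dd000242000000000010006db00024100000000000ffffff00000000030001d530005940001d5000200014b30003e600014b00010000aa30003c00000aa000000000010006d900024000000000000ffffff000000000300019930004da000199000000000010006d700023f000000000010006d500023e00000000aa30003be0000aa00000000000ffffff000000000300019830004d600019800020000a930003bc0000a9000000000010006d300023d000000000010006d100023c00000000000ffffff000000000000003020003b90000b5000000000010006ce00023b00010000a930003b80000a9000000014430003d400014400000000000ffffff000000000000001820003b50000ab000000000010006cc00023a0001000154300040700015400000000a930003b40000a900000000000ffffff000000000000003c20003b200013900020000a830003af0000a8000000002520003b00000e0000000000010006ca00023900000000000ffffff000000000300023430006bd000234000000000010006c8000238000000000010006c600023700000000a830003ad0000a800000000000ffffff00000000030000a730003ab0000a7000000000010006c4000236000000000010006c2000235000000000010006ba00023400000000000ffffff000000000000000010006b800023300020000a730003a70000a7000000002520003a9000136000000000d20003a800013600000000000ffffff000000000300022f30006b100022f000000000010006b600023200010000a630003a50000a6000000000010006b400023100000000000ffffff00000000030000a530003a30000a5000000000010006b2000230000000000010006ae00022f000000000010006ac00022e00000000000ffffff000000000000000010006aa00022d00020000a5300039f0000a5000000002520003a1000133000000000d20003a000013300000000000ffffff000000000000000010006a800022c0000000061200039d0001320000000000200039b0000a700000000a5300039a0000a500000000000ffffff00000000030000a430003940000a4000000003d20003970000df000000003120003950000a8000000000010006a600022b00000000000ffffff000000000000000010006a300022a000000000010006a00002290001000201300062600020100000000a430003920000a400000000000ffffff0000000000000000100069c0002280000000000100069800022700010000a330003900000a30000000201300062400020100000000000ffffff0000000000000199200038d0000e20000000024200038b0000a400010000a2300038a0000a20000000000100069600022600000000000ffffff00000000000000001000692000225000200022130006860002210000000000100069000022400000000a230003880000a200000000000ffffff0000000000000000100068b00022300020000a130003860000a1000000000010006880002220000000000100068300022100000000000ffffff00000000000000001000680000220000200021c300067900021c00010000a030003840000a00000000000100067e00021f00000000000ffffff000000000300009f300038000009f0000000000100067c00021e000100020c300064500020c000000007a200038100012400000000000ffffff0000000000000000100067a00021d000200009f300037e00009f0000000000100067600021c0000000000100067400021b00000000000ffffff0000000000000000100066e00021a0000000000100066b0002190000000000200037b0000a1000000009f300037a00009f00000000000ffffff000000000000000010006690002180002000214300065d00021400000000001000665000217000000009e300037800009e00000000000ffffff00000000000000001000663000216000200009c300037600009c0000000000100065f0002150000000000100065a00021400000000000ffffff00000000030001de30005b10001de000200009b300037400009b000000000010006580002130000000000100065600021200000000000ffffff00000000030001ce300057f0001ce00000000001000654000211000100009b300037200009b000000012a300038200012a00000000000ffffff0000000000000018200036f00009c000000000010006520002100000000000100064d00020f000000009b300036e00009b00000000000ffffff0000000000000000100064900020e0000000024200036c000122000100009a300036b00009a0000000000100064600020d00000000000ffffff0000000000000000100064200020c0000000000100063f00020b000100009930003680000990000000001200036900012100000000000ffffff000000000300020630006320002060000000000100063b00020a000000000010006370002090000000098300036600009800000000000ffffff0000000003000097300036400009700000000001000635000208000000000010006330002070000000000100062f00020600000000000ffffff0000000000000000100062d0002050000000024200036200011e000100009730003600000970000000001200036100011e00000000000ffffff000000000300020130006220002010002000096300035e0000960000000000100062b0002040000000000100062900020300000000000ffffff0000000000000030200035c00011c00000000001000627000202000100009630003590000960000000001200035a00010100000000000ffffff000000000300009530003570000950000000000100061f0002010000000000100061d0002000000000000100061b0001ff00000000000ffffff000000000000000010006190001fe0000000024200035500011a000100009530003530000950000000001200035400011a00000000000ffffff000000000000000010006170001fd000000000c200034f000097000000006320003510001190000000095300034e00009500000000000ffffff000000000000000010006140001fc000000000010006100001fb00010001f730006090001f70000000094300034c00009400000000000ffffff00000000030000933000348000093000000022a200034900010a0000000000100060e0001fa00000001ab30005160001ab00000000000ffffff0000000000000000100060c0001f90000000000100060a0001f800010000933000346000093000000000010006060001f700000000000ffffff000000000000000010006020001f600020001f130005f10001f1000000000010005fe0001f50000000092300034400009200000000000ffffff0000000003000091300033e000091000000000010005fc0001f4000000003120003410001000000000019200033f00009600000000000ffffff000000000000000010005f90001f30002000091300033c000091000000000010005f60001f2000000000010005ee0001f100000000000ffffff000000000000000010005e90001f000020001eb30005d70001eb0001000090300033a000090000000000010005e60001ef00000000000ffffff000000000000000010005e00001ee000000000c2000337000093000000000010005dd0001ed0000000090300033600009000000000000ffffff000000000000000010005d90001ec000200008f300033400008f000000000010005d40001eb000000000010005d20001ea00000000000ffffff00000000000000792000331000107000000000010005d00001e90000000000200032f000091000000008f300032e00008f00000000000ffffff000000000000000010005ce0001e800020001e530005c70001e5000100008e300032c00008e000000000010005ca0001e700000000000ffffff000000000000000010005c80001e6000200008d300032a00008d000000000010005c30001e5000000000010005bf0001e400000000000ffffff000000000000003c200032700008e000200008b300032600008b000000000010005bd0001e3000000000010005b80001e200000000000ffffff00000000030001dd30005ad0001dd000000000010005b60001e1000100008b300032400008b000000000010005b40001e000000000000ffffff00000000030001a630005020001a60002000117300034a000117000000000010005b20001df000000008b300032200008b00000000000ffffff000000000300008a300032000008a000000000010005ae0001de000000000010005aa0001dd000000000010005a60001dc00000000000ffffff0000000003000166300043a0001660000000024200031e0001080001000089300031d000089000000000010005a30001db00000000000ffffff000000000300010f300033200010f000000000010005a00001da0001000088300031a0000880000000001200031b00010700000000000ffffff000000000000003c2000317000089000200008730003160000870001000167300043e0001670000000000100059d0001d900000000000ffffff000000000000003020003130000bf0002000171300045d000171000100008730003120000870000000000100059b0001d800000000000ffffff00000000030001d430005900001d4000000000010005970001d7000000000010005950001d60000000087300031000008700000000000ffffff0000000003000086300030d000086000000003d200030e000103000000000010005910001d50000000000100058d0001d400000000000ffffff00000000030001cf30005830001cf0002000085300030b0000850000000000100058b0001d3000000000010005890001d200000000000ffffff0000000000000030200030800008d000000000010005870001d100010000853000307000085000000011c300035b00011c00000000000ffffff00000000000000182000304000088000000000010005840001d0000100011430003420001140000000085300030300008500000000000ffffff00000000030000843000300000084000000000010005800001cf0000000000100057c0001ce000000001920003010000ff00000000000ffffff00000000030001c930005730001c90000000000100057a0001cd000000000010005780001cc000000008330002fe00008300000000000ffffff000000000300008230002fc000082000000000010005760001cb000000000010005740001ca000000000010005700001c900000000000ffffff0000000000000000100056e0001c8000200008230002f8000082000000002520002fa0000fc000000000d20002f90000fc00000000000ffffff000000000000003c20002f60000fb000200008130002f30000810000000000100056c0001c7000000000d20002f40000dc00000000000ffffff00000000030001c330005610001c30000000000100056a0001c6000100008130002f1000081000000000010005680001c500000000000ffffff000000000300008030002ef000080000000000010005660001c40000000000100055e0001c30000000000100055c0001c200000000000ffffff0000000000000000100055a0001c1000200008030002eb000080000000002520002ed0000f8000000000d20002ec0000f800000000000ffffff000000000000000010005580001c0000000006120002e90000f7000000000020002e7000082000000008030002e600008000000000000ffffff000000000000000010005560001bf000000000010005540001be00010001ba30005470001ba000000007f30002e400007f00000000000ffffff000000000300007e30002de00007e000000003d20002e10000da000000000010005520001bd000000001920002df00008100000000000ffffff0000000000000000100054f0001bc0000000000100054c0001bb000100007e30002dc00007e000000000010005440001ba00000000000ffffff000000000000000010005410001b900020001b430005380001b40000000000100053f0001b8000000007d30002da00007d00000000000ffffff000000000300007c30002d600007c0000000000100053d0001b7000000015220002d70000e500000001a9300050d0001a900000000000ffffff0000000000000000100053b0001b6000200007c30002d400007c000000000010005390001b5000000000010005350001b400000000000ffffff000000000000000010005310001b300020001af30005260001af000100007b30002d200007b0000000000100052f0001b200000000000ffffff00000000000000c120002cf0000e1000000000c20002cd00007e0000000000100052d0001b1000000007b30002cc00007b00000000000ffffff000000000000000010005280001b0000200007a30002ca00007a000000000010005230001af000000000010005200001ae00000000000ffffff0000000000000000100051a0001ad000000000010005170001ac000000000020002c700007c000000007a30002c600007a00000000000ffffff000000000000000010005130001ab000000000c20002c40000ec000000000010005100001aa000000007930002c300007900000000000ffffff0000000000000000100050a0001a9000000000010005070001a8000000000020002c10000eb000000007830002c000007800000000000ffffff000000000300007730002bd000077000000003d20002be0000ea000000000010005030001a7000000000010004ff0001a600000000000ffffff000000000000000010004fd0001a500020001a230004f60001a2000100007630002bb000076000000000010004f90001a400000000000ffffff000000000000000010004f70001a3000200007530002b9000075000000000010004f20001a2000000000010004ee0001a100000000000ffffff000000000300019b30004e200019b000200007330002b7000073000000000010004ec0001a0000000000010004ea00019f00000000000ffffff000000000000003020002b4000075000000000010004e800019e000100007330002b3000073000000000010004e500019d00000000000ffffff000000000300019730004d2000197000000000010004e300019c00010000f230002d80000f2000000007330002b100007300000000000ffffff000000000300007230002af000072000000000010004df00019b000000000010004db00019a000000000010004d700019900000000000ffffff000000000300007130002ac000071000000000010004d3000198000000003120002ad0000e3000000000010004cf00019700000000000ffffff000000000300012e300038e00012e000200007030002a9000070000000002520002aa0000e2000000000010004cc00019600000000000ffffff00000000030000ef30002d00000ef000200006f30002a600006f000000000010004c9000195000000000d20002a70000e100000000000ffffff000000000000003c20002a300009e000200006e30002a200006e000100013930003b1000139000000000010004c700019400000000000ffffff0000000000000030200029f00007000020001313000398000131000100006e300029e00006e000000000010004c400019300000000000ffffff000000000300018f30004b900018f000000000010004c2000192000000000010004be000191000000006e300029c00006e00000000000ffffff000000000300006d300029900006d000000000010004ba0001900000000031200029a0000dd000000000010004b600018f00000000000ffffff000000000000003c2000296000076000200006c300029500006c000000000010004b400018e00000000fb30002f50000fb00000000000ffffff000000000300018930004a8000189000000000010004b200018d000100006c300029300006c000000000010004b000018c00000000000ffffff0000000000000018200029000006f00020000f530002e20000f5000000000010004ad00018b000000006c300028f00006c00000000000ffffff000000000300006b300028c00006b000000000010004a900018a000000000010004a50001890000000019200028d0000d900000000000ffffff000000000300006a300028a00006a000200017a300047a00017a000000000010004a30001880000000000100049e00018700000000000ffffff0000000000000000100049c00018600020001823000493000182000100006a300028800006a0000000000100049800018500000000000ffffff0000000003000069300028200006900000000001000496000184000000003120002830000c3000000007a20002850000c100000000000ffffff00000000000000001000494000183000200006930002800000690000000000100048f0001820000000000100048b00018100000000000ffffff0000000000000030200027e0000d4000200017d300048200017d0001000068300027d0000680000000000100048900018000000000000ffffff0000000000000018200027b0000d3000200017830004700001780000000000100048700017f0000000068300027a00006800000000000ffffff0000000000000000100048300017e000200006730002780000670000000000100047f00017d0000000000100047d00017c00000000000ffffff000000000000001820002760000d10000000000100047b00017b000000000020002740000c80000000067300027300006700000000000ffffff0000000000000000100047500017a00020000663000271000066000000000010004730001790000000000100046d00017800000000000ffffff00000000000002ea200026e0000c30000000000100046b0001770001000066300026b0000660000000078200026c0000c800000000000ffffff000000000000003c200026800006800020000653000265000065000000002520002670000ce000000000d20002660000ce00000000000ffffff00000000030001733000464000173000000019b20002630000cd000100006530002620000650000000000100046900017600000000000ffffff000000))) (.node (nat_lit 3072) (.leaf (nat_lit 0x1000d6700043800000000001000d6300043700000000000ffffff00000000030004353000d5a0004350002000321300098e000321000100015330007520001530000000306300093800030600000000000ffffff00000000030004313000d49000431000200031c300097a00031c000100030530009340003050000000153300075000015300000000000ffffff0000000003000152300074e00015200000000001000d5d00043600000000001000d5700043500000000001000d5000043400000000000ffffff0000000003000151300074c00015100000000001000d4d00043300000000001000d4a00043200000000001000d4600043100000000000ffffff00000000000000001000d4400043000000000001000d3f00042f000100015030007490001500000000001200074a00026100000000000ffffff00000000000000001000d3b00042e000200014f300074600014f00000000001000d3800042d000000000d200074700026000000000000ffffff0000000000000030200074400025f000200042b3000d3300042b000100014e300074300014e00000000001000d3600042c00000000000ffffff000000000000034a200074000023d000200014d300073f00014d00000000001000d3000042b00000000001000d2c00042a00000000000ffffff00000000000000001000d2a00042900000000001000d2600042800010004253000d1f000425000000014d300073d00014d00000000000ffffff00000000000000001000d2200042700000000001000d20000426000100014c300073b00014c00000000001000d1c00042500000000000ffffff00000000030004203000d0900042000000000001000d1500042400000000001000d12000423000000014b300073900014b00000000000ffffff000000000300014a300073700014a00000000001000d0f00042200000000001000d0c00042100000000001000d0600042000000000000ffffff00000000000000001000d0400041f000200014a300073500014a00000000001000d0200041e00000004173000cf300041700000000000ffffff0000000003000149300073200014900000000001000d0000041d0000000031200073300025800000000001000cfe00041c00000000000ffffff00000000000000001000cfc00041b0002000149300072e0001490000000025200072f00023200000000001000cfa00041a00000000000ffffff00000000000000001000cf800041900000000001000cf60004180000000000200072b00014a0000000149300072a00014900000000000ffffff00000000030001483000724000148000000003d20007270001d5000000003120007260002550000000019200072500025500000000000ffffff0000000000000079200072200025400000000001000cf000041700010004153000ce90004150000000148300072100014800000000000ffffff0000000003000147300071c000147000000003d200071f0002530000000031200071e0002530000000019200071d00025300000000000ffffff000000000000045e200071a00025200000000001000cec0004160001000147300071900014700000000001000ce600041500000000000ffffff00000000030001463000715000146000000003d200071700025100000000001000ce40004140000000019200071600025100000000000ffffff00000000000000001000ce200041300020004093000cbf0004090001000146300071300014600000000001000cde00041200000000000ffffff00000000000000c1200071100024f000000000c200070f00014700010002f530009000002f50000000146300070e00014600000000000ffffff0000000003000145300070a00014500000000001000cda0004110000000031200070b00022800000002a830008170002a800000000000ffffff00000000030002a730008130002a700000000001000cd6000410000000000020007070002310000000145300070600014500000000000ffffff000000000300040d3000ccd00040d0002000144300070400014400000000001000cd200040f00000000001000cce00040e00000000000ffffff0000000003000143300070100014300000000001000cca00040d00000000001000cc600040c0000000019200070200024b00000000000ffffff0000000000000a6920006fe000170000000002420006fa000145000100014330006f900014300000004a820006fc00016f00000000000ffffff00000000000000c120006f700024900020004083000cbb00040800000000001000cc200040b000000014330006f600014300000000000ffffff00000000000000001000cc000040a000200014230006f400014200000000001000cbc00040900000000001000cb800040800000000000ffffff000000000300014130006f200014100020002f230008f80002f200000000001000cb600040700000004023000ca700040200000000000ffffff00000000000000001000cb2000406000000002420006f0000246000100014130006ee000141000000000120006ef00024600000000000ffffff000000000300014030006ec00014000020003f33000c6f0003f300000000001000cb000040500000002ec30008e20002ec00000000000ffffff00000000000000001000cac000404000000002420006ea000244000100014030006e8000140000000000120006e900024400000000000ffffff00000000030002ea30008dc0002ea000000000c20006e4000141000000006320006e6000243000000014030006e300014000000000000ffffff000000000000003020006e1000242000000002420006df00020e000100013f30006de00013f00000000001000ca800040300000000000ffffff00000000000000001000ca400040200020003fc3000c950003fc00000000001000ca0000401000000013f30006dc00013f00000000000ffffff00000000000000001000c9c00040000000000001000c9a0003ff00010003f93000c850003f9000000013e30006da00013e00000000000ffffff00000000000000001000c980003fe000200013d30006d800013d00000000001000c960003fd00000000001000c920003fc00000000000ffffff00000000000000001000c8e0003fb00000000001000c880003fa000100013d30006d600013d00000000001000c820003f900000000000ffffff000000000300025e300074100025e00020003f53000c750003f5000100013c30006d400013c00000000001000c7e0003f800000000000ffffff00000000000000001000c7c0003f700020003f13000c690003f100000000001000c780003f6000000013c30006d200013c00000000000ffffff000000000000003c20006d000023b000200013b30006cf00013b00000000001000c720003f500000000001000c700003f400000000000ffffff00000000000000001000c6c0003f3000200013a30006cd00013a00000000001000c6a0003f200000000001000c660003f100000000000ffffff00000000000000001000c630003f000020003ec3000c540003ec00000000001000c5f0003ef000000013930006cb00013900000000000ffffff00000000000000001000c5b0003ee000200013830006c900013800000000001000c550003ed00000000001000c510003ec00000000000ffffff00000000000000001000c4d0003eb00000000001000c470003ea000100013830006c700013800000003d73000bfe0003d700000000000ffffff00000000030003e53000c320003e5000200013730006c500013700000000001000c410003e900000000001000c3d0003e800000000000ffffff00000000000000302000b4f0003a000000000001000c370003e7000100013730006c300013700000000001000c330003e600000000000ffffff000000000000001820006bc00013800000005e920006c000017900000004a520006be000177000000013730006bb00013700000000000ffffff000000000300013630006b900013600000000001000c2f0003e500000000001000c2e00088c00000000001000c2b0003e400000000000ffffff00000000000000001000c280003e3000200013530006b70001350001000257300073000025700000000001000c230003e200000000000ffffff00000000000000001000c210003e100000000001000c1b0003e0000100024d300070800024d000000013530006b500013500000000000ffffff00000000030003db3000c120003db000200013430006b300013400000000001000c190003df00000000001000c170003de00000000000ffffff000000000000003020006b000013500020002ee30008ea0002ee000100013430006af00013400000002ed30008e60002ed00000000000ffffff00000000000000182000b4500039e00000000001000c150003dd00000000001000c130003dc000000013430006ad00013400000000000ffffff000000000300013330006ab00013300000000001000c0f0003db00000000001000c0d00088b00000000001000c0a0003da00000000000ffffff000000000300013230006a900013200000000001000c030003d900010003a03000b4e0003a0000000039e3000b4400039e00000000000ffffff00000000030003d63000bfa0003d600000000001000bff0003d800000000001000bfb0003d7000000013130006a700013100000000000ffffff000000000300013030006a4000130000000003d20006a500022a00010003a13000b540003a100000000001000bf70003d600000000000ffffff000000000000022920006a2000229000200013030006a1000130000100039a3000b3500039a00000003d43000bf20003d400000000000ffffff000000000300012f300069d00012f000000003d200069e0001bf000100024e300070c00024e000000039f3000b4a00039f00000000000ffffff0000000000000229200069a0001be000200012f300069900012f000100026e300076a00026e00000003983000b2b00039800000000000ffffff00000000000000001000bf30003d500000000001000bef0003d400010003d03000be40003d0000000012e300069700012e00000000000ffffff000000000300012d300069300012d000000003d200069500022500000000001000beb0003d30000000019200069400022500000000000ffffff00000000000000001000be70003d200000000001000be50003d1000100012d300069100012d00000000001000be10003d000000000000ffffff000000000300012c300068c00012c000000003d200068f0002230000000031200068e0002230000000019200068d00022300000000000ffffff0000000000000199200068a00022200000000242000b30000399000100012c300068900012c00000000001000bdf0003cf00000000000ffffff00000000000000c12000687000221000000000c200068500012d00000000001000bdb0003ce000000012c300068400012c00000000000ffffff000000000300012b300068100012b00000000001000bd90003cd0000000031200068200022000000000001000bd70003cc00000000000ffffff00000000000000001000bd50003cb00000000001000bd30003ca000100026d300076600026d000000012b300067f00012b00000000000ffffff00000000030003c73000bca0003c7000200012a300067d00012a00000000001000bd00003c900000000001000bcb0003c800000000000ffffff0000000003000129300067b00012900000000001000bc50003c700000000001000bc20003c600000000001000bbf0003c500000000000ffffff00000000000000001000bbd0003c40000000024200067800012b0001000129300067700012900000000001000bbb0003c300000000000ffffff00000000000000001000bb90003c2000000000c2000b2600039700000000001000bb70003c10000000129300067500012900000000000ffffff0000000003000128300066f000128000000003d200067300021a0000000031200067200021a000000001920006700001ce00000000000ffffff0000000000000536200066d0002190002000128300066c00012800010003993000b2f00039900000003973000b2500039700000000000ffffff0000000003000127300066a00012700000000001000bb30003c000000000001000bb10003bf00000002dc30008b40002dc00000000000ffffff00000000000000001000baf0003be00000000242000668000217000100012730006660001270000000001200066700021700000000000ffffff0000000003000126300066400012600020003b63000b980003b600000000001000bab0003bd00000000001000ba70003bc00000000000ffffff00000000030003783000ab600037800000000242000662000215000100012630006600001260000000001200066100021500000000000ffffff00000000000000001000ba10003bb000000000c200065c0001270000000063200065e0002140000000126300065b00012600000000000ffffff00000000030003723000a9c000372000200036d3000a8c00036d0001000125300065900012500000000001000b9f0003ba00000000000ffffff00000000000000001000b9d0003b900020003b53000b940003b500000000001000b9b0003b80000000125300065700012500000000000ffffff000000000300036f3000a9200036f00020001243000655000124000100036d3000a8a00036d00000000001000b990003b700000000000ffffff00000000000000001000b950003b600020001233000653000123000100033830009f000033800000000001000b910003b500000000000ffffff0000000000000030200065100020f000200033730009ec0003370001000123300064e0001230000000001200064f00020c00000000000ffffff0000000003000122300064a000122000200024230006e00002420000000031200064b00014b00000000001000b8f0003b400000000000ffffff00000000000000001000b8d0003b300000000001000b880003b20000000000200064800020d0000000122300064700012200000000000ffffff0000000003000121300064300012100000000001000b860003b10000000031200064400012a000000020f300065000020f00000000000ffffff00000000000000001000b840003b0000200012130006400001210000000025200064100020b00000000001000b810003af00000000000ffffff00000000000000001000b7f0003ae0002000120300063c00012000000000001000b790003ad000000000d200063d0001be00000000000ffffff00000000000000001000b760003ac00000000001000b6f0003ab00010001203000638000120000000000120006390001b800000000000ffffff00000000030003933000b17000393000200011f300063600011f00000000001000b6d0003aa00000000001000b6b0003a900000000000ffffff00000000030003a33000b5b0003a300000000001000b690003a8000100011f300063400011f00000000001000b670003a700000000000ffffff0000000000000018200063100012000000000001000b630003a600000000001000b5f0003a5000000011f300063000011f00000000000ffffff000000000300011e300062e00011e00000000001000b5c0003a400000000001000b580003a300000000001000b550003a200000000000ffffff00000000000000001000b510003a1000200039c3000b3d00039c000100011d300062c00011d00000000001000b4b0003a000000000000ffffff00000000000000001000b4700039f00020003803000ad800038000000000001000b4100039e000000011d300062a00011d00000000000ffffff00000000000000001000b3e00039d000200011c300062800011c00000000001000b3a00039c00000000001000b3600039b00000000000ffffff000000000000003c200062100011d000200011b300062000011b000000090420006250001300000000538200062300012f00000000000ffffff00000000030003953000b1e00039500000000001000b3200039a000100011b300061e00011b00000000001000b2c00039900000000000ffffff00000000030003913000b0c00039100000000001000b2800039800000000001000b22000397000000011b300061c00011b00000000000ffffff000000000300011a300061a00011a00000000001000b1f00039600000000001000b1b00039500000000001000b1800039400000000000ffffff0000000003000119300061800011900000000001000b1200039300000000001000b0f00039200000000001000b0900039100000000000ffffff0000000003000118300061500011800000000001000b0700039000000000001000b0500038f000000001920006160001fc00000000000ffffff00000000000000001000b0300038e0002000118300061100011800000000001000b0100038d000000000d20006120001cd00000000000ffffff00000000030003893000af400038900000000001000afc00038c0001000117300060f00011700000000001000af900038b00000000000ffffff0000000003000116300060d00011600000000001000af600038a00000000001000af000038900000000001000aed00038800000000000ffffff00000000000000001000aeb0003870002000116300060b000116000100037b3000ac400037b00000000001000ae900038600000000000ffffff00000000000000001000ae700038500000000001000ae5000384000000000020006080001180000000116300060700011600000000000ffffff0000000003000115300060300011500000000001000ae1000383000100028630007b6000286000000001920006040001bf00000000000ffffff000000000300028530007b200028500000000001000add000382000100011530005ff000115000000000120006000001cc00000000000ffffff000000000300037f3000ad400037f000200011430005fd00011400000000001000ad900038100000000001000ad500038000000000000ffffff000000000300011330005fa00011300000000001000ad100037f000000003120005fb0001f300000000001000acd00037e00000000000ffffff000000000000015120005f80001f200020003743000aa4000374000100011330005f700011300000000001000ac900037d00000000000ffffff00000000000006c120005f4000188000000000c20005f0000115000000045d20005f2000186000000011330005ef00011300000000000ffffff000000000300011230005ea000112000000003d20005ed0001f0000000003120005ec0001f0000000001920005eb0001f000000000000ffffff000000000000007920005e80001ef00000000001000ac500037c000100037a3000abc00037a000000011230005e700011200000000000ffffff000000000300011130005e1000111000000003d20005e40001a6000000003120005e30001ee000000001920005e20001ee00000000000ffffff000000000000045e20005df0001ed00000000001000abf00037b000100011130005de00011100000000001000ab900037a00000000000ffffff000000000300011030005da000110000000003d20005dc0001ec000000003120005db0001ec00000000001000ab700037900000000000ffffff000000000000019920005d80001eb000000002420005d6000112000100011030005d500011000000000001000aaf00037800000000000ffffff00000000000000001000aad00037700020003733000aa000037300000000001000aa9000376000000011030005d300011000000000000ffffff00000000000000001000aa5000375000200010f30005d100010f00000000001000aa100037400000000001000a9d00037300000000000ffffff000000000300010e30005cf00010e00000000001000a99000372000100036b3000a8400036b00000000001000a9700037100000000000ffffff00000000000000001000a93000370000000000c20005cd0001e7000000000020005cc0001e7000000010e30005cb00010e00000000000ffffff000000000300010d30005c900010d00020003483000a1c00034800000000001000a8f00036f00000000001000a8d00036e00000000000ffffff00000000000000001000a8700036d000000002420005c600010e000100010d30005c400010d000000000120005c50001e500000000000ffffff00000000000000001000a8500036c000000000c20005c10001e4000000006320005c20001e4000000010d30005c000010d00000000000ffffff00000000000000001000a8100036b00020003673000a76000367000100010c30005be00010c00000000001000a7d00036a00000000000ffffff000000000000001820005bc0001e2000000000c20005ba0001ab00000000001000a79000369000000010c30005b900010c00000000000ffffff00000000000000001000a77000368000200010b30005b700010b00000000001000a7300036700000000001000a7100036600000000000ffffff00000000000000001000a6d00036500000000001000a6b00036400010003613000a62000361000000010b30005b500010b00000000000ffffff00000000000000001000a6700036300000000001000a65000362000100010a30005b300010a00000000001000a5f00036100000000000ffffff000000000000003c20005b0000125000200010930005af00010900000000001000a5d00036000000000001000a5b00035f00000000000ffffff000000000000003020005ac00010b00000000001000a5900035e000100010930005ab00010900000000001000a5700035d00000000000ffffff000000000000001820005a800017200000000001000a5500035c00000000001000a5300035b000000010930005a700010900000000000ffffff00000000000000001000a5100035a00000000001000a4c000359000000000020005a50001db000000010830005a400010800000000000ffffff00000000000000001000a4a000358000200010730005a1000107000000002520005a20001da00000000001000a4700035700000000000ffffff0000000000000018200059f0001d900020003523000a3a00035200000000001000a450003560000000106300059e00010600000000000ffffff00000000000000001000a4100035500000000001000a3f000354000100034f3000a3200034f0000000105300059c00010500000000000ffffff000000000000030220005990001d20002000104300059800010400000000001000a3d00035300000000001000a3700035200000000000ffffff00000000000000001000a3500035100000000001000a330003500001000104300059600010400000000001000a2f00034f00000000000ffffff0000000000000030200059300013e000200025530007280002550001000103300059200010300000000001000a2c00034e00000000000ffffff0000000000000018200058f00010400000000001000a2600034d00000000001000a2300034c0000000103300058e00010300000000000ffffff00000000000000001000a2100034b00020003473000a180003470001000102300058c00010200000000001000a1f00034a00000000000ffffff00000000030001d7300059a0001d700020003443000a1000034400000000001000a1d0003490000000102300058a00010200000000000ffffff00000000000000001000a190003480002000101300058800010100000000001000a1500034700000000001000a1300034600000000000ffffff000000000000003c20005860001d00002000100300058500010000000000001000a1100034500000000001000a0d00034400000000000ffffff000000000000003c200058200010200020000ff30005810000ff00000000001000a0a00034300000000001000a0600034200000000000ffffff0000000000000030200057e00012400000000001000a0300034100010000ff300057d0000ff000000021a300067100021a00000000000ffffff00000000000000001000a0000034000020000fe300057b0000fe000000000010009fd00033f00000001fb30006130001fb00000000000ffffff000000000000000010009fb00033e000000000010009f900033d00010000fe30005790000fe00000001f530006010001f500000000000ffffff000000000300033630009e800033600020000fd30005770000fd000000000010009f700033c000000000010009f500033b00000000000ffffff0000000003000324300099e000324000000000010009f300033a00010000fd30005750000fd000000000010009f100033900000000000ffffff000000000000001820005720000fe000000000010009ed000338000000000010009e900033700000000fd30005710000fd00000000000ffffff00000000030000fc300056f0000fc000000000010009e5000336000000000010009e2000335000000000010009df00033400000000000ffffff000000000000000010009dc000333000200033030009d300033000010000fb300056d0000fb000000000010009d800033200000000000ffffff000000000000000010009d400033100020000fa300056b0000fa000000000010009d0000330000000000010009ca00032f00000000000ffffff000000000000000010009c600032e000000000010009c000032d000100031f300098600031f00000000fa30005690000fa00000000000ffffff000000000300032830009ab00032800020000f930005670000f9000000000010009bc00032c000000000010009b600032b00000000000ffffff000000000000003020005600000fa0000000991200056400016500010000f9300055f0000f90000000460200056200016400000000000ffffff00000000030003233000996000323000000000010009b000032a000000000010009ac00032900000000f9300055d0000f900000000000ffffff00000000030000f8300055b0000f8000000000010009a8000328000000000010009a5000327000000000010009a200032600000000000ffffff00000000030000f730005590000f70000000000100099f000325000000000010009990003240000000000100099300032300000000000ffffff00000000030000f630005570000f60002000228300069f0002280000000000100098f00032200000001f630006050001f600000000000ffffff0000000003000227300069b00022700020000f630005550000f60000000000100098b000321000000020a300063e00020a00000000000ffffff000000000300031e300098200031e0000000000100098700032000010000f530005530000f50000000000100098300031f00000000000ffffff00000000030000f430005500000f4000000003d20005510001bc0000000000100097f00031e0000000000100097b00031d00000000000ffffff0000000000000229200054e0001bb00020000f4300054d0000f4000100030a300094800030a0000000000100097700031c00000000000ffffff0000000000000679200054a00015500000005352000548000153000000000020005460000f600000000f430005450000f400000000000ffffff00000000030000f330005420000f30000000000100097500031b0000000000100097300031a000000001920005430001b900000000000ffffff000000000000000010009710003190000000000100096f00031800010000f330005400000f30000000209300063a00020900000000000ffffff0000000003000315300096600031500020000f2300053e0000f20000000000100096a0003170000000000100096700031600000000000ffffff00000000030000f1300053c0000f1000000000010009610003150000000000100095e0003140000000000100095b00031300000000000ffffff000000000000000010009590003120002000306300093a00030600010000f1300053a0000f10000000000100095700031100000000000ffffff00000000000000001000955000310000000000c20005370000f30000000000100095300030f00000000f130005360000f100000000000ffffff00000000030000f030005320000f0000000003d20005340001b3000000003120005330001b30000000000100095100030e00000000000ffffff0000000000000000100094f00030d0000000000100094d00030c0001000309300094400030900000000f030005300000f000000000000ffffff0000000000000000100094900030b0000000000100094500030a00010000ef300052e0000ef0000000000100094100030900000000000ffffff00000000030000ee30005290000ee000000003d200052c0001b00000000031200052b0001b00000000019200052a0001b000000000000ffffff000000000000019920005270001af000000002420005250000f000010000ee30005240000ee0000000000100093d00030800000000000ffffff00000000000000c120005220001ae000200030530009320003050000000000100093b00030700000000ee30005210000ee00000000000ffffff00000000030000ed300051b0000ed000000003d200051f0001ad0000000031200051d0001970000000019200051c0001ad00000000000ffffff000000000000053620005190001ac00020000ed30005180000ed000000000010009350003060000000000100092f00030500000000000ffffff00000000030000ec30005140000ec00020001e230005bb0001e20000000000100092d0003040000000019200051500011700000000000ffffff0000000000000000100092b0003030000000000100092600030200010000ec30005110000ec000000000120005120001aa00000000000ffffff00000000030000eb300050b0000eb000000000010009240003010000000152200050e00019d0000000019200050c0000f200000000000ffffff0000000000000000100092200030000020000eb30005080000eb0000000000100091f0002ff000000000d20005090001a800000000000ffffff0000000000000030200050500014d0000000000100091b0002fe00010000ea30005040000ea000000000010009180002fd00000000000ffffff0000000000000018200050100010a00020001ee30005e50001ee000000000010009150002fc00000000ea30005000000ea00000000000ffffff00000000030000e930004fe0000e9000000000010009110002fb00010002d130008900002d10000000000100090f0002fa00000000000ffffff0000000000000000100090d0002f9000000000c20004fc0001a4000000000020004fb0001a400000000e930004fa0000e900000000000ffffff00000000030000e830004f80000e800020002f030008f20002f0000000000010009090002f8000000000010009070002f700000000000ffffff000000000000000010009010002f6000000002420004f50000e900010000e830004f30000e8000000000120004f40001a200000000000ffffff000000000000000010008fd0002f5000000000c20004f00001a1000000006320004f10001a100000000e830004ef0000e800000000000ffffff000000000000000010008fb0002f400020002ef30008ee0002ef00010000e730004ed0000e7000000000010008f90002f300000000000ffffff000000000000000010008f50002f200020002ea30008da0002ea000000000010008f30002f100000000e730004eb0000e700000000000ffffff000000000000000010008ef0002f000020000e630004e90000e6000000000010008eb0002ef000000000010008e70002ee00000000000ffffff000000000000001820004e700019d000000000010008e30002ed00010001a9300050f0001a900000000e630004e60000e600000000000ffffff000000000000000010008df0002ec00020000e530004e40000e5000000000010008dd0002eb000000000010008d70002ea00000000000ffffff000000000000003c20004e10000e700020000e430004e00000e4000000000010008d50002e9000000000010008d30002e800000000000ffffff000000000000003020004dd00015c000000000010008d10002e700010000e430004dc0000e4000000000010008cf0002e600000000000ffffff000000000000001820004d900013d)) (.node (nat_lit 4096) (.leaf (nat_lit 0x100117600054a00000000000ffffff0000000000000000100117200054900000000001001170000548000000000020009da0002d000000001c730009d90001c700000000000ffffff00000000030001c630009d50001c6000000003d20009d6000288000000000010011650005470000000000100115e00054600000000000ffffff00000000000000001001158000545000000002420009d20001c700010001c630009d10001c60000000000100115600054400000000000ffffff000000000300029930009cf000299000000000c20009cc0002900000000000100115200054300000001c630009cb0001c600000000000ffffff00000000030001c530009c70001c50000000000100114c00054200010005333001118000533000000001920009c800028600000000000ffffff000000000300029230009c500029200020001c530009c10001c50000000000100114800054100000000c020009c200029000000000000ffffff00000000000000001001145000540000000002420009be00028700010001c430009bd0001c40000000000100113f00053f00000000000ffffff0000000000000000100113b00053e000000000c20009b8000280000100028c30009bb00028c00000001c430009b70001c400000000000ffffff0000000000000000100113800053d00020001c230009b10001c2000000013a20009b4000282000000006220009b200028000000000000ffffff000000000300052a30010e900052a0000000000100113100053c00010001c230009ad0001c2000000000120009ae00028500000000000ffffff000000000000003c20009aa0001c400020001c130009a90001c10000000000100112f00053b0000000000100112d00053a00000000000ffffff000000000000003020009a70003270000000000100112b00053900010001c130009a60001c10000000000100112900053800000000000ffffff000000000000001820009a4000326000000000010011270005370000000000100112500089700000001c130009a30001c100000000000ffffff000000000000003c20009a100032500020001c030009a00001c000010003f83000c810003f800000003f63000c7b0003f600000000000ffffff0000000000000030200099d0001ca0000000000100112300053600010001c0300099a0001c00000000001200099b00026800000000000ffffff000000000000001820009950001c200000000001001121000535000000007b200099700026700000001c030009940001c000000000000ffffff000000000000003020009910002680000000000100111b00053400010001bf30009900001bf0000000000100111500053300000000000ffffff0000000000000000100110e0005320000000024200098d00026500010001be300098c0001be0000000514300109200051400000000000ffffff0000000000000000100110800053100020001bd30009880001bd000000002520009890002cb0000000000100110400053000000000000ffffff000000000000000010010fe00052f000000000010010fc00052e000000000020009850001c500000001bd30009840001bd00000000000ffffff000000000000003020009810001bd000000000010010f800052d00010001bc30009800001bc000000000010010f100052c00000000000ffffff0000000000000018200097d000267000000000010010ed00052b000000000010010e600052a00000001bc300097c0001bc00000000000ffffff000000000000000010010e3000529000000000c2000979000264000100050c300107500050c00000001bb30009780001bb00000000000ffffff000000000300051b30010b000051b00020001b930009760001b9000000000010010de000528000000000010010d800052700000000000ffffff000000000300052330010cc000523000000000010010d500052600010001b930009740001b9000000000010010cf00052500000000000ffffff00000000030001b830009720001b8000000000010010cd000524000000000010010c7000523000000000010010c300052200000000000ffffff000000000000000010010c100052100020001b830009700001b800010005103001085000510000000050c300107300050c00000000000ffffff0000000000000030200096e0003170000000024200096c0002eb00010001b7300096b0001b700000004833000e6300048300000000000ffffff000000000000001820009690003160002000502300104f000502000000000010010bf00052000000001b730009680001b700000000000ffffff000000000000003c20009650001b700020001b630009620001b600000000252000964000315000000000d200096300031500000000000ffffff000000000300051e30010b900051e000000019b200096000031400010001b6300095f0001b6000000000010010bb00051f00000000000ffffff000000000300051930010a600051900000000c3200095d000313000000000010010ba00089600000001b6300095c0001b600000000000ffffff00000000030001b5300095a0001b500020004e63000fe10004e6000000000010010b600051e000000000010010b400051d00000000000ffffff000000000000000010010b100051c00020005143001094000514000100050e300107f00050e00000001b530009580001b500000000000ffffff00000000030001b430009560001b4000000000010010ab00051b000000000010010a900051a000000000010010a300051900000000000ffffff000000000000000010010a10005180002000510300108700051000010001b430009540001b4000000050e300107d00050e00000000000ffffff00000000000000182000c8c0003fa0000000000100109e0005170000000000100109d00089500000001b330009520001b300000000000ffffff00000000030001b230009500001b20000000000100109b0008940000000000100109900051600000003fa3000c8b0003fa00000000000ffffff0000000000000000100109600051500020001b2300094e0001b20000000000100108f00051400000003ad3000b7e0003ad00000000000ffffff00000000030001b1300094a0001b10000000000100108d0005130000000031200094b0002de0000000000100108b00051200000000000ffffff0000000000000000100108800051100020001b130009460001b1000000002520009470001bb0000000000100108200051000000000000ffffff0000000000000000100108000050f0000000000100107a00050e000000000020009430001b200000001b130009420001b100000000000ffffff00000000000004a9200093f00027900020003ad3000b7c0003ad00010003ab3000b740003ab00000001af300093e0001af00000000000ffffff0000000000000000100107600050d0000000000100107000050c00010001ae300093c0001ae00000003ab3000b720003ab00000000000ffffff0000000000000000100106d00050b000000002420009390001b500010001ac30009360001ac0000000001200093700026500000000000ffffff0000000000000000100106900050a000000000c20009310001ae0000000063200093300026400000001ac30009300001ac00000000000ffffff0000000003000506300105e0005060000000000100106700050900010001ab300092e0001ab0000000000100106300050800000000000ffffff00000000030001aa300092c0001aa0000000000100105f0005070000000000100105b0005060000000000100105800050500000000000ffffff0000000000000000100105400050400020001aa30009270001aa00000000252000928000302000000006220009290002ff00000000000ffffff0000000003000501300104b00050100020001a930009250001a9000000000010010500005030000000000100104c00050200000000000ffffff00000000030001a830009230001a80000000000100104800050100000000001001044000500000000000010010410004ff00000000000ffffff0000000000000000100103d0004fe000000002420009210002ff00010001a830009200001a80000000302300092a00030200000000000ffffff00000000030003f53000c770003f500020001a7300091c0001a70000000025200091e0002fe000000000d200091d0002fe00000000000ffffff000000000000000010010370004fd0000000061200091a0002fd00010004fb300102e0004fb00000001a730009190001a700000000000ffffff000000000000000010010310004fc000000002420009170002fc00010001a630009160001a60000000000100102b0004fb00000000000ffffff000000000000003c200091300027700020001a530009120001a500010004af3000f080004af000000000010010270004fa00000000000ffffff00000000030004f6300101f0004f6000000000010010250004f9000000000010010230004f800000001a530009100001a500000000000ffffff00000000030001a4300090e0001a400020004973000ea4000497000000000010010200004f70000000000100101c0004f600000000000ffffff0000000000000030200090b00027600020004ba3000f2c0004ba00010001a3300090a0001a30000000000100101a0004f500000000000ffffff00000000000000182000c1f0003e0000000000010010180004f4000000000010010160004f300000001a330009080001a300000000000ffffff00000000030001a230009020001a200000002722000905000277000000019a20009030002760000000000100100d0004f200000000000ffffff00000000030001a130008fe0001a100020003e23000c260003e2000000045f20008ff00024f00000003e03000c1e0003e000000000000ffffff00000000030001a030008fc0001a000020004af3000f0a0004af00010004be3000f380004be0000000000100100b0004f100000000000ffffff000000000000000010010080004f0000000000010010050004ef00010004ed30010020004ed00000001a030008fa0001a000000000000ffffff000000000300019f30008f600019f000000003d20008f7000247000000000010010030004ee00000004e23000fca0004e200000000000ffffff000000000300046c3000e1100046c000200046b3000e0d00046b000100019f30008f400019f00000000001000fff0004ed00000000000ffffff000000000300019e30008f000019e000000003d20008f10001a300010004ae3000f020004ae00000000001000ffd0004ec00000000000ffffff00000000030004ad3000efe0004ad000000002420008ed0001a0000100019e30008ec00019e00000000001000ff90004eb00000000000ffffff00000000000000001000ff40004ea000000000c20008e900022f00000000001000fef0004e9000000019e30008e800019e00000000000ffffff00000000000000001000fe80004e8000200019d30008e400019d00000000001000fe20004e7000000045c20008e500022f00000000000ffffff000000000300019c30008e000019c00020004d83000f980004d800000000001000fde0004e6000000001920008e100024500000000000ffffff00000000000000001000fdb0004e50002000317300096d000317000100019c30008de00019c00000000001000fd70004e400000000000ffffff00000000000000c120008db000243000000000c20008d900019f00000000001000fce0004e3000000019c30008d800019c00000000000ffffff00000000030004be3000f3a0004be00020004b83000f260004b8000100019b30008d600019b00000000001000fcd00089300000000000ffffff00000000000000001000fc70004e200020004dd3000fb00004dd00000000001000fc5000892000000019b30008d400019b00000000000ffffff00000000030004ba3000f2e0004ba000200019a30008d200019a00010004b83000f240004b800000000001000fc300089100000000000ffffff00000000000000001000fbd0004e100000000001000fbb0004e000010004da3000fa20004da000000019a30008d000019a00000000000ffffff00000000000000001000fb50004df000200019930008ce00019900000000001000fb30004de00000000001000fad0004dd00000000000ffffff00000000000000001000fa70004dc00000000001000fa50004db000100019930008cc00019900000000001000f9f0004da00000000000ffffff000000000300042b3000d3500042b000000002420008ca0002e3000100019830008c8000198000000000120008c90002e300000000000ffffff00000000000000001000f990004d900020004d73000f900004d7000000006320008c60002e2000000019830008c500019800000000000ffffff00000000000000001000f930004d8000200019730008c2000197000000002520008c30002e100000000001000f8d0004d700000000000ffffff000000000300019630008c000019600000000001000f8a0004d600000000001000f880004d500000003d53000bf60003d500000000000ffffff00000000000000001000f860004d4000000006120008bd0002dd000100019630008bb000196000000000120008bc0002df00000000000ffffff000000000300019530008b900019500000000001000f830004d3000100030b300094c00030b00000000001000f810004d200000000000ffffff00000000000000001000f7f0004d100020002df30008be0002df000000000020008b70002dd000000019530008b600019500000000000ffffff000000000300019430008b200019400000000001000f790004d000000000001000f770004cf000000001920008b300021800000000000ffffff00000000000000001000f750004ce00000000001000f730004cd000100019430008b000019400000003ef3000c620003ef00000000000ffffff00000000000000001000f6f0004cc000200019330008ae00019300000000001000f6c0004cb00000003d83000c020003d800000000000ffffff000000000300019230008ac00019200020004c03000f460004c000000000001000f6a0004ca00000000001000f640004c900000000000ffffff00000000000000001000f610004c8000200049f3000ec800049f000100019230008aa00019200000000001000f5f0004c700000000000ffffff00000000000000001000f590004c6000000000c20008a700019400000000001000f570004c5000000019230008a600019200000000000ffffff00000000000000001000f520004c4000200019130008a4000191000100049f3000ec600049f00000000001000f500004c300000000000ffffff000000000000001820008a10002c700000000001000f4d0004c20000000000200089f0001930000000191300089e00019100000000000ffffff00000000000000001000f470004c100020004bf3000f3e0004bf0000000000200089c0002d40000000190300089b00019000000000000ffffff00000000000000001000f410004c0000200018f300089800018f000000002520008990002d300000000001000f3b0004bf00000000000ffffff000000000000003020008940002ca000000013920008960002d2000100018f300089200018f000000000120008930002d200000000000ffffff000000000300018e300088e00018e00000000001000f350004be0000000031200088f0001a500000000001000f330004bd00000000000ffffff00000000000000001000f310004bc00000000001000f2f0004bb000100033230009db000332000000018e300088c00018e00000000000ffffff000000000300018d300088a00018d00020004ae3000f040004ae00000000001000f290004ba00000000001000f270004b900000000000ffffff00000000000000001000f210004b80000000024200088700018e000100018d300088600018d00000000001000f1f0004b700000000000ffffff00000000000000001000f1c0004b6000200046d3000e1800046d00000000001000f1a0004b5000000018d300088400018d00000000000ffffff00000000000000001000f170004b4000200018c300088200018c00000000001000f150004b3000000046d3000e1600046d00000000000ffffff00000000000000001000f110004b2000200018b300088000018b0001000320300098a00032000000000001000f0e0004b100000000000ffffff00000000030002d230008950002d200000000001000f0b0004b00000000000200087d00018c000000018b300087c00018b00000000000ffffff00000000000000001000f050004af00020004ad3000efc0004ad000100018a300087900018a0000000001200087a0002c900000000000ffffff00000000000000001000eff0004ae0002000189300087600018900000000001000ef90004ad000000000d20008770002c800000000000ffffff00000000030002d530008a20002d5000000006120008740002c7000000000020008730002c70000000189300087200018900000000000ffffff00000000030003833000ae400038300020001883000870000188000100048b3000e8100048b00000003933000b1500039300000000000ffffff000000000300037e3000ad000037e00020003913000b0e00039100010004aa3000ef10004aa0000000188300086e00018800000000000ffffff00000000000000001000ef60004ac00000000001000ef20004ab0001000187300086c00018700000000001000eee0004aa00000000000ffffff00000000030003ed3000c5a0003ed0002000186300086a00018600010003823000ae0000382000000037b3000ac200037b00000000000ffffff00000000030004a83000ee80004a8000200037a3000abe00037a000100037d3000acc00037d0000000186300086800018600000000000ffffff0000000003000185300086600018500000000001000eec00089000000000001000ee90004a900000000001000ee50004a800000000000ffffff00000000000000001000ee30004a7000000002420008630002850001000184300086200018400000000001000edb0004a600000000000ffffff00000000000000001000ed80004a5000000000c200085f00027d00000000001000ed10004a40000000184300085e00018400000000000ffffff000000000000003c200085b0001840002000183300085a00018300010004033000cab00040300000004013000ca300040100000000000ffffff00000000000000302000c4b0003ea00000000001000ecf0004a30001000183300085800018300000000001000ecd0004a200000000000ffffff000000000300049d3000ebb00049d00000000001000ecb0004a100000000001000ec90004a00000000183300085600018300000000000ffffff0000000003000182300085400018200020003ed3000c580003ed00010003ea3000c4a0003ea00000000001000ec200049f00000000000ffffff0000000003000181300085200018100000000001000ebf00088f00000000001000ebc00049e00000000001000eb800049d00000000000ffffff0000000003000180300084d000180000000003d20008500002b90000000031200084f0002b90000000019200084e0002b900000000000ffffff0000000000000229200084b0002b80002000180300084a00018000000000001000eb400049c00000003e93000c460003e900000000000ffffff000000000300017f300084600017f00000000001000eb000049b000000003120008480002b7000000001920008470002b700000000000ffffff00000000000000001000eac00049a000200017f300084400017f00010004873000e7100048700000000001000ea800049900000000000ffffff000000000000007920008420002b500020003703000a9600037000000000002000840000180000000017f300083f00017f00000000000ffffff00000000030004943000e9500049400000000001000ea500049800000000001000e9e000497000000017e300083d00017e00000000000ffffff000000000300017d300083700017d000000003d200083b0002b300000000312000839000190000000001920008380002b300000000000ffffff00000000000004a920008350002b200020003e93000c440003e900010003e73000c3c0003e7000000017d300083400017d00000000000ffffff000000000300017c300083200017c00000000001000e9b00049600000000001000e9800049500000000001000e9200049400000000000ffffff00000000000000001000e9000049300000000001000e8e000492000100017c300083000017c00000003e73000c3a0003e700000000000ffffff000000000300017b300082d00017b000000003d200082e0002af00000000001000e8c00049100000000001000e8a00049000000000000ffffff00000000000000001000e8800048f0000000024200082a000296000100017b300082900017b00000000001000e8600048e00000000000ffffff00000000000000001000e8400048d000000000c200082600017c00000000001000e8200048c000000017b300082500017b00000000000ffffff00000000030004893000e7900048900000000001000e7e00048b000100017a300082300017a00000000001000e7a00048a00000000000ffffff0000000003000179300082000017900020003ee3000c5e0003ee00000000001000e76000489000000001920008210002ab00000000000ffffff0000000000000079200081e0002aa00020003e83000c400003e800010004863000e6d0004860000000179300081d00017900000000000ffffff00000000000000001000e7200048800000000001000e6e0004870001000178300081b00017800000000001000e6a00048600000000000ffffff00000000030001773000815000177000000003d200081800028600010003eb3000c500003eb0000000019200081600024e00000000000ffffff0000000000000079200081200024d000000000c200081000029500010003e63000c360003e60000000177300080f00017700000000000ffffff0000000003000176300080d00017600000000001000e6600048500010003653000a7000036500000004813000e5d00048100000000000ffffff00000000030003ce3000bde0003ce000200017630008090001760000000025200080b0002a5000000000d200080a0002a500000000000ffffff0000000003000175300080700017500000000001000e6400048400010004273000d2500042700000003633000a6a00036300000000000ffffff00000000000000001000e6000048300020001753000803000175000000002520008050002a3000000000d20008040002a300000000000ffffff00000000030003613000a64000361000000006120008010002a2000000000020007ff000176000000017530007fe00017500000000000ffffff00000000030003c03000bb60003c000020003bb3000ba60003bb00000000001000e5e000482000000017430007fc00017400000000000ffffff000000000000003c20007fa0002a0000200017330007f7000173000000002520007f800027200000004403000d8300044000000000000ffffff00000000000000001000e5a000481000200043f3000d7f00043f000100047d3000e4f00047d000000017330007f500017300000000000ffffff00000000030003bc3000baa0003bc000200017230007f300017200000000001000e5400048000000003bb3000ba40003bb00000000000ffffff00000000000000001000e5200047f00000000001000e5000047e000100017230007f100017200000000001000e4c00047d00000000000ffffff00000000000000001000e4900047c00000000001000e4500047b000100047a3000e4400047a000000017130007ef00017100000000000ffffff00000000030004113000cdd000411000200017030007ed00017000010004363000d6000043600000004683000e0500046800000000000ffffff000000000300040c3000cc900040c00020004353000d5c000435000100017030007eb00017000000000001000e4100047a00000000000ffffff000000000000003c20009ce00032f000200016f30007e900016f00010004173000cf500041700000004103000cd900041000000000000ffffff00000000030004793000e3f00047900020004153000ceb000415000100016f30007e700016f000000040b3000cc500040b00000000000ffffff000000000300016e30007e500016e00000000001000e4000088e00000000001000e3c00047900000000001000e3900047800000000000ffffff00000000000000001000e3600047700020002ae300082b0002ae000100016d30007e300016d00000000001000e3100047600000000000ffffff00000000000000001000e2f00047500020002a730008110002a700000000001000e29000474000000016d30007e100016d00000000000ffffff000000000000003c20007de00016d000200016c30007dd00016c000100036a3000a8000036a00000003693000a7c00036900000000000ffffff000000000300046f3000e1f00046f00000000001000e27000473000100016c30007db00016c00000000001000e2500047200000000000ffffff000000000000001820009c400032d00000000001000e2300047100000000001000e21000470000000016c30007d900016c00000000000ffffff000000000300016b30007d700016b00000000001000e2000088d00000000001000e1c00046f00000000001000e1900046e00000000000ffffff000000000300016a30007d500016a000200032f30009cd00032f00000000001000e1200046d000000032d30009c300032d00000000000ffffff000000000300016930007d100016900000000001000e0e00046c000000003120007d300028f000000001920007d200028f00000000000ffffff00000000000000001000e0a00046b000200016930007cf00016900000000001000e0800046a00000004653000df900046500000000000ffffff000000000300016830007ca000168000000003d20007cd00028d000000003120007cc00028d000000001920007cb00028d00000000000ffffff000000000000027120007c800028c000200016830007c7000168000000002520009ba00032b00000000001000e0600046900000000000ffffff000000000000007920007c500028b00020004063000cb5000406000000000020007c3000169000000016830007c200016800000000000ffffff00000000030004643000df500046400000000001000e0200046800000000001000dfe000467000000016730007c000016700000000000ffffff00000000000000001000dfa00046600000000001000df600046500010004633000df1000463000000016630007be00016600000000000ffffff000000000300016530007bb000165000200033130009d7000331000000003120007bc00028800000000001000df200046400000000000ffffff000000000000015120007b9000287000200032c30009bf00032c000100016530007b800016500000000001000dee00046300000000000ffffff000000000300016430007b400016400020002a830008190002a8000000003120007b50001f6000000032e30009c900032e00000000000ffffff000000000000015120007b10001f500020002c030008640002c0000100016430007b0000164000000032930009af00032900000000000ffffff000000000300045f3000ddf00045f00000000001000deb000462000100016330007ae00016300000000001000de400046100000000000ffffff000000000300016230007ac00016200000000001000de100046000000000001000ddb00045f00000000001000dd800045e00000000000ffffff00000000000000001000dd600045d00000000001000dd400045c000100032a30009b500032a000000016230007aa00016200000000000ffffff000000000300016130007a4000161000000003d20007a8000281000000003120007a7000281000000001920007a500018a00000000000ffffff000000000000045e20007a2000280000200032b30009b900032b000100016130007a1000161000000032a30009b300032a00000000000ffffff0000000003000160300079e000160000000003d200079f00027f00000000001000dd200045b00000000001000dd000045a00000000000ffffff00000000000000001000dce0004590000000024200079b0001620001000160300079a00016000000000001000dcc00045800000000000ffffff00000000000000001000dca00045700020002bf30008600002bf00000000001000dc80004560000000160300079800016000000000000ffffff000000000300015f300079600015f00000000001000dc600045500010004003000c9f00040000000003553000a4400035500000000000ffffff00000000000000001000dc2000454000200015f300079200015f0000000025200079400027b000000000d200079300027b00000000000ffffff000000000300015e300079000015e00000000001000dbe000453000100044e3000db100044e00000003fb3000c910003fb00000000000ffffff00000000030003083000940000308000200015e300078c00015e0000000025200078e000279000000000d200078d00027900000000000ffffff00000000030003f93000c870003f90000000061200078a0002780000000000200078800015f000000015e300078700015e00000000000ffffff00000000030002fb30009140002fb00020002f630009060002f6000100015d300078500015d00000000001000dbc00045200000000000ffffff00000000030002f8300090c0002f8000200015c300078300015c00010002f630009040002f600000000001000db600045100000000000ffffff00000000000000001000db400045000000000001000db200044f000100044d3000dad00044d000000015c300078100015c00000000000ffffff000000000000003c200077f000274000200015b300077c00015b00010003a63000b660003a6000000000d200077d00027000000000000ffffff00000000000000001000dae00044e00020003a53000b620003a5000100015b300077a00015b00000000001000daa00044d00000000000ffffff000000000300015a300077600015a000000003d200077700017e00010002a030007f90002a000000000001000da800044c00000000000ffffff00000000000000001000da600044b000000000c200077400027100000000001000da100044a000000015a300077300015a00000000000ffffff0000000003000159300076f000159000000003d200077000016300000000001000d9f0004490000000274300077e00027400000000000ffffff00000000000000001000d9d0004480000000024200076d00026f0001000159300076c00015900000000001000d9a00044700000000000ffffff00000000000000001000d98000446000200015830007680001580000000025200076900022700000000001000d9200044500000000000ffffff00000000000000001000d8f00044400000000001000d880004430000000000200076500021f0000000158300076400015800000000000ffffff00000000030004363000d620004360002000157300076200015700000000001000d8600044200000000001000d8400044100000000000ffffff0000000000000030200075f00015800000000001000d800004400001000157300075e00015700000000001000d7c00043f00000000000ffffff000000000300043a3000d7100043a00000000001000d7a00043e00000000001000d7800043d0000000157300075c00015700000000000ffffff0000000003000156300075a00015600000000001000d7500043c00000000001000d7200043b00000000001000d6e00043a00000000000ffffff00000000030003223000992000322000200040f3000cd500040f000100015530007580001550000000324300099c00032400000000000ffffff000000000300031d300097e00031d00020004373000d66000437000100032330009980003230000000155300075600015500000000000ffffff00000000000000001000d6b00043900020001543000754000154)) (.leaf (nat_lit 0xffffff000000000000000010015d300064100020002403000c9b000240000000000010015cd00064000000004243000d1800042400000000000ffffff000000000300023f3000c9900023f00020004df3000fba0004df000000000010015c700063f00000004d83000f960004d800000000000ffffff00000000030005c2300137f0005c2000200063d30015bf00063d000100023f3000c9700023f000000000010015c400063e00000000000ffffff00000000030004d73000f920004d7000000000c2000c9400024100010005d130013b70005d1000000023f3000c9300023f00000000000ffffff000000000300023e3000c8f00023e000000003d20013700005c000010004dc3000fac0004dc00000000192000c9000027a00000000000ffffff000000000300030e3000c8d00030e000200023e3000c8900023e000000000010015bc00063d00000000c02000c8a00030d00000000000ffffff00000000000000792000c86000278000000000010015b500063c00000000002000c84000240000000023e3000c8300023e00000000000ffffff000000000000000010015b200063b000000000010015ae00063a00000000002000c80000325000000023d3000c7f00023d00000000000ffffff000000000300023c3000c7d00023c00020004e23000fcc0004e2000000000010015ac00063900000004d93000f9c0004d900000000000ffffff000000000000000010015a9000638000000000010015a5000637000100023c3000c7900023c00000000602000c7a00032500000000000ffffff00000000000001992000c760002fe00000000242000c7400023d000100023b3000c7300023b000000000010015a200063600000000000ffffff0000000000000000100159e000635000200040e3000cd100040e0000000000100159b000634000000023b3000c7100023b00000000000ffffff000000000300023a3000c6d00023a000000003d2000c6e0002450000000000100159900063300000004df3000fb80004df00000000000ffffff0000000000000000100159700063200020004383000d6a000438000100023a3000c6b00023a0000000000100159500063100000000000ffffff00000000030004dd3000fb20004dd000000000c2000c6800023c00000000001001593000630000000023a3000c6700023a00000000000ffffff00000000030002393000c640002390000000000100158c00062f0000000000100158900062e00000000192000c650003f000000000000ffffff0000000000000000100158500062d0000000000100158300062c00010002393000c6000023900000000012000c610002db00000000000ffffff00000000030002383000c5c000238000000003d2000c5d0002ab00010005b430013300005b40000000000100157b00062b00000000000ffffff00000000000001992000c590002c300000000242000c570002bb00010002383000c560002380000000000100157700062a00000000000ffffff00000000000000001001571000629000000000c2000c530002390000000000100156f00062800000002383000c5200023800000000000ffffff00000000030002373000c4e00023700020005b6300133c0005b600000000312000c4f0002a800000005d730013d10005d700000000000ffffff00000000030002bd3000c4c0002bd00020002373000c4800023700000001982000c490002bb0000000000100156b00062700000000000ffffff0000000000000000100156700062600000000242000c430002b200010002363000c4200023600000000602000c450002b800000000000ffffff00000000000000001001562000625000000000c2000c3f0002aa0000000000100155400062400000002363000c3e00023600000000000ffffff0000000000000000100155100062300020002353000c38000235000000013a2000c3b0002b200000000622000c390002b000000000000ffffff00000000030005d930013f40005d90000000000100154700062200000000002000c350002a700000002353000c3400023500000000000ffffff000000000000003c2000c3100023600020002333000c30000233000000000010015450006210000000000100154300062000000000000ffffff00000000000000182000c2d0003e40000000000100154100061f0001000538300116c00053800000002333000c2c00023300000000000ffffff00000000030002323000c2900023200020004ea3000ff80004ea000100055b30013d700055b00000000192000c2a0003e300000000000ffffff00000000000004a92000c270003e2000000000c2000c250002f500010004163000cef00041600000002323000c2400023200000000000ffffff00000000030002313000c220002310000000000100153b00061e00010005d930013f20005d900000004e83000feb0004e800000000000ffffff00000000030002f73000c200002f700020002313000c1c00023100010004123000ce100041200000000622000c1d0002f500000000000ffffff0000000000000000100152f00061d00020004e93000ff20004e900010002303000c1a0002300000000000100152a00061c00000000000ffffff0000000000000000100152700061b00020004e33000fd40004e300000008de2000fd500046b00000002303000c1800023000000000000ffffff0000000000000000100152400061a000200022e3000c1600022e00010004e43000fda0004e400000004e33000fd20004e300000000000ffffff00000000030005d730013d50005d700000000001001520000619000100022e3000c1400022e00000004e73000fe50004e700000000000ffffff000000000000003c2000c11000230000200022d3000c1000022d000000000010015180006180000000000100151600061700000000000ffffff00000000000000182000c0c0003da000000000010015140006160000000000100150f0008a4000000022d3000c0b00022d00000000000ffffff000000000000003c2000c050003d9000200022c3000c0400022c000000013a2000c0800034a00000000622000c0600034900000000000ffffff00000000030005003001047000500000200022b3000c0000022b00010004fe30010400004fe000000000d2000c010002da00000000000ffffff00000000030004e73000fe70004e70000000000100150d000615000100022b3000bfc00022b00000000012000bfd00023700000000000ffffff00000000000000182000bf900022b0000000000100150900061400010004e83000fed0004e8000000022a3000bf800022a00000000000ffffff00000000030002263000bf4000226000000000010015050006130000000000100150300061200000000192000bf50002e000000000000ffffff0000000000000000100150000061100020002263000bf0000226000100060230014ab000602000000000d2000bf100022900000000000ffffff00000000000000302000bed000364000000000010014f700061000010002253000bec000225000000090520013a900046000000000000ffffff00000000030002243000be800022400020004723001270000472000000019a2000be9000364000000000010014f500060f00000000000ffffff000000000000000010014f200060e00020002243000be600022400010004453000d9700044500000005cc30013990005cc00000000000ffffff000000000000000010014f000060d00020005ff300149a0005ff00000000002000be300022600000002243000be200022400000000000ffffff000000000000000010014ea00060c00020005ce30013a40005ce00010004433000d8d00044300000002223000be000022200000000000ffffff000000000000045e2000bdd0002a500020004453000d9500044500010002213000bdc00022100000004433000d8b00044300000000000ffffff000000000300060430014bd00060400020002203000bda000220000000000010014e400060b000000000010014df00060a00000000000ffffff000000000300060730014cd000607000000022820014be0005ba000000000010014d900060900000002203000bd800022000000000000ffffff000000000300021f3000bd600021f000000022a20014ae0004f5000000000010014d3000608000000000010014ca00060700000000000ffffff00000000030005bd30013650005bd000200021f3000bd400021f00010005ce30013a60005ce000000060230014a900060200000000000ffffff00000000000000302000bd20003c900020005ea300144c0005ea000100021e3000bd100021e000000000010014c600060600000000000ffffff00000000000000182000bcf0003c8000000000c2000bcd0003b700010004543000dc5000454000000021e3000bcc00021e00000000000ffffff000000000000003c2000bc900021e000200021d3000bc600021d00000000252000bc80003c7000000000d2000bc70003c700000000000ffffff000000000300060330014b3000603000000019b2000bc40003c6000100021d3000bc300021d000000099220013ab00046c00000000000ffffff000000000300060130014a100060100000000c32000bc10003c5000000000010014c0000605000000021d3000bc000021d00000000000ffffff000000000300021c3000bbe00021c000000000010014b8000604000000000010014b000060300000005b930014ad0005b900000000000ffffff000000000000015120014a40004e0000000000010014a600060200010005ff30014980005ff000000021c3000bbc00021c00000000000ffffff000000000300021b3000bba00021b000200059a30012be00059a00010004f130014a30004f10000000000100149e00060100000000000ffffff0000000000000000100149b00060000020005cc300139b0005cc000100021b3000bb800021b000000000010014950005ff00000000000ffffff000000000000003c2000bb50002a100020002183000bb40002180000000000100148f0005fe00000004c13000f4a0004c100000000000ffffff00000000030005fb300148a0005fb0000000000100148d0005fd00010002183000bb20002180000000000100148b0005fc00000000000ffffff00000000030002173000bb000021700020004613000dea000461000000000010014870005fb000000000010014840005fa00000000000ffffff00000000000000302000bad00033d000000000010014800005f900010002163000bac0002160000000000100147c0005f800000000000ffffff00000000000000182000ba900029e00020004c93000f670004c90000000273200125900052400000002163000ba800021600000000000ffffff00000000030002143000ba2000214000000022a2000ba50002a1000000000010014750005f700000000c22000ba300029e00000000000ffffff000000000300049b3000eb300049b000200049a3000eaf00049a00010005f4300146e0005f400000002133000ba000021300000000000ffffff00000000030002123000b9e00021200020004c13000f4c0004c1000000007b200143400051d00000004d03000f7c0004d000000000000ffffff000000000000000010014720005f60000000000100146f0005f500010002123000b9c0002120000000000100146b0005f400000000000ffffff000000000000000010014680005f300020003c83000bce0003c8000100055430011a200055400000002113000b9a00021100000000000ffffff00000000030002103000b96000210000000003d2000b97000216000000000010014660005f200000004c03000f440004c000000000000ffffff00000000030004bf3000f400004bf000000000c2000b93000212000000000010014620005f100000002103000b9200021000000000000ffffff00000000030005ec30014540005ec000000000010014600005f00000000000100145c0005ef000000020e3000b9000020e00000000000ffffff000000000300020d3000b8e00020d000000000010014580005ee000000000010014550005ed000000000010014510005ec00000000000ffffff0000000000000000100144d0005eb000200020d3000b8900020d00000000632000b8b0003af000000000d2000b8a0003b200000000000ffffff00000000030005e830014440005e8000200020c3000b8700020c000000000010014490005ea000000000010014450005e900000000000ffffff000000000300020b3000b8500020b000000000010014410005e80000000000100143e0005e70000000531300110b00053100000000000ffffff00000000030005303001107000530000000000c2000b830003af00010003b23000b8c0003b2000000020b3000b8200020b00000000000ffffff000000000300020a3000b8000020a00020005ae30013120005ae0000000000100143a0005e600000005ad300130e0005ad00000000000ffffff00000000030004533000dc100045300000000242000b7b000308000100020a3000b7a00020a00000000602000b7d00030c00000000000ffffff00000000030002093000b77000209000000003d2000b780003ac00010005df30014120005df000000000010014220005e500000000000ffffff00000000000005362000b750003ab00020002093000b70000209000000013a2000b7300030800000000622000b7100030700000000000ffffff0000000000000000100141f0005e400020004f230010130004f200010002083000b6e0002080000000000100141b0005e300000000000ffffff00000000030005b530013380005b500020005b130013210005b1000000000010014190005e200000002083000b6c00020800000000000ffffff000000000000000010014160005e100020002073000b6a00020700010004f230010110004f20000000416200101400041300000000000ffffff000000000300052530010d3000525000000000010014130005e000010005de300140c0005de00000002073000b6800020700000000000ffffff00000000030005ae30013150005ae00020002063000b6400020600000000252000b6500027400000005b1300131f0005b100000000000ffffff0000000000000000100140e0005df00000004a62000b6100027300010002063000b60000206000000000010014090005de00000000000ffffff000000000000003c2000b5e0003a400020002053000b5d000205000000000010014070005dd000000000010014050005dc00000000000ffffff00000000000000302000b5a000207000000000010014030005db00010002053000b59000205000000052330010ca00052300000000000ffffff00000000000000182000b570003a2000000000010014010008a3000100052230010c600052200000002053000b5600020500000000000ffffff00000000030002043000b52000204000000000010013f60005da00000000312000b5300022a000000000010013ef0005d900000000000ffffff00000000030002353000b50000235000000000010013eb0005d800000000002000b4d00022c00000002043000b4c00020400000000000ffffff00000000030002033000b4800020300020005b530013360005b5000000000010013ce0005d700000000192000b4900022800000000000ffffff000000000300022e3000b4600022e000000000010013ca0005d600010002033000b4200020300000000782000b4300022c00000000000ffffff00000000030002023000b3f000202000000003d2000b4000039d000000000010013c30005d5000000000010013c00005d400000000000ffffff000000000000000010013ba0005d300000000242000b3c00020400010002023000b3b000202000000000010013b80005d200000000000ffffff000000000000000010013b40005d1000000000c2000b38000346000000000010013b20005d000000002023000b3700020200000000000ffffff000000000000000010013ad0005cf00020002003000b3300020000000000252000b34000229000000000010013a10005ce00000000000ffffff0000000000000000100139d0005cd00020002223000b3100022200000000002000b2e00021900000002003000b2d00020000000000000ffffff00000000030005ad300130c0005ad00020001ff3000b290001ff000000000010013960005cc000000000d2000b2a00022700000000000ffffff000000000000000010013930005cb000200021b3000b2700021b00010001ff3000b230001ff00000000602000b2400021900000000000ffffff000000000000003c2000b2100039600020001fe3000b200001fe000000000010013910005ca0000000000100138f0005c900000000000ffffff00000000000000302000b1d0002000000000000100138d0005c800010001fe3000b1c0001fe0000000000100138b0005c700000000000ffffff00000000000000182000b1a000394000000000010013890008a2000000000010013870005c600000001fe3000b190001fe00000000000ffffff000000000000003c2000b1600020800020001fd3000b130001fd000000000010013850005c5000000000d2000b140002c600000000000ffffff00000000000000302000b11000392000200042a3000d2f00042a00010001fd3000b100001fd00000004283000d2900042800000000000ffffff00000000000000182000b0b0001ff00000000c32000b0d0002c5000000000010013830005c400000001fd3000b0a0001fd00000000000ffffff000000000300054f300118e00054f00020001fc3000b080001fc000000000010013800005c3000000055830011b300055800000000000ffffff00000000030005b830013530005b80000000000100137b0005c200010001fc3000b060001fc000000000010013750005c100000000000ffffff00000000030001fb3000b040001fb000200054f300118c00054f0000000000100136c0005c0000000054c300118400054c00000000000ffffff000000000000000010013680005bf000200059f30012d200059f00010001fb3000b020001fb00000005a930012fa0005a900000000000ffffff000000000000003c2000b0000038c00020001fa3000afd0001fa00000000252000afe00036200000004043000caf00040400000000000ffffff00000000000000182000afb00038b000000000010013660005be0001000508300106600050800000001fa3000afa0001fa00000000000ffffff00000000030005bc30013600005bc00020001f93000af70001f900000000252000af800038a000000000010013620005bd00000000000ffffff00000000000000302000af30001fa000000019b2000af500038900010001f93000af10001f900000000012000af200038900000000000ffffff00000000030005b7300134b0005b7000000000010013610008a1000000007b2000aef00038800000001f93000aee0001f900000000000ffffff00000000030001f83000aec0001f80000000000100135d0005bc000100058b300127f00058b0000000000100135b0005bb00000000000ffffff000000000000000010013580005ba000200059d30012ca00059d00010005a330012df0005a300000001f83000aea0001f800000000000ffffff00000000030001f73000ae80001f7000000000010013560005b90000000000100134e0005b8000000000010013480005b700000000000ffffff000000000000000010013460008a000020001f73000ae60001f7000100059f30012d000059f000000059d30012c800059d00000000000ffffff000000000000003c2000ae30002c600020001f63000ae20001f6000000000010013390005b6000000000010013330005b500000000000ffffff0000000000000000100132c0005b400020001f53000ade0001f500000000252000adf0002c300000005a330012dd0005a300000000000ffffff000000000000000010013260005b300000000242000adb00034500010001f43000ada0001f4000000000010013220005b200000000000ffffff0000000000000000100131c0005b1000000000c2000ad70002030000000000100131a0005b000000001f43000ad60001f400000000000ffffff000000000000003c2000ad30001f400020001f33000ad20001f3000000000010013160005af0000000000100130f0005ae00000000000ffffff00000000000000182000acf0002c5000000000010013080005ad000000000010013040005ac00000001f33000ace0001f300000000000ffffff000000000000000010013010005ab00020005a930012fc0005a900000000002000acb0002c200000001f23000aca0001f200000000000ffffff000000000000000010012fd0005aa00020001ef3000ac60001ef000000000010012f70005a9000000000d2000ac700033f00000000000ffffff000000000000000010012f40005a800020001ed3000ac00001ed00000000252000ac30001f8000000000d2000ac10002c300000000000ffffff000000000000000010012f00005a700000000612000abd0002c200000000002000abb0001ef00000001ed3000aba0001ed00000000000ffffff00000000030004803000e59000480000000000010012ef00089f000000000010012e80005a600000001ec3000ab80001ec00000000000ffffff00000000000004a92000ab500021500000002102000ab300033f00000000002000ab100033d00000001eb3000ab00001eb00000000000ffffff00000000030001ea3000aae0001ea000000000010012e60005a5000100043e30012e200043e00000004803000e5700048000000000000ffffff000000000000000010012e30005a4000000000010012da0005a300010001ea3000aaa0001ea00000000602000aab00033d00000000000ffffff00000000030001e93000aa60001e9000000003d2000aa7000358000000000010012d80005a2000000000010012d60005a100000000000ffffff000000000000000010012d30005a000000000242000aa30001f200010001e93000aa20001e9000000000010012cd00059f00000000000ffffff000000000000000010012cb00059e000000000c2000a9f0001ea000000000010012c500059d00000001e93000a9e0001e900000000000ffffff000000000000003c2000a9b00021300020001e83000a9a0001e8000100056d300120100056d000000000010012c300059c00000000000ffffff00000000000000182000e2d000474000000000010012c100089e000000000010012bf00059b00000001e83000a980001e800000000000ffffff00000000030001e73000a940001e700000005372000a950002b500010004763000e3400047600000004743000e2c00047400000000000ffffff00000000000000302000a91000211000200055d30011cd00055d00010001e63000a900001e6000000000010012bb00059a00000000000ffffff000000000300059730012b4000597000000000010012ba00089d000000000010012b800059900000001e63000a8e0001e600000000000ffffff00000000030001e53000a880001e500000002722000a8b000213000000019a2000a89000211000000055530011a600055500000000000ffffff00000000030001e43000a860001e4000000000010012b500059800010004243000d1b000424000000000010012b100059700000000000ffffff00000000030001e33000a820001e3000200055e30011d300055e00000000312000a830001e8000000000010012af00059600000000000ffffff000000000000000010012aa000595000000000010012a500059400000000002000a7f00029400000001e33000a7e0001e300000000000ffffff0000000000000000100129e0005930000000000100129600059200010001e23000a7a0001e200000005342000a7b00029400000000000ffffff00000000030001e13000a780001e1000200056730011ef000567000100055d30011cb00055d0000000000100129400059100000000000ffffff000000000300055c30011c700055c00000000242000a750001e300010001e13000a740001e10000000000100129000059000000000000ffffff0000000000000000100128d00058f000200058c300128300058c0000000000100128a00058e00000001e13000a720001e100000000000ffffff00000000030001e03000a6e0001e00000000000100128800058d00000000312000a6f0002a60000000587300126200058700000000000ffffff00000000030003d33000bee0003d300020001e03000a6c0001e000010003d23000bea0003d20000000000100128000058c00000000000ffffff00000000030001df3000a680001df0000000000100127c00058b00010004fc30010360004fc00000000192000a690002a400000000000ffffff0000000000000000100127700058a00020001df3000a660001df000100038c3000aff00038c0000000000100127100058900000000000ffffff00000000000000792000a630002a20000000000100126800058800000000002000a610001e000000001df3000a600001df00000000000ffffff000000000300056d300120300056d000200056530011e900056500010001de3000a5e0001de0000000000100126700089c00000000000ffffff00000000030004d03000f7e0004d000020004c63000f5e0004c60000000000100126600089b00000001de3000a5c0001de00000000000ffffff000000000300056730011f100056700020001dd3000a5a0001dd000100056530011e70005650000000000100126500089a00000000000ffffff0000000000000000100125f0005870000000000100125d0005860001000583300124d00058300000001dd3000a580001dd00000000000ffffff00000000030004c93000f690004c900020001dc3000a560001dc0000000000100125b00058500000004c63000f5c0004c600000000000ffffff000000000000000010012510005840000000000100125000089900010001dc3000a540001dc0000000000100124a00058300000000000ffffff00000000030001db3000a520001db000000000010012460005820000000000100124300058100000004663000dfd00046600000000000ffffff0000000000000000100123f00058000020001db3000a4d0001db00000000632000a4f000357000000000d2000a4e00035900000000000ffffff00000000030001da3000a4b0001da00020003753000aa80003750000000000100123c00057f0000000000100123800057e00000000000ffffff0000000000000000100123600057d000000000c2000a4900035700010003593000a5000035900000001da3000a480001da00000000000ffffff0000000000000000100123200057c0000000000100122f00057b00010001d93000a460001d900000004673000e0100046700000000000ffffff00000000030001d83000a420001d80000000000100122d00057a00010004e13000fc20004e100000000192000a4300027c00000000000ffffff0000000000000000100122b00057900020001d83000a400001d800000000001001229000578000000047b3000e4800047b00000000000ffffff0000000000000000100122400057700020004343000d5600043400010001d73000a3e0001d70000000000100122200057600000000000ffffff00000000000000182000a3b000342000000000c2000a390001d90000000000100121f00057500000001d73000a380001d700000000000ffffff00000000030001d63000a360001d60000000000100121d000574000100056f300120f00056f00000004dc3000faa0004dc00000000000ffffff0000000000000000100121a00057300020001d63000a340001d600010004343000d540004340000000000100121800057200000000000ffffff00000000030004da3000fa40004da0000000000100121600057100000000002000a310001d800000001d63000a300001d600000000000ffffff00000000000000001001210000570000000000c2000a2e00034e000100056e300120700056e00000001d53000a2d0001d500000000000ffffff000000000000003c2000a2a00034400020001d43000a270001d400000000252000a2900034d000000000d2000a2800034d00000000000ffffff0000000000000000100120a00056f00000001392000a2500034c00010001d43000a240001d40000000000100120400056e00000000000ffffff00000000030001d33000a220001d3000000000010011fe00056d000100055e30011d100055e000000000010011fc00056c00000000000ffffff000000000000000010011f900056b000000000010011f700056a00010003d93000c090003d900000001d33000a200001d300000000000ffffff000000000000000010011f4000569000000000010011f200056800010001d23000a1e0001d200000003d93000c070003d900000000000ffffff00000000030001d13000a1a0001d1000000003d2000a1b0001e6000000000010011ec000567000000000010011ea00056600000000000ffffff000000000000000010011e400056500000000242000a170001d300010001d13000a160001d1000000000010011e200056400000000000ffffff000000000000000010011e0000563000200039b3000b3900039b000000000010011de00056200000001d13000a140001d100000000000ffffff000000000000000010011da00056100020003813000adc00038100010001d03000a120001d0000000000010011d700056000000000000ffffff000000000300034d3000a2b00034d000000000c2000a0f0001d2000000000010011d400055f00000001d03000a0e0001d000000000000ffffff000000000000000010011ce00055e000200055c30011c500055c00010001cf3000a0b0001cf00000000012000a0c00034300000000000ffffff00000000030003523000a3c000352000000000c2000a0800034200000000632000a0900034200000001cf3000a070001cf00000000000ffffff000000000000000010011c800055d00020001ce3000a040001ce000000000010011c200055c000000000d2000a0500034100000000000ffffff00000000030001cd3000a010001cd0002000552300119c00055200000000312000a02000340000000000010011bd00055b00000000000ffffff000000000000045e20009ff00033f00020003783000ab400037800010001cd30009fe0001cd000000037c3000ac800037c00000000000ffffff00000000030001cc30009fc0001cc000000000010011b900055a000100052c30010f400052c000000052a30010eb00052a00000000000ffffff00000000030003bd3000bae0003bd00020001cc30009fa0001cc00010003783000ab200037800000003763000aac00037600000000000ffffff000000000000000010011b6000559000200055530011a800055500010001cb30009f80001cb0000000060200119500049a00000000000ffffff000000000000000010011b000055800020005513001194000551000000000010011ad00055700000001cb30009f60001cb00000000000ffffff000000000000000010011aa00055600020001ca30009f40001ca000000000010011a30005550000000000100119f00055400000000000ffffff0000000003000533300111a0005330000000000100119d000553000100052f300110300052f00000001ca30009f20001ca00000000000ffffff0000000000000000100119800055200020001c930009ee0001c9000000002520009ef0002100000000000100119100055100000000000ffffff000000000300052c30010f700052c00000004a620009eb00020f00010001c930009ea0001c9000000052f300110100052f00000000000ffffff000000000000003c20009e70001cb00020001c830009e60001c80000000000100118f0005500000000000100118900054f00000000000ffffff000000000000003020009e40003350000000000100118700054e00010001c830009e30001c80000000000100118500054d00000000000ffffff000000000000001820009e10003340000000000100118100054c0000000000100118000089800000001c830009e00001c800000000000ffffff00000000030001c730009dd0001c70000000000100117900054b000000003120009de000333))))) (.node (nat_lit 8192) (.node (nat_lit 6144) (.leaf (nat_lit 0x30002da3000f700002da000000003d2000f720004cc00000000312000f710004cc000000000010019e500071d00000000000ffffff00000000000001992000f6e0004cb000200071130019a700071100010002da3000f6d0002da000000000010019e300071c00000000000ffffff000000000300071930019d800071900020006f930019210006f900010002d93000f6b0002d9000000000010019df00071b00000000000ffffff00000000000000182000f6800035c000000000c2000f660003bc000000000010019d900071a00000002d93000f650002d900000000000ffffff00000000030002d83000f620002d8000000003d2000f630004c8000000000010019d5000719000000000010019cd00071800000000000ffffff000000000000000010019c5000717000200062a300157a00062a000100071330019b400071300000002d83000f600002d800000000000ffffff00000000030002d73000f5a0002d7000000022a2000f5d00035f000000000010019bf00071600000000c22000f5b00035c00000000000ffffff000000000000000010019b9000715000000000010019b500071400010002d73000f580002d7000000000010019b100071300000000000ffffff00000000030002d63000f530002d6000000003d2000f550004b400000000312000f540004c4000000000010019a800071200000000000ffffff00000000030007033001958000703000200071030019a30007100001000627300156e00062700000002d63000f510002d600000000000ffffff000000000000003c2000f4f0004c200020002d53000f4e0002d5000000000010019a4000711000000000010019a000071000000000000ffffff00000000030002d43000f480002d4000000003d2000f4b0003b90000000000100199900070f00000000192000f490003c000000000000ffffff00000000030002d33000f420002d3000000003d2000f450002d90000000000100199400070e00000000192000f430003b600000000000ffffff00000000000000c12000f3f0003b5000000000c2000f3d0002d40000000000100198e00070d00000002d33000f3c0002d300000000000ffffff000000000000003c2000f390002e900020002d13000f360002d100000000252000f370002f40000000000100198600070c00000000000ffffff0000000003000707300196a0007070000000000100197800070b0000000000100197300070a00000002d13000f340002d100000000000ffffff00000000030002d03000f320002d0000000000010019700007090000000000100196c0007080000000000100196700070700000000000ffffff0000000000000000100196300070600020002d03000f300002d00000000000100196100070500000006ff30019440006ff00000000000ffffff00000000000000302000f2d0002e700000000242000f2b0002f800010002cf3000f2a0002cf0000000000100195b00070400000000000ffffff00000000030006fd30019380006fd000000000010019530007030000000000100195100070200000002cf3000f280002cf00000000000ffffff00000000030002ce3000f220002ce00000002722000f250002e9000000019a2000f230002e70000000000100194b00070100000000000ffffff00000000000000001001945000700000000000010019410006ff00010006fb300192c0006fb00000002ce3000f200002ce00000000000ffffff00000000030002cd3000f1d0002cd000000003d2000f1e0004b6000000000010019390006fe000000000010019350006fd00000000000ffffff0000000000000000100192d0006fc0002000543300115500054300010002cd3000f1b0002cd000000000010019290006fb00000000000ffffff00000000030002cc3000f180002cc00020004c43000f560004c4000000000010019220006fa00000000192000f190004b400000000000ffffff0000000000000000100191a0006f900020006f630019110006f600010002cc3000f160002cc0000000541300114b00054100000000000ffffff00000000030002cb3000f120002cb000000003d2000f140004b2000000000010019140006f800000000192000f130004b200000000000ffffff00000000000000c12000f100004b100020006f5300190d0006f5000000000010019120006f700000002cb3000f0f0002cb00000000000ffffff000000000000003c2000f0d0004b000020002ca3000f0c0002ca0000000000100190e0006f60000000000100190a0006f500000000000ffffff00000000030002c93000f060002c9000000003d2000f090002f400000000312000f070002fb000000000010019030006f400000000000ffffff00000000030002c83000f000002c8000000003d2000f030002cf00000000312000f010002f0000000000010018fe0006f300000000000ffffff00000000000001992000efd0002ef00000000242000efb0002c900010002c83000efa0002c8000000000010018f80006f200000000000ffffff00000000030002c43000ef70002c4000000000010018f50006f100000000312000ef80004ac000000000010018ee0006f000000000000ffffff00000000030004eb3000ffc0004eb00020002c43000ef30002c400000000252000ef4000426000000000010018ec0006ef00000000000ffffff000000000000000010018e40006ee000000000010018e20006ed00000000002000ef00002c500000002c43000eef0002c400000000000ffffff00000000000000302000eeb0004a9000200068030016f300068000010002c13000eea0002c1000000000010018de0006ec00000000000ffffff00000000000000182000ee70002c2000000000010018dc0006eb000000000010018da0006ea00000002c13000ee60002c100000000000ffffff00000000030002c03000ee40002c000020005b430013320005b4000100064730015f6000647000000000010018d40006e900000000000ffffff00000000030004073000ee200040700000002102000edf00046a00000000002000edd00040600000002c03000edc0002c000000000000ffffff00000000030002bf3000ed90002bf0002000692300173f00069200000000312000eda0004a5000000064430015e600064400000000000ffffff000000000000045e2000ed70004a400000002122000ed500046900010002bf3000ed20002bf00000000602000ed300040600000000000ffffff00000000030005b630013420005b600020002bd3000ed00002bd000100064630015ef000646000000000010018d00006e800000000000ffffff000000000000000010018cd0006e7000200064030015d0000640000100063c30015bb00063c00000002bd3000ece0002bd00000000000ffffff00000000030006ab30017b80006ab00020002bc3000ecc0002bc000000000010018c60006e6000000064330015e100064300000000000ffffff000000000000000010018c10006e50002000894400134500030d00010002bc3000eca0002bc000000063c30015b800063c00000000000ffffff00000000000000182000ec400049f00000002102000ec70002d800000001382000ec50002d600000002bb3000ec30002bb00000000000ffffff00000000000000302000ebe00049e000200068a300171900068a00010002ba3000ebd0002ba000000000010018bf0006e400000000000ffffff00000000000000182000eba0002bc00020006a730017940006a7000000000010018bd0006e300000002ba3000eb90002ba00000000000ffffff000000000000000010018b70006e200000000242000eb600047600010002b83000eb50002b80000000624300155700062400000000000ffffff000000000000003c2000eb20003ba00020002b73000eb10002b700000002e92001438000313000000000010018b00006e100000000000ffffff00000000030002b63000ead0002b6000000022a2000eae0003ba000000000010018ac0006e0000000033c300119600033c00000000000ffffff000000000000000010018a70006df000000000c2000eaa0004740001000622300154c00062200000002b63000ea90002b600000000000ffffff000000000000003c2000ea700049800020002b43000ea60002b4000000000010018a10006de000000069b300176300069b00000000000ffffff00000000000000302000ea200049700000009012000ea30002f900010002b43000e9f0002b400000000012000ea000048200000000000ffffff00000000030006db30018940006db00020002b13000e9c0002b10000000539200155c00030e000000000d2000e9d00049600000000000ffffff00000000030006dd30018a00006dd00020005bf300155f0005bf00010002b13000e990002b100000000012000e9a00049500000000000ffffff00000000000000182000e940002b400000000c32000e97000494000000007b2000e9600049400000002b13000e930002b100000000000ffffff00000000030002b03000e910002b0000200063f30015cc00063f0000000000100189d0006dd00000005fe30014920005fe00000000000ffffff000000000000067b20014930005c300020002b03000e8f0002b000010006d430018720006d40000000622300154a00062200000000000ffffff00000000030006bb30018040006bb00020006c0300181f0006c000010002af3000e8d0002af00000004cc20017f200060000000000000ffffff00000000030006da300188a0006da000000000010018970006dc00010004f030018060004f000000002af3000e8b0002af00000000000ffffff00000000030002ae3000e890002ae0000000e14200142900052200010006bb30018020006bb000000063420017f40004ee00000000000ffffff000000000300060530014c50006050002000624300155900062400010006d230018690006d200000002ae3000e870002ae00000000000ffffff00000000030002ad3000e850002ad0000000000100188d0006db0000000ab420015600005b9000000000010018850006da00000000000ffffff00000000030004db300142c0004db00020006d430018740006d400010002ad3000e830002ad00000006d2300186b0006d200000000000ffffff000000000300064630015f100064600020002ac3000e7f0002ac00000000252000e800002c6000000000010018830006d900000000000ffffff00000000030005ee300145b0005ee00020005eb30014500005eb00000000002000e7c00042c00000002ac3000e7b0002ac00000000000ffffff00000000000000302000e780002ac000200064730015f800064700010002ab3000e770002ab0000000000100187f0006d800000000000ffffff00000000030002a93000e730002a90000000000100187b0006d700000000312000e74000430000000000010018770006d600000000000ffffff000000000000000010018750006d500020002a93000e6f0002a900000000252000e700002b60000000000100186f0006d400000000000ffffff0000000000000000100186c0006d3000000000010018660006d200000000002000e6c0002aa00000002a93000e6b0002a900000000000ffffff000000000000003c2000e6800044500020002a63000e670002a600010006a030017770006a0000000000010018620006d100000000000ffffff00000000030006cf300185e0006cf00020002a43000e650002a4000000000010018610008a80000000000100185f0006d000000000000ffffff00000000030002a33000e610002a30000000000100185b0006cf000000000010018560006ce00000004a42000e6200031700000000000ffffff000000000000000010018510006cd000200068f300173100068f00010002a13000e5f0002a100000004973000ea100049700000000000ffffff000000000300029f3000e5b00029f0000000000100184f0006cc00010004fd300103c0004fd00000000192000e5c0002a600000000000ffffff00000000000002ea2000e5800037900020006cb300184a0006cb000100029e3000e5500029e00000000782000e5600037700000000000ffffff000000000300029d3000e5300029d0002000667300169d0006670001000584300125600058400000004fc30010340004fc00000000000ffffff000000000300052830010e2000528000200029d3000e5100029d000000000010018470006cb000000000010018440006ca00000000000ffffff00000000030004fb30010300004fb0002000549300117500054900000000002000e4e00029f000000029d3000e4d00029d00000000000ffffff000000000300029c3000e4a00029c000000000010018410006c90000000000100183a0006c800000000192000e4b00047c00000000000ffffff00000000030005f130014650005f1000200029c3000e4600029c000000000010018380006c7000000000d2000e4700035400000000000ffffff000000000000000010018300006c60000000000100182e0006c500000000002000e4300029c000000029a3000e4200029a00000000000ffffff00000000000000302000e3e0002980000000000100182c0006c400010002973000e3d0002970000000000100182a0006c300000000000ffffff00000000000000182000e3b00047800020005c930013fd0005c9000000000010018260006c200000002973000e3a00029700000000000ffffff00000000030002963000e3700029600020005e530014280005e5000100059530012ad00059500000000192000e3800047700000000000ffffff00000000000004852000e35000476000200049c3000eb700049c00000000002000e3300037000000002963000e3200029600000000000ffffff00000000030002953000e3000029500020005463001163000546000000000010018200006c1000000059330012a100059300000000000ffffff00000000030003713000e2e00037100020004993000eab00049900010002953000e2a00029500000000602000e2b00037000000000000ffffff0000000000000000100181a0006c000020002933000e28000293000100059430012a8000594000000000010018130006bf00000000000ffffff0000000000000000100180e0006be0000000270200126f0003d20001000588300126e00058800000002933000e2600029300000000000ffffff0000000003000542300115100054200020002923000e240002920000000000100180a0006bd0000000592300129900059200000000000ffffff000000000000000010018070006bc0002000589300127400058900010002923000e220002920000000588300126c00058800000000000ffffff00000000000000302000e1e000293000000000010017ff0006bb00010002913000e1d000291000000000010017fd0006ba00000000000ffffff00000000000000182000e1b00046e000000000010017f80008a7000000000010017f60006b900000002913000e1a00029100000000000ffffff00000000000000302000e1400046d00000002122000e170002cd00010002903000e1300029000000000602000e150002cc00000000000ffffff000000000000003c2000e100002f1000200028f3000e0f00028f000000000010017eb0006b800000003c630013ac0003c600000000000ffffff000000000300028e3000e0b00028e00000002722000e0c0002f100010003de3000fd60003de000000000010017e70006b700000000000ffffff000000000000000010017e20006b600020004a63000ee00004a6000100028e3000e0900028e000000053c300113400053c00000000000ffffff000000000000000010017dc0006b500020004a43000ed60004a4000100053f300114200053f000000028c3000e0700028c00000000000ffffff0000000003000592300129d000592000200028a3000e0300028a000000000010017da0006b4000000000d2000e0400029b00000000000ffffff0000000003000507300106200050700020005043001057000504000100028a3000dff00028a00000000012000e0000035600000000000ffffff00000000030002893000dfb000289000000000010017d60006b3000000000010017d20006b200000000192000dfc00035a00000000000ffffff000000000000000010017d00006b100020002893000df700028900010006a830017a00006a8000000000d2000df800028e00000000000ffffff00000000000000182000df400028a000200059330012a4000593000000000010017cc0006b000000002883000df300028800000000000ffffff000000000000000010017c90006af00020006a6300178e0006a600000000002000df000028900000002873000def00028700000000000ffffff000000000000003c2000ded00046200020002843000dec00028400010006973001754000697000000000010017c30006ae00000000000ffffff00000000000000182000de800046100000005352000de90003be00000000002000de600045200000002843000de500028400000000000ffffff00000000030006aa30017b00006aa00020002833000de200028300000000252000de300046000000003d330013aa0003d300000000000ffffff00000000000000302000dde000284000000019b2000de000045f00010002833000ddc00028300000000012000ddd00045f00000000000ffffff00000000030006ad30017c20006ad000000000c2001689000664000000007b2000dda00045e00000002833000dd900028300000000000ffffff00000000030002823000dd7000282000200059130014ff00059100010004fa300102a0004fa000000000010017bf0006ad00000000000ffffff0000000003000666300169700066600020002823000dd5000282000100053c300113600053c00000006a8300179e0006a800000000000ffffff00000000030006a930017a60006a9000000000010017b90006ac000100027f3000dd300027f000000007820017970005f600000000000ffffff00000000030006a730017960006a7000000000010017b30006ab00000002e9200179900051c000000027f3000dd100027f00000000000ffffff000000000300027e3000dcf00027e000000000010017a90006aa000000000010017a10006a9000000051a300168c00051a00000000000ffffff000000000000067920017400005860000000000100179b0006a800010006a6300178c0006a6000000027e3000dcd00027e00000000000ffffff000000000300027d3000dcb00027d000000022a20014d7000608000100059c300179000059c000000000010017910006a700000000000ffffff000000000300051f30010be00051f000200053f300114400053f000100027d3000dc900027d000000000010017890006a600000000000ffffff00000000030006a330017840006a3000200027c3000dc700027c000000000010017870006a5000000000010017850006a400000000000ffffff000000000300027b3000dc300027b000000000010017810006a3000000045f2000dc40003c80000000000100177c0006a200000000000ffffff000000000000003c2000dc00003ad000200027a3000dbf00027a000000000010017780006a1000000000010017740006a000000000000ffffff0000000000000000100177100069f00020005e3300141e0005e300010004613000de700046100000002773000dbd00027700000000000ffffff00000000000002e82000dba000414000200069d300176900069d00000001502000db800041300000002763000db700027600000000000ffffff00000000030002753000db500027500000000c320013e40005bb0001000570300121500057000000004e13000fc00004e100000000000ffffff000000000300060a30014e300060a00020002753000db30002750000000000100176e00069e0000000000100176600069d00000000000ffffff00000000030002733000daf0002730000000000100176400069c00000000312000db000027a000000056f300120d00056f00000000000ffffff000000000300056e300120900056e000200062d300158800062d00000000002000dac00027500000002733000dab00027300000000000ffffff000000000300069830017580006980000000000100176000069b0000000000100175c00069a00000002723000da900027200000000000ffffff00000000030002713000da700027100000000001001759000699000100065830016420006580000000000100175500069800000000000ffffff0000000003000657300163e00065700000000612000da400044700010002713000da200027100000000012000da300044a00000000000ffffff000000000300069430017490006940000000000100175100069700010002703000da00002700000000000100174d00069600000000000ffffff000000000300026f3000d9e00026f0000000000100174a0006950000000000100174600069400000005b330013290005b300000000000ffffff00000000030005b230013250005b2000200044a3000da500044a00000000002000d9c000447000000026f3000d9b00026f00000000000ffffff000000000300026e3000d9900026e00020006563001638000656000100053230011120005320000000000100174200069300000000000ffffff00000000030004853000e69000485000000000c2000d940003ce00000001382000d960003d1000000026e3000d9300026e00000000000ffffff000000000300026d3000d9000026d000000003d2000d9100044400000000001001739000692000000068e300172c00068e00000000000ffffff00000000000005362000d8e000443000200026d3000d8900026d000000013a2000d8c0003cf00000000622000d8a0003ce00000000000ffffff00000000030005343001120000534000200065a300164c00065a000100026c3000d8700026c0000000000100173700069100000000000ffffff0000000000000000100173400069000020005f7300147b0005f70000000000100172e00068f000000026c3000d8500026c00000000000ffffff0000000003000656300163a000656000200026b3000d8100026b000100065a300164a00065a000000000d2000d820002a000000000000ffffff0000000000000000100172900068e00000004612000d7e00029f000100068b300171d00068b000000026b3000d7d00026b00000000000ffffff0000000000000000100172400068d000200026a3000d7b00026a000000099420012e100037700000005f730014780005f700000000000ffffff000000000300060930014de0006090000000000100171f00068c000100026a3000d7900026a0000000000100171a00068b00000000000ffffff000000000000003c2000d7700043c00020002693000d760002690000000000100171600068a0000000000100171400068900000000000ffffff00000000000000302000d7400043b000200088f40014d20002ba00010002693000d73000269000000060830014d600060800000000000ffffff00000000000000182000d7000026a00000000001001712000688000100060730014cf00060700000002693000d6f00026900000000000ffffff00000000030002663000d6c000266000000003d2000d6d0004390000000000100170f0006870000000000100170800068600000000000ffffff0000000003000590300129300059000000000242000d690003f200010002663000d680002660000000000100170600068500000000000ffffff000000000000000010016fe000684000000000c2000d65000267000000000010016fc00068300000002663000d6400026600000000000ffffff000000000000003c2000d6100026c00020002633000d5e00026300000000252000d5f00029b000000000010016f800068200000000000ffffff00000000000000302000d5900026500000001392000d5b00029a00010002633000d58000263000000000010016f400068100000000000ffffff00000000000000182000d5200043400000005e92000d5500035300000004a52000d5300035000000002633000d5100026300000000000ffffff000000000000003c2000d4f00043300020002623000d4e000262000000000010016f0000680000000000010016e900067f00000000000ffffff00000000000000302000d4c000432000000000010016e80008a600010002623000d4b000262000000000010016e600067e00000000000ffffff00000000000000182000d48000264000000000010016e400067d000000000010016e200067c00000002623000d4700026200000000000ffffff00000000030002613000d45000261000000000010016dc00067b00010004883000e75000488000000000010016d900067a00000000000ffffff000000000000000010016d500067900020002613000d4000026100000000252000d4100042f00000000622000d4200042d00000000000ffffff00000000030002603000d3c000260000000003d2000d3d00040a000000000010016cf000678000000000010016cc00067700000000000ffffff000000000000000010016ca00067600000000242000d3a00042d00010002603000d39000260000000042f3000d4300042f00000000000ffffff000000000000000010016c6000675000000000010016c3000674000100048a3000e7d00048a000000025f3000d3700025f00000000000ffffff00000000000000302000d340002e300000000242000d3200025f000100025e3000d3100025e000000000010016c000067300000000000ffffff000000000000000010016bb000672000000000c2000d2e000392000000000010016b7000671000000025e3000d2d00025e00000000000ffffff000000000300025d3000d2b00025d000000000010016b50006700001000587300126400058700000004fd300103a0004fd00000000000ffffff000000000000000010016b200066f000200025d3000d2700025d000000000010016ae00066e00000000622000d2800039200000000000ffffff000000000300025c3000d2300025c000000000010016ac00066d00000000312000d240002a40000000584300125400058400000000000ffffff000000000000000010016aa00066c000200025c3000d2100025c00010004ab3000ef50004ab000000000010016a800066b00000000000ffffff0000000003000583300124f000583000000000010016a600066a00000000002000d1e00025d000000025c3000d1d00025c00000000000ffffff000000000000003c2000d19000424000200025b3000d1600025b00000009942000d1a00036c000000000d2000d170003ff00000000000ffffff00000000000000302000d14000423000000000010016a2000669000100025b3000d1300025b00000005ef300145f0005ef00000000000ffffff000000000300066830016a1000668000200025a3000d1000025a00010005213001538000521000000000d2000d1100042200000000000ffffff0000000003000663300168000066300000000242001539000379000100025a3000d0d00025a00000000012000d0e00042100000000000ffffff00000000000000182000d0800025b00000000c32000d0b000420000000007b2000d0a000420000000025a3000d0700025a00000000000ffffff00000000030002593000d050002590000000000100169e00066800000000001001698000667000000064230015db00064200000000000ffffff00000000000006c320015dc000526000200064e300161600064e00010002593000d03000259000000065b300165000065b00000000000ffffff0000000003000618300151d00061800020002583000d01000258000100061d300153300061d0000000000100169300066600000000000ffffff00000000030006623001674000662000200058f300151f00058f0000000000100168d00066500000002583000cff00025800000000000ffffff00000000030002573000cfd0002570002000618300151b000618000000003120013d800054c000000058d30014fd00058d00000000000ffffff00000000000000001001683000664000200064c300160d00064c0001000652300162400065200000002573000cfb00025700000000000ffffff00000000030002563000cf90002560000000e38200153500051a000000000010016790006630000000000100167100066200000000000ffffff000000000300058530013e100058500020002563000cf7000256000100064e300161400064e000000064c300160b00064c00000000000ffffff0000000000000000100166e00066100020002543000cf100025400000000252000cf4000299000000000d2000cf200025900000000000ffffff0000000000000000100166800066000020002523000ced00025200000000252000cee0003e20000000652300162200065200000000000ffffff0000000000000000100166400065f00000000612000cea00029800000000002000ce800025400000002523000ce700025200000000000ffffff00000000030004513000dbb000451000000030120013e900038800010002513000ce50002510000000000100165d00065e00000000000ffffff00000000030002503000ce30002500000000000100165900065d00010004513000db900045100000003a830010150003a800000000000ffffff0000000000000000100165400065c000200065b300165200065b00000000002000ce00003e000000002503000cdf00025000000000000ffffff000000000000003c2000cdc00029b000200024e3000cdb00024e0001000534300111e0005340000000542300114f00054200000000000ffffff00000000030005463001161000546000200024d3000cd700024d0000000000100164d00065b000000000d2000cd800029900000000000ffffff0000000000000000100164700065a00000000242000cd4000268000100024c3000cd300024c0000000000100164500065900000000000ffffff0000000000000000100163f000658000000000c2000cd00003f40000000000100163b000657000000024c3000ccf00024c00000000000ffffff000000000000003c2000ccc00024c000200024b3000ccb00024b000000000010016340006560000000000100163000065500000000000ffffff00000000000000302000cc800029a00020005323001114000532000100024b3000cc700024b0000000000100162c00065400000000000ffffff000000000000000010016270006530000000000100161f00065200010002493000cc300024900000000012000cc400029800000000000ffffff00000000030002483000cc1000248000200042e3000d3e00042e0000000000100161b0006510000000000100161900065000000000000ffffff0000000000000000100161700064f00000000242000cbe00025000010002483000cbd0002480000000000100161100064e00000000000ffffff0000000000000000100160e00064d000000000c2000cba0002490000000000100160800064c00000002483000cb900024800000000000ffffff00000000000000302000ee10004a600020005f8300147f0005f800010002473000cb70002470000000000100160600064b00000000000ffffff00000000030002463000cb300024600000005372000cb400028b00010004a63000ede0004a600000004a43000ed40004a400000000000ffffff000000000300064830015fc000648000000000010016040008a500010002453000cb10002450000000000100160200064a00000000000ffffff00000000030002443000cad000244000000000010015fd000649000000000010015f900064800000004a42000cae00038c00000000000ffffff000000000000000010015f2000647000000000010015ea00064600000000002000caa0002be00000002423000ca900024200000000000ffffff00000000030002413000ca500024100020004d93000f9e0004d9000000000010015e800064500000000192000ca600024700000000000ffffff000000000000000010015e3000644000000000010015de00064300010002413000ca100024100000005342000ca20002be00000000000ffffff00000000030002403000c9d000240000000000010015d800064200000000312000c9e00027c00000005703001213000570)) (.node (nat_lit 7168) (.leaf (nat_lit 0x20007493001b00000749000100036e30012b900036e00000000001001da50007be00000000000ffffff000000000000003c20012b7000598000200036c30012b600036c000100066930016a500066900000000001001d9d0007bd00000000000ffffff000000000000001820012b300036e00000000001001d950007bc00000000001001d8d0007bb000000036c30012b200036c00000000000ffffff00000000030007b93001d830007b9000200070230019b000070200000000001001d860007ba000000036b30012b000036b00000000000ffffff000000000300036a30012ab00036a000000003d20012ae000595000000003120012ac00047700000000001001d7f0007b900000000000ffffff000000000000022920012a9000594000200036a30012a600036a000000002520012a700047300000007b83001d7c0007b800000000000ffffff0000000003000369300129f000369000000003d20012a3000464000000003120012a2000593000000001920012a000047500000000000ffffff0000000000000229200129c000468000200036930012970003690000000025200129a000509000000000d200129800047100000000000ffffff00000000030007b73001d780007b70000000dc820014fe00045d000100068430017050006840000000368300129500036800000000000ffffff0000000000000a6b200129200043800000000001001d790007b800010007b53001d680007b50000000367300129100036700000000000ffffff0000000003000366300128e000366000000022a200151e00041c0000000031200128f00058f00000000001001d730007b700000000000ffffff0000000000000151200128c00058e00000000001001d6d0007b60001000366300128b00036600000000001001d650007b500000000000ffffff000000000300061030014fb0006100002000365300128900036500000000001001d5e0007b40000000a6a20014fc00041b00000000000ffffff00000000000002e820012860004d5000000000c2001282000366000000015020012840004d40000000364300128100036400000000000ffffff00000000030007b23001d540007b20002000363300127d0003630000000198200127e00038700000000001001d570007b300000000000ffffff0000000003000362300127800036200000000001001d500007b20000000031200127b00058a000000001920012790004e500000000000ffffff000000000000007920012750004e4000000000c200127300047000000000001001d4a0007b10000000362300127200036200000000000ffffff000000000000003c200126a00058800020003613001269000361000000013a200126d0004720000000062200126b00047000000000000ffffff000000000300035d300126000035d00000000001001d440007b0000000003120012630004290000000019200126100036500000000000ffffff00000000030004583001741000458000200035d300125e00035d0000000211200143600035f00000007643001b9900076400000000000ffffff0000000000000def20013e000041800020007643001b9b000764000100035c300125c00035c0000000060200143200035e00000000000ffffff000000000300035b300125200035b000200075f3001b7800075f0000000031200125500047f0000000019200125300042700000000000ffffff0000000000000079200124e000425000200071630019c40007160000000000200124c00035d000000035b300124b00035b00000000000ffffff000000000000003c20012480004ed000200035a300124700035a00010006da30018880006da000000060330014b700060300000000000ffffff0000000000000030200124500058100000000001001d400007af000100035a300124400035a00000007573001b4b00075700000000000ffffff00000000030003593001240000359000000022a20012410004ed00010007533001b3a00075300000007523001b3600075200000000000ffffff0000000000000030200123e00057f00000000001001d3a0007ae0001000358300123d00035800000007513001b2f00075100000000000ffffff00000000030006cb300184c0006cb0002000663300167e0006630000000539200123a00051b0000000358300123900035800000000000ffffff0000000003000357300123700035700000000001001d330007ad00000000001001d2d0007ac00000006cb300184e0006cb00000000000ffffff00000000030003563001233000356000000003d200123500057c0000000031200123400057c00000000001001d270007ab00000000000ffffff0000000000000229200123100057b0002000356300123000035600010007a23001cfc0007a200000000001001d230007aa00000000000ffffff00000000030007a83001d1b0007a80002000355300122e00035500010007703001bde00077000000000001001d1c0007a900000000000ffffff0000000003000354300122c00035400000000001001d170007a800000000001001d120007a700000000001001d0c0007a600000000000ffffff00000000000000001001d060007a5000200079e3001cea00079e0001000354300122a00035400000000001001d040007a400000000000ffffff00000000030003533001225000353000000003d20012280005770000000031200122600056900000000001001cfd0007a300000000000ffffff00000000030007993001ccc000799000200068230016fb00068200010007a13001cf80007a10000000353300122300035300000000000ffffff0000000000000030200122100057500000000001001cf90007a20001000352300122000035200000000001001cf50007a100000000000ffffff00000000030007a03001cf40007a00002000351300121e00035100010007963001cb70007960000000706300196600070600000000000ffffff0000000003000350300121b00035000000000001001cf10007a00000000031200121c00057300000007593001b5500075900000000000ffffff0000000000000079200198000070b000200079d3001ce200079d000100068130016f70006810000000350300121900035000000000000ffffff00000000000000001001ceb00079f000200034f300121700034f00000000001001ce500079e00000000001001cdf00079d00000000000ffffff000000000300034e300121100034e00000000001001cd800079c000000003120012140004500000000019200121200040000000000000ffffff000000000300034c300120b00034c00000000001001cd300079b0000000031200120e0003510000000019200120c00044e00000000000ffffff0000000000000079200120800044d00000000001001ccd00079a0000000000200120600034e000000034c300120500034c00000000000ffffff000000000000003c2001202000360000200034b30011ff00034b00000000252001200000372000000075b3001b6000075b00000000000ffffff00000000030007983001cc4000798000200073c3001aa900073c00000000001001cc5000799000000034b30011fd00034b00000000000ffffff000000000300034a30011fa00034a00000003012001b81000760000000003120011fb00056b00000000001001cc100079800000000000ffffff00000000030007713001be6000771000200034a30011f800034a00010005d830013ee0005d800000007943001ca900079400000000000ffffff000000000300034930011f500034900000000001001cba00079700010005773001227000577000000001920011f600056900000000000ffffff00000000000000001001cb2000796000200034930011f3000349000100078c3001c8700078c00000005d630013cd0005d600000000000ffffff000000000000003020011f000035e000000002420011ee000368000100034830011ed00034800000000001001caa00079500000000000ffffff00000000030007913001c9b000791000000000c200198200070a000100071730019ca000717000000034830011eb00034800000000000ffffff000000000300034730011e5000347000000027220011e8000360000000019a20011e600035e000000071630019c200071600000000000ffffff00000000030007613001b8800076100000000001001ca6000794000100078f3001c9300078f000000034730011e300034700000000000ffffff000000000300034630011e100034600000000001001ca200079300000000001001c9d00079200000000001001c9800079100000000000ffffff000000000300071b3001c9500071b00000000001001c96000790000100034630011df00034600000000001001c9000078f00000000000ffffff000000000300034530011db00034500000000001001c8a00078e000000003120011dd000561000000001920011dc00056100000000000ffffff000000000000007920011d900056000000000001001c8800078d000100078b3001c8300078b000000034530011d800034500000000000ffffff000000000000003020011d600055f00000000001001c8400078c000100034430011d500034400000000001001c8000078b00000000000ffffff000000000300034330011cf000343000000003d20011d200036b000000003120011d000034b00000000001001c7b00078a00000000000ffffff000000000300034130011c9000341000000003d20011cc00036f000000003120011ca00036800000000001001c7400078900000000000ffffff000000000000019920011c6000367000000002420011c4000343000100034130011c300034100000000001001c6e00078800000000000ffffff000000000000001820011c000054c000000000c20011bf00055b000000067d20013d60003e3000000034030011be00034000000000000ffffff00000000030005f930014830005f9000200033e30011ba00033e000000002520011bc00055a000000000d20011bb00055a00000000000ffffff000000000300033c30011b700033c000000003d20011b800055900010007823001c5400078200000006df30018aa0006df00000000000ffffff000000000300033b30011b100033b000000003d20011b5000558000000003120011b4000558000000001920011b200039000000000000ffffff000000000000045e20011af000557000200060630014c9000606000100033b30011ae00033b00000006e030018af0006e000000000000ffffff000000000300033a30011ab00033a000200076f3001bd600076f000000003120011ac00055600000000001001c6c00078700000000000ffffff000000000000019920011a9000555000000002420011a700033c000100033a30011a400033a000000000120011a500036d00000000000ffffff000000000300064030015d200064000020007853001c65000785000000006320011a10003b7000000033a30011a000033a00000000000ffffff000000000300061930015230006190002000339300119e00033900000000001001c6800078600000000001001c6200078500000000000ffffff00000000030003383001199000338000000003d200119b00034000000000001001c5d0007840000000019200119a00055200000000000ffffff00000000000000792001197000551000000000c200119300033b00000000001001c570007830000000338300119200033800000000000ffffff00000000000000001001c5000078200020007803001c4700078000010003363001190000336000000074e3001b1e00074e00000000000ffffff0000000000000300200118d000390000000000c200118b00038e00010007323001a620007320000000336300118a00033600000000000ffffff00000000000000001001c4a0007810002000335300118800033500000000001001c4200078000000000001001c3900077f00000000000ffffff00000000000000001001c3400077e00000000001001c2d00077d00010008a440015130003da0000000335300118600033500000000000ffffff000000000300055b30011c100055b00020003343001182000334000100041b30013d900041b00000000c0200118300038e00000000000ffffff000000000000003c200117c00053b0002000333300117a0003330000000198200117e000540000000000d200117b00054b00000000000ffffff00000000030007443001adc0007440000000461200117800054a00010007473001af10007470000000333300117700033300000000000ffffff00000000030003323001173000332000000067a200117400047d00010007463001ae800074600000007443001ada00074400000000000ffffff000000000300074c3001b1200074c0002000332300117100033200000000001001c2400077c000000077a3001c1a00077a00000000000ffffff0000000000000030200116900053900000000242001168000547000100033130011660003310000000001200116700054700000000000ffffff0000000000000018200116000041000000002282001162000475000000053920011640005460000000331300115f00033100000000000ffffff000000000300033030011590003300000000272200115c00053b000000019a200115a0005390000000667300169b00066700000000000ffffff00000000000000001001c1e00077b00000000001001c1700077a00010007783001c0e0007780000000330300115700033000000000000ffffff00000000000000001001c12000779000000002420011540004b5000100032f300115300032f00000000001001c0b00077800000000000ffffff000000000000003c2001150000471000200032e300114d00032e000000013a200133f0005b5000000000d200114e00041100000000000ffffff00000000000000001001c0700077700020007693001bbb000769000100032d300114900032d0000000001200114a0004b300000000000ffffff000000000300032c300114600032c000000003d2001147000540000100054b300117f00054b00000005cf30013b00005cf00000000000ffffff00000000030005ce30013a80005ce0000000210200114300045600000000002001141000469000000032c300114000032c00000000000ffffff000000000300032b300113c00032b000000003d200113e00053e0000000031200113d00053e00000007763001c0200077600000000000ffffff000000000300032a300113900032a000200076d3001bce00076d000100074b3001b0b00074b0000000019200113a00053d00000000000ffffff000000000000003c200113700053c000200032930011320003290000000025200113500045c000000000d200113300046a00000000000ffffff000000000300054b300117d00054b0002000545300115d00054500010003283001130000328000000074d3001b1600074d00000000000ffffff00000000000000001001bff00077600020007703001bda00077000010007343001a740007340000000328300112e00032800000000000ffffff0000000003000547300116a0005470002000327300112c0003270001000545300115b00054500000000001001bf800077500000000000ffffff00000000000000001001bf300077400000000001001bec0007730000000539200116b0003e40000000327300112a00032700000000000ffffff00000000000000001001be70007720002000326300112800032600000000001001bdf00077100000000001001bd700077000000000000ffffff00000000000000001001bd300076f00020003243001124000324000100063a30015b100063a00000000001001bcf00076e00000000000ffffff00000000000000001001bca00076d0002000323300112200032300000000001001bc500076c000000063730015a800063700000000000ffffff000000000000034a200111f0004420002000322300111c0003220000000025200111d00041100000005b6300133e0005b600000000000ffffff0000000000000018200111900033900020005d730013d30005d70000000000200111700032e0000000322300111600032200000000000ffffff0000000003000321300110f000321000000003d200111300040c000000003120011110004460000000019200111000053200000000000ffffff0000000003000320300110900032000020007293001a2b000729000000019a200110c0005130000000019200110a0003b000000000000ffffff00000000000000c120011060003af00020007683001bb200076800000000001001bbf00076b0000000320300110500032000000000000ffffff000000000300031f30010ff00031f00020005e930014480005e9000000015220011020003390000000019200110000033700000000000ffffff00000000000000001001bbc00076a000200031f30010fd00031f00000000001001bb600076900000000001001baf00076800000000000ffffff00000000030007293001a2d000729000200031e30010f900031e000000002520010fb00052d000000000d20010fa00052d00000000000ffffff00000000000002e820010f6000337000000006120010f500052c000000000020010f300033e000000031e30010f200031e00000000000ffffff000000000300067f30016ec00067f000200031d30010ee00031d000000002520010f000052b000000000d20010ef00052b00000000000ffffff000000000000003020010e800032900000004a620010ec00052a000100031d30010e700031d000000007820010ea00033e00000000000ffffff000000000300031c30010e400031c0002000686300170d00068600010006253001565000625000000001920010e500052900000000000ffffff000000000000067920010e100047e00020007673001bac000767000100031b30010df00031b000000000120010e000052800000000000ffffff000000000000001820010db000502000000000c20010da000527000000006320010dd000527000000031b30010d900031b00000000000ffffff000000000300041e30015dd00041e000200031a30010d600031a00000000001001ba9000767000000000d20010d700052600000000000ffffff000000000000001820010d20003a7000000046120010d4000525000000000020010d1000525000000031a30010d000031a00000000000ffffff00000000030005a630012ec0005a6000200031930010ce00031900010003bc300125a0003bc000000073e3001ab400073e00000000000ffffff000000000000003020010cb00031a000200071a30019dc00071a000100031930010c8000319000000000120010c90003a300000000000ffffff00000000030005e530014260005e5000200048f300142a00048f000000007b20010c50003a2000000031930010c400031900000000000ffffff000000000300031830010c200031800020005a630012ee0005a60000000e5d200153700042200000006e230018ba0006e200000000000ffffff00000000000000001001ba4000766000200061c300152d00061c000100031630010c000031600000006ce30018590006ce00000000000ffffff0000000000000a6b20010bd000456000200060c30014ef00060c00010006e130018b30006e1000000031430010bc00031400000000000ffffff000000000000003020010b8000314000200072f3001a5000072f000100031230010b700031200000007253001a1400072500000000000ffffff00000000030007653001ba300076500020006c630018370006c600010003b930014350003b9000000031230010b500031200000000000ffffff000000000300031130010b2000311000000003d20010b300051c000100045a300179a00045a00000000001001b9e00076500000000000ffffff000000000000003c20010af00031b000200031030010ac000310000100057e300123b00057e000000000d20010ad00050100000000000ffffff00000000030007643001b9d00076400020004193001536000419000100031030010aa00031000000006e4200168b00045900000000000ffffff000000000000001820010a500031300000000c320010a70004ff000100067b30016e100067b000000031030010a400031000000000000ffffff000000000300030f30010a200030f0000000349200125700035b00000000001001b960007640000000a6a200143000036000000000000ffffff00000000030005c0300136f0005c0000200030e300109f00030e00010005bf300136b0005bf000000000d20010a000051700000000000ffffff000000000300075d3001b6c00075d00020006e630018c90006e6000100030d300109a00030d00000007263001a1c00072600000000000ffffff000000000300030c300109700030c00020006e530018c50006e50000000031200109800051500000000001001b8f00076300000000000ffffff000000000000045e200109500051400000000242001093000311000100030c300109000030c0000000001200109100032100000000000ffffff00000000030006f830019170006f8000200030b300108e00030b0001000531300110d00053100000000001001b8900076200000000000ffffff000000000300075c3001b6600075c00000000001001b8300076100010006993001896000699000000030b300108c00030b00000000000ffffff000000000300030a300108900030a00020006f830019190006f80000000031200108a00051100000000001001b7b00076000000000000ffffff00000000000000001001b7300075f000000000c200108600030f00000000002001084000318000000030a300108300030a00000000000ffffff0000000003000309300108100030900000000001001b6e00075e00000000001001b6800075d00000000001001b6300075c00000000000ffffff00000000000000001001b5d00075b0002000309300107b000309000000013a200107e0003110000000062200107c00030f00000000000ffffff00000000030003073001077000307000200060530014c30006050000000031200107900050d0000000019200107800050d00000000000ffffff0000000003000624300155b000624000200030730010710003070000000025200107400031c000000000d200107200031800000000000ffffff0000000003000306300106e00030600020007373001a870007370000000031200106f00050b00000000001001b5800075a00000000000ffffff0000000003000305300106a000305000000003d200106c00050a00000000001001b500007590000000019200106b00050a00000000000ffffff00000000000000001001b4e000758000200030430010680003040001000592300129b000592000000072b3001a3800072b00000000000ffffff00000000030005c130013790005c1000200072a3001a3400072a0000000000200106500038b0000000304300106400030400000000000ffffff000000000000003c20010610004670002000303300106000030300000000001001b4800075700000006b230017d50006b200000000000ffffff0000000000000030200105d00030400020007283001a270007280001000303300105c00030300000005b830013510005b800000000000ffffff0000000000000018200105a0005050002000651300161e00065100010005b7300134d0005b70000000303300105900030300000000000ffffff000000000300030230010550003020000000537200105600046700000000001001b4300075600000000001001b3f00075500000000000ffffff00000000000000001001b3d000754000000002420010520004e70001000301300105100030100000000001001b3700075300000000000ffffff000000000300052730010dc000527000000000c200104e00031600000000001001b300007520000000301300104d00030100000000000ffffff000000000000003c200104a0003010002000300300104900030000000000001001b2c000751000000051b30010ae00051b00000000000ffffff000000000000003020010460003d8000200072c3001a3e00072c000100030030010450003000000000613300150800061300000000000ffffff000000000000001820010430004ff000200051930010a800051900010006d7300187e0006d70000000300300104200030000000000000ffffff00000000030002ff300103e0002ff00000000001001b25000750000000019a200103f0003d800000000001001b1f00074f00000000000ffffff00000000030002fd30010380002fd00000000001001b1a00074e0000000031200103b0004810000000019200103900042900000000000ffffff00000000030002fc30010320002fc00000000001001b1300074d000000003120010350003630000000019200103300047f00000000000ffffff0000000000000079200102f00047d00000000001001b0d00074c0000000000200102d0002fd00000002fc300102c0002fc00000000000ffffff00000000000000001001b0600074b00020007483001af70007480000000150200102900045d00000002fb30010280002fb00000000000ffffff00000000000000001001b0200074a00020002fa30010260002fa00000000001001afb00074900000000001001af400074800000000000ffffff00000000000000001001aed000747000000043d200197e00036e00010002fa30010240002fa000000070a300197600070a00000000000ffffff000000000000003020010220004f700020006de30018a40006de00010002f930010210002f900000000001001ae500074600000000000ffffff0000000000000018200101e0002fa00000000001001adf00074500000000001001ad700074400000002f9300101d0002f900000000000ffffff000000000300065e300166300065e00020003cb30014af0003cb00010007413001ac500074100000002f8300101b0002f800000000000ffffff000000000300061e300154000061e00020002f730010190002f700000000001001ad0000743000000073d3001aad00073d00000000000ffffff00000000000000001001ac9000742000200089e400155000037100010002f730010170002f700000000001001ac200074100000000000ffffff0000000000000018200100f0004f2000000021020010120003aa000000013820010100003a800000002f6300100e0002f600000000000ffffff00000000030007403001ac100074000020006ee30018eb0006ee000000007b20014a20003c200000002f4300100c0002f400000000000ffffff00000000030002f330010090002f3000000003d200100a0004f00000000152200180500049000000000001001abc00074000000000000ffffff000000000000022920010070004ef00020002f330010060002f300000000001001ab800073f000000073b3001a9d00073b00000000000ffffff00000000030006b830017f10006b800000000001001ab100073e00010002f230010040002f2000000048f30017f500048f00000000000ffffff0000000003000582300124900058200020005803001242000580000000000020010010002f300000002f130010000002f100000000000ffffff000000000300073a3001a9900073a00000000001001aaa00073d00000000001001aa400073c00000002f03000ffe0002f000000000000ffffff0000000000000a6b2000ffb0004ab00000000001001a9a00073b00010007393001a9200073900000002ef3000ffa0002ef00000000000ffffff00000000030002ee3000ff50002ee000000003d2000ff70003e300000000312000ff60004ea00000000001001a9500073a00000000000ffffff00000000000001512000ff30004e900000000242000ff10003df00010002ee3000ff00002ee00000000001001a8f00073900000000000ffffff00000000030002ed3000fe90002ed000000003d2000fee0004e800000000312000fec0003d600000000192000fea0003e100000000000ffffff00000000000001512000fe60003d70002000503300105300050300010002ed3000fe30002ed00000000012000fe40003dc00000000000ffffff00000000030007373001a8500073700000002702000fe000031200010002ec3000fdf0002ec00000000001001a8800073800000000000ffffff00000000030002eb3000fdc0002eb000000003d2000fdd0004e500000000001001a81000737000000058a300127a00058a00000000000ffffff0000000003000589300127600058900000000001001a7b00073600000000002000fd90003dd00000002eb3000fd80002eb00000000000ffffff00000000000000302000fd00004e300000002122000fd30003de00010002ea3000fcf0002ea00000000602000fd10003dd00000000000ffffff00000000030002e83000fc80002e8000000003d2000fcb0003f700000000001001a7500073500000000192000fc90002f200000000000ffffff00000000030002e63000fbe0002e600000000001001a6d00073400000000312000fc100035500000000192000fbf00045000000000000ffffff00000000030003c330014a50003c300020002e63000fbc0002e6000100089240013e80002e800000007313001a5a00073100000000000ffffff00000000030002e53000fb60002e5000000003d2000fb90003fe00000000001001a6500073300000000192000fb70003f300000000000ffffff00000000030008a0400137400038400020007313001a5c00073100010002e53000fb40002e5000000089140013df0002e700000000000ffffff00000000000000c12000fb10003f1000000000c2000faf0002e80001000701300194e00070100000002e53000fae0002e500000000000ffffff00000000030002e43000fa80002e400000000001001a5f00073200000000312000fab0003fb00000000192000fa900035100000000000ffffff0000000000000a47200142b00048c00020002e43000fa60002e400000000001001a57000731000000006220013e20002e900000000000ffffff00000000000000792000fa300034f0002000701300195000070100000000002000fa10002e600000002e43000fa00002e400000000000ffffff00000000030002e23000f9a0002e2000000003d2000f9d00040200000000001001a5200073000000000192000f9b0003f700000000000ffffff00000000030002e13000f940002e1000000003d2000f970002ec00000000001001a4b00072f00000000192000f950003fe00000000000ffffff00000000000000c12000f910003fc000000000c2000f8f0002e200000000001001a4500072e00000002e13000f8e0002e100000000000ffffff000000000000003c2000f8c0004d600020002e03000f8b0002e000000000001001a4100072d00000000001001a3b00072c00000000000ffffff000000000300058c300128700058c0002000662300167800066200010002e03000f890002e000000006aa30017ac0006aa00000000000ffffff00000000030002df3000f870002df00000000001001a3500072b000100058c300128500058c00000000001001a2e00072a00000000000ffffff000000000000003c2000f850004d300020002de3000f840002de00000000001001a2800072900000000001001a2400072800000000000ffffff000000000300063d30015c300063d000000046120013540005b800010006db30018920006db00000002de3000f820002de00000000000ffffff00000000030002dd3000f800002dd00000000001001a2000072700000000001001a19000726000000063d30015c100063d00000000000ffffff000000000000003c2000f7d00035f00020002dc3000f7a0002dc00000000001001a11000725000000000d2000f7b0003b900000000000ffffff000000000300072130019f900072100000000001001a0200072400010002dc3000f780002dc000000000010019fd00072300000000000ffffff00000000030002db3000f760002db000000000010019fa000722000000000010019f5000721000000000010019f100072000000000000ffffff000000000000000010019ed00071f00020002db3000f740002db000100071430019b8000714000000000010019eb00071e00000000000ffffff000000)) (.leaf (nat_lit 0x2001695000666000000041d300169400041d00000000000ffffff000000000000003020016910005ef00000000242001690000665000100041c300168e00041c0000000001200168f00066500000000000ffffff000000000300041a300168400041a000200045e300168a00045e000000003120016870005aa0000000019200168500061000000000000ffffff0000000000000030200167f0004210000000024200167d00057e0001000419300167a0004190000000001200167b0005ed00000000000ffffff0000000000000018200167300041c000000099320016770004d5000000007b20016750005ec0000000419300167200041900000000000ffffff0000000003000417300166f000417000000003d200167000066100010007793001c16000779000000080d3001f7700080d00000000000ffffff00000000030004163001669000416000000003d200166d0006600000000031200166c0006600000000019200166a0005bf00000000000ffffff0000000003000415300166500041500020006fe300193e0006fe0000000031200166700065f0000000019200166600065f00000000000ffffff000000000000001820016620004f5000000000c20016600005bd0000000000200165f00065e0000000414300165e00041400000000000ffffff00000000030008123001f940008120002000413300165a00041300000000001001faf000817000000000d200165b0005e000000000000ffffff00000000030004123001655000412000000003d200165800065c00010007423001acd000742000000001920016560005e100000000000ffffff0000000000000030200165300065b000000002420016510004120001000410300164e0004100000000001200164f00041e00000000000ffffff000000000300040f300164800040f000000003d200164b00044200000000312001649000440000000069a300175f00069a00000000000ffffff00000000000000001001faa000816000200076e3001bd200076e00010008143001f9e000814000000040f300164600040f00000000000ffffff000000000300040e300164000040e000000022a20016430006500000000031200164100044b00000008133001f9800081300000000000ffffff000000000000045e200163d00044a00000000001001fa2000815000100040e300163c00040e00000000001001f9b00081400000000000ffffff0000000000000348200163900044000000000242001637000446000100040d300163500040d0000000001200163600065600000000000ffffff00000000000000001001f95000813000000000c200163200065500000000632001633000655000000040d300163100040d00000000000ffffff00000000030006c230018290006c2000000000c200162f0006540000000000200162e000654000000040c300162d00040c00000000000ffffff000000000300040b300162800040b000000003d200162a0005ab0000000031200162900065300000006c8300183f0006c800000000000ffffff000000000000053620016250005a9000200040b300162000040b0000000025200162300041a000000000d200162100041600000000000ffffff00000000030008113001f8d000811000000019b200161d000505000100040a300161c00040a000000071530019bc00071500000000000ffffff00000000030008093001f600008090002000658300164400065800010007613001b86000761000000040a300161a00040a00000000000ffffff0000000003000409300161800040900000000001001f8f00081200000000001001f8a00081100000007923001ca100079200000000000ffffff000000000300071a30019de00071a0000000210200161500041e000000000020016130004180000000409300161200040900000000000ffffff0000000003000408300160f000408000000003d200161000064d000000034b20019d300071800000008093001f6200080900000000000ffffff00000000030007953001cb10007950000000212200160c00041a000100040830016090004080000000060200160a00041800000000000ffffff00000000030006e930018d90006e900020007df3001e760007df000100080f3001f8000080f0000000407300160700040700000000000ffffff00000000000000001001f8400081000020007d43001e2a0007d400010007383001a8b0007380000000405300160300040500000000000ffffff000000000000003c2001601000649000200040430015fe00040400010007b83001d7e0007b8000000000d20015ff0005be00000000000ffffff000000000000003020015fb00040500020007b53001d6a0007b5000100040430015fa00040400000007b13001d4d0007b100000000000ffffff000000000300040330015f3000403000000003d20015f7000489000000003120015f50004a7000000001920015f400064700000000000ffffff000000000000022920015f000048b000200040330015eb000403000000002520015ee0004a3000000000d20015ec0005f000000000000ffffff000000000300080e3001f7c00080e000200071b30019e200071b000100040230015e900040200000000001001f7d00080f00000000000ffffff000000000300040130015e4000401000000003d20015e700064400000000001001f7800080e000000001920015e50004a500000000000ffffff000000000000022920015e2000643000200040130015df00040100010007bd3001da00007bd000000000d20015e00004a100000000000ffffff000000000300080d3001f7500080d000200040030015d900040000010007753001bfb00077500000000c020015da00041f00000000000ffffff00000000030003ff30015d40003ff00000000001001f7100080d000000003120015d60005f3000000001920015d500064100000000000ffffff000000000000015120015d1000554000000002420015cf0004a200010003ff30015ce0003ff00000007bb3001d900007bb00000000000ffffff00000000030007cd3001e050007cd0000000e5820015cb00049300010003fe30015c80003fe000000053420015c90005d300000000000ffffff000000000000001820015c600063e00000000001001f6b00080c00010007bc3001d9c0007bc00000003fd30015c50003fd00000000000ffffff00000000000002ea20015c20004d2000000002420015be0003fd00010003fa30015bd0003fa000000007820015c00004d100000000000ffffff000000000000003c20015b900063c00020003f930015b60003f9000000013a20015ba0004a2000000000d20015b70004a000000000000ffffff00000000030003f830015b30003f800020007823001c56000782000000003120015b400063b000000067230016be00067200000000000ffffff00000000030007803001c4900078000020003f830015af0003f8000000002520015b0000536000000080a3001f6600080a00000000000ffffff000000000300080b3001f6a00080b00020007a53001d090007a500010003f730015ad0003f700000007dd3001e650007dd00000000000ffffff00000000030003f630015aa0003f600020007763001c0600077600000000001001f6700080b000000001920015ab00063800000000000ffffff00000000030007703001bdc00077000020003f630015a60003f600010008033001f45000803000000000d20015a700053500000000000ffffff000000000000001820015a400063600000000001001f6300080a00010008073001f5800080700000003f530015a30003f500000000000ffffff00000000030003f4300159f0003f400000000001001f5d000809000000003120015a1000635000000001920015a000063500000000000ffffff0000000000000151200159d00063400000000001001f5900080800010003f4300159c0003f400000000001001f5500080700000000000ffffff00000000030008053001f4d00080500020007233001a0c00072300010003f3300159a0003f3000000090520019330006fc00000000000ffffff00000000030003f230015980003f200000000001001f4f00080600000000001001f4a00080500000007c23001dc20007c200000000000ffffff00000000030007023001d8500070200000000001001f4600080400010008023001f4100080200000003f230015960003f200000000000ffffff00000000030007c43001dce0007c400000000001001f4200080300010003f130015940003f100000000001001f3e00080200000000000ffffff000000000000003c200158f00062000020003f0300158d0003f00000000025200158e00062f00000000c0200159100062500000000000ffffff00000000030007f13001edc0007f100000004a6200158b00062e00010003f0300158a0003f000000007f23001ee00007f200000000000ffffff00000000030003ef30015860003ef000000067a200158700044d00010007f13001ed80007f100000007e33001e8d0007e300000000000ffffff000000000300079a3001cd200079a00020003ef30015840003ef00010007ff3001f2f0007ff00000000001001f3700080100000000000ffffff0000000000000018200157f00061f000000000c200157e00062b0000000000200157d00062b00000003ee300157c0003ee00000000000ffffff00000000030007c63001dda0007c6000000000c20015790004c700010007fe3001f260007fe00000003ed30015780003ed00000000000ffffff00000000030003ec30015720003ec000000022a2001575000620000000007b20015810005bb00000000c2200157300061f00000000000ffffff00000000000000001001f3100080000000000001001f2a0007ff00010003ec30015700003ec00000000001001f230007fe00000000000ffffff00000000000000001001f1f0007fd00020007f83001f040007f80000000000200156d0004c300000003ea300156c0003ea00000000000ffffff00000000030003e930015680003e9000000003d200156a00062600010007603001b800007600000000019200156900062600000000000ffffff00000000030003e830015630003e8000000003d200156600062500000000312001564000529000000062f300159200062f00000000000ffffff000000000000045e200155a00050c0000000212200155800048e00010003e830015550003e80000000001200155600049c00000000000ffffff00000000030003e730015520003e700020007dc3001e610007dc0000000031200155300062300000007f43001eeb0007f400000000000ffffff000000000000003c200154d00062200020003e630015480003e60000000025200154b000499000000000d200154900049200000000000ffffff00000000030007603001b7e00076000020007713001be200077100010003e530015460003e5000000075f3001b7a00075f00000000000ffffff000000000300062f300159000062f00020006293001576000629000100079c3001cdd00079c00000003e530015440003e500000000000ffffff000000000300062b300158000062b00020003e430015420003e400010007b33001d5a0007b30000000629300157400062900000000000ffffff000000000000003c200153f0004f400020003e1300153c0003e10000000025200153e00061e000000000d200153d00061e00000000000ffffff00000000030003df30015300003df000000003d200153400061d0000000031200153200041d0000000019200153100061d00000000000ffffff00000000000004a9200152e00061c0000000210200152c00052000010006b730017ea0006b700000003df300152b0003df00000000000ffffff00000000030003de30015280003de000000003d200152900061b00010006b630017e60006b600000007973001cc000079700000000000ffffff00000000030003dd30015250003dd00020007db3001e5a0007db00000000001001f1b0007fc0000000019200152600061a00000000000ffffff000000000000003c200152200055300020003dc30015210003dc00010007363001a80000736000000073f3001abb00073f00000000000ffffff0000000000000348200151c00041d0000000024200151a00041b00010003db30015190003db00000007b03001d470007b000000000000ffffff00000000030007973001cbe00079700020007963001cb9000796000100079b3001cd600079b00000003db30015170003db00000000000ffffff00000000000000001001f150007fb00020003da30015150003da00000000001001f0e0007fa00000007963001cb500079600000000000ffffff00000000000000001001f070007f900020003d7300150e0003d700010007503001b2a00075000000000001001eff0007f800000000000ffffff000000000300072c3001a4000072c00020003d6300150a0003d60000000025200150c000614000000000d200150b00061400000000000ffffff000000000300071d30019e800071d00020003d530015060003d5000100079f3001cf000079f00000000c0200150700050000000000000ffffff00000000030007f73001efe0007f700020007c43001dcc0007c400010003d530015040003d5000000069530017b200069500000000000ffffff00000000030003d430015010003d4000200071d30019ea00071d00010007763001c040007760000000019200150200061100000000000ffffff000000000000003c20014fa00058d00020003d330014f80003d3000000002520014f90006100000000664300168600066400000000000ffffff00000000030007f63001ef80007f600020006bf30018160006bf000100072a3001a3100072a00000003d230014f60003d200000000000ffffff00000000030003d130014f30003d100020006be30018120006be00010007633001b95000763000000001920014f400060e00000000000ffffff00000000030003d030014f10003d000020007a73001d160007a700000000001001efa0007f700000000001001ef40007f600000000000ffffff00000000030003cf30014eb0003cf000000003d20014ee00051f000000003120014ed00060c000000001920014ec00060c00000000000ffffff000000000000003020014e80005ea000000002420014e700060b00010003cd30014e50003cd000000000120014e600060b00000000000ffffff000000000000030020014e200044f00020007cb3001df80007cb000000006320014e100060a00000003cd30014e00003cd00000000000ffffff000000000000003020014dd00043d000000002420014dc00060900010003cc30014da0003cc000000000120014db00060900000000000ffffff0000000003000692300173d000692000200045730014d800045700010003cb30014d40003cb000000000120014d500043b00000000000ffffff000000000000001820014cc0003cc0002000704300195e000704000000007b20014ce00043a00000003cb30014cb0003cb00000000000ffffff00000000000000001001eef0007f5000000021020014c800055700010006a2300177f0006a200000003c930014c70003c900000000000ffffff00000000000006c320014c400048e00000004a620014c200050d00010003c530014c10003c500000006b830017ee0006b800000000000ffffff000000000000003c20014bc0003cd00020003c430014b90003c4000000002520014ba0005e8000000067830016d400067800000000000ffffff000000000000003020014b20003c6000000019b20014b40005e700010003c430014b10003c4000000053420014b600058200000000000ffffff00000000030007343001a7200073400020003c330014a70003c3000000002520014aa0003d4000000000d20014a80003ca00000000000ffffff000000000000001820014a00003c500020007893001c79000789000100070c300198900070c00000003c2300149f0003c200000000000ffffff00000000030003c1300149c0003c1000000003d200149d00060000010007403001abf000740000000049130017f300049100000000000ffffff00000000030007353001a7a000735000000000c20014990003d0000000000020014970003c300000003c130014960003c100000000000ffffff00000000000000001001ee80007f400020007d63001e380007d600010003c030014900003c00000000078200149100049300000000000ffffff00000000000000001001ee40007f300020003bf300148e0003bf00010007d63001e360007d600000007d43001e2c0007d400000000000ffffff00000000000000001001edd0007f200020008a54001a0800040500010007233001a0000072300000003bf300148c0003bf00000000000ffffff000000000000003020014890003bf00020007e53001e9c0007e500010003be30014880003be00000000001001ed50007f100000000000ffffff000000000000001820014860005fa00020006ae30017c60006ae00010007e33001e8f0007e300000003be30014850003be00000000000ffffff000000000000003c200148200055a00020003bd30014810003bd00010007e13001e800007e100000007df3001e740007df00000000000ffffff00000000030007c53001dd30007c500000005e9200147e000407000100073e3001ab600073e00000003bd300147d0003bd00000000000ffffff000000000000003020014790005f70000000212200147a00044100010003bb30014760003bb0000000001200147700043e00000000000ffffff00000000030003b830014730003b8000000003d20014740005f600010007653001ba1000765000000045b300179800045b00000000000ffffff000000000000027120014710005f500020003b830014700003b800010007f03001ed20007f000000007863001c6b00078600000000000ffffff000000000300067b30016df00067b000200067930016d80006790000000000200146d0003ba00000003b8300146c0003b800000000000ffffff00000000030003b730014690003b7000000003d200146a0005f3000100064130015d700064100000007c03001db50007c000000000000ffffff00000000030007843001c6100078400020007e13001e820007e100010003b630014670003b600000007a53001d0b0007a500000000000ffffff00000000000006c3200146400047b00000000001001ecd0007f000010003b530014630003b500000007833001c5a00078300000000000ffffff00000000000000001001ecb0007ef00020003b430014610003b400010007273001a23000727000000064630015ed00064600000000000ffffff0000000003000665300169200066500020007263001a1f00072600010003b4300145d0003b40000000001200145e00042300000000000ffffff000000000000003c200145a00048a00020003b330014590003b300010006d6300187a0006d600000000001001ec50007ee00000000000ffffff000000000000003020014570005ed000000000c20016810005a100010003b330014560003b30000000663300167c00066300000000000ffffff000000000000001820014530003b4000200072d3001a4400072d0001000662300167600066200000003b330014520003b300000000000ffffff00000000030003b2300144e0003b20000000537200144f00048a00000000001001ec10007ed00000000001001ebc0007ec00000000000ffffff000000000300060b30014e900060b0000000024200144b0003c900010003b1300144a0003b100000000001001eb50007eb00000000000ffffff00000000000000001001eb10007ea000000000c200144700052f00000000001001eab0007e900000003b130014460003b100000000000ffffff000000000000003c20014430003b100020003b030014420003b0000100060430014bb00060400000000001001ea70007e800000000000ffffff000000000000003020014400005e7000200060330014b500060300010003b0300143f0003b000000006b330017d90006b300000000000ffffff00000000030006a1300177b0006a10000000024200143d0005e600010003ae300143b0003ae0000000001200143c0005e600000000000ffffff0000000000000018200142500052200000006c52001427000477000000000020014240005e500000003ac30014230003ac00000000000ffffff00000000030003aa30014200003aa000000003d20014210005e400010007d13001e170007d100000000001001ea10007e700000000000ffffff0000000000000229200173200068f000000000c200141d00045200010007e53001e9a0007e500000003aa300141c0003aa00000000000ffffff00000000030006bd300180d0006bd00000000001001e9d0007e600010003a9300141a0003a900000000001001e970007e500000000000ffffff00000000030003a830014170003a800020007de3001e700007de000000003120014180005e1000000065c300165700065c00000000000ffffff000000000000003c20014150005e000020003a730014140003a700010006ae30017c80006ae000000065d300165c00065d00000000000ffffff00000000030003a5300140f0003a500000000001001e920007e4000000003120014110003ac000000001920014100005df00000000000ffffff0000000000000079200140d0005de00000000001001e8a0007e30000000000200140b0003a700000003a5300140a0003a500000000000ffffff00000000000000001001e840007e200020007dd3001e670007dd00010003a430014080003a400000000001001e7d0007e100000000000ffffff00000000000000001001e780007e000020008a740017fc00046e00000000001001e710007df00000003a430014060003a400000000000ffffff00000000000000001001e6a0007de00020003a330014040003a300000000001001e620007dd00000007303001a5600073000000000000ffffff000000000000003c20013fa0005ca00020003a130013f70003a1000000002520013f90005da000000000d20013f80005da00000000000ffffff000000000000001820013f30003e6000000046120013f50005d9000000000020013f10003e100000003a130013f00003a100000000000ffffff00000000000000001001e5b0007dc00020003a030013ec0003a0000000002520013ed00056a00000007d93001e4b0007d900000000000ffffff000000000000003020013d40003dc000000002420013d2000533000100039f30013cf00039f000000000120013d00003eb00000000000ffffff00000000000000001001e550007db000200039e30013cb00039e00010007c83001de70007c8000000000d20013cc00056800000000000ffffff000000000000003020013c60005c8000000019b20013c80005cf000100039d30013c400039d000000000120013c50005d500000000000ffffff00000000030007bc3001d980007bc00020007473001af3000747000000053920013c20005d4000000039d30013c100039d00000000000ffffff000000000300039c30013bb00039c000000027220013be0005ca000000019a20013bc0005c8000000063f30015ca00063f00000000000ffffff00000000000000001001e4f0007da00000000001001e480007d900010007d73001e3d0007d7000000039c30013b900039c00000000000ffffff000000000300039b30013b500039b00020007bd3001da20007bd00000006c220013b60003fc00000007bc3001d9a0007bc00000000000ffffff000000000300072e3001a4a00072e00000000001001e410007d8000100039b30013b300039b00000000001001e3a0007d700000000000ffffff000000000300039a30013ae00039a00020005d530013c90005d5000000003120013b10005cf000000001920013af00054000000000000ffffff00000000000005ed20013a700053f000000000c20013a30003cf000000013820013a50003ca000000039a30013a200039a00000000000ffffff0000000003000399300139e000399000000003d20013a00005cd0000000031200139f0005cd00000007d33001e220007d300000000000ffffff0000000000000030200139c0005cc0000000024200139a0003c100010003983001397000398000000000120013980003d100000000000ffffff0000000003000397300139400039700020007c03001db80007c000010007cf3001e0e0007cf000000001920013950005cb00000000000ffffff00000000030005da30013fb0005da00020005d330013bf0005d30001000396300139200039600000000001001e330007d600000000000ffffff00000000000000001001e2e0007d5000000046120013fc00047800000000001001e270007d40000000396300139000039600000000000ffffff00000000030005d530013c70005d50002000395300138e00039500010005d330013bd0005d3000000072f3001a4e00072f00000000000ffffff00000000000000001001e1f0007d300020007253001a1600072500010007243001a0a0007240000000395300138c00039500000000000ffffff00000000000000001001e180007d200020006fc30019320006fc0001000394300138800039400000007243001a0500072400000000000ffffff00000000000000001001e140007d1000200067130016ba0006710001000393300138600039300000000001001e100007d000000000000ffffff00000000000000001001e0b0007cf00000000001001e060007ce00010003913001384000391000000066e30016b100066e00000000000ffffff0000000003000492300149400049200020007cd3001e030007cd00010003903001381000390000000000120013820005c300000000000ffffff000000000000034a200137e0003fd000200038f300137c00038f00000000001001e000007cd000000000d200137d0005c200000000000ffffff000000000000001820013780005080000000061200137a0005c1000000000020013770005c1000000038f300137600038f00000000000ffffff0000000000000030200136e00051700020003fb30013710003fb000100038e300136d00038e00000007b43001d610007b400000000000ffffff000000000300038d300136900038d0000000024200155e000495000000045f200136a0005170000000660300166b00066000000000000ffffff00000000000000001001dfb0007cc000200038b300136700038b00010006bf30018180006bf0000000649300160000064900000000000ffffff0000000000000e3720013640003ca000200065e300166100065e00010006b530017e00006b5000000038a300136300038a00000000000ffffff000000000000003c200135f00038a0002000387300135e000387000100074d3001b1800074d00000007343001a7000073400000000000ffffff00000000030007cb3001dfa0007cb000200045030013e5000450000100062930015820006290000000387300135c00038700000000000ffffff0000000003000386300135900038600020003cc30014bf0003cc0000000031200135a0005ba00000000001001df50007cb00000000000ffffff00000000030007313001a5e00073100020003853001357000385000100048d300156100048d00000000c020014ac0003c400000000000ffffff0000000000000030200135200038f00020004d230013550004d20001000385300134f0003850000000001200135000050600000000000ffffff0000000000000018200134a000388000200067830016d2000678000000007b200134c0005050000000385300134900038500000000000ffffff000000000000034820013410004a30000000024200133b0003eb0001000383300133a0003830000000060200133d00053400000000000ffffff000000000000001820013370003a9000000000c200133500039f000100054230013400005420000000383300133400038300000000000ffffff0000000003000382300132d000382000000003d20013310004a70000000031200132f0003ee0000000019200132e0005b400000000000ffffff000000000300038130013270003810000000272200132a0005a200010007ae3001d3d0007ae0000000019200132800044800000000000ffffff0000000000000079200132400044700000000001001def0007ca00010007c73001dde0007c70000000381300132300038100000000000ffffff0000000003000380300131d000380000000022a20013200003a9000100069630017500006960000000019200131e0003a600000000000ffffff00000000000000001001dea0007c900000000001001de20007c80001000380300131b00038000000000001001ddb0007c700000000000ffffff00000000030007ae3001d3f0007ae000000002420013190005af000100037f300131700037f000000000120013180005af00000000000ffffff000000000000030020013140003a6000000000c20013110003ae000000006320013130005ae000000037f300131000037f00000000000ffffff000000000000003c200130b000398000200037e300130900037e0000000025200130a0005ad00000000c0200130d0003ae00000000000ffffff00000000030006ec30018e10006ec00000004a620013070005ac000100037e300130500037e000000000120013060005ac00000000000ffffff000000000300037d300130200037d0002000653300162b00065300010006f030018f30006f0000000001920013030005ab00000000000ffffff000000000300037c30012fe00037c000000003d20013000005aa00010006643001688000664000000001920012ff0005aa00000000000ffffff00000000030006523001626000652000000002420012fb00037d000100037c30012f800037c000000000120012f900038d00000000000ffffff000000000300037b30012f500037b000000003d20012f60005a800010007b23001d560007b200000000001001dd60007c600000000000ffffff000000000300037a30012f100037a000200071830019d2000718000000003120012f30005a7000000001920012f20005a700000000000ffffff000000000000003020012eb000524000000053520012ed000521000100037930012e9000379000000000120012ea0005a600000000000ffffff00000000030007c33001dc80007c3000200037730012e7000377000100068c300172200068c00000007ad3001d360007ad00000000000ffffff000000000300037630012e4000376000000003d20012e50005a4000100068d300172800068d00000000001001dcf0007c500000000000ffffff000000000000022920012e00005a3000200037630012db000376000000002520012de000386000000000d20012dc00038200000000000ffffff000000000300078e3001c8d00078e00020005b3300132b0005b3000100037530012d900037500000000001001dc90007c400000000000ffffff00000000030007c13001dbc0007c100020005ed30016820005ed00010007003001948000700000000037530012d700037500000000000ffffff000000000300037430012d4000374000000003d20012d50005a0000100078e3001c8f00078e0000000303200193f0006fe00000000000ffffff00000000030007333001a6c000733000000021020012d100038d000000000020012cf000384000000037430012ce00037400000000000ffffff000000000300037330012cc00037300000000001001dc30007c300000000001001dbe0007c200000000001001db90007c100000000000ffffff00000000030007043001960000704000000021220012c9000386000100037330012c6000373000000006020012c700038400000000000ffffff00000000030006e130018b60006e100020007413001ac70007410000000150200178f000457000000037230012c400037200000000000ffffff00000000030006c130018250006c100020007433001ad5000743000100037130012c000037100000007ba3001d890007ba00000000000ffffff00000000000000001001db20007c0000000022820012bd0003c200010007be3001da80007be000000036f30012bc00036f00000000000ffffff00000000000000001001dac0007bf)))) (.node (nat_lit 9216) (.leaf (nat_lit 0x12001a670006c400000000000ffffff000000000000003c2001a630006d400020004dc3001a600004dc00000000252001a6100054f0000000855300211e00085500000000000ffffff00000000000000302001a5d0005b900000000242001a5b0004de00010004db3001a580004db00000000012001a590004e000000000000ffffff00000000000000302001a54000730000200085d300215700085d00010004d93001a530004d900000000602001a550005db00000000000ffffff00000000000000302001a5100072f00000000242001a4f00051e00010004d83001a4c0004d800000000012001a4d0005c800000000000ffffff00000000000000302001a490005d000000000242001a4800072e00010004d73001a460004d700000000012001a4700072e00000000000ffffff0000000000000000100219600086800000000242001a430005ec00010004d63001a420004d60000000000100219100086700000000000ffffff00000000000000c12001a3f000614000000000c2001a3d0005000000000000100218c00086600000004d63001a3c0004d600000000000ffffff000000000000003c2001a3900072700020004d43001a360004d400010007b63001d720007b6000000000d2001a3700050900000000000ffffff00000000000000182001a3200072a00000000612001a3300050800000000002001a3000060f00000004d43001a2f0004d400000000000ffffff00000000000001992001a2c00052d00000000242001a2a00053100010004d33001a290004d30000000000100218700086500000000000ffffff00000000000000001002181000864000000000c2001a260005060000000000100217c00086300000004d33001a250004d300000000000ffffff000000000300072b3001a3a00072b00020004d13001a210004d100000000252001a220005f0000000080c3001f6e00080c00000000000ffffff00000000000000302001a1d00072600000001392001a1e0005ef00010004d13001a1a0004d100000000012001a1b00051600000000000ffffff00000000000000302001a170006a600000000242001a150005c700010004d03001a120004d000000000012001a1300051e00000000000ffffff000000000300066e3001a0e00066e00020004cf3001a030004cf00000004a72001a090005c700000002132001a040005c600000000000ffffff00000000000000182001a01000723000000000c2001a0b000633000000000020019ff0005fc00000004cf30019fe0004cf00000000000ffffff0000000003000861300217300086100020004ce30019fb0004ce00010006b13001a100006b1000000000d20019fc00072200000000000ffffff000000000000003020019f80004cf0000000000100217400086200010004ce30019f60004ce000000000120019f700072100000000000ffffff00000000030007e33001e910007e300000006c520019f4000720000000007b20019f300072000000004ce30019f20004ce00000000000ffffff00000000030004cd30019ee0004cd0000000000100216c000861000000019a20019ef000670000000013b2001c4000069c00000000000ffffff0000000000000000100216700086000020008013001f3c00080100010007f83001f020007f800000004cd30019ec0004cd00000000000ffffff000000000000001820019e700061300000000c320019e90006110000000000100216000085f00000004cc30019e60004cc00000000000ffffff0000000000000000100215a00085e00020007fe3001f280007fe000100074f3001b2200074f00000004cb30019e40004cb00000000000ffffff00000000000000792001c94000562000000099320019e1000645000100085d300215500085d00000004ca30019e00004ca00000000000ffffff000000000000003020019dd00064e000000002420019db00052300010004c930019da0004c90000000000100215200085d00000000000ffffff000000000000003020019d70004ca000200084b30020e000084b00010004c830019d60004c80000000000100214b00085c00000000000ffffff000000000000001820019cf0006eb00000000c320019d10005a7000100064d30019d400064d00000004c830019ce0004c800000000000ffffff00000000030004c730019c60004c7000000022a20019cb00067e000000015220019c900056600000000c220019c70006eb00000000000ffffff000000000300085b300214a00085b000000002420019c300058300010004c630019c00004c6000000000120019c100056500000000000ffffff00000000030004c530019ba0004c50000000df020019bd0006b20000000000100214300085b00000006c420019bb00065100000000000ffffff0000000000000000100213c00085a00020004c530019b60004c5000000002520019b70004cd00000007503001b2800075000000000000ffffff00000000000000001002136000859000200074f3001b2400074f000000000020019b30004c700000004c530019b20004c500000000000ffffff000000000000001820019ab0006e3000000000c20019aa000712000000007b20019ad0006e500000004c430019a90004c400000000000ffffff00000000000000001002131000858000000002420019a60004cb00010004c230019a50004c200000007ff3001f2d0007ff00000000000ffffff000000000300085030020fe000850000000000c20019a20004c300010008013001f3a00080100000004c230019a10004c200000000000ffffff0000000000000030200199f00070f0000000024200199d0006c300010004c1300199a0004c10000000001200199b0006dd00000000000ffffff0000000000000030200199800070e000000002420019960006ba00010004c030019950004c00000000000100212900085700000000000ffffff000000000000003020019920006c70000000024200199100070d00010004bf300198f0004bf0000000001200199000070d00000000000ffffff0000000000000018200198c0006d2000000000c200198a00067c0000000000200198800060100000004be30019870004be00000000000ffffff0000000003000572300198100057200020004bd30019790004bd00000008bc200197c00067e000000045c200197a00067c00000000000ffffff0000000000000030200197700070a0002000566300198300056600010004bd30019740004bd000000000120019750004f800000000000ffffff0000000003000855300212200085500020004bc30019710004bc0000000025200197200070900000006d530019850006d500000000000ffffff00000000030007463001aec00074600000004a6200196f00070800010004bc300196d0004bc0000000001200196e00070800000000000ffffff000000000000001820019690004bd00000000001002123000856000000007b200196b00070700000004bc30019680004bc00000000000ffffff00000000030004bb30019640004bb0000000000100211b000855000000019a2001c2b0006cc00000000c2200196500057400000000000ffffff00000000000000001002116000854000200077c3001c2900077c00010004bb30019620004bb00000007693001bb900076900000000000ffffff0000000000000018200195f00059d000000000c200195d0006070001000853300211100085300000004ba300195c0004ba00000000000ffffff000000000000030220019570004c300020004b930019540004b900010006e4300195a0006e4000000000d20019550006e300000000000ffffff000000000000067b2001d8400063100000005eb20019af00059600010004b930019520004b90000000000100210e00085300000000000ffffff0000000003000852300210d000852000000000c200194f0004da0000000000200194d0004dd00000004b8300194c0004b800000000000ffffff00000000030004b730019460004b70000000e3820019490006d60000000a6c20019470005a10000000000100210600085200000000000ffffff000000000000000010020ff00085100020004b730019420004b700010007683001bb4000768000000000d20019430004bb00000000000ffffff0000000000000030200193b0006c4000000019b200193d00065f00010004b6300193a0004b600000005a030019400005a000000000000ffffff000000000000001820019370004b9000000000010020f9000850000000000010020f200084f00000004b630019360004b600000000000ffffff00000000030004b5300192e0004b5000000027220019310005c6000000019a200192f0006c40000000633300193400063300000000000ffffff000000000000000010020ec00084e000200076b3001bc400076b0000000000200192b0004b700000004b5300192a0004b500000000000ffffff000000000000003020019250006ba000000002420019240006fa00010004b430019230004b4000000007820019270006be00000000000ffffff00000000030004b3300191b0004b3000000027220019200004ca0000000152200191e0006ba000000007a200191c0006b900000000000ffffff00000000000000302001916000513000000019b200191800051100010004b230019150004b2000000000010020e500084d00000000000ffffff000000000000000010020e100084c00020007783001c1000077800010004b130019130004b1000000076b3001bc200076b00000000000ffffff000000000000000010020db00084b000000002420019100004b300010004b0300190f0004b0000000077c3001c2700077c00000000000ffffff000000000000000010020d600084a000000000c200190c0004b1000100077a3001c1c00077a00000004b0300190b0004b000000000000ffffff000000000000001820019090006f4000000000c20019070006ea000000000020019050006ad00000004af30019040004af00000000000ffffff000000000000001820019000006f3000000021020019010006e3000000000010020ce00084900000004ae30018ff0004ae00000000000ffffff000000000000001820018fc0006ef000000000c20018fb0006f2000000000020018fa0006f200000004ad30018f90004ad00000000000ffffff000000000300073b3001aa100073b00020004ac30018f60004ac00010008343002056000834000000000d20018f70006f100000000000ffffff000000000000001820018f00006ea000000041920018f40006f0000000007b20018f20005ab00000004ac30018ef0004ac00000000000ffffff00000000030006f230018fd0006f2000200084630020bf000846000000000010020c700084800000004ab30018ed0004ab00000000000ffffff00000000030004aa30018e50004aa0000000df020018ea0004f1000000003120018e60006ec000000007a20018e80006ea00000000000ffffff000000000000000010020c100084700020004aa30018e30004aa00010007ce3001e090007ce000000000010020ba00084600000000000ffffff000000000000007920018e00005ac00020007be3001daa0007be00010006ee30018e70006ee00000004a930018df0004a900000000000ffffff000000000300071830019d000071800020004a830018dd0004a800010007953001cad000795000000071730019c800071700000000000ffffff00000000030006f030018f10006f000020006f430019080006f400010004a830018db0004a800000006ee30018e90006ee00000000000ffffff000000000000001820018d800064b000000000c20018d70006e9000000000020018d60006e900000004a730018d50004a700000000000ffffff000000000000001820018d200069100020007bb3001d940007bb000100080c3001f7000080c00000004a330018d10004a300000000000ffffff00000000030004a230018ce0004a2000000000010020b4000845000000003120018cf0006e700000007fd3001f220007fd00000000000ffffff000000000000003020018ca0006e6000000002420018c800051600010004a130018c70004a1000000006020018cb00066900000000000ffffff00000000030004a030018c20004a0000000003d20018c4000515000100071230019ae000712000000001920018c30006e500000000000ffffff000000000000000010020ae00084400020007ba3001d8b0007ba00000000002001959000703000000049e30018c000049e00000000000ffffff000000000300071230019ac00071200020006f330019020006f3000100049d30018be00049d0000000703300195600070300000000000ffffff000000000300049c30018b800049c000000003d20018bc0006e2000000003120018bb0006e2000000001920018b900052100000000000ffffff000000000000001820018b500059c000000000c20018b40006e1000000000020018b200051f000000049b30018b100049b00000000000ffffff0000000003000840300209b00084000020007eb3001eba0007eb000100049a30018ad00049a000000000120018ae00055700000000000ffffff000000000300049930018a800049900020007423001acf000742000000003120018ab0006df000000001920018a900055900000000000ffffff000000000000000010020a9000843000000002420018a30004f7000100049830018a2000498000000006020018a500068c00000000000ffffff0000000000000030200189f00049500020007333001a6a0007330001000493300189e000493000000070f300199c00070f00000000000ffffff000000000000003c200189b00069b000200049030018980004900000000025200189a0006dc000000000d20018990006dc00000000000ffffff000000000000003c2001893000496000200048d300188e00048d000000002520018910004d2000000000d200188f00069900000000000ffffff0000000000000018200188900049000000000c3200188b00069800000000002001887000582000000048d300188600048d00000000000ffffff000000000000000010020a200084200020007ec3001ebf0007ec00010007d03001e130007d0000000048b300188400048b00000000000ffffff00000000030007ee3001eca0007ee000000000c20018820006d8000000000020018810006d80000000489300188000048900000000000ffffff000000000300084130020a10008410002000488300187c0004880000000025200187d0004ff000000079f3001cee00079f00000000000ffffff00000000030008223001feb0008220002000700300194a000700000000013820018790005ee0000000488300187800048800000000000ffffff000000000300048730018760004870000000000100209d0008410000000000100209700084000000006c4200198400070900000000000ffffff00000000030007323001a64000732000000000c200187300048c000000000020018710004920000000487300187000048700000000000ffffff0000000003000486300186d00048600020007593001b570007590000000031200186e0006d300000008223001fed00082200000000000ffffff000000000300070c300198d00070c000200048630018670004860000000025200186800048e0000000062200186a00048c00000000000ffffff0000000000000018200186400069300020007fa3001f130007fa000100077d3001c3200077d0000000485300186300048500000000000ffffff0000000000000000100209100083f00020007b33001d5c0007b300010007733001bf00007730000000484300186000048400000000000ffffff000000000000003c200185d0004840002000483300185c000483000100073b3001a9f00073b00000007363001a7e00073600000000000ffffff0000000000000030200185a0006ce00020007393001a94000739000100048330018570004830000000001200185800052000000000000ffffff00000000030004823001852000482000000003d200185400069f00010007f43001eed0007f4000000001920018530006cd00000000000ffffff000000000300082f300203c00082f0002000481300185000048100010007063001c2c00070600000007fa3001f110007fa00000000000ffffff0000000000000030200184b00057e00000000242001849000480000100047e300184800047e00000004a8200184d00057d00000000000ffffff000000000000001820018460006ca00020007443001ade00074400010008313002048000831000000047e300184500047e00000000000ffffff00000000030007f03001ed40007f0000200047c300184200047c000000002520018430006c90000000834300205400083400000000000ffffff0000000000000030200183c0006c300000004a620018400006c8000100047c300183b00047c0000000078200183e00065300000000000ffffff000000000300070d300199300070d000200083c300208200083c000100047b300183900047b0000000000100208a00083e00000000000ffffff000000000300047a300183100047a0000000e38200183600051d000000015220018340006c3000000001920018320006c200000000000ffffff0000000000000000100208400083d000200047a300182f00047a0000000000100207d00083c0000000827300200900082700000000000ffffff00000000030006fe300193c0006fe0002000479300182d00047900010006fc30019300006fc00000007333001a6800073300000000000ffffff00000000030006c8300183d0006c8000200070f300199e00070f00010006c630018350006c60000000479300182b00047900000000000ffffff0000000000000151200182800065400020007383001a8d0007380001000478300182700047800000006c630018330006c600000000000ffffff0000000000000030200182400059b000000002420018230006c100010004753001821000475000000000120018220006c100000000000ffffff0000000003000473300181b000473000000003d200181e0004910000000031200181d0006c00000000019200181c0006c000000000000ffffff00000000000005ed20018190006bf000000000c200181500060f000000006320018170005be0000000473300181400047300000000000ffffff0000000003000472300180f000472000000003d200181100060e000000003120018100006be00000006fa30019280006fa00000000000ffffff0000000000000030200180c0005e200020007b13001d4f0007b10001000471300180b00047100000007b63001d700007b600000000000ffffff000000000300047030018080004700000000000100207900083b00010007773001c0a000777000000001920018090006bc00000000000ffffff000000000000034a2001803000491000200046f300180000046f0000000025200180100048f00000007353001a7800073500000000000ffffff00000000030006fa30019260006fa000200070e300199700070e00010006f9300191f0006f9000000046f30017fe00046f00000000000ffffff0000000000000000100207300083a000200080f3001f8200080f000100046e30017f700046e00000006f9300191d0006f900000000000ffffff000000000000003020017f00004ee000000002420017ef0006b8000100046c30017ec00046c000000000120017ed00060500000000000ffffff0000000003000837300206500083700020007523001b33000752000000000020017e900061c000000046b30017e800046b00000000000ffffff000000000300046a30017e300046a00020007c53001dd50007c5000000003120017e500061b000000001920017e40006b600000000000ffffff000000000300046930017dd000469000000003d20017e10006b5000000003120017df0005bd000000001920017de0006b500000000000ffffff0000000000000000100206c00083900020007563001b46000756000100046830017db0004680000000828300201000082800000000000ffffff0000000003000838300206b000838000200046630017d700046600010007623001b8c000762000000000d20017d80005e700000000000ffffff00000000030007ab3001d2a0007ab000200071530019be000715000100046630017d3000466000000006020017d400050700000000000ffffff000000000300046530017d1000465000000000010020670008380000000a6c2001a0f0007220000000000100206100083700000000000ffffff00000000030007573001b4d000757000000002420017cf0006b0000100046430017cd000464000000000120017ce0006b000000000000ffffff000000000300046330017ca00046300020007d33001e260007d300010007ab3001d2c0007ab000000001920017cb0006af00000000000ffffff0000000000000000100205c000836000000000c20017c50005fa000000006320017c70005e0000000046230017c400046200000000000ffffff000000000000001820017c100045e00020007953001caf00079500010006f430019060006f4000000045d30017c000045d00000000000ffffff000000000000003c20017bd000697000200045b30017ba00045b000000002520017bc0006ac000000000d20017bb0006ac00000000000ffffff000000000000003c20017b70004a1000200045a30017b400045a000000002520017b60006ab000000000d20017b50006ab00000000000ffffff000000000000003c20017af000460000200045930017aa000459000000002520017ad000695000000000d20017ab0004d500000000000ffffff000000000000003020017a500045b000000019b20017a7000694000100045930017a2000459000000000120017a300067b00000000000ffffff00000000030007b03001d490007b00002000458300179c0004580000000025200179f000465000000000d200179d00045c00000000000ffffff0000000000000018200179500045a000000000c200179300049d000100075b3001b6200075b0000000457300179200045700000000000ffffff00000000030007253001a18000725000000000c200178d0004630000000000200178b0004580000000456300178a00045600000000000ffffff0000000000000000100205800083500020007753001bfd0007750001000455300178800045500000000012001bf100077300000000000ffffff0000000000000000100205100083400020007a93001d210007a9000000045d2001aa20004840000000455300178600045500000000000ffffff000000000000003c20017830004550002000454300178200045400010007853001c6700078500000007f03001ed00007f000000000000ffffff000000000000001820017800006a200020007833001c5c0007830000000000200177e0006060000000454300177d00045400000000000ffffff0000000000000030200177a0005e6000200077f3001c3c00077f00010004533001779000453000000077d3001c3000077d00000000000ffffff00000000030007633001b9300076300020007b43001d630007b4000000045d20017760004850000000453300177500045300000000000ffffff0000000003000452300177200045200020006cd30018550006cd0000000031200177300069f000000074b3001b0900074b00000000000ffffff0000000000000030200177000069e00020007f13001eda0007f1000100044f300176f00044f00000007e63001ea00007e600000000000ffffff0000000000000018200176a000678000000000c2001768000451000000045d200176c000676000000044f300176700044f00000000000ffffff00000000030007e43001e960007e4000200044e300176500044e00000000252001c3e00077f000000071f3001c4100071f00000000000ffffff00000000030006dc300189c0006dc000200044c300176100044c00010007ad3001d380007ad000000000d200176200049800000000000ffffff0000000000000000100204d00083300020007ac3001d320007ac000100044c300175d00044c0000000001200175e00065a00000000000ffffff000000000000003c200175b000699000200044b300175a00044b0000000415200189500051200000006db30018900006db00000000000ffffff0000000000000018200175700044c00020006da300188c0006da00010007af3001d430007af000000044b300175600044b00000000000ffffff00000000030006ac30017be0006ac000200044930017520004490000000025200175300046200000008173001fb200081700000000000ffffff0000000000000000100204900083200020008233001ff30008230000000000200174f0005b10000000449300174e00044900000000000ffffff000000000000003c200174c0006950002000448300174b00044800010006aa30017ae0006aa00000003d020017b100061200000000000ffffff0000000000000030200174800044900020006a930017a80006a90001000448300174700044800000008243001ff900082400000000000ffffff00000000030006d130018650006d1000000000c2001745000693000000000020017440006930000000446300174300044600000000000ffffff0000000000000030200173c000608000000019b200173e0004a50001000444300173a0004440000000001200173b00069200000000000ffffff00000000030006e830018d30006e80000000000100204300083100010007453001ae40007450000000442300173800044200000000000ffffff00000000030004413001735000441000000003d20017360006900000000000100203d0008300000000829300201800082900000000000ffffff00000000030005e330017330005e3000000002420017300004820001000441300172f00044100000007453001ae200074500000000000ffffff000000000300043f300172a00043f0000000000100203800082f0000000031200172d00068e0000000019200172b00044400000000000ffffff000000000300043e300172500043e00020007a33001d030007a3000000003120017270005a40000000019200172600068d00000000000ffffff000000000000003c200172300068c000200043d300172000043d000000002520017210005a500000006de30018a60006de00000000000ffffff0000000000000018200171e00068b00020007463001aea0007460000000000200171c00043f000000043d300171b00043d00000000000ffffff0000000000000000100203300082e0000000024200171800049e000100043c300171700043c00000007433001ad300074300000000000ffffff0000000000000000100202d00082d00020007993001cca00079900000000632001aaf00073d000000043c300171500043c00000000000ffffff00000000030007a33001d010007a3000200043a300171300043a000100078a3001c7f00078a00000007993001cc800079900000000000ffffff00000000030007b53001d6c0007b500020007f23001ee30007f2000100043930017100004390000000001200171100068700000000000ffffff0000000000000018200170a00067d00000000c3200170c00052900000004f1200170e0006860000000439300170900043900000000000ffffff00000000030007883001c730007880000000000100202600082c000100082a300201c00082a0000000438300170700043800000000000ffffff000000000300043730016ff000437000000003d200170000067f0000000a48200170400059100000000c2200170200067d00000000000ffffff0000000000000000100202000082b000200076c3001bc800076c000100043730016fd0004370000000000100201900082a00000000000ffffff00000000000000001002015000829000000000c20016fa0005760000000000100200d000828000000043630016f900043600000000000ffffff000000000300075a3001b5c00075a00000000001002006000827000000000020016f6000572000000043530016f500043500000000000ffffff00000000000000001002001000826000000002420016f20004a9000100043330016f100043300000007493001afe00074900000000000ffffff00000000000000c120016eb00052b0002000684300170100068400010007483001af9000748000000043330016ea00043300000000000ffffff00000000000000001001ffa000825000200071730019cc000717000100070b300197d00070b000000043230016e700043200000000000ffffff0000000003000686300170b000686000200043130016e500043100010007893001c770007890000000684300170300068400000000000ffffff00000000030007593001b53000759000200070c300198b00070c000100043130016e3000431000000070b300197b00070b00000000000ffffff000000000000003c20016de0005f4000200043030016dd000430000000019820016e000051900000006a930017a40006a900000000000ffffff000000000000001820016db00067a00000000001001ff600082400010007ee3001ec80007ee000000043030016da00043000000000000ffffff000000000300042f30016d600042f000000027220016d70005f400010007eb3001eb80007eb00000007e93001eb00007e900000000000ffffff000000000300069d300176b00069d000000002420016d10005b7000100042e30016d000042e000000090520016d300060400000000000ffffff000000000000001820016ce00067700020008133001f9a00081300010007e83001eaa0007e8000000042e30016cd00042e00000000000ffffff000000000300042d30016cb00042d00020008173001fb4000817000100069d300176d00069d00000000001001fee00082300000000000ffffff000000000300042c30016c700042c000000003d20016c900067500000000001001fe8000822000000001920016c800067500000000000ffffff000000000000022920016c5000674000200042c30016c400042c00000000001001fe200082100000008203001fe100082000000000000ffffff000000000000001820016c200067300000000001001fde000820000100081f3001fdd00081f000000042b30016c100042b00000000000ffffff000000000300042a30016bc00042a000000003d20016bf00067200010007de3001e6e0007de000000001920016bd00063b00000000000ffffff00000000030007dd3001e690007dd000000002420016b90005c5000100042a30016b800042a00000000001001fda00081f00000000000ffffff000000000300081e3001fd900081e000200042930016b6000429000100071f30019f000071f00000007803001c4500078000000000000ffffff000000000300042830016b300042800000000001001fd600081e00010007d33001e240007d3000000001920016b400066f00000000000ffffff00000000000000792001a0d000724000200081a3001fc600081a000100042830016af000428000000000120016b00005c400000000000ffffff000000000300081d3001fd500081d000200042730016ad00042700010007a93001d1f0007a900000007713001be400077100000000000ffffff000000000300042630016ab00042600000000001001fd100081d00000000001001fcb00081c000000075e3001b7200075e00000000000ffffff000000000300073c3001aa700073c00020008193001fbe00081900000000001001fc700081b000000042630016a900042600000000000ffffff00000000030007623001b8e000762000200042530016a700042500000000001001fc100081a00000000001001fbb00081900000000000ffffff00000000000000001001fb6000818000200042330016a3000423000000002520016a400059800000006e630018cc0006e600000000000ffffff000000000000003c20016a0000422000200041f300169f00041f000100075f3001b7600075f000000079c3001cdb00079c00000000000ffffff00000000030007673001bae000767000000019b200169c00047f000100041f300169900041f0000000153200169a00054500000000000ffffff0000000000000151200169600045c00020007b73001d760007b7)) (.node (nat_lit 10240) (.leaf (nat_lit 0xffffff00000000000002712001f300007ff00020006283001f2b00062800000000252001f2e00062c000000000d2001f2c00071100000000000ffffff00000000000000792001f290007fe00000000612001f2700071c00000000002001f2500062a00000006283001f2400062800000000000ffffff00000000030006273001f2000062700020008163001fae000816000100084430020b200084400000000192001f210006e700000000000ffffff00000000000000302001f1d0007b1000200087e300222300087e000100061a3001f1c00061a00000008103001f8700081000000000000ffffff00000000030006163001f16000616000000003d2001f1a0007fb00000000312001f190007fb00000000192001f170007db00000000000ffffff00000000000001992001f140007fa00000000242001f120006d100010006163001f0f00061600000000012001f100006cc00000000000ffffff00000000030006153001f08000615000000003d2001f0c00075400000000312001f0b0007f900000000192001f0900076f00000000000ffffff00000000000000c12001f0500076e000000000c2001f0300062700000000002001f0100071e00000006153001f0000061500000000000ffffff00000000000000302001efd000612000200087730021f4000877000100060d3001efb00060d00000000012001efc0007f700000000000ffffff00000000000000182001ef700060f000000000c2001ef60007f600000000632001ef90007f6000000060d3001ef500060d00000000000ffffff00000000030006063001ef0000606000000003d2001ef30007f500000000312001ef20007f500000000192001ef10007f500000000000ffffff00000000030005fe3001ee90005fe000000003d2001eee0007f400000000312001eec0006cd00000000192001eea00062300000000000ffffff00000000030005fd3001ee50005fd0002000830300204200083000000000312001ee70007f300000000192001ee60007f300000000000ffffff00000000030005fc3001ede0005fc000000003d2001ee200068700000000312001ee10007f200000000192001edf00062e00000000000ffffff00000000000002e82001edb00062e000000000c2001ed900069e00000000002001ed700062d00000005fb3001ed60005fb00000000000ffffff000000000000003c2001ed30006c900020005f13001ece0005f100000000252001ed10005f5000000000d2001ecf0006a300000000000ffffff00000000030005f03001ecc0005f00002000868300219b000868000100087c300221400087c000000084230020a500084200000000000ffffff00000000000000182001ec90006d80002000867300219400086700000000002001ec700067a00000005ee3001ec60005ee00000000000ffffff00000000000000302001ec300076b00020008213001fe500082100010005eb3001ec20005eb000000081a3001fc400081a00000000000ffffff00000000000000182001ec00007ec000000000c2001ebe0006d900010008193001fc000081900000005eb3001ebd0005eb00000000000ffffff00000000000000182001ebb0007eb000000000c2001eb90006e000000000002001eb700067900000005ea3001eb60005ea00000000000ffffff00000000030005e93001eb20005e9000000003d2001eb300076a000100087e300222100087e000000087f300222700087f00000000000ffffff00000000030008233001ff500082300000000242001ead00078600010005e93001eac0005e900000000602001eaf00067900000000000ffffff0000000000000000100222400087f0002000865300218a00086500000000002001ea900067700000005e83001ea80005e800000000000ffffff00000000000000182001ea300074500000000c32001ea500074a000100086d30021b800086d00000005e43001ea20005e400000000000ffffff0000000000000000100221d00087e00020005e23001e9e0005e200010008233001ff100082300000000622001e9f00069e00000000000ffffff0000000003000830300204000083000000005112001e9b0005fb00000000002001e990005e300000005e23001e980005e200000000000ffffff000000000000003c2001e9500069c00020005df3001e930005df00000000252001e940007e40000000860300216a00086000000000000ffffff000000000000067b2001e9000072000020005de3001e8b0005de00000000252001e8e0005fa000000000d2001e8c00062d00000000000ffffff00000000030005dd3001e850005dd000000003d2001e880007d100000000312001e870007e200000000192001e860007e200000000000ffffff00000000000000792001e830007e1000000000c2001e810005f200000000002001e7f0005f900000005dd3001e7e0005dd00000000000ffffff00000000030005dc3001e790005dc000000003d2001e7c0007e000000000312001e7b0007e000000000192001e7a0007e000000000000ffffff000000000000045e2001e770007df00000002122001e7500064b00010005dc3001e720005dc00000000602001e730005f900000000000ffffff00000000030005db3001e6b0005db000000003d2001e6f0005e100000000312001e6d00067200000000192001e6c0007de00000000000ffffff00000000000001512001e6800067100000000242001e660005dd00010005db3001e630005db00000000012001e6400063900000000000ffffff00000000030005d83001e5c0005d8000000003d2001e6000062300000000312001e5e00077200000000192001e5d0007dc00000000000ffffff00000000030005d63001e560005d6000000003d2001e5900061a00000000312001e5700076a00000007fb3001f180007fb00000000000ffffff00000000030005d23001e500005d2000000003d2001e540007da00000000312001e530007da00000000192001e510007cd00000000000ffffff00000000000002292001e4e0007d900020005d23001e490005d200000000252001e4c00078d000000000d2001e4a0005d800000000000ffffff000000000000003c2001e470007d800020005d03001e420005d000000000252001e45000790000000000d2001e4300078c00000000000ffffff00000000000000182001e3e0007d700000000612001e3f00078b00000000002001e3c0005d200000005d03001e3b0005d000000000000ffffff00000000000000182001e390007d6000000000c2001e370005fe00000000002001e350005fd00000005ca3001e340005ca00000000000ffffff00000000030005c93001e2f0005c9000000003d2001e320007d500000000312001e310007d500000000192001e300007d500000000000ffffff00000000000001512001e2d0007d400000000242001e2900064a00010005c93001e280005c900000000602001e2b0005fd00000000000ffffff00000000030005c73001e200005c7000000003d2001e250006af00000000312001e2300066f00000000192001e210005cd00000000000ffffff00000000030005c63001e190005c6000000003d2001e1d00077900000000312001e1c0007d200000000192001e1a0007cf00000000000ffffff00000000030005c53001e150005c500020007e23001e890007e200000000312001e160005e40000000839300206f00083900000000000ffffff00000000030008283002012000828000200081b3001fca00081b00000000002001e120006d900000005c53001e110005c500000000000ffffff00000000030005c43001e0c0005c4000000003d2001e0f0007cf00000000312001e0d0005cb00000007d23001e1b0007d200000000000ffffff00000000000002712001e0a0007ce00020005c43001e070005c400000000252001e080006ed00000008213001fe700082100000000000ffffff00000000000000302001e0400063f00000000242001e020005c300010005c23001e010005c200000007da3001e520007da00000000000ffffff00000000030005be3001dfc0005be000000003d2001dff0007cc00000000312001dfe0007cc00000000192001dfd0007cc00000000000ffffff00000000000000182001df90005bb000000000c2001df700060a00010008003001f3500080000000005ba3001df60005ba00000000000ffffff00000000030008153001fa900081500020005b23001df00005b200000000252001df3000794000000000d2001df100078d00000000000ffffff00000000030005b03001deb0005b0000000003d2001ded0007770001000832300204c00083200000000192001dec0007c900000000000ffffff00000000000002712001de800076900020005b03001de30005b000000000252001de60005d6000000000d2001de400079000000000000ffffff00000000000000792001de10007c700000000612001ddf00078f00000000002001ddd0005b200000005b03001ddc0005b000000000000ffffff00000000000000182001dd900062a0002000825300200000082500000000002001dd80007c600000005a83001dd70005a800000000000ffffff00000000000000182001dd20005f800000000612001dd40006b600000000002001dd10007c500000005a43001dd00005a400000000000ffffff00000000000002e82001dcd000630000000000c2001dcb0006120001000852300210900085200000005a23001dca0005a200000000000ffffff000000000000003c2001dc70005a5000200059e3001dc400059e00000000252001dc60007c3000000000d2001dc50007c300000000000ffffff00000000030008533002115000853000000019b2001dc00007c2000100059e3001dbf00059e00000006542001dc100063200000000000ffffff00000000000000182001dbb0005a100000000c32001dbd0007c1000100084e30020f100084e000000059e3001dba00059e00000000000ffffff000000000300059a3001db300059a000000003d2001db70005cb00000000312001db60007c000000000192001db40005f300000000000ffffff00000000030005993001dad000599000000003d2001db10007bf00000000312001daf00078700000000192001dae0007bf00000000000ffffff00000000000000792001dab0007be000000000c2001da90006ec00000000002001da700059a00000005993001da600059900000000000ffffff00000000000000c12001da3000793000000000c2001da10005d100000000002001d9f00064300000005983001d9e00059800000000000ffffff000000000000003c2001d970005d400020005973001d96000597000000013a2001d9b00063e00000000622001d990005d100000000000ffffff00000000000002ea2001d9100078700000008b92001d930006e800010005973001d8e00059700000000012001d8f00064000000000000ffffff00000000000000302001d8c0007ba00000000242001d8a0006e400010005963001d8700059600000000012001d8800059b00000000000ffffff00000000000000182001d820005960000000000100221600087d00000000002001d810007b900000005953001d8000059500000000000ffffff00000000030008063001f5400080600020005903001d7a00059000000000252001d7d000649000000000d2001d7b00059400000000000ffffff00000000000000182001d77000591000000000c2001d75000666000100082b300202400082b000000058f3001d7400058f00000000000ffffff0000000000000000100220f00087c000200058e3001d6e00058e00000000252001d7100072b000000000d2001d6f0006bd00000000000ffffff00000000000000792001d6b00068700000000612001d6900064800000000002001d67000590000000058e3001d6600058e00000000000ffffff00000000000000302001d640007b400000000242001d620006a0000100058d3001d5f00058d00000000012001d600005c000000000000ffffff00000000000000182001d5d0007b3000000000c2001d5b0006d000000000002001d5900061f000000058b3001d5800058b00000000000ffffff000000000000003c2001d5300058b000200058a3001d5100058a00000001982001d550005a8000000000d2001d520007b200000000000ffffff00000000030007fc3001f1e0007fc00000000242001d4e0006bd00010005893001d4b00058900000000012001d4c00064800000000000ffffff000000000000003c2001d480006a800020005873001d4500058700010008613002171000861000000000d2001d4600061800000000000ffffff0000000000000000100220900087b00020005813001d4100058100000000252001d420006980000000000100220400087a00000000000ffffff00000000000002712001d3e0005af000200057f3001d3b00057f00000000252001d3c0005b3000000000010021ff00087900000000000ffffff000000000000003c2001d390007ad000200057d3001d3400057d00000000252001d3700069b000000000d2001d350005a500000000000ffffff00000000000000302001d2f00075300000001392001d3100069a000100057d3001d2e00057d0000000831300204600083100000000000ffffff00000000000000182001d290006b2000200085a300214200085a000000007b2001d2b0006af000000057c3001d2800057c00000000000ffffff000000000000000010021f9000878000000000c2001d250007550001000827300200b000827000000057b3001d2400057b00000000000ffffff00000000000000182001d220007a9000000000c2001d200006a400000000002001d1e00066d000000057a3001d1d00057a00000000000ffffff000000000000003c2001d1a00057a00020005793001d18000579000000000010021f1000877000000000d2001d190007a800000000000ffffff0000000003000857300213000085700000005352001d1500060d00010005793001d1300057900000000012001d140007a700000000000ffffff00000000000000182001d0e00078300000000c32001d100007a600000004c92001d110007a600000005793001d0d00057900000000000ffffff00000000030005783001d0700057800000002722001d080006390001000857300212c0008570000000a6a2001d0a0005f200000000000ffffff000000000300086f30021c600086f00020008283002014000828000100083e300208d00083e00000005783001d0500057800000000000ffffff00000000000000182001d0000068800000000c32001d0200068d00000000002001cff0007a300000005773001cfe00057700000000000ffffff000000000000000010021ec00087600020005753001cfa00057500000000252001cfb00057b000000083c300208000083c00000000000ffffff000000000300087530021eb000875000200083e300208f00083e00000000002001cf700057600000005753001cf600057500000000000ffffff000000000000003c2001cf300057400020005733001cf2000573000100087230021d90008720000000851300210200085100000000000ffffff00000000030005713001cec0005710002000852300210b00085200000001522001cef000613000000007a2001ced0006d700000000000ffffff000000000300085f300216600085f00000000242001ce900057800010005713001ce600057100000000012001ce700075600000000000ffffff00000000030008563002128000856000000000c2001ce100057200000000632001ce300075500000005713001ce000057100000000000ffffff000000000000003c2001cde00079c00020005703001cd900057000000000252001cdc000620000000000d2001cda00066800000000000ffffff000000000000003c2001cd700079b000200056f3001cd400056f00000000252001cd50006170000000861300216f00086100000000000ffffff000000000000003c2001cd100062c000200056e3001cce00056e00000000252001cd000079a000000000d2001ccf00079a00000000000ffffff00000000000002ea2001ccb00057600000000242001cc9000689000100056c3001cc600056c00000000012001cc700068800000000000ffffff00000000000000182001cc300056c000200084d30020e900084d000000000010021e6000875000000056b3001cc200056b00000000000ffffff000000000000003c2001cbd00061700020005693001cbb00056900000000252001cbc00079700000000c02001cbf00061b00000000000ffffff00000000030005683001cb3000568000000022a2001cb8000617000000019a2001cb600057400000000c22001cb400061600000000000ffffff00000000000000182001cb000064c000000000c2001cae0006ad00000000002001cac0006eb00000005673001cab00056700000000000ffffff000000000300086e30021c100086e00020005643001ca700056400010007ca3001df40007ca000000000d2001ca800056a00000000000ffffff00000000030007bd3001da40007bd00020005633001ca300056300000000252001ca5000793000000000d2001ca400079300000000000ffffff000000000300085d300215900085d00000004a62001c9f00079200010005633001c9e00056300000006782001ca000064f00000000000ffffff00000000000000182001c9a00056600000000c32001c9c0007910001000859300213b00085900000005633001c9900056300000000000ffffff000000000000000010021df00087400020005623001c9700056200010007d83001e460007d800000007c83001de50007c800000000000ffffff000000000300085c300215100085c00020007c73001de00007c700000000002001c9200056400000005623001c9100056200000000000ffffff000000000000003c2001c8c0005a200020005613001c8b00056100000001982001c8e0005a0000000084f30020f500084f00000000000ffffff000000000000000010021db00087300020005603001c8900056000010007d93001e4d0007d900000007ca3001df20007ca00000000000ffffff000000000000000010021d5000872000200055f3001c8500055f00000000252001c8600056800000007d83001e440007d800000000000ffffff000000000000000010021d000087100020007d73001e400007d700000000002001c82000560000000055f3001c8100055f00000000000ffffff00000000000000182001c7d00078a0002000853300211300085300000001382001c7e000688000000055e3001c7c00055e00000000000ffffff00000000000000182001c7a000789000000000c2001c7800060100000000002001c7600067d000000055d3001c7500055d00000000000ffffff00000000000000182001c72000685000000000c2001c7100078800000000002001c70000788000000055c3001c6f00055c00000000000ffffff00000000030007bb3001d920007bb000200086c30021b200086c00010007bf3001db00007bf00000005563001c6d00055600000000000ffffff000000000000000010021c900087000020007e93001eae0007e900010005533001c6900055300000000602001c6a0005f500000000000ffffff000000000300084530020b7000845000000000c2001c6400055400000004392001c660006a300000005533001c6300055300000000000ffffff00000000000000302001c600005f200000000242001c5f00078400010005523001c5e000552000000000010021c200086f00000000000ffffff00000000030007a63001d0f0007a600000000242001c5b0006a200010005513001c5800055100000000012001c590005f100000000000ffffff00000000030005503001c51000550000000003d2001c5500063b00000000312001c5300055900000000192001c5200078200000000000ffffff000000000300054e3001c4b00054e000000003d2001c4f00078100000000312001c4d00076f00000000192001c4c00078100000000000ffffff00000000000001992001c4800063a00000000242001c46000550000100054e3001c4300054e00000000012001c4400067000000000000ffffff00000000000000c12001c3d00077f000000000c2001c3b0006a1000100069c3001c3f00069c000000054e3001c3a00054e00000000000ffffff000000000300054d3001c3500054d000000003d2001c3800077e00000000312001c3700077e00000000192001c3600077e00000000000ffffff00000000000005362001c3300077d000200054d3001c2e00054d00000004a72001c310006d1000000045c2001c2f0006a100000000000ffffff00000000000000302001c2a00077c00000000242001c2800070500010005483001c2500054800000000012001c260006f600000000000ffffff00000000030005443001c1f000544000000003d2001c2300077b00000000312001c2200077b00000000192001c2000076700000000000ffffff00000000000002292001c1d00077a00020005443001c1800054400000000252001c1b0006f5000000000d2001c1900054800000000000ffffff00000000030005433001c1300054300020007d23001e1e0007d200000000312001c1500066100000000192001c1400077900000000000ffffff00000000000000792001c11000778000000000c2001c0f0006f700000000002001c0d00054400000005433001c0c00054300000000000ffffff00000000030005413001c0800054100020007c93001dee0007c900000000312001c090006bc000000083a300207600083a00000000000ffffff000000000300053a3001c0000053a000000003d2001c0500063800000000312001c0300061100000000192001c0100053e00000000000ffffff00000000000000182001bfe000775000000000c2001bfc0006a500000000002001bfa00064200000005393001bf900053900000000000ffffff00000000030005383001bf4000538000000003d2001bf700077400000000312001bf600077400000000192001bf500077400000000000ffffff00000000000002292001bee00077300020005383001bed00053800000004a72001bef0006d000000006a53001bf20006a500000000000ffffff00000000030005373001be8000537000000003d2001beb00077200010007dc3001e5f0007dc00000000192001be900076d00000000000ffffff00000000000001992001be500056a00000000242001be100062100010005373001be000053700000000602001be300066d00000000000ffffff00000000000000c12001bdb000637000000000c2001bd900053a00000004392001bdd00057a00000005373001bd800053700000000000ffffff00000000030005363001bd4000536000000003d2001bd500055600010007813001c4e00078100000007f93001f0a0007f900000000000ffffff00000000030007f83001f060007f8000000000c2001bd100065900010008043001f4900080400000005363001bd000053600000000000ffffff00000000030005353001bcb000535000000003d2001bcd00053d00000000312001bcc00076d00000007723001bea00077200000000000ffffff00000000000001992001bc900076c00000000242001bc700068300010005353001bc600053500000008083001f5c00080800000000000ffffff00000000030007ed3001ec40007ed00000000242001bc30006fb00010005303001bc000053000000000012001bc10006f700000000000ffffff000000000300052e3001bbd00052e00020007ea3001eb40007ea00010007db3001e580007db00000000192001bbe00076a00000000000ffffff00000000030007c83001de90007c800000000242001bba000541000100052e3001bb700052e00000000012001bb800070500000000000ffffff00000000000000c12001bb5000768000000000c2001bb100053000000000632001bb30006ff000000052e3001bb000052e00000000000ffffff00000000000000302001bad00066700000000242001bab00052800010005263001baa000526000000077b3001c2100077b00000000000ffffff00000000030005203001ba5000520000000003d2001ba800076600000000312001ba700076600000000192001ba600076600000000000ffffff00000000000000182001ba200051d000200083d300208900083d00000000002001ba00005f6000000051c3001b9f00051c00000000000ffffff00000000000000302001b9c00051a00000000242001b9a00058500010005183001b9700051800000000012001b9800058600000000000ffffff00000000000000182001b920006a0000000000c2001b9100076300000000632001b9400060e00000005153001b9000051500000000000ffffff00000000000003002001b8d00066a000200085b300214800085b00000000002001b8b0006b300000005133001b8a00051300000000000ffffff00000000000003022001b8700056400020005123001b8400051200000000252001b85000650000000085b300214600085b00000000000ffffff00000000000000182001b7d000621000200056b3001b8200056b000000007b2001b7f00062600000005113001b7c00051100000000000ffffff00000000030005103001b74000510000000003d2001b7700058400000000312001b75000668000000007a2001b7900062100000000000ffffff000000000300084930020d5000849000200050f3001b6f00050f00000000252001b7000075e00000006c02001b7100066c00000000000ffffff00000000000000302001b6b000516000000019b2001b6d00075d000100050f3001b6900050f00000000012001b6a00075d00000000000ffffff00000000000000182001b65000512000000000010021bc00086e000000007b2001b6700075c000000050f3001b6400050f00000000000ffffff000000000300050e3001b5e00050e000200084930020d300084900000000312001b610006a700000000192001b5f00056d00000000000ffffff00000000000000182001b5b000681000000000c2001b5a00075a00010008253001ffe000825000000050b3001b5900050b00000000000ffffff00000000000000302001b5200067c000000019b2001b560006d3000100050a3001b5100050a00000000782001b5400057300000000000ffffff00000000030005093001b4f0005090002000864300218600086400010008393002071000839000000000010021b500086d00000000000ffffff00000000000000302001b4c0006b00002000863300217f00086300010005073001b4900050700000000012001b4a00058100000000000ffffff00000000000000302001b4700075600000000242001b450006b400010005043001b44000504000000079e3001ce800079e00000000000ffffff00000000000000182001b4100074f00020007aa3001d260007aa000100079d3001ce400079d00000005043001b4000050400000000000ffffff00000000030005033001b3e00050300020007f93001f0d0007f9000100086b30021ac00086b000000000010021ae00086c00000000000ffffff00000000030007ac3001d300007ac000000000c2001b3b00073f00000000002001b3900058000000005033001b3800050300000000000ffffff00000000000000302001b3400075200000000242001b320006b700010005023001b3100050200000000602001b3500058000000000000ffffff000000000000000010021a800086b0002000866300218f00086600010005013001b2d00050100000000012001b2e00057f00000000000ffffff000000000000003c2001b2b00075000020004fe3001b260004fe00000000252001b29000615000000000d2001b2700071400000000000ffffff00000000030007553001b4200075500000000612001b2300071300000000002001b2100071c00000004fe3001b200004fe00000000000ffffff000000000000003c2001b1c00074e00020004fd3001b1b0004fd0001000855300212000085500000000622001b1d00055000000000000ffffff000000000000003c2001b1900074d00020004fc3001b140004fc00000000252001b170005bc000000000d2001b1500053b00000000000ffffff000000000000003c2001b1100054800020004fb3001b0e0004fb00000000252001b1000074c000000000d2001b0f00074c00000000000ffffff00000000030004fa3001b070004fa000000003d2001b0c00074b00000000312001b0a00053d00000000192001b0800069f00000000000ffffff00000000030004f93001b030004f900020007e73001ea60007e700000000312001b0500074a00000000192001b0400074a00000000000ffffff00000000000001512001b0100074900000000242001aff00059900010004f93001afc0004f900000000012001afd00068000000000000ffffff00000000000000c12001afa000748000000000c2001af60004fa00000000632001af800067f00000004f93001af50004f900000000000ffffff00000000030004f83001aee0004f800000000c32001af20005d400000000312001af000054a00000000192001aef00074700000000000ffffff00000000000000792001aeb000708000000000c2001ae900068b00000000002001ae700054900000004f73001ae60004f700000000000ffffff00000000030007e73001ea40007e700020004f63001ae00004f600000004a72001ae3000691000000000d2001ae100068f00000000000ffffff00000000000002ea2001adb00054a00000008b92001add0006ca00010004f63001ad80004f600000000602001ad900054900000000000ffffff00000000000000302001ad600074300000000242001ad400059b00010004f43001ad10004f400000000012001ad200068a00000000000ffffff00000000030004f33001aca0004f3000000003d2001ace0006df00000000312001acc00065c00000000192001acb00074200000000000ffffff00000000000000792001ac8000741000000000c2001ac600059c00000000002001ac40004f500000004f33001ac30004f300000000000ffffff00000000000000182001ac00004f1000200084730020c600084700000000002001abe00060000000004f03001abd0004f000000000000ffffff000000000000000010021a100086a00020007533001b3c00075300010004ef3001ab90004ef00000000012001aba00061900000000000ffffff000000000000003c2001ab700073e00020004ee3001ab20004ee00000000252001ab50005f8000000000d2001ab300052400000000000ffffff000000000000003c2001aae00073d00020004ec3001aab0004ec00010006893001ab0000689000000000d2001aac0004f400000000000ffffff00000000000006c32001aa600066b00000008b92001aa800056c00010004ec3001aa50004ec000000084930020d100084900000000000ffffff000000000000003c2001aa00006f100020004eb3001a9b0004eb00000000252001a9e0006cf000000000d2001a9c0004ef00000000000ffffff00000000000000182001a980004ec000000000c2001a9700073a0000000000100219c00086900000004ea3001a960004ea00000000000ffffff000000000300081c3001fcf00081c000000000c2001a930006ce00000000002001a910004eb00000004e93001a900004e900000000000ffffff00000000000000182001a8e000738000000000c2001a8c0006c200000000002001a8a00064a00000004e63001a890004e600000000000ffffff00000000000000302001a840004e6000000019b2001a8600050b00010004e53001a820004e500000000012001a8300073700000000000ffffff000000000300083b300207c00083b00020004e43001a7c0004e400000000252001a7f000619000000000d2001a7d0006cf00000000000ffffff00000000000000302001a790005ff0002000857300212e00085700010004e23001a760004e200000000012001a770006bb00000000000ffffff000000000000003c2001a7100060200020004e13001a6e0004e100000004a72001a7300053a000000000d2001a6f0005bc00000000000ffffff00000000000000302001a6b00059f00000000242001a690006dd00010004df3001a660004df)) (.leaf (nat_lit 0x10004849001aa30006a400000000000ffffff00000000000000000ffffff00000000000000000ffffff00000000000000000ffffff00000000000003a490017fb0005dc00000000000ffffff000000000200046e30017f900046e00000000000ffffff000000000000000d20017fa0003a4000200089080016ef0002c100000000000ffffff00000000000000000ffffff00000000000000000ffffff00000000000000000ffffff00000000010007239001a070005fc00000000000ffffff00000000020004053001605000405000000043b2001a0600072300000000000ffffff0000000000000335900151200054d00000000000ffffff00000000000000000ffffff00000000010003da30015100003da00000000012001511000335000100046f900142e00029100000000000ffffff00000000020003a230014020003a20000000198200142d00046f00000000000ffffff000000000100047990013ff00029700000000000ffffff0000000002000394300138a000394000000099420013fe00047900000000000ffffff000000000200038890013ea00041400000000000ffffff00000000000000000ffffff00000000000000000ffffff00000000000000000ffffff00000000010002e590013730004de0003000384300134700038400000000000ffffff000000000000019a20013720002e500000000000ffffff0000000002000379900153a00042100000000000ffffff00000000000000000ffffff00000000000000000ffffff00000000000000000ffffff00000000010002f7900154f0004f300000000000ffffff000000000200037130012c20003710000000273200154e0002f700000000000ffffff000000000200036e900197f0004f800000000000ffffff00000000000000000ffffff00000000000000000ffffff00000000000000000ffffff0000000000000360900143100051800000000000ffffff00000000000000000ffffff00000000000000000ffffff00000000000000000ffffff000000000100035f900143700058600000000000ffffff00000000000000000ffffff00000000000000000ffffff00000000000000000ffffff000000000000035e900143300058500000000000ffffff00000000000000000ffffff00000000000000000ffffff00000000000000000ffffff000000000200035b900125800051800000000000ffffff00000000000000000ffffff00000000000000000ffffff00000000000000000ffffff000000000100088b80013dc00022d00000000000ffffff00000000000000000ffffff00000000000000000ffffff00000000000000000ffffff00000000020003e5900116e00023300000000000ffffff0000000000000901200116d0003e50001000326300112600032600000000000ffffff0000000001000313900143900049b00000000000ffffff00000000000000000ffffff00000000000000000ffffff00000000000000000ffffff000000000100030e900155d00049600000000000ffffff00000000000000000ffffff00000000000000000ffffff00000000000000000ffffff00000000010002bc90013440004a000000000000ffffff000000000200030d300109c00030d000000090420013430002bc00000000000ffffff00000000000002e990013e30004db00000000000ffffff00000000000000000ffffff00000000000000000ffffff00000000000000000ffffff00000000020002e690013e70004e000000000000ffffff000000000000013920013e60002e600010002e83000fc60002e800000000000ffffff000000000300038490013de0004de0000000a6b20013dd00038400000000000ffffff00000000000000000ffffff00000000000002e73000fc40002e7000100026290016ee00043200000000000ffffff00000000020002c13000eed0002c100000005ea20016ed00026200000000000ffffff000000000100026990014d100043b000000003c2000ec100088f00020002ba3000ec00002ba0000000a4820014d000026900000000000ffffff00000000020008a2800140000039400000000000ffffff00000000000000000ffffff00000000000000000ffffff00000000000000000ffffff00000000020008a3800142f0003a200000000000ffffff00000000000000000ffffff00000000000000000ffffff00000000000000000ffffff0000000001000897800116f00032600000000000ffffff00000000000000000ffffff00000000000000000ffffff00000000000000000ffffff000000000200054c90013db00033400000000000ffffff000000000000027020013da00054c000100022d3000c0e00022d00000000000ffffff00000000000000000ffffff00000000030008883002264000888000000003d200226700088a0000000031200226600088a0000000019200226500088a00000000000ffffff0000000003000887300225f000887000000003d2002262000889000000003120022610008890000000019200226000088900000000000ffffff0000000000000000100226300088a000000000c200225c0008790000000000200225a0008670000000866300225900086600000000000ffffff0000000000000000100225e000889000000000c200225600087a000000000020022540008650000000863300225300086300000000000ffffff0000000003000824300224d000824000000003d2002251000886000000003120022500008860000000019200224e00083200000000000ffffff00000000030008213002247000821000000003d200224a00084e000000003120022490008850000000019200224800088500000000000ffffff00000000030008203002242000820000000003d2002245000884000000003120022440008840000000019200224300088400000000000ffffff0000000000000018200223f00081f000000000c200223e0008830000000000200223d000883000000080b300223c00080b00000000000ffffff000000000300080a300223600080a000000003d200223a000882000000003120022390008820000000019200223700081e00000000000ffffff00000000030008083002230000808000000003d20022340008810000000031200223200086e0000000019200223100088100000000000ffffff0000000003000807300222b000807000000003d200222e0008800000000031200222d0008800000000019200222c00088000000000000ffffff00000000030007e830022250007e8000000003d200222900087f0000000031200222800087f000000001920022260007ea00000000000ffffff00000000030007e6300221e0007e6000000003d20022220007fc000000003120022200007ea0000000019200221f00087e00000000000ffffff000000000000003c200221900080400020007b930022170007b90000000063200221b000860000000000d200221800087d00000000000ffffff00000000030007b630022100007b6000000003d200221500087c000000003120022130007ef0000000019200221100083000000000000ffffff00000000030007af300220a0007af000000003d200220e00087b0000000031200220c0008330000000019200220b00087b00000000000ffffff0000000000000079200220800087a000200088730022570008870000000000200220600081300000007af30022050007af00000000000ffffff000000000000001820022030008790002000888300225d0008880000000000200220100082400000007ae30022000007ae00000000000ffffff00000000030007aa30021fa0007aa000000003d20021fd000859000000003120021fc000878000000001920021fb00087800000000000ffffff000000000000003020021f5000803000000002420021f30007f700010007a830021f20007a8000000007820021f700087300000000000ffffff00000000030007a230021ed0007a2000000003d20021f0000876000000003120021ef000876000000001920021ee00087600000000000ffffff000000000000003020021ea0007a1000000002420021e9000875000100079830021e7000798000000000120021e800087500000000000ffffff000000000300079030021e0000790000000003d20021e400080e000000003120021e3000874000000001920021e100085400000000000ffffff000000000300078d30021dc00078d000000003d20021de000873000000003120021dd000873000000087730021f800087700000000000ffffff000000000300078c30021d600078c000000003d20021da000872000000003120021d80007a0000000001920021d700087200000000000ffffff000000000300078b30021d100078b000000003d20021d4000871000000003120021d3000871000000001920021d200087100000000000ffffff000000000300078630021ca000786000000003d20021ce000832000000003120021cc00083b000000001920021cb00087000000000000ffffff000000000000001820021c50007a4000000006120021c7000869000000000020021c400086f000000078430021c300078400000000000ffffff000000000000003c20021c0000794000200075c30021bd00075c00010008813002233000881000000000d20021be00081d00000000000ffffff000000000000001820021ba00080c000000000c20021b900086d000000000020021b70007e7000000075830021b600075800000000000ffffff000000000000001820021b3000831000000000c20021b1000787000000000020021b000086c000000075430021af00075400000000000ffffff000000000300075130021a9000751000000003d20021ad00086b000000003120021ab000754000000001920021aa00086b00000000000ffffff000000000300073f30021a200073f000000003d20021a6000833000000003120021a500086a000000001920021a300084500000000000ffffff0000000000000030200219f00081b000200086f30021c800086f000100073a300219d00073a0000000001200219e00086900000000000ffffff000000000300072d300219700072d000000003d200219a0007ef000000003120021990008680000000019200219800086800000000000ffffff00000000000000792002195000867000000000c20021930007ee0001000888300225b000888000000072d300219200072d00000000000ffffff000000000000003020021900008660000000024200218e000751000100072c300218d00072c0000000000100225800088800000000000ffffff0000000000000018200218b000865000000000c20021890007e8000100088730022550008870000000729300218800072900000000000ffffff00000000030007283002182000728000000003d2002185000758000000003120021840008640000000019200218300086400000000000ffffff000000000000015120021800008630000000024200217e0007570001000728300217d0007280000000000100225200088700000000000ffffff000000000000003c200217800081a000200072130021750007210000000025200217600083800000000c0200217a00084c00000000000ffffff000000000000003c2002172000722000200071f300216d00071f000000002520021700007b0000000000d200216e00079b00000000000ffffff000000000300071e300216800071e000000003d200216b000860000100087d300221c00087d000000001920021690007e400000000000ffffff0000000000000030200216500079e0000000024200216300080b000100071d300216100071d0000000001200216200085f00000000000ffffff000000000300071c300215b00071c000000003d200215f00085e0000000031200215d0008560000000019200215c00085e00000000000ffffff00000000000000182002158000792000000000c20021560007300000000000200215400071b000000071a300215300071a00000000000ffffff0000000000000018200215000078f000000000c200214f00085c0000000000200214d0008090000000719300214c00071900000000000ffffff0000000000000030200214900071600000000242002147000762000100071530021440007150000000001200214500076100000000000ffffff0000000003000714300213d000714000000003d20021410007ab0000000031200213f00081e0000000019200213e00085a00000000000ffffff00000000030007133002137000713000200087830021fe0008780000000031200213a0007910000000019200213800081100000000000ffffff00000000030007113002132000711000000003d2002135000858000000003120021340008580000000019200213300085800000000000ffffff0000000000000079200212f0007a7000000000c200212d0007350000000000200212b0007a5000000070e300212a00070e00000000000ffffff000000000000003c200212700079d00020007073002124000707000100085e300215e00085e000000000d200212500084100000000000ffffff000000000000003c20021210007090002000706300211c0007060000000025200211f00074e000000000d200211d00073200000000000ffffff00000000030007053002117000705000000003d200211a0008540000000031200211800082f000000087430021e200087400000000000ffffff000000000000001820021140007c2000000000c200211200078a000000000020021100007040000000702300210f00070200000000000ffffff0000000000000018200210c000701000000000c200210a00079f000000000020021080007c40000000700300210700070000000000000ffffff00000000030006ff30021000006ff000000003d200210400082200000000312002103000851000000001920021010007a000000000000ffffff000000000000003c20020fd00071000020006fd30020fa0006fd000000002520020fc000850000000000d20020fb00085000000000000ffffff000000000000003020020f6000802000000013920020f800084f00010006fd30020f30006fd000000000120020f400078e00000000000ffffff00000000030006fb30020ed0006fb0002000885300224b000885000000003120020f00007c1000000001920020ee00080500000000000ffffff000000000000001820020ea000819000000000c20020e8000798000000000020020e700084d00000006f830020e60006f800000000000ffffff00000000030006f730020e20006f7000000003d20020e400084c000000003120020e300084c0000000862300217b00086200000000000ffffff00000000030006f630020dc0006f6000000003d20020df000719000000003120020de00084b000000001920020dd00084b00000000000ffffff00000000030006f530020d70006f5000000003d20020da00084a000000003120020d900084a000000001920020d800084a00000000000ffffff000000000000015120020d400075e000000002420020d200075b00010006f330020cf0006f3000000000120020d000073c00000000000ffffff000000000000003020020cd000848000000002420020cb00081f00010006ef30020c80006ef000000000120020c900081b00000000000ffffff00000000030006ed30020c20006ed000000003d20020c5000740000000003120020c4000847000000001920020c300084700000000000ffffff00000000000000c120020c0000846000000000c20020be0006ef000000000020020bc00082000000006ed30020bb0006ed00000000000ffffff000000000000003c20020b600078500020006e730020b50006e7000000019820020b8000835000000086a30021a400086a00000000000ffffff00000000030006e430020af0006e4000000003d20020b3000844000000003120020b10007fd000000001920020b000084400000000000ffffff00000000030006de30020aa0006de000000003d20020ad000843000000003120020ac000843000000001920020ab00084300000000000ffffff00000000030006d930020a30006d9000000003d20020a8000842000000003120020a6000829000000001920020a40007ef00000000000ffffff000000000000003c20020a00006d700020006d5300209e0006d50000000025200209f0008410000000856300212600085600000000000ffffff0000000000000030200209a0006e00000000061200209c00084000010006d530020980006d50000000001200209900084000000000000ffffff00000000030006d030020920006d0000000003d200209600083f0000000031200209500083f0000000019200209300083b00000000000ffffff0000000000000018200209000083e000000000c200208e0007a10000000000200208c0007a400000006c7300208b0006c700000000000ffffff00000000030006c530020850006c5000000003d20020880007650000000031200208700083d0000000019200208600083d00000000000ffffff0000000000000199200208300083c000000002420020810006c700010006c5300207e0006c50000000001200207f0007a200000000000ffffff000000000000003c200207b00073600020006bc300207a0006bc000100087030021cd000870000000083f300209400083f00000000000ffffff00000000030006b930020740006b9000000003d200207800083a0000000031200207700083a0000000019200207500077700000000000ffffff00000000030006b4300206d0006b4000000003d2002072000839000000003120020700007580000000019200206e0007d100000000000ffffff000000000000003c200206a0006b300020006b130020680006b100010008623002177000862000000000d200206900083800000000000ffffff000000000000001820020640006b7000000006120020660008370000000000200206300083700000006b130020620006b100000000000ffffff00000000030006ae300205d0006ae000000003d20020600008360000000031200205f0008360000000019200205e00083600000000000ffffff00000000030006a530020590006a5000000003d200205b000835000100084530020b90008450000000019200205a00083500000000000ffffff00000000030006a430020520006a4000000003d2002057000834000000003120020550006f1000000001920020530006c900000000000ffffff000000000300069a300204e00069a000200086a30021a700086a000100087b300220d00087b0000000019200204f00081600000000000ffffff0000000003000696300204a000696000200087030021cf0008700000000031200204b0007c90000000886300224f00088600000000000ffffff000000000300086c30021b400086c00020006913002044000691000000002520020470006ca000000000d20020450007ac00000000000ffffff0000000000000030200203f0007e5000000019b20020410007f30001000690300203e000690000000087c300221200087c00000000000ffffff000000000000003c200203b0006cc000200068e300203900068e00010008543002119000854000000000d200203a00082f00000000000ffffff000000000300068a300203400068a000000003d200203700082e0000000031200203600082e0000000019200203500082e00000000000ffffff0000000003000689300202e000689000000003d20020310008290000000031200203000082d0000000019200202f00082d00000000000ffffff000000000000003c200202c00082c000200068530020270006850000000025200202a00080a000000000d200202800080400000000000ffffff00000000030006833002021000683000000003d200202500082b000000003120020230007b70000000019200202200082b00000000000ffffff0000000000000079200201f00082a000000000c200201d0008070000000000200201b0006850000000683300201a00068300000000000ffffff00000000030006823002016000682000200082d300203200082d000100084230020a70008420000000019200201700069000000000000ffffff000000000000015120020110007d0000000021220020130007a40001000682300200e0006820000000001200200f0006b400000000000ffffff000000000000003c200200c000827000200068130020070006810000000025200200a0007aa000000000d20020080006c500000000000ffffff00000000030006803002002000680000000003d2002005000826000000003120020040008260000000019200200300082600000000000ffffff000000000300067e3001ffb00067e000000003d2001fff0007c600000000312001ffd00075a00000000192001ffc00082500000000000ffffff0000000000000000100224c000886000200067a3001ff700067a00010008793002202000879000000000d2001ff800069400000000000ffffff00000000000000182001ff40007e9000000000c2001ff200069600000000002001ff00007e600000006763001fef00067600000000000ffffff00000000000000302001fea0006d60002000851300210500085100010006753001fe900067500000000782001fec0006d300000000000ffffff0000000000000000100224600088500000000242001fe40007ed00010006743001fe300067400000000602001fe60007ce00000000000ffffff0000000000000000100224100088400020006733001fdf000673000100084630020bd000846000000000d2001fe000067400000000000ffffff00000000030008833002240000883000200084830020cc00084800000000002001fdc00067300000006713001fdb00067100000000000ffffff000000000000003c2001fd8000670000200066f3001fd700066f000100085a300214000085a0000000882300223800088200000000000ffffff000000000000003c2001fd400066d000200066c3001fd200066c00000000252001fd300081d000000086e30021bf00086e00000000000ffffff00000000000000302001fce00073900000000612001fd000081c000100066c3001fcc00066c00000000012001fcd00081c00000000000ffffff000000000300086930021a000086900000000242001fc90007d0000100066b3001fc800066b000000084830020ca00084800000000000ffffff0000000003000862300217900086200000000242001fc500066e000100066a3001fc200066a00000000012001fc30007ed00000000000ffffff000000000300084d30020eb00084d000000000c2001fbd00066b00000000632001fbf0007ec000000066a3001fbc00066a00000000000ffffff00000000030006693001fb7000669000000003d2001fba00081800000000312001fb900081800000000192001fb800081800000000000ffffff00000000000000302001fb500081700000000242001fb3000676000100065d3001fb000065d00000000012001fb100069700000000000ffffff00000000030006593001fab000659000000003d2001fad0007fd00000000312001fac0008160000000833300205000083300000000000ffffff000000000000003c2001fa80007ca00020006573001fa300065700000000252001fa6000808000000000d2001fa400080300000000000ffffff00000000000000182001f9f00081400000000612001fa000080200000000002001f9d00065900000006573001f9c00065700000000000ffffff00000000030006553001f96000655000000022a2001f99000677000100087a300220700087a00000000192001f9700065800000000000ffffff000000000000003c2001f9300065d000200064f3001f9000064f00000000252001f92000812000000000d2001f9100081200000000000ffffff00000000000000302001f8c00065100000001392001f8e000811000100064f3001f8b00064f0000000859300213900085900000000000ffffff000000000300064a3001f8500064a000000003d2001f8900081000000000312001f8800081000000000192001f860007fc00000000000ffffff00000000000000182001f8300080f000000000c2001f810006b900000000002001f7f00064b00000006453001f7e00064500000000000ffffff00000000000000302001f7b000645000200087430021e500087400010006443001f7900064400000000012001f7a00080e00000000000ffffff000000000000003c2001f7400064200020006413001f7200064100000000252001f7300080d00000000622001f7600066100000000000ffffff000000000300086d30021bb00086d000200063e3001f6c00063e00000000252001f6f0006e8000000000d2001f6d00072700000000000ffffff00000000000000302001f69000639000200085f300216400085f00010006383001f680006380000000000100223b00088300000000000ffffff0000000000000000100223500088200020006363001f64000636000100082c300202b00082c000000000d2001f6500063a00000000000ffffff000000000000003c2001f5f00065000020006353001f5e000635000100085c300214e00085c00000000c02001f6100064d00000000000ffffff0000000000000000100222f00088100020006343001f5a00063400010008153001fa700081500000000622001f5b00076c00000000000ffffff0000000000000000100222a000880000200082a300201e00082a00000000002001f5700063600000006343001f5600063400000000000ffffff000000000000003c2001f530007b800020006323001f5000063200000000252001f52000806000000000d2001f5100080600000000000ffffff00000000000000302001f4c00063300000001392001f4e00080500010006323001f4b000632000000084e30020ef00084e00000000000ffffff000000000300087d300221a00087d00020006313001f47000631000000013a2001f4800076e000000082c300202900082c00000000000ffffff000000000300087730021f600087700020006303001f4300063000000000252001f4400063700000008153001fa500081500000000000ffffff000000000300084f30020f700084f00020008143001fa100081400000000002001f4000063100000006303001f3f00063000000000000ffffff00000000000000182001f3d000801000000000c2001f3b00071e00000000002001f39000710000000062c3001f3800062c00000000000ffffff00000000030006283001f32000628000000003d2001f3600080000000000312001f340007cb00000000192001f33000800)))))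
/-- the definitions -/
noncomputable def tP : TT := .node (nat_lit 1024) (.leaf (nat_lit 0xb4200000b3e00000b3c00000b3b00000b3900000b3800000b3600000b3100000b2f00000b2d00000b2800000b2700000b2500000b2300000b2200000b2000000b1e00000b1b00000b1900000b1800000b1600000b1500000b0f00000b0e00000b0b00000b0900000b0100000aff00000afd00000afa00000af800000af700000af100000af000000ae800000ae700000ae300000ae100000ade00000ad900000ad800000ad200000ac100000ac000000aba00000ab700000ab600000ab400000aaa00000aa600000aa200000aa000000a9e00000a9d00000a9700000a9600000a9300000a9200000a9100000a8f00000a8c00000a8a00000a8800000a7a00000a7900000a7600000a6f00000a6e00000a6700000a5f00000a5d00000a5b00000a5500000a5300000a5000000a4600000a4400000a4300000a3e00000a3a00000a3700000a3500000a3300000a3000000a2f00000a2900000a2800000a2500000a2300000a2000000a1f00000a1b00000a1a00000a1900000a1700000a1400000a1200000a1000000a0d00000a0b00000a0a00000a0200000a0000000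9fd000009fc000009f8000009f7000009f6000009f3000009f2000009f1000009ee000009ed000009ea000009e8000009e4000009e2000009df000009de000009dd000009db000009d8000009d6000009d5000009d0000009cb000009c5000009c4000009c1000009bf000009ba000009ad000009a3000009a10000099c000009970000099500000993000009900000098e0000098d0000098a00000988000009860000097f0000097e0000097c00000977000009720000096f0000096b00000968000009660000096500000963000009620000095e0000095d0000095b000009570000095600000953000009510000094e0000094d0000094a0000094900000945000009420000093e0000093b0000093a000009340000093300000931000009300000092e000009290000092600000925000009220000091f0000091b00000918000009160000091500000911000009100000090c0000090b000009080000090400000902000008ff000008fe000008f8000008f7000008f4000008f2000008ef000008ee000008ea000008e9000008e8000008e6000008e3000008e1000008df000008de000008dc000008db000008d5000008d4000008cc000008cb000008c7000008c6000008c50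00008c2000008c1000008c0000008bc000008b7000008b3000008b1000008ad000008ac000008a70000089f0000089e0000089b0000089a0000089400000893000008900000088f0000088e0000088c0000088900000887000008850000087f0000087d0000087c0000087800000877000008750000086b000008670000085d0000085c0000085800000855000008540000084f0000084b0000084900000845000008430000083f0000083b0000083900000837000008300000082f0000082d0000082800000823000008200000081e0000081c000008190000081700000816000008130000080f0000080d0000080c00000808000008070000080400000802000007ff000007fe000007f9000007f8000007f5000007f1000007ef000007ec000007e9000007e7000007e5000007e1000007dd000007db000007da000007d7000007d5000007d0000007cd000007cc000007c9000007c6000007c4000007c2000007c1000007be000007b9000007b7000007b3000007af000007ad000007aa000007a8000007a4000007a00000079e0000079c000007950000079400000791000007900000078f0000078d0000078800000783000007820000077e0000077d0000077b0000077600000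774000007710000076f0000076d0000076a000007680000076700000763000007600000075d00000759000007560000075300000751000007500000074c0000074b0000074900000744000007410000073f0000073c0000073b0000073500000732000007310000072d0000072c0000072900000722000007210000071e0000071d0000071c0000071a00000715000007100000070f0000070b0000070a0000070800000703000006fe000006fc000006fa000006f7000006f5000006f0000006ed000006ea000006e8000006e6000006e3000006e1000006e0000006de000006dd000006d9000006d8000006d6000006d2000006ce000006cc000006c9000006c8000006c5000006c2000006c0000006be000006ba000006b8000006b5000006b4000006b3000006b1000006aa000006a9000006a6000006a00000069f0000069d00000698000006910000068d0000068700000683000006810000067d000006770000067500000674000006700000066f0000066d0000066b000006680000066600000664000006610000065f0000065e0000065c000006590000065600000652000006500000064f0000064c00000648000006460000064300000641000006400000063c0000063b0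000063600000633000006320000062d0000062c00000629000006240000061d0000061a00000619000006150000061400000613000006110000060b0000060900000606000006050000060400000602000005fd000005f5000005f3000005f2000005ee000005ed000005e6000005e4000005e2000005df000005dd000005dc000005da000005d7000005d4000005d0000005ce000005cd000005cb000005ca000005c6000005c4000005c1000005bf000005be000005ba000005b9000005b6000005b1000005b0000005ad000005aa000005a8000005a7000005a2000005a10000059d0000059c0000059b0000059900000592000005910000058e00000589000005880000058700000585000005800000057b0000057a0000057400000571000005700000056e0000056c0000056a0000056600000562000005600000055f0000055d0000055a00000558000005560000055300000551000005500000054d00000549000005460000054400000542000005410000053d0000053c0000053900000537000005330000052f0000052e0000052d00000528000005250000051e000005190000051600000515000005100000050f0000050b0000050a0000050700000502000004fd00000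4fc000004f8000004f7000004f3000004f2000004f1000004ef000004e8000004e4000004e2000004df000004de000004dd000004db000004d6000004d1000004d0000004ca000004c7000004c6000004c4000004c2000004c0000004bc000004b8000004b6000004b5000004b3000004b0000004ac000004a9000004a7000004a6000004a4000004a30000049f0000049d0000049a000004990000049300000492000004900000048d0000048b00000489000004880000048400000483000004800000047e0000047b000004760000047500000474000004710000046f0000046a00000466000004600000045b000004580000045700000453000004510000044d0000044900000447000004430000043f0000043e00000439000004380000043600000433000004300000042c0000042a0000042900000424000004200000041d0000041b0000041a000004170000041300000411000004100000040d00000401000003fd000003f9000003f8000003f7000003f3000003f2000003f0000003ee000003ea000003e6000003e4000003e3000003de000003da000003d7000003d5000003d4000003d1000003cd000003cb000003ca000003c7000003bb000003b7000003b3000003b20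00003b1000003ae000003a9000003a3000003a00000039d0000039a000003980000039600000394000003930000038e00000389000003860000038500000384000003820000037f0000037b0000037600000375000003720000036c00000369000003680000036600000361000003590000035400000353000003520000034f0000034e0000034d0000034a0000034800000346000003450000033f0000033c0000033b000003390000033700000334000003300000032b0000032a00000327000003210000031e0000031d0000031b000003160000030e00000309000003080000030700000303000002fe000002f8000002f6000002f4000002f0000002ef000002ec000002ea000002e9000002e4000002e2000002e0000002da000002d8000002d7000002d1000002d0000002cd000002cb000002c7000002c3000002b9000002b8000002b7000002b5000002ae000002a9000002a5000002a4000002a3000002a10000029b0000029a00000299000002970000028f0000028d0000028c00000287000002860000028300000282000002800000027b0000027900000277000002710000026f0000026e000002680000026700000264000002620000025d000002580000025600000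24f0000024b00000241000002400000023f0000023d00000238000002320000022d000002280000022700000226000002240000021e0000021d0000021c0000021a0000021500000213000002100000020f0000020900000208000002050000020300000200000001ff000001fb000001fa000001f9000001f7000001f2000001ef000001ed000001ec000001e6000001e5000001e2000001e0000001dd000001dc000001d8000001d7000001d6000001d4000001cd000001cc000001c5000001c3000001c0000001bf000001ba000001b9000001b6000001af000001ae000001ab000001a9000001a6000001a5000001a1000001a00000019f0000019d0000019800000193000001900000018e0000018c000001870000018600000183000001810000017e0000017d000001790000017800000177000001750000016f0000016d000001660000016300000161000001600000015a00000159000001560000015400000151000001500000014c0000014b0000014a000001480000014600000142000001400000013e0000013b000001390000013800000134000001310000012f0000012d000001280000012700000124000001220000011f0000011e0000011a00000119000001150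00001100000010f0000010e0000010c0000010b00000109000001050000010400000102000000ff000000fd000000fb000000f7000000f6000000f2000000f1000000f0000000ee000000ec000000e8000000e6000000e3000000e2000000e1000000df000000dc000000da000000d9000000d4000000d3000000d0000000cf000000ca000000c9000000c8000000c6000000c5000000c3000000bf000000be000000bb000000ba000000b9000000b7000000b4000000b2000000b0000000ac000000aa000000a7000000a6000000a5000000a3000000a20000009e0000009d0000009b00000097000000960000009300000092000000910000008f0000008c0000008a000000880000008500000083000000820000007d0000007b0000007a0000007400000071000000700000006e000000690000006400000062000000600000005c000000580000005600000055000000510000004e0000004b00000047000000430000003f0000003d0000003c000000390000003500000032000000300000002e0000002b00000029000000280000002600000025000000210000001f0000001e0000001c0000001b000000190000001500000014000000110000000f0000000c0000000b0000000700000006000000050000000300000000))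 (.node (nat_lit 2048) (.leaf (nat_lit 0x1eca00001ec800001ec600001e8300001e7100001e6f00001e6c00001e6900001e4200001e4100001e2100001df900001df400001def00001de700001db700001db300001da600001d9800001d9700001d9200001d9000001d8e00001d8800001d7400001d6c00001d6a00001d5d00001d5800001d5400001d5100001d4f00001d4d00001d4a00001d4800001d3b00001d3100001d1d00001d1c00001d1200001d1000001cf200001cf000001cee00001ce600001ce100001cdc00001cd900001cd700001cd600001ccb00001cb900001ca200001c7c00001c7300001c7200001c7000001c4800001c3400001c2a00001c1800001c1700001c1600001c0500001c0000001bfd00001bf800001bf500001bf400001bef00001be900001bd200001bcb00001bc800001bc600001bc200001bb700001bb400001bae00001ba500001b8700001b7d00001b7300001b7200001b6c00001b6700001b6200001b5f00001b5e00001b5d00001b5b00001b5800001b5300001b4b00001b4900001b4100001b3800001b3600001b3500001b3200001b2d00001b2800001b1d00001b1700001b0f00001b0b00001b0300001af600001af100001af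000001aef00001aec00001aea00001ae700001ae200001add00001adb00001ad600001ad100001acc00001aae00001aa000001a9f00001a9b00001a9600001a9300001a8900001a8700001a8600001a8400001a8300001a6900001a5700001a5600001a5200001a4f00001a4800001a2500001a1d00001a1b00001a1a00001a1600001a1400001a1300001a1100001a0e00001a0c00001a0a000019f1000019e9000019e7000019e6000019bf000019a30000198c00001979000019690000195f0000195c00001955000019530000194d0000194c0000194b00001949000019370000193300001930000019240000191500001914000019120000190f0000190b00001906000018f8000018f6000018f3000018ee000018e9000018e5000018e0000018de000018dd000018db000018d3000018d0000018cf000018c5000018c2000018bf000018b0000018ac000018a80000189e0000189d00001899000018920000188d0000187e0000187a000018760000186b000018670000185c0000184e000018480000183e00001839000018340000182f0000182e0000182600001824000018200000181f0000181700001816000018110000180d0000180b000018080000180700001806000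0180400001801000017fc000017f7000017f2000017ee000017e9000017e8000017e6000017df000017dc000017db000017d9000017d4000017cb000017ca000017c6000017c1000017bc000017b6000017b3000017b2000017ae000017ad000017ac000017aa000017a8000017a20000179f0000179e0000179800001796000017950000178f0000178e0000178c0000178900001785000017820000177b0000177600001771000017700000176b00001766000017610000175e0000175c0000175700001755000017540000174d0000174a00001749000017430000172f0000172d000017260000172300001716000017120000170f000017070000170300001700000016f9000016e0000016d2000016c3000016c1000016b7000016ad000016aa000016a8000016a6000016a3000016a1000016a0000016990000169400001691000016900000168d0000168700001677000016760000166e0000166d0000166800001665000016640000165f0000165d000016590000164a000016420000163f0000163d00001636000016330000162d0000162b000016270000161d0000161700001615000016100000160900001600000015ff000015fc000015f5000015f2000015ea000015d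1000015c9000015c4000015bf000015be000015ba000015b3000015ae000015aa000015a9000015a6000015a4000015a00000159f0000159d0000158c0000158b000015880000157e0000157d00001579000015770000156f0000156d0000156a000015690000155e000015550000154a00001548000015460000153e0000153900001533000015310000152d0000152c000015240000151e0000151d0000151800001516000015140000150e0000150900001500000014ff000014fa000014f7000014f6000014f2000014f0000014ee000014e7000014e6000014e4000014df000014de000014d7000014d5000014d3000014cf000014cb000014c9000014c5000014c1000014be000014bb000014b10000149d0000149c000014910000148d000014850000147e0000147d00001476000014710000146c00001464000014610000145d000014510000144e0000144b000014490000144700001442000014410000143c0000143a000014390000143300001432000014300000142d0000142b000014290000142300001419000014160000141500001412000014110000140b000014080000140700001402000013fe000013fc000013f7000013f1000013e3000013df000013db000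013da000013d4000013d1000013d0000013c9000013c7000013c5000013c0000013bd000013ba000013b6000013b2000013b1000013ae000013ad000013a6000013a10000139f0000139d00001392000013900000138b0000138900001386000013800000137a0000137900001376000013670000135e0000135b00001359000013540000134e00001348000013470000134400001335000013300000132b0000132a00001327000013210000131a00001318000013130000130e0000130200001301000012fd000012f8000012f7000012ed000012da000012d6000012d5000012d1000012ca000012c8000012c5000012c1000012bd000012bb000012b7000012b6000012b3000012b1000012a80000129b0000129a00001298000012960000128f0000128a000012860000128500001281000012800000127f0000127d00001276000012750000127200001271000012670000125c00001255000012520000124e0000124b000012450000123c000012390000123500001234000012310000122700001225000012220000121c0000121800001212000012110000120f0000120c0000120a00001208000012050000120200001200000011f9000011f6000011ef000011ee000011e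b000011e9000011e5000011e0000011d6000011d1000011cd000011cb000011c7000011c4000011b9000011b2000011a5000011a3000011a10000119b0000119a00001199000011900000118f0000118d000011880000118500001183000011810000117c0000117b0000117800001177000011740000116f0000116d0000116a000011650000115e0000115500001151000011500000114a00001149000011470000114400001142000011400000113a000011360000112b000011270000111e0000111c000011170000111500001114000011100000110f000011080000110300001101000010ff000010fb000010f4000010f1000010ed000010ea000010e7000010d4000010d3000010cd000010ca000010c7000010c4000010c3000010c0000010b9000010b8000010b6000010b1000010b0000010ab000010a7000010a5000010a20000109f0000109b0000109700001093000010900000108d000010890000107f0000107c00001079000010770000107500001074000010700000106f00001069000010680000106600001063000010610000105f0000105c000010590000105500001052000010480000104600001040000010380000102f0000102a0000102800001025000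01023000010220000101f0000101b000010180000100f0000100e0000100b00001009000010060000100100000fff00000ffd00000ffc00000ff600000ff500000ff300000ff000000fec00000fe800000fe200000fdf00000fdc00000fda00000fd500000fcf00000fc900000fc800000fc500000fc300000fc000000fb600000fb100000fac00000faa00000fa800000fa300000fa000000f9e00000f9d00000f9800000f9600000f9300000f9200000f8f00000f8800000f8700000f8400000f8200000f7f00000f7e00000f7d00000f7b00000f6f00000f6400000f5b00000f5a00000f5800000f5200000f5100000f5000000f4e00000f4800000f4200000f3f00000f3d00000f3900000f3700000f3500000f3200000f3000000f2f00000f2600000f2500000f2100000f1c00000f1600000f1400000f1100000f1000000f0f00000f0d00000f0600000f0500000f0200000f0100000f0000000efe00000ef400000eef00000eec00000ee700000ee400000ee300000ede00000edd00000ed800000ed500000ed400000ece00000ec400000ec200000ec100000ebb00000eb500000eb000000eab00000ea900000ea700000ea400000ea200000e9d00000e9a00000e9700000e9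300000e8b00000e8100000e8000000e7c00000e7a00000e7900000e7700000e7600000e7400000e6d00000e6800000e6500000e6200000e6100000e5e00000e5800000e5600000e5400000e4e00000e4d00000e4a00000e4900000e4500000e4300000e3e00000e3d00000e3b00000e3800000e3600000e3400000e3100000e2e00000e2b00000e2700000e2200000e1f00000e1700000e1500000e1300000e1200000e0c00000e0b00000e0900000e0600000e0400000e0200000dff00000dfd00000dfa00000df700000df400000df000000deb00000de900000dd700000dd600000dd400000dc600000dc500000dc300000dc000000dbe00000dbc00000db300000db100000dae00000dad00000da700000da300000da200000d9900000d9500000d9100000d8e00000d8600000d8500000d7700000d7600000d7500000d7300000d7200000d6c00000d6b00000d6900000d6600000d6400000d6200000d5e00000d5c00000d5800000d5000000d4f00000d4d00000d4000000d3600000d3200000d2600000d1e00000d1700000d1400000d1300000d1100000d0f00000d0e00000d0200000cf400000cf300000cf100000cee00000cec00000cea00000ce100000cdf00000cdc000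00cdb00000cd600000cd500000cd100000ccd00000cc900000cc700000cbc00000cb400000cb300000cb000000caf00000ca800000ca300000c9600000c9400000c9100000c9000000c8f00000c8d00000c8c00000c7c00000c7b00000c7900000c7600000c7400000c7200000c6e00000c6a00000c6400000c5300000c4e00000c4c00000c4b00000c4200000c3f00000c3a00000c3800000c3600000c3100000c2e00000c2b00000c2900000c2600000c2400000c2300000c1d00000c1c00000c1900000c1700000c1400000c1300000c0f00000c0e00000c0d00000c0100000bff00000bfe00000bf100000bf000000bef00000bec00000beb00000bea00000be800000be700000be300000be100000bdb00000bd700000bd600000bd400000bd300000bcf00000bce00000bcc00000bc900000bc800000bc400000bc300000bc200000bc000000bbe00000bba00000bb800000bb600000bb300000bb100000bb000000ba600000b9c00000b9a00000b9600000b9300000b9000000b8800000b8300000b7d00000b7c00000b7900000b7800000b6e00000b6b00000b6900000b6800000b6400000b6100000b5a00000b5700000b4a00000b4800000b4600000b43)) (.leaf (nat_lit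 0x169500001628000014fc0000141b000013430000122c000011e6000011aa000011970000115f0000113700001128000010e0000010dc000010d6000010c90000100500000fbf00000f6000000f4700000f4300000e8d00000e8900000e8300000dc700000da400000cf500000cd700000b0000000ae200002aab00002aa6000029fe000029ef000028b7000028a8000028a300002837000028350000282b000028260000278b000027810000269f000026910000266e0000266b0000266600002655000026490000262d000025f9000025d3000025c4000025bf000025ba000025a100002594000024ce000024b8000024a4000024980000243e00002423000023e4000023e1000023dd000023cd000023cb000023c9000023a70000239d00002399000023920000238f000023820000237d0000236a0000236700002362000023580000234600002325000023200000231c0000230a00002300000022fe000022f3000022f2000022ea000022d8000022d6000022d1000022cc000022c0000022ac000022a4000022a1000022850000227700002259000022400000222b0000222a00002213000021e3000021dc000021da000021ae000021a0000021870000217700002175000021690000213c0000213700002105000020f1000020d7000020d1000020c8000020b5000020b00000209b000020920000208f0000208d0000208b000020870000208300002079000020640000204e0000204a0000204500002041000020350000202d0000201e0000201d0000201800002013000020120000201000001fd200001fc000001fb500001fb300001fac00001f8d00001f8c00001f7500001f5900001f5500001f4700001f3800001f1900001f1000001f0b00001f0600001f0400001efc00001efb00001ef700001ef200001ef000001edc00001ecb)))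
/-- the parents -/
noncomputable def tQ : TT := .node (nat_lit 1024) (.leaf (nat_lit 0xb4200000b3e00000b3c00000b3b00000b3900000b3800000b3600000b3100000b2f00000b2d00000b2800000b2700000b2500000b2300000b2200000b2000000b1e00000b1b00000b1900000b1800000b1600000b1500000b0f00000b0e00000b0b00000b0900000b0100000aff00000afd00000afa00000af800000af700000af100000af000000ae800000ae700000ae300000ae100000ade00000ad900000ad800000ad200000ac100000ac000000aba00000ab700000ab600000ab400000aaa00000aa600000aa200000aa000000a9e00000a9d00000a9700000a9600000a9300000a9200000a9100000a8f00000a8c00000a8a00000a8800000a7a00000a7900000a7600000a6f00000a6e00000a6700000a5f00000a5d00000a5b00000a5500000a5300000a5000000a4600000a4400000a4300000a3e00000a3a00000a3700000a3500000a3300000a3000000a2f00000a2900000a2800000a2500000a2300000a2000000a1f00000a1b00000a1a00000a1900000a1700000a1400000a1200000a1000000a0d00000a0b00000a0a00000a0200000a00000009fd0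00009fc000009f8000009f7000009f6000009f3000009f2000009f1000009ee000009ed000009ea000009e8000009e4000009e2000009df000009de000009dd000009db000009d8000009d6000009d5000009d0000009cb000009c5000009c4000009c1000009bf000009ba000009ad000009a3000009a10000099c000009970000099500000993000009900000098e0000098d0000098a00000988000009860000097f0000097e0000097c00000977000009720000096f0000096b00000968000009660000096500000963000009620000095e0000095d0000095b000009570000095600000953000009510000094e0000094d0000094a0000094900000945000009420000093e0000093b0000093a000009340000093300000931000009300000092e000009290000092600000925000009220000091f0000091b00000918000009160000091500000911000009100000090c0000090b000009080000090400000902000008ff000008fe000008f8000008f7000008f4000008f2000008ef000008ee000008ea000008e9000008e8000008e6000008e3000008e1000008df000008de000008dc000008db000008d5000008d4000008cc000008cb000008c7000008c6000008c500000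8c2000008c1000008c0000008bc000008b7000008b3000008b1000008ad000008ac000008a70000089f0000089e0000089b0000089a0000089400000893000008900000088f0000088e0000088c0000088900000887000008850000087f0000087d0000087c0000087800000877000008750000086b000008670000085d0000085c0000085800000855000008540000084f0000084b0000084900000845000008430000083f0000083b0000083900000837000008300000082f0000082d0000082800000823000008200000081e0000081c000008190000081700000816000008130000080f0000080d0000080c00000808000008070000080400000802000007ff000007fe000007f9000007f8000007f5000007f1000007ef000007ec000007e9000007e7000007e5000007e1000007dd000007db000007da000007d7000007d5000007d0000007cd000007cc000007c9000007c6000007c4000007c2000007c1000007be000007b9000007b7000007b3000007af000007ad000007aa000007a8000007a4000007a00000079e0000079c000007950000079400000791000007900000078f0000078d0000078800000783000007820000077e0000077d0000077b00000776000007740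00007710000076f0000076d0000076a000007680000076700000763000007600000075d00000759000007560000075300000751000007500000074c0000074b0000074900000744000007410000073f0000073c0000073b0000073500000732000007310000072d0000072c0000072900000722000007210000071e0000071d0000071c0000071a00000715000007100000070f0000070b0000070a0000070800000703000006fe000006fc000006fa000006f7000006f5000006f0000006ed000006ea000006e8000006e6000006e3000006e1000006e0000006de000006dd000006d9000006d8000006d6000006d2000006ce000006cc000006c9000006c8000006c5000006c2000006c0000006be000006ba000006b8000006b5000006b4000006b3000006b1000006aa000006a9000006a6000006a00000069f0000069d00000698000006910000068d0000068700000683000006810000067d000006770000067500000674000006700000066f0000066d0000066b000006680000066600000664000006610000065f0000065e0000065c000006590000065600000652000006500000064f0000064c00000648000006460000064300000641000006400000063c0000063b00000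63600000633000006320000062d0000062c00000629000006240000061d0000061a00000619000006150000061400000613000006110000060b0000060900000606000006050000060400000602000005fd000005f5000005f3000005f2000005ee000005ed000005e6000005e4000005e2000005df000005dd000005dc000005da000005d7000005d4000005d0000005ce000005cd000005cb000005ca000005c6000005c4000005c1000005bf000005be000005ba000005b9000005b6000005b1000005b0000005ad000005aa000005a8000005a7000005a2000005a10000059d0000059c0000059b0000059900000592000005910000058e00000589000005880000058700000585000005800000057b0000057a0000057400000571000005700000056e0000056c0000056a0000056600000562000005600000055f0000055d0000055a00000558000005560000055300000551000005500000054d00000549000005460000054400000542000005410000053d0000053c0000053900000537000005330000052f0000052e0000052d00000528000005250000051e000005190000051600000515000005100000050f0000050b0000050a0000050700000502000004fd000004fc0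00004f8000004f7000004f3000004f2000004f1000004ef000004e8000004e4000004e2000004df000004de000004dd000004db000004d6000004d1000004d0000004ca000004c7000004c6000004c4000004c2000004c0000004bc000004b8000004b6000004b5000004b3000004b0000004ac000004a9000004a7000004a6000004a4000004a30000049f0000049d0000049a000004990000049300000492000004900000048d0000048b00000489000004880000048400000483000004800000047e0000047b000004760000047500000474000004710000046f0000046a00000466000004600000045b000004580000045700000453000004510000044d0000044900000447000004430000043f0000043e00000439000004380000043600000433000004300000042c0000042a0000042900000424000004200000041d0000041b0000041a000004170000041300000411000004100000040d00000401000003fd000003f9000003f8000003f7000003f3000003f2000003f0000003ee000003ea000003e6000003e4000003e3000003de000003da000003d7000003d5000003d4000003d1000003cd000003cb000003ca000003c7000003bb000003b7000003b3000003b200000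3b1000003ae000003a9000003a3000003a00000039d0000039a000003980000039600000394000003930000038e00000389000003860000038500000384000003820000037f0000037b0000037600000375000003720000036c00000369000003680000036600000361000003590000035400000353000003520000034f0000034e0000034d0000034a0000034800000346000003450000033f0000033c0000033b000003390000033700000334000003300000032b0000032a00000327000003210000031e0000031d0000031b000003160000030e00000309000003080000030700000303000002fe000002f8000002f6000002f4000002f0000002ef000002ec000002ea000002e9000002e4000002e2000002e0000002da000002d8000002d7000002d1000002d0000002cd000002cb000002c7000002c3000002b9000002b8000002b7000002b5000002ae000002a9000002a5000002a4000002a3000002a10000029b0000029a00000299000002970000028f0000028d0000028c00000287000002860000028300000282000002800000027b0000027900000277000002710000026f0000026e000002680000026700000264000002620000025d00000258000002560000024f0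000024b00000241000002400000023f0000023d00000238000002320000022d000002280000022700000226000002240000021e0000021d0000021c0000021a0000021500000213000002100000020f0000020900000208000002050000020300000200000001ff000001fb000001fa000001f9000001f7000001f2000001ef000001ed000001ec000001e6000001e5000001e2000001e0000001dd000001dc000001d8000001d7000001d6000001d4000001cd000001cc000001c5000001c3000001c0000001bf000001ba000001b9000001b6000001af000001ae000001ab000001a9000001a6000001a5000001a1000001a00000019f0000019d0000019800000193000001900000018e0000018c000001870000018600000183000001810000017e0000017d000001790000017800000177000001750000016f0000016d000001660000016300000161000001600000015a00000159000001560000015400000151000001500000014c0000014b0000014a000001480000014600000142000001400000013e0000013b000001390000013800000134000001310000012f0000012d000001280000012700000124000001220000011f0000011e0000011a000001190000011500000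1100000010f0000010e0000010c0000010b00000109000001050000010400000102000000ff000000fd000000fb000000f7000000f6000000f2000000f1000000f0000000ee000000ec000000e8000000e6000000e3000000e2000000e1000000df000000dc000000da000000d9000000d4000000d3000000d0000000cf000000ca000000c9000000c8000000c6000000c5000000c3000000bf000000be000000bb000000ba000000b9000000b7000000b4000000b2000000b0000000ac000000aa000000a7000000a6000000a5000000a3000000a20000009e0000009d0000009b00000097000000960000009300000092000000910000008f0000008c0000008a000000880000008500000083000000820000007d0000007b0000007a0000007400000071000000700000006e000000690000006400000062000000600000005c000000580000005600000055000000510000004e0000004b00000047000000430000003f0000003d0000003c000000390000003500000032000000300000002e0000002b00000029000000280000002600000025000000210000001f0000001e0000001c0000001b000000190000001500000014000000110000000f0000000c0000000b0000000700000006000000050000000300000000))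 (.node (nat_lit 2048) (.leaf (nat_lit 0x1eca00001ec800001ec600001e8300001e7100001e6f00001e6c00001e6900001e4200001e4100001e2100001df900001df400001def00001de700001db700001db300001da600001d9800001d9700001d9200001d9000001d8e00001d8800001d7400001d6c00001d6a00001d5d00001d5800001d5400001d5100001d4f00001d4d00001d4a00001d4800001d3b00001d3100001d1d00001d1c00001d1200001d1000001cf200001cf000001cee00001ce600001ce100001cdc00001cd900001cd700001cd600001ccb00001cb900001ca200001c7c00001c7300001c7200001c7000001c4800001c3400001c2a00001c1800001c1700001c1600001c0500001c0000001bfd00001bf800001bf500001bf400001bef00001be900001bd200001bcb00001bc800001bc600001bc200001bb700001bb400001bae00001ba500001b8700001b7d00001b7300001b7200001b6c00001b6700001b6200001b5f00001b5e00001b5d00001b5b00001b5800001b5300001b4b00001b4900001b4100001b3800001b3600001b3500001b3200001b2d00001b2800001b1d00001b1700001b0f00001b0b00001b0300001af600001af100001af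000001aef00001aec00001aea00001ae700001ae200001add00001adb00001ad600001ad100001acc00001aae00001aa000001a9f00001a9b00001a9600001a9300001a8900001a8700001a8600001a8400001a8300001a6900001a5700001a5600001a5200001a4f00001a4800001a2500001a1d00001a1b00001a1a00001a1600001a1400001a1300001a1100001a0e00001a0c00001a0a000019f1000019e9000019e7000019e6000019bf000019a30000198c00001979000019690000195f0000195c00001955000019530000194d0000194c0000194b00001949000019370000193300001930000019240000191500001914000019120000190f0000190b00001906000018f8000018f6000018f3000018ee000018e9000018e5000018e0000018de000018dd000018db000018d3000018d0000018cf000018c5000018c2000018bf000018b0000018ac000018a80000189e0000189d00001899000018920000188d0000187e0000187a000018760000186b000018670000185c0000184e000018480000183e00001839000018340000182f0000182e0000182600001824000018200000181f0000181700001816000018110000180d0000180b000018080000180700001806000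0180400001801000017fc000017f7000017f2000017ee000017e9000017e8000017e6000017df000017dc000017db000017d9000017d4000017cb000017ca000017c6000017c1000017bc000017b6000017b3000017b2000017ae000017ad000017ac000017aa000017a8000017a20000179f0000179e0000179800001796000017950000178f0000178e0000178c0000178900001785000017820000177b0000177600001771000017700000176b00001766000017610000175e0000175c0000175700001755000017540000174d0000174a00001749000017430000172f0000172d000017260000172300001716000017120000170f000017070000170300001700000016f9000016e0000016d2000016c3000016c1000016b7000016ad000016aa000016a8000016a6000016a3000016a1000016a0000016990000169400001691000016900000168d0000168700001677000016760000166e0000166d0000166800001665000016640000165f0000165d000016590000164a000016420000163f0000163d00001636000016330000162d0000162b000016270000161d0000161700001615000016100000160900001600000015ff000015fc000015f5000015f2000015ea000015d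1000015c9000015c4000015bf000015be000015ba000015b3000015ae000015aa000015a9000015a6000015a4000015a00000159f0000159d0000158c0000158b000015880000157e0000157d00001579000015770000156f0000156d0000156a000015690000155e000015550000154a00001548000015460000153e0000153900001533000015310000152d0000152c000015240000151e0000151d0000151800001516000015140000150e0000150900001500000014ff000014fa000014f7000014f6000014f2000014f0000014ee000014e7000014e6000014e4000014df000014de000014d7000014d5000014d3000014cf000014cb000014c9000014c5000014c1000014be000014bb000014b10000149d0000149c000014910000148d000014850000147e0000147d00001476000014710000146c00001464000014610000145d000014510000144e0000144b000014490000144700001442000014410000143c0000143a000014390000143300001432000014300000142d0000142b000014290000142300001419000014160000141500001412000014110000140b000014080000140700001402000013fe000013fc000013f7000013f1000013e3000013df000013db000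013da000013d4000013d1000013d0000013c9000013c7000013c5000013c0000013bd000013ba000013b6000013b2000013b1000013ae000013ad000013a6000013a10000139f0000139d00001392000013900000138b0000138900001386000013800000137a0000137900001376000013670000135e0000135b00001359000013540000134e00001348000013470000134400001335000013300000132b0000132a00001327000013210000131a00001318000013130000130e0000130200001301000012fd000012f8000012f7000012ed000012da000012d6000012d5000012d1000012ca000012c8000012c5000012c1000012bd000012bb000012b7000012b6000012b3000012b1000012a80000129b0000129a00001298000012960000128f0000128a000012860000128500001281000012800000127f0000127d00001276000012750000127200001271000012670000125c00001255000012520000124e0000124b000012450000123c000012390000123500001234000012310000122700001225000012220000121c0000121800001212000012110000120f0000120c0000120a00001208000012050000120200001200000011f9000011f6000011ef000011ee000011e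b000011e9000011e5000011e0000011d6000011d1000011cd000011cb000011c7000011c4000011b9000011b2000011a5000011a3000011a10000119b0000119a00001199000011900000118f0000118d000011880000118500001183000011810000117c0000117b0000117800001177000011740000116f0000116d0000116a000011650000115e0000115500001151000011500000114a00001149000011470000114400001142000011400000113a000011360000112b000011270000111e0000111c000011170000111500001114000011100000110f000011080000110300001101000010ff000010fb000010f4000010f1000010ed000010ea000010e7000010d4000010d3000010cd000010ca000010c7000010c4000010c3000010c0000010b9000010b8000010b6000010b1000010b0000010ab000010a7000010a5000010a20000109f0000109b0000109700001093000010900000108d000010890000107f0000107c00001079000010770000107500001074000010700000106f00001069000010680000106600001063000010610000105f0000105c000010590000105500001052000010480000104600001040000010380000102f0000102a0000102800001025000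01023000010220000101f0000101b000010180000100f0000100e0000100b00001009000010060000100100000fff00000ffd00000ffc00000ff600000ff500000ff300000ff000000fec00000fe800000fe200000fdf00000fdc00000fda00000fd500000fcf00000fc900000fc800000fc500000fc300000fc000000fb600000fb100000fac00000faa00000fa800000fa300000fa000000f9e00000f9d00000f9800000f9600000f9300000f9200000f8f00000f8800000f8700000f8400000f8200000f7f00000f7e00000f7d00000f7b00000f6f00000f6400000f5b00000f5a00000f5800000f5200000f5100000f5000000f4e00000f4800000f4200000f3f00000f3d00000f3900000f3700000f3500000f3200000f3000000f2f00000f2600000f2500000f2100000f1c00000f1600000f1400000f1100000f1000000f0f00000f0d00000f0600000f0500000f0200000f0100000f0000000efe00000ef400000eef00000eec00000ee700000ee400000ee300000ede00000edd00000ed800000ed500000ed400000ece00000ec400000ec200000ec100000ebb00000eb500000eb000000eab00000ea900000ea700000ea400000ea200000e9d00000e9a00000e9700000e9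300000e8b00000e8100000e8000000e7c00000e7a00000e7900000e7700000e7600000e7400000e6d00000e6800000e6500000e6200000e6100000e5e00000e5800000e5600000e5400000e4e00000e4d00000e4a00000e4900000e4500000e4300000e3e00000e3d00000e3b00000e3800000e3600000e3400000e3100000e2e00000e2b00000e2700000e2200000e1f00000e1700000e1500000e1300000e1200000e0c00000e0b00000e0900000e0600000e0400000e0200000dff00000dfd00000dfa00000df700000df400000df000000deb00000de900000dd700000dd600000dd400000dc600000dc500000dc300000dc000000dbe00000dbc00000db300000db100000dae00000dad00000da700000da300000da200000d9900000d9500000d9100000d8e00000d8600000d8500000d7700000d7600000d7500000d7300000d7200000d6c00000d6b00000d6900000d6600000d6400000d6200000d5e00000d5c00000d5800000d5000000d4f00000d4d00000d4000000d3600000d3200000d2600000d1e00000d1700000d1400000d1300000d1100000d0f00000d0e00000d0200000cf400000cf300000cf100000cee00000cec00000cea00000ce100000cdf00000cdc000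00cdb00000cd600000cd500000cd100000ccd00000cc900000cc700000cbc00000cb400000cb300000cb000000caf00000ca800000ca300000c9600000c9400000c9100000c9000000c8f00000c8d00000c8c00000c7c00000c7b00000c7900000c7600000c7400000c7200000c6e00000c6a00000c6400000c5300000c4e00000c4c00000c4b00000c4200000c3f00000c3a00000c3800000c3600000c3100000c2e00000c2b00000c2900000c2600000c2400000c2300000c1d00000c1c00000c1900000c1700000c1400000c1300000c0f00000c0e00000c0d00000c0100000bff00000bfe00000bf100000bf000000bef00000bec00000beb00000bea00000be800000be700000be300000be100000bdb00000bd700000bd600000bd400000bd300000bcf00000bce00000bcc00000bc900000bc800000bc400000bc300000bc200000bc000000bbe00000bba00000bb800000bb600000bb300000bb100000bb000000ba600000b9c00000b9a00000b9600000b9300000b9000000b8800000b8300000b7d00000b7c00000b7900000b7800000b6e00000b6b00000b6900000b6800000b6400000b6100000b5a00000b5700000b4a00000b4800000b4600000b43)) (.leaf (nat_lit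 0x2aab00002aa6000029fe000029ef000028b7000028a8000028a300002837000028350000282b000028260000278b000027810000269f000026910000266e0000266b0000266600002655000026490000262d000025f9000025d3000025c4000025bf000025ba000025a100002594000024ce000024b8000024a4000024980000243e00002423000023e4000023e1000023dd000023cd000023cb000023c9000023a70000239d00002399000023920000238f000023820000237d0000236a0000236700002362000023580000234600002325000023200000231c0000230a00002300000022fe000022f3000022f2000022ea000022d8000022d6000022d1000022cc000022c0000022ac000022a4000022a1000022850000227700002259000022400000222b0000222a00002213000021e3000021dc000021da000021ae000021a0000021870000217700002175000021690000213c0000213700002105000020f1000020d7000020d1000020c8000020b5000020b00000209b000020920000208f0000208d0000208b000020870000208300002079000020640000204e0000204a0000204500002041000020350000202d0000201e0000201d0000201800002013000020120000201000001fd200001fc000001fb500001fb300001fac00001f8d00001f8c00001f7500001f5900001f5500001f4700001f3800001f1900001f1000001f0b00001f0600001f0400001efc00001efb00001ef700001ef200001ef000001edc00001ecb)))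
/-- the orbit tables -/
noncomputable def tO : TT := .leaf (nat_lit 0x0)
/-- the rule table -/
noncomputable def rT : RT := .node (nat_lit 2412) (.node (nat_lit 1206) (.node (nat_lit 603) (.node (nat_lit 301) (.node (nat_lit 150) (.node (nat_lit 75) (.node (nat_lit 37) (.node (nat_lit 18) (.node (nat_lit 9) (.node (nat_lit 4) (.node (nat_lit 2) (.node (nat_lit 1) (.leaf (nat_lit 0) (nat_lit 1) [nat_lit 0, nat_lit 1, nat_lit 0, nat_lit 1, nat_lit 0]) (.leaf (nat_lit 1) (nat_lit 0) [nat_lit 1, nat_lit 0, nat_lit 1, nat_lit 0, nat_lit 1])) (.node (nat_lit 3) (.leaf (nat_lit 0) (nat_lit 1) [nat_lit 0, nat_lit 1, nat_lit 0, nat_lit 1, nat_lit 0]) (.leaf (nat_lit 1) (nat_lit 0) [nat_lit 1, nat_lit 0, nat_lit 1, nat_lit 0, nat_lit 1]))) (.node (nat_lit 6) (.node (nat_lit 5) (.leaf (nat_lit 0) (nat_lit 1) [nat_lit 0, nat_lit 1, nat_lit 0, nat_lit 1, nat_lit 0]) (.leaf (nat_lit 1) (nat_lit 0) [nat_lit 1, nat_lit 0, nat_lit 1, nat_lit 0, nat_lit 1])) (.node (nat_lit 7) (.leaf (nat_lit 1) (nat_lit 0) [nat_lit 1, nat_lit 0, nat_lit 1, nat_lit 0, nat_lit 1]) (.node (nat_lit 8) (.leaf (nat_lit 0) (nat_lit 1) [nat_lit 0, nat_lit 1, nat_lit 0, nat_lit 1, nat_lit 0]) (.leaf (nat_lit 1) (nat_lit 0) [nat_lit 1, nat_lit 0, nat_lit 1, nat_lit 0, nat_lit 1]))))) (.node (nat_lit 13) (.node (nat_lit 11) (.node (nat_lit 10) (.leaf (nat_lit 0) (nat_lit 1) [nat_lit 0, nat_lit 1, nat_lit 0, nat_lit 1, nat_lit 0]) (.leaf (nat_lit 1) (nat_lit 0) [nat_lit 1, nat_lit 0, nat_lit 1, nat_lit 0, nat_lit 1])) (.node (nat_lit 12) (.leaf (nat_lit 0) (nat_lit 1) [nat_lit 0, nat_lit 1, nat_lit 0, nat_lit 1, nat_lit 0]) (.leaf (nat_lit 12) (nat_lit 2) [nat_lit 0, nat_lit 2, nat_lit 0, nat_lit 2, nat_lit 0]))) (.node (nat_lit 15) (.node (nat_lit 14) (.leaf (nat_lit 13) (nat_lit 0) [nat_lit 2, nat_lit 0, nat_lit 2, nat_lit 0, nat_lit 2]) (.leaf (nat_lit 12) (nat_lit 2) [nat_lit 0, nat_lit 2, nat_lit 0, nat_lit 2, nat_lit 0])) (.node (nat_lit 16) (.leaf (nat_lit 13) (nat_lit 0) [nat_lit 2, nat_lit 0, nat_lit 2, nat_lit 0, nat_lit 2]) (.node (nat_lit 17) (.leaf (nat_lit 12) (nat_lit 2) [nat_lit 0, nat_lit 2, nat_lit 0, nat_lit 2, nat_lit 0]) (.leaf (nat_lit 13) (nat_lit 0) [nat_lit 2, nat_lit 0, nat_lit 2, nat_lit 0, nat_lit 2])))))) (.node (nat_lit 27) (.node (nat_lit 22) (.node (nat_lit 20) (.node (nat_lit 19) (.leaf (nat_lit 13) (nat_lit 0) [nat_lit 2, nat_lit 0, nat_lit 2, nat_lit 0, nat_lit 2]) (.leaf (nat_lit 12) (nat_lit 2) [nat_lit 0, nat_lit 2, nat_lit 0, nat_lit 2, nat_lit 0])) (.node (nat_lit 21) (.leaf (nat_lit 13) (nat_lit 0) [nat_lit 2, nat_lit 0, nat_lit 2, nat_lit 0, nat_lit 2]) (.leaf (nat_lit 12) (nat_lit 2) [nat_lit 0, nat_lit 2, nat_lit 0, nat_lit 2, nat_lit 0]))) (.node (nat_lit 24) (.node (nat_lit 23) (.leaf (nat_lit 13) (nat_lit 0) [nat_lit 2, nat_lit 0, nat_lit 2, nat_lit 0, nat_lit 2]) (.leaf (nat_lit 12) (nat_lit 2) [nat_lit 0, nat_lit 2, nat_lit 0, nat_lit 2, nat_lit 0])) (.node (nat_lit 25) (.leaf (nat_lit 24) (nat_lit 3) [nat_lit 0, nat_lit 3, nat_lit 0, nat_lit 3, nat_lit 0]) (.node (nat_lit 26) (.leaf (nat_lit 25) (nat_lit 0) [nat_lit 3, nat_lit 0, nat_lit 3, nat_lit 0, nat_lit 3]) (.leaf (nat_lit 24) (nat_lit 3) [nat_lit 0, nat_lit 3, nat_lit 0, nat_lit 3, nat_lit 0]))))) (.node (nat_lit 32) (.node (nat_lit 29) (.node (nat_lit 28) (.leaf (nat_lit 25) (nat_lit 0) [nat_lit 3, nat_lit 0, nat_lit 3, nat_lit 0, nat_lit 3]) (.leaf (nat_lit 24) (nat_lit 3) [nat_lit 0, nat_lit 3, nat_lit 0, nat_lit 3, nat_lit 0])) (.node (nat_lit 30) (.leaf (nat_lit 25) (nat_lit 0) [nat_lit 3, nat_lit 0, nat_lit 3, nat_lit 0, nat_lit 3]) (.node (nat_lit 31) (.leaf (nat_lit 25) (nat_lit 0) [nat_lit 3, nat_lit 0, nat_lit 3, nat_lit 0, nat_lit 3]) (.leaf (nat_lit 24) (nat_lit 3) [nat_lit 0, nat_lit 3, nat_lit 0, nat_lit 3, nat_lit 0])))) (.node (nat_lit 34) (.node (nat_lit 33) (.leaf (nat_lit 25) (nat_lit 0) [nat_lit 3, nat_lit 0, nat_lit 3, nat_lit 0, nat_lit 3]) (.leaf (nat_lit 24) (nat_lit 3) [nat_lit 0, nat_lit 3, nat_lit 0, nat_lit 3, nat_lit 0])) (.node (nat_lit 35) (.leaf (nat_lit 25) (nat_lit 0) [nat_lit 3, nat_lit 0, nat_lit 3, nat_lit 0, nat_lit 3]) (.node (nat_lit 36) (.leaf (nat_lit 24) (nat_lit 3) [nat_lit 0, nat_lit 3, nat_lit 0, nat_lit 3, nat_lit 0]) (.leaf (nat_lit 36) (nat_lit 2) [nat_lit 1, nat_lit 2, nat_lit 1, nat_lit 2, nat_lit 1]))))))) (.node (nat_lit 56) (.node (nat_lit 46) (.node (nat_lit 41) (.node (nat_lit 39) (.node (nat_lit 38) (.leaf (nat_lit 37) (nat_lit 1) [nat_lit 2, nat_lit 1, nat_lit 2, nat_lit 1, nat_lit 2]) (.leaf (nat_lit 36) (nat_lit 2) [nat_lit 1, nat_lit 2, nat_lit 1, nat_lit 2, nat_lit 1])) (.node (nat_lit 40) (.leaf (nat_lit 37) (nat_lit 1) [nat_lit 2, nat_lit 1, nat_lit 2, nat_lit 1, nat_lit 2]) (.leaf (nat_lit 36) (nat_lit 2) [nat_lit 1, nat_lit 2, nat_lit 1, nat_lit 2, nat_lit 1]))) (.node (nat_lit 43) (.node (nat_lit 42) (.leaf (nat_lit 37) (nat_lit 1) [nat_lit 2, nat_lit 1, nat_lit 2, nat_lit 1, nat_lit 2]) (.leaf (nat_lit 37) (nat_lit 1) [nat_lit 2, nat_lit 1, nat_lit 2, nat_lit 1, nat_lit 2])) (.node (nat_lit 44) (.leaf (nat_lit 36) (nat_lit 2) [nat_lit 1, nat_lit 2, nat_lit 1, nat_lit 2, nat_lit 1]) (.node (nat_lit 45) (.leaf (nat_lit 37) (nat_lit 1) [nat_lit 2, nat_lit 1, nat_lit 2, nat_lit 1, nat_lit 2]) (.leaf (nat_lit 36) (nat_lit 2) [nat_lit 1, nat_lit 2, nat_lit 1, nat_lit 2, nat_lit 1]))))) (.node (nat_lit 51) (.node (nat_lit 48) (.node (nat_lit 47) (.leaf (nat_lit 37) (nat_lit 1) [nat_lit 2, nat_lit 1, nat_lit 2, nat_lit 1, nat_lit 2]) (.leaf (nat_lit 36) (nat_lit 2) [nat_lit 1, nat_lit 2, nat_lit 1, nat_lit 2, nat_lit 1])) (.node (nat_lit 49) (.leaf (nat_lit 48) (nat_lit 3) [nat_lit 1, nat_lit 3, nat_lit 1, nat_lit 3, nat_lit 1]) (.node (nat_lit 50) (.leaf (nat_lit 49) (nat_lit 1) [nat_lit 3, nat_lit 1, nat_lit 3, nat_lit 1, nat_lit 3]) (.leaf (nat_lit 48) (nat_lit 3) [nat_lit 1, nat_lit 3, nat_lit 1, nat_lit 3, nat_lit 1])))) (.node (nat_lit 53) (.node (nat_lit 52) (.leaf (nat_lit 49) (nat_lit 1) [nat_lit 3, nat_lit 1, nat_lit 3, nat_lit 1, nat_lit 3]) (.leaf (nat_lit 48) (nat_lit 3) [nat_lit 1, nat_lit 3, nat_lit 1, nat_lit 3, nat_lit 1])) (.node (nat_lit 54) (.leaf (nat_lit 49) (nat_lit 1) [nat_lit 3, nat_lit 1, nat_lit 3, nat_lit 1, nat_lit 3]) (.node (nat_lit 55) (.leaf (nat_lit 49) (nat_lit 1) [nat_lit 3, nat_lit 1, nat_lit 3, nat_lit 1, nat_lit 3]) (.leaf (nat_lit 48) (nat_lit 3) [nat_lit 1, nat_lit 3, nat_lit 1, nat_lit 3, nat_lit 1])))))) (.node (nat_lit 65) (.node (nat_lit 60) (.node (nat_lit 58) (.node (nat_lit 57) (.leaf (nat_lit 49) (nat_lit 1) [nat_lit 3, nat_lit 1, nat_lit 3, nat_lit 1, nat_lit 3]) (.leaf (nat_lit 48) (nat_lit 3) [nat_lit 1, nat_lit 3, nat_lit 1, nat_lit 3, nat_lit 1])) (.node (nat_lit 59) (.leaf (nat_lit 49) (nat_lit 1) [nat_lit 3, nat_lit 1, nat_lit 3, nat_lit 1, nat_lit 3]) (.leaf (nat_lit 48) (nat_lit 3) [nat_lit 1, nat_lit 3, nat_lit 1, nat_lit 3, nat_lit 1]))) (.node (nat_lit 62) (.node (nat_lit 61) (.leaf (nat_lit 60) (nat_lit 3) [nat_lit 2, nat_lit 3, nat_lit 2, nat_lit 3, nat_lit 2]) (.leaf (nat_lit 61) (nat_lit 2) [nat_lit 3, nat_lit 2, nat_lit 3, nat_lit 2, nat_lit 3])) (.node (nat_lit 63) (.leaf (nat_lit 60) (nat_lit 3) [nat_lit 2, nat_lit 3, nat_lit 2, nat_lit 3, nat_lit 2]) (.node (nat_lit 64) (.leaf (nat_lit 61) (nat_lit 2) [nat_lit 3, nat_lit 2, nat_lit 3, nat_lit 2, nat_lit 3]) (.leaf (nat_lit 60) (nat_lit 3) [nat_lit 2, nat_lit 3, nat_lit 2, nat_lit 3, nat_lit 2]))))) (.node (nat_lit 70) (.node (nat_lit 67) (.node (nat_lit 66) (.leaf (nat_lit 61) (nat_lit 2) [nat_lit 3, nat_lit 2, nat_lit 3, nat_lit 2, nat_lit 3]) (.leaf (nat_lit 61) (nat_lit 2) [nat_lit 3, nat_lit 2, nat_lit 3, nat_lit 2, nat_lit 3])) (.node (nat_lit 68) (.leaf (nat_lit 60) (nat_lit 3) [nat_lit 2, nat_lit 3, nat_lit 2, nat_lit 3, nat_lit 2]) (.node (nat_lit 69) (.leaf (nat_lit 61) (nat_lit 2) [nat_lit 3, nat_lit 2, nat_lit 3, nat_lit 2, nat_lit 3]) (.leaf (nat_lit 60) (nat_lit 3) [nat_lit 2, nat_lit 3, nat_lit 2, nat_lit 3, nat_lit 2])))) (.node (nat_lit 72) (.node (nat_lit 71) (.leaf (nat_lit 61) (nat_lit 2) [nat_lit 3, nat_lit 2, nat_lit 3, nat_lit 2, nat_lit 3]) (.leaf (nat_lit 60) (nat_lit 3) [nat_lit 2, nat_lit 3, nat_lit 2, nat_lit 3, nat_lit 2])) (.node (nat_lit 73) (.leaf (nat_lit 72) (nat_lit 0) [nat_lit 1, nat_lit 0, nat_lit 1, nat_lit 0, nat_lit 1, nat_lit 0, nat_lit 1, nat_lit 0, nat_lit 1, nat_lit 0, nat_lit 1]) (.node (nat_lit 74) (.leaf (nat_lit 73) (nat_lit 1) [nat_lit 0, nat_lit 1, nat_lit 0, nat_lit 1, nat_lit 0, nat_lit 1, nat_lit 0, nat_lit 1, nat_lit 0, nat_lit 1, nat_lit 0]) (.leaf (nat_lit 72) (nat_lit 0) [nat_lit 1, nat_lit 0, nat_lit 1, nat_lit 0, nat_lit 1, nat_lit 0, nat_lit 1, nat_lit 0, nat_lit 1, nat_lit 0, nat_lit 1])))))))) (.node (nat_lit 112) (.node (nat_lit 93) (.node (nat_lit 84) (.node (nat_lit 79) (.node (nat_lit 77) (.node (nat_lit 76) (.leaf (nat_lit 73) (nat_lit 1) [nat_lit 0, nat_lit 1, nat_lit 0, nat_lit 1, nat_lit 0, nat_lit 1, nat_lit 0, nat_lit 1, nat_lit 0, nat_lit 1, nat_lit 0]) (.leaf (nat_lit 72) (nat_lit 0) [nat_lit 1, nat_lit 0, nat_lit 1, nat_lit 0, nat_lit 1, nat_lit 0, nat_lit 1, nat_lit 0, nat_lit 1, nat_lit 0, nat_lit 1])) (.node (nat_lit 78) (.leaf (nat_lit 73) (nat_lit 1) [nat_lit 0, nat_lit 1, nat_lit 0, nat_lit 1, nat_lit 0, nat_lit 1, nat_lit 0, nat_lit 1, nat_lit 0, nat_lit 1, nat_lit 0]) (.leaf (nat_lit 72) (nat_lit 0) [nat_lit 1, nat_lit 0, nat_lit 1, nat_lit 0, nat_lit 1, nat_lit 0, nat_lit 1, nat_lit 0, nat_lit 1, nat_lit 0, nat_lit 1]))) (.node (nat_lit 81) (.node (nat_lit 80) (.leaf (nat_lit 73) (nat_lit 1) [nat_lit 0, nat_lit 1, nat_lit 0, nat_lit 1, nat_lit 0, nat_lit 1, nat_lit 0, nat_lit 1, nat_lit 0, nat_lit 1, nat_lit 0]) (.leaf (nat_lit 72) (nat_lit 0) [nat_lit 1, nat_lit 0, nat_lit 1, nat_lit 0, nat_lit 1, nat_lit 0, nat_lit 1, nat_lit 0, nat_lit 1, nat_lit 0, nat_lit 1])) (.node (nat_lit 82) (.leaf (nat_lit 73) (nat_lit 1) [nat_lit 0, nat_lit 1, nat_lit 0, nat_lit 1, nat_lit 0, nat_lit 1, nat_lit 0, nat_lit 1, nat_lit 0, nat_lit 1, nat_lit 0]) (.node (nat_lit 83) (.leaf (nat_lit 72) (nat_lit 0) [nat_lit 1, nat_lit 0, nat_lit 1, nat_lit 0, nat_lit 1, nat_lit 0, nat_lit 1, nat_lit 0, nat_lit 1, nat_lit 0, nat_lit 1]) (.leaf (nat_lit 73) (nat_lit 1) [nat_lit 0, nat_lit 1, nat_lit 0, nat_lit 1, nat_lit 0, nat_lit 1, nat_lit 0, nat_lit 1, nat_lit 0, nat_lit 1, nat_lit 0]))))) (.node (nat_lit 88) (.node (nat_lit 86) (.node (nat_lit 85) (.leaf (nat_lit 73) (nat_lit 1) [nat_lit 0, nat_lit 1, nat_lit 0, nat_lit 1, nat_lit 0, nat_lit 1, nat_lit 0, nat_lit 1, nat_lit 0, nat_lit 1, nat_lit 0]) (.leaf (nat_lit 72) (nat_lit 0) [nat_lit 1, nat_lit 0, nat_lit 1, nat_lit 0, nat_lit 1, nat_lit 0, nat_lit 1, nat_lit 0, nat_lit 1, nat_lit 0, nat_lit 1])) (.node (nat_lit 87) (.leaf (nat_lit 73) (nat_lit 1) [nat_lit 0, nat_lit 1, nat_lit 0, nat_lit 1, nat_lit 0, nat_lit 1, nat_lit 0, nat_lit 1, nat_lit 0, nat_lit 1, nat_lit 0]) (.leaf (nat_lit 72) (nat_lit 0) [nat_lit 1, nat_lit 0, nat_lit 1, nat_lit 0, nat_lit 1, nat_lit 0, nat_lit 1, nat_lit 0, nat_lit 1, nat_lit 0, nat_lit 1]))) (.node (nat_lit 90) (.node (nat_lit 89) (.leaf (nat_lit 73) (nat_lit 1) [nat_lit 0, nat_lit 1, nat_lit 0, nat_lit 1, nat_lit 0, nat_lit 1, nat_lit 0, nat_lit 1, nat_lit 0, nat_lit 1, nat_lit 0]) (.leaf (nat_lit 72) (nat_lit 0) [nat_lit 1, nat_lit 0, nat_lit 1, nat_lit 0, nat_lit 1, nat_lit 0, nat_lit 1, nat_lit 0, nat_lit 1, nat_lit 0, nat_lit 1])) (.node (nat_lit 91) (.leaf (nat_lit 73) (nat_lit 1) [nat_lit 0, nat_lit 1, nat_lit 0, nat_lit 1, nat_lit 0, nat_lit 1, nat_lit 0, nat_lit 1, nat_lit 0, nat_lit 1, nat_lit 0]) (.node (nat_lit 92) (.leaf (nat_lit 72) (nat_lit 0) [nat_lit 1, nat_lit 0, nat_lit 1, nat_lit 0, nat_lit 1, nat_lit 0, nat_lit 1, nat_lit 0, nat_lit 1, nat_lit 0, nat_lit 1]) (.leaf (nat_lit 73) (nat_lit 1) [nat_lit 0, nat_lit 1, nat_lit 0, nat_lit 1, nat_lit 0, nat_lit 1, nat_lit 0, nat_lit 1, nat_lit 0, nat_lit 1, nat_lit 0])))))) (.node (nat_lit 102) (.node (nat_lit 97) (.node (nat_lit 95) (.node (nat_lit 94) (.leaf (nat_lit 72) (nat_lit 0) [nat_lit 1, nat_lit 0, nat_lit 1, nat_lit 0, nat_lit 1, nat_lit 0, nat_lit 1, nat_lit 0, nat_lit 1, nat_lit 0, nat_lit 1]) (.leaf (nat_lit 73) (nat_lit 1) [nat_lit 0, nat_lit 1, nat_lit 0, nat_lit 1, nat_lit 0, nat_lit 1, nat_lit 0, nat_lit 1, nat_lit 0, nat_lit 1, nat_lit 0])) (.node (nat_lit 96) (.leaf (nat_lit 72) (nat_lit 0) [nat_lit 1, nat_lit 0, nat_lit 1, nat_lit 0, nat_lit 1, nat_lit 0, nat_lit 1, nat_lit 0, nat_lit 1, nat_lit 0, nat_lit 1]) (.leaf (nat_lit 96) (nat_lit 0) [nat_lit 1, nat_lit 0, nat_lit 2, nat_lit 0, nat_lit 1, nat_lit 0, nat_lit 2, nat_lit 0, nat_lit 1, nat_lit 0, nat_lit 2]))) (.node (nat_lit 99) (.node (nat_lit 98) (.leaf (nat_lit 97) (nat_lit 2) [nat_lit 0, nat_lit 1, nat_lit 0, nat_lit 2, nat_lit 0, nat_lit 1, nat_lit 0, nat_lit 2, nat_lit 0, nat_lit 1, nat_lit 0]) (.leaf (nat_lit 98) (nat_lit 0) [nat_lit 2, nat_lit 0, nat_lit 1, nat_lit 0, nat_lit 2, nat_lit 0, nat_lit 1, nat_lit 0, nat_lit 2, nat_lit 0, nat_lit 1])) (.node (nat_lit 100) (.leaf (nat_lit 99) (nat_lit 1) [nat_lit 0, nat_lit 2, nat_lit 0, nat_lit 1, nat_lit 0, nat_lit 2, nat_lit 0, nat_lit 1, nat_lit 0, nat_lit 2, nat_lit 0]) (.node (nat_lit 101) (.leaf (nat_lit 96) (nat_lit 0) [nat_lit 1, nat_lit 0, nat_lit 2, nat_lit 0, nat_lit 1, nat_lit 0, nat_lit 2, nat_lit 0, nat_lit 1, nat_lit 0, nat_lit 2]) (.leaf (nat_lit 97) (nat_lit 2) [nat_lit 0, nat_lit 1, nat_lit 0, nat_lit 2, nat_lit 0, nat_lit 1, nat_lit 0, nat_lit 2, nat_lit 0, nat_lit 1, nat_lit 0]))))) (.node (nat_lit 107) (.node (nat_lit 104) (.node (nat_lit 103) (.leaf (nat_lit 98) (nat_lit 0) [nat_lit 2, nat_lit 0, nat_lit 1, nat_lit 0, nat_lit 2, nat_lit 0, nat_lit 1, nat_lit 0, nat_lit 2, nat_lit 0, nat_lit 1]) (.leaf (nat_lit 99) (nat_lit 1) [nat_lit 0, nat_lit 2, nat_lit 0, nat_lit 1, nat_lit 0, nat_lit 2, nat_lit 0, nat_lit 1, nat_lit 0, nat_lit 2, nat_lit 0])) (.node (nat_lit 105) (.leaf (nat_lit 96) (nat_lit 0) [nat_lit 1, nat_lit 0, nat_lit 2, nat_lit 0, nat_lit 1, nat_lit 0, nat_lit 2, nat_lit 0, nat_lit 1, nat_lit 0, nat_lit 2]) (.node (nat_lit 106) (.leaf (nat_lit 97) (nat_lit 2) [nat_lit 0, nat_lit 1, nat_lit 0, nat_lit 2, nat_lit 0, nat_lit 1, nat_lit 0, nat_lit 2, nat_lit 0, nat_lit 1, nat_lit 0]) (.leaf (nat_lit 98) (nat_lit 0) [nat_lit 2, nat_lit 0, nat_lit 1, nat_lit 0, nat_lit 2, nat_lit 0, nat_lit 1, nat_lit 0, nat_lit 2, nat_lit 0, nat_lit 1])))) (.node (nat_lit 109) (.node (nat_lit 108) (.leaf (nat_lit 99) (nat_lit 1) [nat_lit 0, nat_lit 2, nat_lit 0, nat_lit 1, nat_lit 0, nat_lit 2, nat_lit 0, nat_lit 1, nat_lit 0, nat_lit 2, nat_lit 0]) (.leaf (nat_lit 99) (nat_lit 1) [nat_lit 0, nat_lit 2, nat_lit 0, nat_lit 1, nat_lit 0, nat_lit 2, nat_lit 0, nat_lit 1, nat_lit 0, nat_lit 2, nat_lit 0])) (.node (nat_lit 110) (.leaf (nat_lit 96) (nat_lit 0) [nat_lit 1, nat_lit 0, nat_lit 2, nat_lit 0, nat_lit 1, nat_lit 0, nat_lit 2, nat_lit 0, nat_lit 1, nat_lit 0, nat_lit 2]) (.node (nat_lit 111) (.leaf (nat_lit 97) (nat_lit 2) [nat_lit 0, nat_lit 1, nat_lit 0, nat_lit 2, nat_lit 0, nat_lit 1, nat_lit 0, nat_lit 2, nat_lit 0, nat_lit 1, nat_lit 0]) (.leaf (nat_lit 98) (nat_lit 0) [nat_lit 2, nat_lit 0, nat_lit 1, nat_lit 0, nat_lit 2, nat_lit 0, nat_lit 1, nat_lit 0, nat_lit 2, nat_lit 0, nat_lit 1]))))))) (.node (nat_lit 131) (.node (nat_lit 121) (.node (nat_lit 116) (.node (nat_lit 114) (.node (nat_lit 113) (.leaf (nat_lit 99) (nat_lit 1) [nat_lit 0, nat_lit 2, nat_lit 0, nat_lit 1, nat_lit 0, nat_lit 2, nat_lit 0, nat_lit 1, nat_lit 0, nat_lit 2, nat_lit 0]) (.leaf (nat_lit 96) (nat_lit 0) [nat_lit 1, nat_lit 0, nat_lit 2, nat_lit 0, nat_lit 1, nat_lit 0, nat_lit 2, nat_lit 0, nat_lit 1, nat_lit 0, nat_lit 2])) (.node (nat_lit 115) (.leaf (nat_lit 97) (nat_lit 2) [nat_lit 0, nat_lit 1, nat_lit 0, nat_lit 2, nat_lit 0, nat_lit 1, nat_lit 0, nat_lit 2, nat_lit 0, nat_lit 1, nat_lit 0]) (.leaf (nat_lit 98) (nat_lit 0) [nat_lit 2, nat_lit 0, nat_lit 1, nat_lit 0, nat_lit 2, nat_lit 0, nat_lit 1, nat_lit 0, nat_lit 2, nat_lit 0, nat_lit 1]))) (.node (nat_lit 118) (.node (nat_lit 117) (.leaf (nat_lit 99) (nat_lit 1) [nat_lit 0, nat_lit 2, nat_lit 0, nat_lit 1, nat_lit 0, nat_lit 2, nat_lit 0, nat_lit 1, nat_lit 0, nat_lit 2, nat_lit 0]) (.leaf (nat_lit 96) (nat_lit 0) [nat_lit 1, nat_lit 0, nat_lit 2, nat_lit 0, nat_lit 1, nat_lit 0, nat_lit 2, nat_lit 0, nat_lit 1, nat_lit 0, nat_lit 2])) (.node (nat_lit 119) (.leaf (nat_lit 97) (nat_lit 2) [nat_lit 0, nat_lit 1, nat_lit 0, nat_lit 2, nat_lit 0, nat_lit 1, nat_lit 0, nat_lit 2, nat_lit 0, nat_lit 1, nat_lit 0]) (.node (nat_lit 120) (.leaf (nat_lit 98) (nat_lit 0) [nat_lit 2, nat_lit 0, nat_lit 1, nat_lit 0, nat_lit 2, nat_lit 0, nat_lit 1, nat_lit 0, nat_lit 2, nat_lit 0, nat_lit 1]) (.leaf (nat_lit 120) (nat_lit 0) [nat_lit 1, nat_lit 0, nat_lit 3, nat_lit 0, nat_lit 1, nat_lit 0, nat_lit 3, nat_lit 0, nat_lit 1, nat_lit 0, nat_lit 3]))))) (.node (nat_lit 126) (.node (nat_lit 123) (.node (nat_lit 122) (.leaf (nat_lit 121) (nat_lit 3) [nat_lit 0, nat_lit 1, nat_lit 0, nat_lit 3, nat_lit 0, nat_lit 1, nat_lit 0, nat_lit 3, nat_lit 0, nat_lit 1, nat_lit 0]) (.leaf (nat_lit 122) (nat_lit 0) [nat_lit 3, nat_lit 0, nat_lit 1, nat_lit 0, nat_lit 3, nat_lit 0, nat_lit 1, nat_lit 0, nat_lit 3, nat_lit 0, nat_lit 1])) (.node (nat_lit 124) (.leaf (nat_lit 123) (nat_lit 1) [nat_lit 0, nat_lit 3, nat_lit 0, nat_lit 1, nat_lit 0, nat_lit 3, nat_lit 0, nat_lit 1, nat_lit 0, nat_lit 3, nat_lit 0]) (.node (nat_lit 125) (.leaf (nat_lit 120) (nat_lit 0) [nat_lit 1, nat_lit 0, nat_lit 3, nat_lit 0, nat_lit 1, nat_lit 0, nat_lit 3, nat_lit 0, nat_lit 1, nat_lit 0, nat_lit 3]) (.leaf (nat_lit 121) (nat_lit 3) [nat_lit 0, nat_lit 1, nat_lit 0, nat_lit 3, nat_lit 0, nat_lit 1, nat_lit 0, nat_lit 3, nat_lit 0, nat_lit 1, nat_lit 0])))) (.node (nat_lit 128) (.node (nat_lit 127) (.leaf (nat_lit 122) (nat_lit 0) [nat_lit 3, nat_lit 0, nat_lit 1, nat_lit 0, nat_lit 3, nat_lit 0, nat_lit 1, nat_lit 0, nat_lit 3, nat_lit 0, nat_lit 1]) (.leaf (nat_lit 123) (nat_lit 1) [nat_lit 0, nat_lit 3, nat_lit 0, nat_lit 1, nat_lit 0, nat_lit 3, nat_lit 0, nat_lit 1, nat_lit 0, nat_lit 3, nat_lit 0])) (.node (nat_lit 129) (.leaf (nat_lit 120) (nat_lit 0) [nat_lit 1, nat_lit 0, nat_lit 3, nat_lit 0, nat_lit 1, nat_lit 0, nat_lit 3, nat_lit 0, nat_lit 1, nat_lit 0, nat_lit 3]) (.node (nat_lit 130) (.leaf (nat_lit 121) (nat_lit 3) [nat_lit 0, nat_lit 1, nat_lit 0, nat_lit 3, nat_lit 0, nat_lit 1, nat_lit 0, nat_lit 3, nat_lit 0, nat_lit 1, nat_lit 0]) (.leaf (nat_lit 122) (nat_lit 0) [nat_lit 3, nat_lit 0, nat_lit 1, nat_lit 0, nat_lit 3, nat_lit 0, nat_lit 1, nat_lit 0, nat_lit 3, nat_lit 0, nat_lit 1])))))) (.node (nat_lit 140) (.node (nat_lit 135) (.node (nat_lit 133) (.node (nat_lit 132) (.leaf (nat_lit 123) (nat_lit 1) [nat_lit 0, nat_lit 3, nat_lit 0, nat_lit 1, nat_lit 0, nat_lit 3, nat_lit 0, nat_lit 1, nat_lit 0, nat_lit 3, nat_lit 0]) (.leaf (nat_lit 123) (nat_lit 1) [nat_lit 0, nat_lit 3, nat_lit 0, nat_lit 1, nat_lit 0, nat_lit 3, nat_lit 0, nat_lit 1, nat_lit 0, nat_lit 3, nat_lit 0])) (.node (nat_lit 134) (.leaf (nat_lit 120) (nat_lit 0) [nat_lit 1, nat_lit 0, nat_lit 3, nat_lit 0, nat_lit 1, nat_lit 0, nat_lit 3, nat_lit 0, nat_lit 1, nat_lit 0, nat_lit 3]) (.leaf (nat_lit 121) (nat_lit 3) [nat_lit 0, nat_lit 1, nat_lit 0, nat_lit 3, nat_lit 0, nat_lit 1, nat_lit 0, nat_lit 3, nat_lit 0, nat_lit 1, nat_lit 0]))) (.node (nat_lit 137) (.node (nat_lit 136) (.leaf (nat_lit 122) (nat_lit 0) [nat_lit 3, nat_lit 0, nat_lit 1, nat_lit 0, nat_lit 3, nat_lit 0, nat_lit 1, nat_lit 0, nat_lit 3, nat_lit 0, nat_lit 1]) (.leaf (nat_lit 123) (nat_lit 1) [nat_lit 0, nat_lit 3, nat_lit 0, nat_lit 1, nat_lit 0, nat_lit 3, nat_lit 0, nat_lit 1, nat_lit 0, nat_lit 3, nat_lit 0])) (.node (nat_lit 138) (.leaf (nat_lit 120) (nat_lit 0) [nat_lit 1, nat_lit 0, nat_lit 3, nat_lit 0, nat_lit 1, nat_lit 0, nat_lit 3, nat_lit 0, nat_lit 1, nat_lit 0, nat_lit 3]) (.node (nat_lit 139) (.leaf (nat_lit 121) (nat_lit 3) [nat_lit 0, nat_lit 1, nat_lit 0, nat_lit 3, nat_lit 0, nat_lit 1, nat_lit 0, nat_lit 3, nat_lit 0, nat_lit 1, nat_lit 0]) (.leaf (nat_lit 122) (nat_lit 0) [nat_lit 3, nat_lit 0, nat_lit 1, nat_lit 0, nat_lit 3, nat_lit 0, nat_lit 1, nat_lit 0, nat_lit 3, nat_lit 0, nat_lit 1]))))) (.node (nat_lit 145) (.node (nat_lit 142) (.node (nat_lit 141) (.leaf (nat_lit 123) (nat_lit 1) [nat_lit 0, nat_lit 3, nat_lit 0, nat_lit 1, nat_lit 0, nat_lit 3, nat_lit 0, nat_lit 1, nat_lit 0, nat_lit 3, nat_lit 0]) (.leaf (nat_lit 120) (nat_lit 0) [nat_lit 1, nat_lit 0, nat_lit 3, nat_lit 0, nat_lit 1, nat_lit 0, nat_lit 3, nat_lit 0, nat_lit 1, nat_lit 0, nat_lit 3])) (.node (nat_lit 143) (.leaf (nat_lit 121) (nat_lit 3) [nat_lit 0, nat_lit 1, nat_lit 0, nat_lit 3, nat_lit 0, nat_lit 1, nat_lit 0, nat_lit 3, nat_lit 0, nat_lit 1, nat_lit 0]) (.node (nat_lit 144) (.leaf (nat_lit 122) (nat_lit 0) [nat_lit 3, nat_lit 0, nat_lit 1, nat_lit 0, nat_lit 3, nat_lit 0, nat_lit 1, nat_lit 0, nat_lit 3, nat_lit 0, nat_lit 1]) (.leaf (nat_lit 98) (nat_lit 0) [nat_lit 2, nat_lit 0, nat_lit 1, nat_lit 0, nat_lit 2, nat_lit 0, nat_lit 1, nat_lit 0, nat_lit 2, nat_lit 0, nat_lit 1])))) (.node (nat_lit 147) (.node (nat_lit 146) (.leaf (nat_lit 99) (nat_lit 1) [nat_lit 0, nat_lit 2, nat_lit 0, nat_lit 1, nat_lit 0, nat_lit 2, nat_lit 0, nat_lit 1, nat_lit 0, nat_lit 2, nat_lit 0]) (.leaf (nat_lit 96) (nat_lit 0) [nat_lit 1, nat_lit 0, nat_lit 2, nat_lit 0, nat_lit 1, nat_lit 0, nat_lit 2, nat_lit 0, nat_lit 1, nat_lit 0, nat_lit 2])) (.node (nat_lit 148) (.leaf (nat_lit 97) (nat_lit 2) [nat_lit 0, nat_lit 1, nat_lit 0, nat_lit 2, nat_lit 0, nat_lit 1, nat_lit 0, nat_lit 2, nat_lit 0, nat_lit 1, nat_lit 0]) (.node (nat_lit 149) (.leaf (nat_lit 98) (nat_lit 0) [nat_lit 2, nat_lit 0, nat_lit 1, nat_lit 0, nat_lit 2, nat_lit 0, nat_lit 1, nat_lit 0, nat_lit 2, nat_lit 0, nat_lit 1]) (.leaf (nat_lit 99) (nat_lit 1) [nat_lit 0, nat_lit 2, nat_lit 0, nat_lit 1, nat_lit 0, nat_lit 2, nat_lit 0, nat_lit 1, nat_lit 0, nat_lit 2, nat_lit 0]))))))))) (.node (nat_lit 225) (.node (nat_lit 187) (.node (nat_lit 168) (.node (nat_lit 159) (.node (nat_lit 154) (.node (nat_lit 152) (.node (nat_lit 151) (.leaf (nat_lit 96) (nat_lit 0) [nat_lit 1, nat_lit 0, nat_lit 2, nat_lit 0, nat_lit 1, nat_lit 0, nat_lit 2, nat_lit 0, nat_lit 1, nat_lit 0, nat_lit 2]) (.leaf (nat_lit 97) (nat_lit 2) [nat_lit 0, nat_lit 1, nat_lit 0, nat_lit 2, nat_lit 0, nat_lit 1, nat_lit 0, nat_lit 2, nat_lit 0, nat_lit 1, nat_lit 0])) (.node (nat_lit 153) (.leaf (nat_lit 98) (nat_lit 0) [nat_lit 2, nat_lit 0, nat_lit 1, nat_lit 0, nat_lit 2, nat_lit 0, nat_lit 1, nat_lit 0, nat_lit 2, nat_lit 0, nat_lit 1]) (.leaf (nat_lit 99) (nat_lit 1) [nat_lit 0, nat_lit 2, nat_lit 0, nat_lit 1, nat_lit 0, nat_lit 2, nat_lit 0, nat_lit 1, nat_lit 0, nat_lit 2, nat_lit 0]))) (.node (nat_lit 156) (.node (nat_lit 155) (.leaf (nat_lit 96) (nat_lit 0) [nat_lit 1, nat_lit 0, nat_lit 2, nat_lit 0, nat_lit 1, nat_lit 0, nat_lit 2, nat_lit 0, nat_lit 1, nat_lit 0, nat_lit 2]) (.leaf (nat_lit 97) (nat_lit 2) [nat_lit 0, nat_lit 1, nat_lit 0, nat_lit 2, nat_lit 0, nat_lit 1, nat_lit 0, nat_lit 2, nat_lit 0, nat_lit 1, nat_lit 0])) (.node (nat_lit 157) (.leaf (nat_lit 97) (nat_lit 2) [nat_lit 0, nat_lit 1, nat_lit 0, nat_lit 2, nat_lit 0, nat_lit 1, nat_lit 0, nat_lit 2, nat_lit 0, nat_lit 1, nat_lit 0]) (.node (nat_lit 158) (.leaf (nat_lit 98) (nat_lit 0) [nat_lit 2, nat_lit 0, nat_lit 1, nat_lit 0, nat_lit 2, nat_lit 0, nat_lit 1, nat_lit 0, nat_lit 2, nat_lit 0, nat_lit 1]) (.leaf (nat_lit 99) (nat_lit 1) [nat_lit 0, nat_lit 2, nat_lit 0, nat_lit 1, nat_lit 0, nat_lit 2, nat_lit 0, nat_lit 1, nat_lit 0, nat_lit 2, nat_lit 0]))))) (.node (nat_lit 163) (.node (nat_lit 161) (.node (nat_lit 160) (.leaf (nat_lit 96) (nat_lit 0) [nat_lit 1, nat_lit 0, nat_lit 2, nat_lit 0, nat_lit 1, nat_lit 0, nat_lit 2, nat_lit 0, nat_lit 1, nat_lit 0, nat_lit 2]) (.leaf (nat_lit 97) (nat_lit 2) [nat_lit 0, nat_lit 1, nat_lit 0, nat_lit 2, nat_lit 0, nat_lit 1, nat_lit 0, nat_lit 2, nat_lit 0, nat_lit 1, nat_lit 0])) (.node (nat_lit 162) (.leaf (nat_lit 98) (nat_lit 0) [nat_lit 2, nat_lit 0, nat_lit 1, nat_lit 0, nat_lit 2, nat_lit 0, nat_lit 1, nat_lit 0, nat_lit 2, nat_lit 0, nat_lit 1]) (.leaf (nat_lit 99) (nat_lit 1) [nat_lit 0, nat_lit 2, nat_lit 0, nat_lit 1, nat_lit 0, nat_lit 2, nat_lit 0, nat_lit 1, nat_lit 0, nat_lit 2, nat_lit 0]))) (.node (nat_lit 165) (.node (nat_lit 164) (.leaf (nat_lit 96) (nat_lit 0) [nat_lit 1, nat_lit 0, nat_lit 2, nat_lit 0, nat_lit 1, nat_lit 0, nat_lit 2, nat_lit 0, nat_lit 1, nat_lit 0, nat_lit 2]) (.leaf (nat_lit 97) (nat_lit 2) [nat_lit 0, nat_lit 1, nat_lit 0, nat_lit 2, nat_lit 0, nat_lit 1, nat_lit 0, nat_lit 2, nat_lit 0, nat_lit 1, nat_lit 0])) (.node (nat_lit 166) (.leaf (nat_lit 98) (nat_lit 0) [nat_lit 2, nat_lit 0, nat_lit 1, nat_lit 0, nat_lit 2, nat_lit 0, nat_lit 1, nat_lit 0, nat_lit 2, nat_lit 0, nat_lit 1]) (.node (nat_lit 167) (.leaf (nat_lit 99) (nat_lit 1) [nat_lit 0, nat_lit 2, nat_lit 0, nat_lit 1, nat_lit 0, nat_lit 2, nat_lit 0, nat_lit 1, nat_lit 0, nat_lit 2, nat_lit 0]) (.leaf (nat_lit 96) (nat_lit 0) [nat_lit 1, nat_lit 0, nat_lit 2, nat_lit 0, nat_lit 1, nat_lit 0, nat_lit 2, nat_lit 0, nat_lit 1, nat_lit 0, nat_lit 2])))))) (.node (nat_lit 177) (.node (nat_lit 172) (.node (nat_lit 170) (.node (nat_lit 169) (.leaf (nat_lit 168) (nat_lit 0) [nat_lit 2, nat_lit 0, nat_lit 2, nat_lit 0, nat_lit 2, nat_lit 0, nat_lit 2, nat_lit 0, nat_lit 2, nat_lit 0, nat_lit 2]) (.leaf (nat_lit 169) (nat_lit 2) [nat_lit 0, nat_lit 2, nat_lit 0, nat_lit 2, nat_lit 0, nat_lit 2, nat_lit 0, nat_lit 2, nat_lit 0, nat_lit 2, nat_lit 0])) (.node (nat_lit 171) (.leaf (nat_lit 168) (nat_lit 0) [nat_lit 2, nat_lit 0, nat_lit 2, nat_lit 0, nat_lit 2, nat_lit 0, nat_lit 2, nat_lit 0, nat_lit 2, nat_lit 0, nat_lit 2]) (.leaf (nat_lit 169) (nat_lit 2) [nat_lit 0, nat_lit 2, nat_lit 0, nat_lit 2, nat_lit 0, nat_lit 2, nat_lit 0, nat_lit 2, nat_lit 0, nat_lit 2, nat_lit 0]))) (.node (nat_lit 174) (.node (nat_lit 173) (.leaf (nat_lit 168) (nat_lit 0) [nat_lit 2, nat_lit 0, nat_lit 2, nat_lit 0, nat_lit 2, nat_lit 0, nat_lit 2, nat_lit 0, nat_lit 2, nat_lit 0, nat_lit 2]) (.leaf (nat_lit 169) (nat_lit 2) [nat_lit 0, nat_lit 2, nat_lit 0, nat_lit 2, nat_lit 0, nat_lit 2, nat_lit 0, nat_lit 2, nat_lit 0, nat_lit 2, nat_lit 0])) (.node (nat_lit 175) (.leaf (nat_lit 168) (nat_lit 0) [nat_lit 2, nat_lit 0, nat_lit 2, nat_lit 0, nat_lit 2, nat_lit 0, nat_lit 2, nat_lit 0, nat_lit 2, nat_lit 0, nat_lit 2]) (.node (nat_lit 176) (.leaf (nat_lit 169) (nat_lit 2) [nat_lit 0, nat_lit 2, nat_lit 0, nat_lit 2, nat_lit 0, nat_lit 2, nat_lit 0, nat_lit 2, nat_lit 0, nat_lit 2, nat_lit 0]) (.leaf (nat_lit 168) (nat_lit 0) [nat_lit 2, nat_lit 0, nat_lit 2, nat_lit 0, nat_lit 2, nat_lit 0, nat_lit 2, nat_lit 0, nat_lit 2, nat_lit 0, nat_lit 2]))))) (.node (nat_lit 182) (.node (nat_lit 179) (.node (nat_lit 178) (.leaf (nat_lit 169) (nat_lit 2) [nat_lit 0, nat_lit 2, nat_lit 0, nat_lit 2, nat_lit 0, nat_lit 2, nat_lit 0, nat_lit 2, nat_lit 0, nat_lit 2, nat_lit 0]) (.leaf (nat_lit 168) (nat_lit 0) [nat_lit 2, nat_lit 0, nat_lit 2, nat_lit 0, nat_lit 2, nat_lit 0, nat_lit 2, nat_lit 0, nat_lit 2, nat_lit 0, nat_lit 2])) (.node (nat_lit 180) (.leaf (nat_lit 169) (nat_lit 2) [nat_lit 0, nat_lit 2, nat_lit 0, nat_lit 2, nat_lit 0, nat_lit 2, nat_lit 0, nat_lit 2, nat_lit 0, nat_lit 2, nat_lit 0]) (.node (nat_lit 181) (.leaf (nat_lit 169) (nat_lit 2) [nat_lit 0, nat_lit 2, nat_lit 0, nat_lit 2, nat_lit 0, nat_lit 2, nat_lit 0, nat_lit 2, nat_lit 0, nat_lit 2, nat_lit 0]) (.leaf (nat_lit 168) (nat_lit 0) [nat_lit 2, nat_lit 0, nat_lit 2, nat_lit 0, nat_lit 2, nat_lit 0, nat_lit 2, nat_lit 0, nat_lit 2, nat_lit 0, nat_lit 2])))) (.node (nat_lit 184) (.node (nat_lit 183) (.leaf (nat_lit 169) (nat_lit 2) [nat_lit 0, nat_lit 2, nat_lit 0, nat_lit 2, nat_lit 0, nat_lit 2, nat_lit 0, nat_lit 2, nat_lit 0, nat_lit 2, nat_lit 0]) (.leaf (nat_lit 168) (nat_lit 0) [nat_lit 2, nat_lit 0, nat_lit 2, nat_lit 0, nat_lit 2, nat_lit 0, nat_lit 2, nat_lit 0, nat_lit 2, nat_lit 0, nat_lit 2])) (.node (nat_lit 185) (.leaf (nat_lit 169) (nat_lit 2) [nat_lit 0, nat_lit 2, nat_lit 0, nat_lit 2, nat_lit 0, nat_lit 2, nat_lit 0, nat_lit 2, nat_lit 0, nat_lit 2, nat_lit 0]) (.node (nat_lit 186) (.leaf (nat_lit 168) (nat_lit 0) [nat_lit 2, nat_lit 0, nat_lit 2, nat_lit 0, nat_lit 2, nat_lit 0, nat_lit 2, nat_lit 0, nat_lit 2, nat_lit 0, nat_lit 2]) (.leaf (nat_lit 169) (nat_lit 2) [nat_lit 0, nat_lit 2, nat_lit 0, nat_lit 2, nat_lit 0, nat_lit 2, nat_lit 0, nat_lit 2, nat_lit 0, nat_lit 2, nat_lit 0]))))))) (.node (nat_lit 206) (.node (nat_lit 196) (.node (nat_lit 191) (.node (nat_lit 189) (.node (nat_lit 188) (.leaf (nat_lit 168) (nat_lit 0) [nat_lit 2, nat_lit 0, nat_lit 2, nat_lit 0, nat_lit 2, nat_lit 0, nat_lit 2, nat_lit 0, nat_lit 2, nat_lit 0, nat_lit 2]) (.leaf (nat_lit 169) (nat_lit 2) [nat_lit 0, nat_lit 2, nat_lit 0, nat_lit 2, nat_lit 0, nat_lit 2, nat_lit 0, nat_lit 2, nat_lit 0, nat_lit 2, nat_lit 0])) (.node (nat_lit 190) (.leaf (nat_lit 168) (nat_lit 0) [nat_lit 2, nat_lit 0, nat_lit 2, nat_lit 0, nat_lit 2, nat_lit 0, nat_lit 2, nat_lit 0, nat_lit 2, nat_lit 0, nat_lit 2]) (.leaf (nat_lit 169) (nat_lit 2) [nat_lit 0, nat_lit 2, nat_lit 0, nat_lit 2, nat_lit 0, nat_lit 2, nat_lit 0, nat_lit 2, nat_lit 0, nat_lit 2, nat_lit 0]))) (.node (nat_lit 193) (.node (nat_lit 192) (.leaf (nat_lit 168) (nat_lit 0) [nat_lit 2, nat_lit 0, nat_lit 2, nat_lit 0, nat_lit 2, nat_lit 0, nat_lit 2, nat_lit 0, nat_lit 2, nat_lit 0, nat_lit 2]) (.leaf (nat_lit 192) (nat_lit 0) [nat_lit 2, nat_lit 0, nat_lit 3, nat_lit 0, nat_lit 2, nat_lit 0, nat_lit 3, nat_lit 0, nat_lit 2, nat_lit 0, nat_lit 3])) (.node (nat_lit 194) (.leaf (nat_lit 193) (nat_lit 3) [nat_lit 0, nat_lit 2, nat_lit 0, nat_lit 3, nat_lit 0, nat_lit 2, nat_lit 0, nat_lit 3, nat_lit 0, nat_lit 2, nat_lit 0]) (.node (nat_lit 195) (.leaf (nat_lit 194) (nat_lit 0) [nat_lit 3, nat_lit 0, nat_lit 2, nat_lit 0, nat_lit 3, nat_lit 0, nat_lit 2, nat_lit 0, nat_lit 3, nat_lit 0, nat_lit 2]) (.leaf (nat_lit 195) (nat_lit 2) [nat_lit 0, nat_lit 3, nat_lit 0, nat_lit 2, nat_lit 0, nat_lit 3, nat_lit 0, nat_lit 2, nat_lit 0, nat_lit 3, nat_lit 0]))))) (.node (nat_lit 201) (.node (nat_lit 198) (.node (nat_lit 197) (.leaf (nat_lit 192) (nat_lit 0) [nat_lit 2, nat_lit 0, nat_lit 3, nat_lit 0, nat_lit 2, nat_lit 0, nat_lit 3, nat_lit 0, nat_lit 2, nat_lit 0, nat_lit 3]) (.leaf (nat_lit 193) (nat_lit 3) [nat_lit 0, nat_lit 2, nat_lit 0, nat_lit 3, nat_lit 0, nat_lit 2, nat_lit 0, nat_lit 3, nat_lit 0, nat_lit 2, nat_lit 0])) (.node (nat_lit 199) (.leaf (nat_lit 194) (nat_lit 0) [nat_lit 3, nat_lit 0, nat_lit 2, nat_lit 0, nat_lit 3, nat_lit 0, nat_lit 2, nat_lit 0, nat_lit 3, nat_lit 0, nat_lit 2]) (.node (nat_lit 200) (.leaf (nat_lit 195) (nat_lit 2) [nat_lit 0, nat_lit 3, nat_lit 0, nat_lit 2, nat_lit 0, nat_lit 3, nat_lit 0, nat_lit 2, nat_lit 0, nat_lit 3, nat_lit 0]) (.leaf (nat_lit 192) (nat_lit 0) [nat_lit 2, nat_lit 0, nat_lit 3, nat_lit 0, nat_lit 2, nat_lit 0, nat_lit 3, nat_lit 0, nat_lit 2, nat_lit 0, nat_lit 3])))) (.node (nat_lit 203) (.node (nat_lit 202) (.leaf (nat_lit 193) (nat_lit 3) [nat_lit 0, nat_lit 2, nat_lit 0, nat_lit 3, nat_lit 0, nat_lit 2, nat_lit 0, nat_lit 3, nat_lit 0, nat_lit 2, nat_lit 0]) (.leaf (nat_lit 194) (nat_lit 0) [nat_lit 3, nat_lit 0, nat_lit 2, nat_lit 0, nat_lit 3, nat_lit 0, nat_lit 2, nat_lit 0, nat_lit 3, nat_lit 0, nat_lit 2])) (.node (nat_lit 204) (.leaf (nat_lit 195) (nat_lit 2) [nat_lit 0, nat_lit 3, nat_lit 0, nat_lit 2, nat_lit 0, nat_lit 3, nat_lit 0, nat_lit 2, nat_lit 0, nat_lit 3, nat_lit 0]) (.node (nat_lit 205) (.leaf (nat_lit 195) (nat_lit 2) [nat_lit 0, nat_lit 3, nat_lit 0, nat_lit 2, nat_lit 0, nat_lit 3, nat_lit 0, nat_lit 2, nat_lit 0, nat_lit 3, nat_lit 0]) (.leaf (nat_lit 192) (nat_lit 0) [nat_lit 2, nat_lit 0, nat_lit 3, nat_lit 0, nat_lit 2, nat_lit 0, nat_lit 3, nat_lit 0, nat_lit 2, nat_lit 0, nat_lit 3])))))) (.node (nat_lit 215) (.node (nat_lit 210) (.node (nat_lit 208) (.node (nat_lit 207) (.leaf (nat_lit 193) (nat_lit 3) [nat_lit 0, nat_lit 2, nat_lit 0, nat_lit 3, nat_lit 0, nat_lit 2, nat_lit 0, nat_lit 3, nat_lit 0, nat_lit 2, nat_lit 0]) (.leaf (nat_lit 194) (nat_lit 0) [nat_lit 3, nat_lit 0, nat_lit 2, nat_lit 0, nat_lit 3, nat_lit 0, nat_lit 2, nat_lit 0, nat_lit 3, nat_lit 0, nat_lit 2])) (.node (nat_lit 209) (.leaf (nat_lit 195) (nat_lit 2) [nat_lit 0, nat_lit 3, nat_lit 0, nat_lit 2, nat_lit 0, nat_lit 3, nat_lit 0, nat_lit 2, nat_lit 0, nat_lit 3, nat_lit 0]) (.leaf (nat_lit 192) (nat_lit 0) [nat_lit 2, nat_lit 0, nat_lit 3, nat_lit 0, nat_lit 2, nat_lit 0, nat_lit 3, nat_lit 0, nat_lit 2, nat_lit 0, nat_lit 3]))) (.node (nat_lit 212) (.node (nat_lit 211) (.leaf (nat_lit 193) (nat_lit 3) [nat_lit 0, nat_lit 2, nat_lit 0, nat_lit 3, nat_lit 0, nat_lit 2, nat_lit 0, nat_lit 3, nat_lit 0, nat_lit 2, nat_lit 0]) (.leaf (nat_lit 194) (nat_lit 0) [nat_lit 3, nat_lit 0, nat_lit 2, nat_lit 0, nat_lit 3, nat_lit 0, nat_lit 2, nat_lit 0, nat_lit 3, nat_lit 0, nat_lit 2])) (.node (nat_lit 213) (.leaf (nat_lit 195) (nat_lit 2) [nat_lit 0, nat_lit 3, nat_lit 0, nat_lit 2, nat_lit 0, nat_lit 3, nat_lit 0, nat_lit 2, nat_lit 0, nat_lit 3, nat_lit 0]) (.node (nat_lit 214) (.leaf (nat_lit 192) (nat_lit 0) [nat_lit 2, nat_lit 0, nat_lit 3, nat_lit 0, nat_lit 2, nat_lit 0, nat_lit 3, nat_lit 0, nat_lit 2, nat_lit 0, nat_lit 3]) (.leaf (nat_lit 193) (nat_lit 3) [nat_lit 0, nat_lit 2, nat_lit 0, nat_lit 3, nat_lit 0, nat_lit 2, nat_lit 0, nat_lit 3, nat_lit 0, nat_lit 2, nat_lit 0]))))) (.node (nat_lit 220) (.node (nat_lit 217) (.node (nat_lit 216) (.leaf (nat_lit 194) (nat_lit 0) [nat_lit 3, nat_lit 0, nat_lit 2, nat_lit 0, nat_lit 3, nat_lit 0, nat_lit 2, nat_lit 0, nat_lit 3, nat_lit 0, nat_lit 2]) (.leaf (nat_lit 122) (nat_lit 0) [nat_lit 3, nat_lit 0, nat_lit 1, nat_lit 0, nat_lit 3, nat_lit 0, nat_lit 1, nat_lit 0, nat_lit 3, nat_lit 0, nat_lit 1])) (.node (nat_lit 218) (.leaf (nat_lit 123) (nat_lit 1) [nat_lit 0, nat_lit 3, nat_lit 0, nat_lit 1, nat_lit 0, nat_lit 3, nat_lit 0, nat_lit 1, nat_lit 0, nat_lit 3, nat_lit 0]) (.node (nat_lit 219) (.leaf (nat_lit 120) (nat_lit 0) [nat_lit 1, nat_lit 0, nat_lit 3, nat_lit 0, nat_lit 1, nat_lit 0, nat_lit 3, nat_lit 0, nat_lit 1, nat_lit 0, nat_lit 3]) (.leaf (nat_lit 121) (nat_lit 3) [nat_lit 0, nat_lit 1, nat_lit 0, nat_lit 3, nat_lit 0, nat_lit 1, nat_lit 0, nat_lit 3, nat_lit 0, nat_lit 1, nat_lit 0])))) (.node (nat_lit 222) (.node (nat_lit 221) (.leaf (nat_lit 122) (nat_lit 0) [nat_lit 3, nat_lit 0, nat_lit 1, nat_lit 0, nat_lit 3, nat_lit 0, nat_lit 1, nat_lit 0, nat_lit 3, nat_lit 0, nat_lit 1]) (.leaf (nat_lit 123) (nat_lit 1) [nat_lit 0, nat_lit 3, nat_lit 0, nat_lit 1, nat_lit 0, nat_lit 3, nat_lit 0, nat_lit 1, nat_lit 0, nat_lit 3, nat_lit 0])) (.node (nat_lit 223) (.leaf (nat_lit 120) (nat_lit 0) [nat_lit 1, nat_lit 0, nat_lit 3, nat_lit 0, nat_lit 1, nat_lit 0, nat_lit 3, nat_lit 0, nat_lit 1, nat_lit 0, nat_lit 3]) (.node (nat_lit 224) (.leaf (nat_lit 121) (nat_lit 3) [nat_lit 0, nat_lit 1, nat_lit 0, nat_lit 3, nat_lit 0, nat_lit 1, nat_lit 0, nat_lit 3, nat_lit 0, nat_lit 1, nat_lit 0]) (.leaf (nat_lit 122) (nat_lit 0) [nat_lit 3, nat_lit 0, nat_lit 1, nat_lit 0, nat_lit 3, nat_lit 0, nat_lit 1, nat_lit 0, nat_lit 3, nat_lit 0, nat_lit 1])))))))) (.node (nat_lit 263) (.node (nat_lit 244) (.node (nat_lit 234) (.node (nat_lit 229) (.node (nat_lit 227) (.node (nat_lit 226) (.leaf (nat_lit 123) (nat_lit 1) [nat_lit 0, nat_lit 3, nat_lit 0, nat_lit 1, nat_lit 0, nat_lit 3, nat_lit 0, nat_lit 1, nat_lit 0, nat_lit 3, nat_lit 0]) (.leaf (nat_lit 120) (nat_lit 0) [nat_lit 1, nat_lit 0, nat_lit 3, nat_lit 0, nat_lit 1, nat_lit 0, nat_lit 3, nat_lit 0, nat_lit 1, nat_lit 0, nat_lit 3])) (.node (nat_lit 228) (.leaf (nat_lit 121) (nat_lit 3) [nat_lit 0, nat_lit 1, nat_lit 0, nat_lit 3, nat_lit 0, nat_lit 1, nat_lit 0, nat_lit 3, nat_lit 0, nat_lit 1, nat_lit 0]) (.leaf (nat_lit 121) (nat_lit 3) [nat_lit 0, nat_lit 1, nat_lit 0, nat_lit 3, nat_lit 0, nat_lit 1, nat_lit 0, nat_lit 3, nat_lit 0, nat_lit 1, nat_lit 0]))) (.node (nat_lit 231) (.node (nat_lit 230) (.leaf (nat_lit 122) (nat_lit 0) [nat_lit 3, nat_lit 0, nat_lit 1, nat_lit 0, nat_lit 3, nat_lit 0, nat_lit 1, nat_lit 0, nat_lit 3, nat_lit 0, nat_lit 1]) (.leaf (nat_lit 123) (nat_lit 1) [nat_lit 0, nat_lit 3, nat_lit 0, nat_lit 1, nat_lit 0, nat_lit 3, nat_lit 0, nat_lit 1, nat_lit 0, nat_lit 3, nat_lit 0])) (.node (nat_lit 232) (.leaf (nat_lit 120) (nat_lit 0) [nat_lit 1, nat_lit 0, nat_lit 3, nat_lit 0, nat_lit 1, nat_lit 0, nat_lit 3, nat_lit 0, nat_lit 1, nat_lit 0, nat_lit 3]) (.node (nat_lit 233) (.leaf (nat_lit 121) (nat_lit 3) [nat_lit 0, nat_lit 1, nat_lit 0, nat_lit 3, nat_lit 0, nat_lit 1, nat_lit 0, nat_lit 3, nat_lit 0, nat_lit 1, nat_lit 0]) (.leaf (nat_lit 122) (nat_lit 0) [nat_lit 3, nat_lit 0, nat_lit 1, nat_lit 0, nat_lit 3, nat_lit 0, nat_lit 1, nat_lit 0, nat_lit 3, nat_lit 0, nat_lit 1]))))) (.node (nat_lit 239) (.node (nat_lit 236) (.node (nat_lit 235) (.leaf (nat_lit 123) (nat_lit 1) [nat_lit 0, nat_lit 3, nat_lit 0, nat_lit 1, nat_lit 0, nat_lit 3, nat_lit 0, nat_lit 1, nat_lit 0, nat_lit 3, nat_lit 0]) (.leaf (nat_lit 120) (nat_lit 0) [nat_lit 1, nat_lit 0, nat_lit 3, nat_lit 0, nat_lit 1, nat_lit 0, nat_lit 3, nat_lit 0, nat_lit 1, nat_lit 0, nat_lit 3])) (.node (nat_lit 237) (.leaf (nat_lit 121) (nat_lit 3) [nat_lit 0, nat_lit 1, nat_lit 0, nat_lit 3, nat_lit 0, nat_lit 1, nat_lit 0, nat_lit 3, nat_lit 0, nat_lit 1, nat_lit 0]) (.node (nat_lit 238) (.leaf (nat_lit 122) (nat_lit 0) [nat_lit 3, nat_lit 0, nat_lit 1, nat_lit 0, nat_lit 3, nat_lit 0, nat_lit 1, nat_lit 0, nat_lit 3, nat_lit 0, nat_lit 1]) (.leaf (nat_lit 123) (nat_lit 1) [nat_lit 0, nat_lit 3, nat_lit 0, nat_lit 1, nat_lit 0, nat_lit 3, nat_lit 0, nat_lit 1, nat_lit 0, nat_lit 3, nat_lit 0])))) (.node (nat_lit 241) (.node (nat_lit 240) (.leaf (nat_lit 120) (nat_lit 0) [nat_lit 1, nat_lit 0, nat_lit 3, nat_lit 0, nat_lit 1, nat_lit 0, nat_lit 3, nat_lit 0, nat_lit 1, nat_lit 0, nat_lit 3]) (.leaf (nat_lit 194) (nat_lit 0) [nat_lit 3, nat_lit 0, nat_lit 2, nat_lit 0, nat_lit 3, nat_lit 0, nat_lit 2, nat_lit 0, nat_lit 3, nat_lit 0, nat_lit 2])) (.node (nat_lit 242) (.leaf (nat_lit 195) (nat_lit 2) [nat_lit 0, nat_lit 3, nat_lit 0, nat_lit 2, nat_lit 0, nat_lit 3, nat_lit 0, nat_lit 2, nat_lit 0, nat_lit 3, nat_lit 0]) (.node (nat_lit 243) (.leaf (nat_lit 192) (nat_lit 0) [nat_lit 2, nat_lit 0, nat_lit 3, nat_lit 0, nat_lit 2, nat_lit 0, nat_lit 3, nat_lit 0, nat_lit 2, nat_lit 0, nat_lit 3]) (.leaf (nat_lit 193) (nat_lit 3) [nat_lit 0, nat_lit 2, nat_lit 0, nat_lit 3, nat_lit 0, nat_lit 2, nat_lit 0, nat_lit 3, nat_lit 0, nat_lit 2, nat_lit 0])))))) (.node (nat_lit 253) (.node (nat_lit 248) (.node (nat_lit 246) (.node (nat_lit 245) (.leaf (nat_lit 194) (nat_lit 0) [nat_lit 3, nat_lit 0, nat_lit 2, nat_lit 0, nat_lit 3, nat_lit 0, nat_lit 2, nat_lit 0, nat_lit 3, nat_lit 0, nat_lit 2]) (.leaf (nat_lit 195) (nat_lit 2) [nat_lit 0, nat_lit 3, nat_lit 0, nat_lit 2, nat_lit 0, nat_lit 3, nat_lit 0, nat_lit 2, nat_lit 0, nat_lit 3, nat_lit 0])) (.node (nat_lit 247) (.leaf (nat_lit 192) (nat_lit 0) [nat_lit 2, nat_lit 0, nat_lit 3, nat_lit 0, nat_lit 2, nat_lit 0, nat_lit 3, nat_lit 0, nat_lit 2, nat_lit 0, nat_lit 3]) (.leaf (nat_lit 193) (nat_lit 3) [nat_lit 0, nat_lit 2, nat_lit 0, nat_lit 3, nat_lit 0, nat_lit 2, nat_lit 0, nat_lit 3, nat_lit 0, nat_lit 2, nat_lit 0]))) (.node (nat_lit 250) (.node (nat_lit 249) (.leaf (nat_lit 194) (nat_lit 0) [nat_lit 3, nat_lit 0, nat_lit 2, nat_lit 0, nat_lit 3, nat_lit 0, nat_lit 2, nat_lit 0, nat_lit 3, nat_lit 0, nat_lit 2]) (.leaf (nat_lit 195) (nat_lit 2) [nat_lit 0, nat_lit 3, nat_lit 0, nat_lit 2, nat_lit 0, nat_lit 3, nat_lit 0, nat_lit 2, nat_lit 0, nat_lit 3, nat_lit 0])) (.node (nat_lit 251) (.leaf (nat_lit 192) (nat_lit 0) [nat_lit 2, nat_lit 0, nat_lit 3, nat_lit 0, nat_lit 2, nat_lit 0, nat_lit 3, nat_lit 0, nat_lit 2, nat_lit 0, nat_lit 3]) (.node (nat_lit 252) (.leaf (nat_lit 193) (nat_lit 3) [nat_lit 0, nat_lit 2, nat_lit 0, nat_lit 3, nat_lit 0, nat_lit 2, nat_lit 0, nat_lit 3, nat_lit 0, nat_lit 2, nat_lit 0]) (.leaf (nat_lit 193) (nat_lit 3) [nat_lit 0, nat_lit 2, nat_lit 0, nat_lit 3, nat_lit 0, nat_lit 2, nat_lit 0, nat_lit 3, nat_lit 0, nat_lit 2, nat_lit 0]))))) (.node (nat_lit 258) (.node (nat_lit 255) (.node (nat_lit 254) (.leaf (nat_lit 194) (nat_lit 0) [nat_lit 3, nat_lit 0, nat_lit 2, nat_lit 0, nat_lit 3, nat_lit 0, nat_lit 2, nat_lit 0, nat_lit 3, nat_lit 0, nat_lit 2]) (.leaf (nat_lit 195) (nat_lit 2) [nat_lit 0, nat_lit 3, nat_lit 0, nat_lit 2, nat_lit 0, nat_lit 3, nat_lit 0, nat_lit 2, nat_lit 0, nat_lit 3, nat_lit 0])) (.node (nat_lit 256) (.leaf (nat_lit 192) (nat_lit 0) [nat_lit 2, nat_lit 0, nat_lit 3, nat_lit 0, nat_lit 2, nat_lit 0, nat_lit 3, nat_lit 0, nat_lit 2, nat_lit 0, nat_lit 3]) (.node (nat_lit 257) (.leaf (nat_lit 193) (nat_lit 3) [nat_lit 0, nat_lit 2, nat_lit 0, nat_lit 3, nat_lit 0, nat_lit 2, nat_lit 0, nat_lit 3, nat_lit 0, nat_lit 2, nat_lit 0]) (.leaf (nat_lit 194) (nat_lit 0) [nat_lit 3, nat_lit 0, nat_lit 2, nat_lit 0, nat_lit 3, nat_lit 0, nat_lit 2, nat_lit 0, nat_lit 3, nat_lit 0, nat_lit 2])))) (.node (nat_lit 260) (.node (nat_lit 259) (.leaf (nat_lit 195) (nat_lit 2) [nat_lit 0, nat_lit 3, nat_lit 0, nat_lit 2, nat_lit 0, nat_lit 3, nat_lit 0, nat_lit 2, nat_lit 0, nat_lit 3, nat_lit 0]) (.leaf (nat_lit 192) (nat_lit 0) [nat_lit 2, nat_lit 0, nat_lit 3, nat_lit 0, nat_lit 2, nat_lit 0, nat_lit 3, nat_lit 0, nat_lit 2, nat_lit 0, nat_lit 3])) (.node (nat_lit 261) (.leaf (nat_lit 193) (nat_lit 3) [nat_lit 0, nat_lit 2, nat_lit 0, nat_lit 3, nat_lit 0, nat_lit 2, nat_lit 0, nat_lit 3, nat_lit 0, nat_lit 2, nat_lit 0]) (.node (nat_lit 262) (.leaf (nat_lit 194) (nat_lit 0) [nat_lit 3, nat_lit 0, nat_lit 2, nat_lit 0, nat_lit 3, nat_lit 0, nat_lit 2, nat_lit 0, nat_lit 3, nat_lit 0, nat_lit 2]) (.leaf (nat_lit 195) (nat_lit 2) [nat_lit 0, nat_lit 3, nat_lit 0, nat_lit 2, nat_lit 0, nat_lit 3, nat_lit 0, nat_lit 2, nat_lit 0, nat_lit 3, nat_lit 0]))))))) (.node (nat_lit 282) (.node (nat_lit 272) (.node (nat_lit 267) (.node (nat_lit 265) (.node (nat_lit 264) (.leaf (nat_lit 192) (nat_lit 0) [nat_lit 2, nat_lit 0, nat_lit 3, nat_lit 0, nat_lit 2, nat_lit 0, nat_lit 3, nat_lit 0, nat_lit 2, nat_lit 0, nat_lit 3]) (.leaf (nat_lit 264) (nat_lit 0) [nat_lit 3, nat_lit 0, nat_lit 3, nat_lit 0, nat_lit 3, nat_lit 0, nat_lit 3, nat_lit 0, nat_lit 3, nat_lit 0, nat_lit 3])) (.node (nat_lit 266) (.leaf (nat_lit 265) (nat_lit 3) [nat_lit 0, nat_lit 3, nat_lit 0, nat_lit 3, nat_lit 0, nat_lit 3, nat_lit 0, nat_lit 3, nat_lit 0, nat_lit 3, nat_lit 0]) (.leaf (nat_lit 264) (nat_lit 0) [nat_lit 3, nat_lit 0, nat_lit 3, nat_lit 0, nat_lit 3, nat_lit 0, nat_lit 3, nat_lit 0, nat_lit 3, nat_lit 0, nat_lit 3]))) (.node (nat_lit 269) (.node (nat_lit 268) (.leaf (nat_lit 265) (nat_lit 3) [nat_lit 0, nat_lit 3, nat_lit 0, nat_lit 3, nat_lit 0, nat_lit 3, nat_lit 0, nat_lit 3, nat_lit 0, nat_lit 3, nat_lit 0]) (.leaf (nat_lit 264) (nat_lit 0) [nat_lit 3, nat_lit 0, nat_lit 3, nat_lit 0, nat_lit 3, nat_lit 0, nat_lit 3, nat_lit 0, nat_lit 3, nat_lit 0, nat_lit 3])) (.node (nat_lit 270) (.leaf (nat_lit 265) (nat_lit 3) [nat_lit 0, nat_lit 3, nat_lit 0, nat_lit 3, nat_lit 0, nat_lit 3, nat_lit 0, nat_lit 3, nat_lit 0, nat_lit 3, nat_lit 0]) (.node (nat_lit 271) (.leaf (nat_lit 264) (nat_lit 0) [nat_lit 3, nat_lit 0, nat_lit 3, nat_lit 0, nat_lit 3, nat_lit 0, nat_lit 3, nat_lit 0, nat_lit 3, nat_lit 0, nat_lit 3]) (.leaf (nat_lit 265) (nat_lit 3) [nat_lit 0, nat_lit 3, nat_lit 0, nat_lit 3, nat_lit 0, nat_lit 3, nat_lit 0, nat_lit 3, nat_lit 0, nat_lit 3, nat_lit 0]))))) (.node (nat_lit 277) (.node (nat_lit 274) (.node (nat_lit 273) (.leaf (nat_lit 264) (nat_lit 0) [nat_lit 3, nat_lit 0, nat_lit 3, nat_lit 0, nat_lit 3, nat_lit 0, nat_lit 3, nat_lit 0, nat_lit 3, nat_lit 0, nat_lit 3]) (.leaf (nat_lit 265) (nat_lit 3) [nat_lit 0, nat_lit 3, nat_lit 0, nat_lit 3, nat_lit 0, nat_lit 3, nat_lit 0, nat_lit 3, nat_lit 0, nat_lit 3, nat_lit 0])) (.node (nat_lit 275) (.leaf (nat_lit 264) (nat_lit 0) [nat_lit 3, nat_lit 0, nat_lit 3, nat_lit 0, nat_lit 3, nat_lit 0, nat_lit 3, nat_lit 0, nat_lit 3, nat_lit 0, nat_lit 3]) (.node (nat_lit 276) (.leaf (nat_lit 265) (nat_lit 3) [nat_lit 0, nat_lit 3, nat_lit 0, nat_lit 3, nat_lit 0, nat_lit 3, nat_lit 0, nat_lit 3, nat_lit 0, nat_lit 3, nat_lit 0]) (.leaf (nat_lit 265) (nat_lit 3) [nat_lit 0, nat_lit 3, nat_lit 0, nat_lit 3, nat_lit 0, nat_lit 3, nat_lit 0, nat_lit 3, nat_lit 0, nat_lit 3, nat_lit 0])))) (.node (nat_lit 279) (.node (nat_lit 278) (.leaf (nat_lit 264) (nat_lit 0) [nat_lit 3, nat_lit 0, nat_lit 3, nat_lit 0, nat_lit 3, nat_lit 0, nat_lit 3, nat_lit 0, nat_lit 3, nat_lit 0, nat_lit 3]) (.leaf (nat_lit 265) (nat_lit 3) [nat_lit 0, nat_lit 3, nat_lit 0, nat_lit 3, nat_lit 0, nat_lit 3, nat_lit 0, nat_lit 3, nat_lit 0, nat_lit 3, nat_lit 0])) (.node (nat_lit 280) (.leaf (nat_lit 264) (nat_lit 0) [nat_lit 3, nat_lit 0, nat_lit 3, nat_lit 0, nat_lit 3, nat_lit 0, nat_lit 3, nat_lit 0, nat_lit 3, nat_lit 0, nat_lit 3]) (.node (nat_lit 281) (.leaf (nat_lit 265) (nat_lit 3) [nat_lit 0, nat_lit 3, nat_lit 0, nat_lit 3, nat_lit 0, nat_lit 3, nat_lit 0, nat_lit 3, nat_lit 0, nat_lit 3, nat_lit 0]) (.leaf (nat_lit 264) (nat_lit 0) [nat_lit 3, nat_lit 0, nat_lit 3, nat_lit 0, nat_lit 3, nat_lit 0, nat_lit 3, nat_lit 0, nat_lit 3, nat_lit 0, nat_lit 3])))))) (.node (nat_lit 291) (.node (nat_lit 286) (.node (nat_lit 284) (.node (nat_lit 283) (.leaf (nat_lit 265) (nat_lit 3) [nat_lit 0, nat_lit 3, nat_lit 0, nat_lit 3, nat_lit 0, nat_lit 3, nat_lit 0, nat_lit 3, nat_lit 0, nat_lit 3, nat_lit 0]) (.leaf (nat_lit 264) (nat_lit 0) [nat_lit 3, nat_lit 0, nat_lit 3, nat_lit 0, nat_lit 3, nat_lit 0, nat_lit 3, nat_lit 0, nat_lit 3, nat_lit 0, nat_lit 3])) (.node (nat_lit 285) (.leaf (nat_lit 265) (nat_lit 3) [nat_lit 0, nat_lit 3, nat_lit 0, nat_lit 3, nat_lit 0, nat_lit 3, nat_lit 0, nat_lit 3, nat_lit 0, nat_lit 3, nat_lit 0]) (.leaf (nat_lit 264) (nat_lit 0) [nat_lit 3, nat_lit 0, nat_lit 3, nat_lit 0, nat_lit 3, nat_lit 0, nat_lit 3, nat_lit 0, nat_lit 3, nat_lit 0, nat_lit 3]))) (.node (nat_lit 288) (.node (nat_lit 287) (.leaf (nat_lit 265) (nat_lit 3) [nat_lit 0, nat_lit 3, nat_lit 0, nat_lit 3, nat_lit 0, nat_lit 3, nat_lit 0, nat_lit 3, nat_lit 0, nat_lit 3, nat_lit 0]) (.leaf (nat_lit 264) (nat_lit 0) [nat_lit 3, nat_lit 0, nat_lit 3, nat_lit 0, nat_lit 3, nat_lit 0, nat_lit 3, nat_lit 0, nat_lit 3, nat_lit 0, nat_lit 3])) (.node (nat_lit 289) (.leaf (nat_lit 73) (nat_lit 1) [nat_lit 0, nat_lit 1, nat_lit 0, nat_lit 1, nat_lit 0, nat_lit 1, nat_lit 0, nat_lit 1, nat_lit 0, nat_lit 1, nat_lit 0]) (.node (nat_lit 290) (.leaf (nat_lit 72) (nat_lit 0) [nat_lit 1, nat_lit 0, nat_lit 1, nat_lit 0, nat_lit 1, nat_lit 0, nat_lit 1, nat_lit 0, nat_lit 1, nat_lit 0, nat_lit 1]) (.leaf (nat_lit 73) (nat_lit 1) [nat_lit 0, nat_lit 1, nat_lit 0, nat_lit 1, nat_lit 0, nat_lit 1, nat_lit 0, nat_lit 1, nat_lit 0, nat_lit 1, nat_lit 0]))))) (.node (nat_lit 296) (.node (nat_lit 293) (.node (nat_lit 292) (.leaf (nat_lit 72) (nat_lit 0) [nat_lit 1, nat_lit 0, nat_lit 1, nat_lit 0, nat_lit 1, nat_lit 0, nat_lit 1, nat_lit 0, nat_lit 1, nat_lit 0, nat_lit 1]) (.leaf (nat_lit 73) (nat_lit 1) [nat_lit 0, nat_lit 1, nat_lit 0, nat_lit 1, nat_lit 0, nat_lit 1, nat_lit 0, nat_lit 1, nat_lit 0, nat_lit 1, nat_lit 0])) (.node (nat_lit 294) (.leaf (nat_lit 72) (nat_lit 0) [nat_lit 1, nat_lit 0, nat_lit 1, nat_lit 0, nat_lit 1, nat_lit 0, nat_lit 1, nat_lit 0, nat_lit 1, nat_lit 0, nat_lit 1]) (.node (nat_lit 295) (.leaf (nat_lit 73) (nat_lit 1) [nat_lit 0, nat_lit 1, nat_lit 0, nat_lit 1, nat_lit 0, nat_lit 1, nat_lit 0, nat_lit 1, nat_lit 0, nat_lit 1, nat_lit 0]) (.leaf (nat_lit 72) (nat_lit 0) [nat_lit 1, nat_lit 0, nat_lit 1, nat_lit 0, nat_lit 1, nat_lit 0, nat_lit 1, nat_lit 0, nat_lit 1, nat_lit 0, nat_lit 1])))) (.node (nat_lit 298) (.node (nat_lit 297) (.leaf (nat_lit 73) (nat_lit 1) [nat_lit 0, nat_lit 1, nat_lit 0, nat_lit 1, nat_lit 0, nat_lit 1, nat_lit 0, nat_lit 1, nat_lit 0, nat_lit 1, nat_lit 0]) (.leaf (nat_lit 72) (nat_lit 0) [nat_lit 1, nat_lit 0, nat_lit 1, nat_lit 0, nat_lit 1, nat_lit 0, nat_lit 1, nat_lit 0, nat_lit 1, nat_lit 0, nat_lit 1])) (.node (nat_lit 299) (.leaf (nat_lit 73) (nat_lit 1) [nat_lit 0, nat_lit 1, nat_lit 0, nat_lit 1, nat_lit 0, nat_lit 1, nat_lit 0, nat_lit 1, nat_lit 0, nat_lit 1, nat_lit 0]) (.node (nat_lit 300) (.leaf (nat_lit 72) (nat_lit 0) [nat_lit 1, nat_lit 0, nat_lit 1, nat_lit 0, nat_lit 1, nat_lit 0, nat_lit 1, nat_lit 0, nat_lit 1, nat_lit 0, nat_lit 1]) (.leaf (nat_lit 72) (nat_lit 0) [nat_lit 1, nat_lit 0, nat_lit 1, nat_lit 0, nat_lit 1, nat_lit 0, nat_lit 1, nat_lit 0, nat_lit 1, nat_lit 0, nat_lit 1])))))))))) (.node (nat_lit 452) (.node (nat_lit 376) (.node (nat_lit 338) (.node (nat_lit 319) (.node (nat_lit 310) (.node (nat_lit 305) (.node (nat_lit 303) (.node (nat_lit 302) (.leaf (nat_lit 73) (nat_lit 1) [nat_lit 0, nat_lit 1, nat_lit 0, nat_lit 1, nat_lit 0, nat_lit 1, nat_lit 0, nat_lit 1, nat_lit 0, nat_lit 1, nat_lit 0]) (.leaf (nat_lit 72) (nat_lit 0) [nat_lit 1, nat_lit 0, nat_lit 1, nat_lit 0, nat_lit 1, nat_lit 0, nat_lit 1, nat_lit 0, nat_lit 1, nat_lit 0, nat_lit 1])) (.node (nat_lit 304) (.leaf (nat_lit 73) (nat_lit 1) [nat_lit 0, nat_lit 1, nat_lit 0, nat_lit 1, nat_lit 0, nat_lit 1, nat_lit 0, nat_lit 1, nat_lit 0, nat_lit 1, nat_lit 0]) (.leaf (nat_lit 72) (nat_lit 0) [nat_lit 1, nat_lit 0, nat_lit 1, nat_lit 0, nat_lit 1, nat_lit 0, nat_lit 1, nat_lit 0, nat_lit 1, nat_lit 0, nat_lit 1]))) (.node (nat_lit 307) (.node (nat_lit 306) (.leaf (nat_lit 73) (nat_lit 1) [nat_lit 0, nat_lit 1, nat_lit 0, nat_lit 1, nat_lit 0, nat_lit 1, nat_lit 0, nat_lit 1, nat_lit 0, nat_lit 1, nat_lit 0]) (.leaf (nat_lit 72) (nat_lit 0) [nat_lit 1, nat_lit 0, nat_lit 1, nat_lit 0, nat_lit 1, nat_lit 0, nat_lit 1, nat_lit 0, nat_lit 1, nat_lit 0, nat_lit 1])) (.node (nat_lit 308) (.leaf (nat_lit 73) (nat_lit 1) [nat_lit 0, nat_lit 1, nat_lit 0, nat_lit 1, nat_lit 0, nat_lit 1, nat_lit 0, nat_lit 1, nat_lit 0, nat_lit 1, nat_lit 0]) (.node (nat_lit 309) (.leaf (nat_lit 72) (nat_lit 0) [nat_lit 1, nat_lit 0, nat_lit 1, nat_lit 0, nat_lit 1, nat_lit 0, nat_lit 1, nat_lit 0, nat_lit 1, nat_lit 0, nat_lit 1]) (.leaf (nat_lit 73) (nat_lit 1) [nat_lit 0, nat_lit 1, nat_lit 0, nat_lit 1, nat_lit 0, nat_lit 1, nat_lit 0, nat_lit 1, nat_lit 0, nat_lit 1, nat_lit 0]))))) (.node (nat_lit 314) (.node (nat_lit 312) (.node (nat_lit 311) (.leaf (nat_lit 72) (nat_lit 0) [nat_lit 1, nat_lit 0, nat_lit 1, nat_lit 0, nat_lit 1, nat_lit 0, nat_lit 1, nat_lit 0, nat_lit 1, nat_lit 0, nat_lit 1]) (.leaf (nat_lit 73) (nat_lit 1) [nat_lit 0, nat_lit 1, nat_lit 0, nat_lit 1, nat_lit 0, nat_lit 1, nat_lit 0, nat_lit 1, nat_lit 0, nat_lit 1, nat_lit 0])) (.node (nat_lit 313) (.leaf (nat_lit 312) (nat_lit 1) [nat_lit 0, nat_lit 1, nat_lit 2, nat_lit 1, nat_lit 0, nat_lit 1, nat_lit 2, nat_lit 1, nat_lit 0, nat_lit 1, nat_lit 2]) (.leaf (nat_lit 313) (nat_lit 2) [nat_lit 1, nat_lit 0, nat_lit 1, nat_lit 2, nat_lit 1, nat_lit 0, nat_lit 1, nat_lit 2, nat_lit 1, nat_lit 0, nat_lit 1]))) (.node (nat_lit 316) (.node (nat_lit 315) (.leaf (nat_lit 314) (nat_lit 1) [nat_lit 2, nat_lit 1, nat_lit 0, nat_lit 1, nat_lit 2, nat_lit 1, nat_lit 0, nat_lit 1, nat_lit 2, nat_lit 1, nat_lit 0]) (.leaf (nat_lit 315) (nat_lit 0) [nat_lit 1, nat_lit 2, nat_lit 1, nat_lit 0, nat_lit 1, nat_lit 2, nat_lit 1, nat_lit 0, nat_lit 1, nat_lit 2, nat_lit 1])) (.node (nat_lit 317) (.leaf (nat_lit 312) (nat_lit 1) [nat_lit 0, nat_lit 1, nat_lit 2, nat_lit 1, nat_lit 0, nat_lit 1, nat_lit 2, nat_lit 1, nat_lit 0, nat_lit 1, nat_lit 2]) (.node (nat_lit 318) (.leaf (nat_lit 313) (nat_lit 2) [nat_lit 1, nat_lit 0, nat_lit 1, nat_lit 2, nat_lit 1, nat_lit 0, nat_lit 1, nat_lit 2, nat_lit 1, nat_lit 0, nat_lit 1]) (.leaf (nat_lit 314) (nat_lit 1) [nat_lit 2, nat_lit 1, nat_lit 0, nat_lit 1, nat_lit 2, nat_lit 1, nat_lit 0, nat_lit 1, nat_lit 2, nat_lit 1, nat_lit 0])))))) (.node (nat_lit 328) (.node (nat_lit 323) (.node (nat_lit 321) (.node (nat_lit 320) (.leaf (nat_lit 315) (nat_lit 0) [nat_lit 1, nat_lit 2, nat_lit 1, nat_lit 0, nat_lit 1, nat_lit 2, nat_lit 1, nat_lit 0, nat_lit 1, nat_lit 2, nat_lit 1]) (.leaf (nat_lit 312) (nat_lit 1) [nat_lit 0, nat_lit 1, nat_lit 2, nat_lit 1, nat_lit 0, nat_lit 1, nat_lit 2, nat_lit 1, nat_lit 0, nat_lit 1, nat_lit 2])) (.node (nat_lit 322) (.leaf (nat_lit 313) (nat_lit 2) [nat_lit 1, nat_lit 0, nat_lit 1, nat_lit 2, nat_lit 1, nat_lit 0, nat_lit 1, nat_lit 2, nat_lit 1, nat_lit 0, nat_lit 1]) (.leaf (nat_lit 314) (nat_lit 1) [nat_lit 2, nat_lit 1, nat_lit 0, nat_lit 1, nat_lit 2, nat_lit 1, nat_lit 0, nat_lit 1, nat_lit 2, nat_lit 1, nat_lit 0]))) (.node (nat_lit 325) (.node (nat_lit 324) (.leaf (nat_lit 315) (nat_lit 0) [nat_lit 1, nat_lit 2, nat_lit 1, nat_lit 0, nat_lit 1, nat_lit 2, nat_lit 1, nat_lit 0, nat_lit 1, nat_lit 2, nat_lit 1]) (.leaf (nat_lit 315) (nat_lit 0) [nat_lit 1, nat_lit 2, nat_lit 1, nat_lit 0, nat_lit 1, nat_lit 2, nat_lit 1, nat_lit 0, nat_lit 1, nat_lit 2, nat_lit 1])) (.node (nat_lit 326) (.leaf (nat_lit 312) (nat_lit 1) [nat_lit 0, nat_lit 1, nat_lit 2, nat_lit 1, nat_lit 0, nat_lit 1, nat_lit 2, nat_lit 1, nat_lit 0, nat_lit 1, nat_lit 2]) (.node (nat_lit 327) (.leaf (nat_lit 313) (nat_lit 2) [nat_lit 1, nat_lit 0, nat_lit 1, nat_lit 2, nat_lit 1, nat_lit 0, nat_lit 1, nat_lit 2, nat_lit 1, nat_lit 0, nat_lit 1]) (.leaf (nat_lit 314) (nat_lit 1) [nat_lit 2, nat_lit 1, nat_lit 0, nat_lit 1, nat_lit 2, nat_lit 1, nat_lit 0, nat_lit 1, nat_lit 2, nat_lit 1, nat_lit 0]))))) (.node (nat_lit 333) (.node (nat_lit 330) (.node (nat_lit 329) (.leaf (nat_lit 315) (nat_lit 0) [nat_lit 1, nat_lit 2, nat_lit 1, nat_lit 0, nat_lit 1, nat_lit 2, nat_lit 1, nat_lit 0, nat_lit 1, nat_lit 2, nat_lit 1]) (.leaf (nat_lit 312) (nat_lit 1) [nat_lit 0, nat_lit 1, nat_lit 2, nat_lit 1, nat_lit 0, nat_lit 1, nat_lit 2, nat_lit 1, nat_lit 0, nat_lit 1, nat_lit 2])) (.node (nat_lit 331) (.leaf (nat_lit 313) (nat_lit 2) [nat_lit 1, nat_lit 0, nat_lit 1, nat_lit 2, nat_lit 1, nat_lit 0, nat_lit 1, nat_lit 2, nat_lit 1, nat_lit 0, nat_lit 1]) (.node (nat_lit 332) (.leaf (nat_lit 314) (nat_lit 1) [nat_lit 2, nat_lit 1, nat_lit 0, nat_lit 1, nat_lit 2, nat_lit 1, nat_lit 0, nat_lit 1, nat_lit 2, nat_lit 1, nat_lit 0]) (.leaf (nat_lit 315) (nat_lit 0) [nat_lit 1, nat_lit 2, nat_lit 1, nat_lit 0, nat_lit 1, nat_lit 2, nat_lit 1, nat_lit 0, nat_lit 1, nat_lit 2, nat_lit 1])))) (.node (nat_lit 335) (.node (nat_lit 334) (.leaf (nat_lit 312) (nat_lit 1) [nat_lit 0, nat_lit 1, nat_lit 2, nat_lit 1, nat_lit 0, nat_lit 1, nat_lit 2, nat_lit 1, nat_lit 0, nat_lit 1, nat_lit 2]) (.leaf (nat_lit 313) (nat_lit 2) [nat_lit 1, nat_lit 0, nat_lit 1, nat_lit 2, nat_lit 1, nat_lit 0, nat_lit 1, nat_lit 2, nat_lit 1, nat_lit 0, nat_lit 1])) (.node (nat_lit 336) (.leaf (nat_lit 314) (nat_lit 1) [nat_lit 2, nat_lit 1, nat_lit 0, nat_lit 1, nat_lit 2, nat_lit 1, nat_lit 0, nat_lit 1, nat_lit 2, nat_lit 1, nat_lit 0]) (.node (nat_lit 337) (.leaf (nat_lit 336) (nat_lit 1) [nat_lit 0, nat_lit 1, nat_lit 3, nat_lit 1, nat_lit 0, nat_lit 1, nat_lit 3, nat_lit 1, nat_lit 0, nat_lit 1, nat_lit 3]) (.leaf (nat_lit 337) (nat_lit 3) [nat_lit 1, nat_lit 0, nat_lit 1, nat_lit 3, nat_lit 1, nat_lit 0, nat_lit 1, nat_lit 3, nat_lit 1, nat_lit 0, nat_lit 1]))))))) (.node (nat_lit 357) (.node (nat_lit 347) (.node (nat_lit 342) (.node (nat_lit 340) (.node (nat_lit 339) (.leaf (nat_lit 338) (nat_lit 1) [nat_lit 3, nat_lit 1, nat_lit 0, nat_lit 1, nat_lit 3, nat_lit 1, nat_lit 0, nat_lit 1, nat_lit 3, nat_lit 1, nat_lit 0]) (.leaf (nat_lit 339) (nat_lit 0) [nat_lit 1, nat_lit 3, nat_lit 1, nat_lit 0, nat_lit 1, nat_lit 3, nat_lit 1, nat_lit 0, nat_lit 1, nat_lit 3, nat_lit 1])) (.node (nat_lit 341) (.leaf (nat_lit 336) (nat_lit 1) [nat_lit 0, nat_lit 1, nat_lit 3, nat_lit 1, nat_lit 0, nat_lit 1, nat_lit 3, nat_lit 1, nat_lit 0, nat_lit 1, nat_lit 3]) (.leaf (nat_lit 337) (nat_lit 3) [nat_lit 1, nat_lit 0, nat_lit 1, nat_lit 3, nat_lit 1, nat_lit 0, nat_lit 1, nat_lit 3, nat_lit 1, nat_lit 0, nat_lit 1]))) (.node (nat_lit 344) (.node (nat_lit 343) (.leaf (nat_lit 338) (nat_lit 1) [nat_lit 3, nat_lit 1, nat_lit 0, nat_lit 1, nat_lit 3, nat_lit 1, nat_lit 0, nat_lit 1, nat_lit 3, nat_lit 1, nat_lit 0]) (.leaf (nat_lit 339) (nat_lit 0) [nat_lit 1, nat_lit 3, nat_lit 1, nat_lit 0, nat_lit 1, nat_lit 3, nat_lit 1, nat_lit 0, nat_lit 1, nat_lit 3, nat_lit 1])) (.node (nat_lit 345) (.leaf (nat_lit 336) (nat_lit 1) [nat_lit 0, nat_lit 1, nat_lit 3, nat_lit 1, nat_lit 0, nat_lit 1, nat_lit 3, nat_lit 1, nat_lit 0, nat_lit 1, nat_lit 3]) (.node (nat_lit 346) (.leaf (nat_lit 337) (nat_lit 3) [nat_lit 1, nat_lit 0, nat_lit 1, nat_lit 3, nat_lit 1, nat_lit 0, nat_lit 1, nat_lit 3, nat_lit 1, nat_lit 0, nat_lit 1]) (.leaf (nat_lit 338) (nat_lit 1) [nat_lit 3, nat_lit 1, nat_lit 0, nat_lit 1, nat_lit 3, nat_lit 1, nat_lit 0, nat_lit 1, nat_lit 3, nat_lit 1, nat_lit 0]))))) (.node (nat_lit 352) (.node (nat_lit 349) (.node (nat_lit 348) (.leaf (nat_lit 339) (nat_lit 0) [nat_lit 1, nat_lit 3, nat_lit 1, nat_lit 0, nat_lit 1, nat_lit 3, nat_lit 1, nat_lit 0, nat_lit 1, nat_lit 3, nat_lit 1]) (.leaf (nat_lit 339) (nat_lit 0) [nat_lit 1, nat_lit 3, nat_lit 1, nat_lit 0, nat_lit 1, nat_lit 3, nat_lit 1, nat_lit 0, nat_lit 1, nat_lit 3, nat_lit 1])) (.node (nat_lit 350) (.leaf (nat_lit 336) (nat_lit 1) [nat_lit 0, nat_lit 1, nat_lit 3, nat_lit 1, nat_lit 0, nat_lit 1, nat_lit 3, nat_lit 1, nat_lit 0, nat_lit 1, nat_lit 3]) (.node (nat_lit 351) (.leaf (nat_lit 337) (nat_lit 3) [nat_lit 1, nat_lit 0, nat_lit 1, nat_lit 3, nat_lit 1, nat_lit 0, nat_lit 1, nat_lit 3, nat_lit 1, nat_lit 0, nat_lit 1]) (.leaf (nat_lit 338) (nat_lit 1) [nat_lit 3, nat_lit 1, nat_lit 0, nat_lit 1, nat_lit 3, nat_lit 1, nat_lit 0, nat_lit 1, nat_lit 3, nat_lit 1, nat_lit 0])))) (.node (nat_lit 354) (.node (nat_lit 353) (.leaf (nat_lit 339) (nat_lit 0) [nat_lit 1, nat_lit 3, nat_lit 1, nat_lit 0, nat_lit 1, nat_lit 3, nat_lit 1, nat_lit 0, nat_lit 1, nat_lit 3, nat_lit 1]) (.leaf (nat_lit 336) (nat_lit 1) [nat_lit 0, nat_lit 1, nat_lit 3, nat_lit 1, nat_lit 0, nat_lit 1, nat_lit 3, nat_lit 1, nat_lit 0, nat_lit 1, nat_lit 3])) (.node (nat_lit 355) (.leaf (nat_lit 337) (nat_lit 3) [nat_lit 1, nat_lit 0, nat_lit 1, nat_lit 3, nat_lit 1, nat_lit 0, nat_lit 1, nat_lit 3, nat_lit 1, nat_lit 0, nat_lit 1]) (.node (nat_lit 356) (.leaf (nat_lit 338) (nat_lit 1) [nat_lit 3, nat_lit 1, nat_lit 0, nat_lit 1, nat_lit 3, nat_lit 1, nat_lit 0, nat_lit 1, nat_lit 3, nat_lit 1, nat_lit 0]) (.leaf (nat_lit 339) (nat_lit 0) [nat_lit 1, nat_lit 3, nat_lit 1, nat_lit 0, nat_lit 1, nat_lit 3, nat_lit 1, nat_lit 0, nat_lit 1, nat_lit 3, nat_lit 1])))))) (.node (nat_lit 366) (.node (nat_lit 361) (.node (nat_lit 359) (.node (nat_lit 358) (.leaf (nat_lit 336) (nat_lit 1) [nat_lit 0, nat_lit 1, nat_lit 3, nat_lit 1, nat_lit 0, nat_lit 1, nat_lit 3, nat_lit 1, nat_lit 0, nat_lit 1, nat_lit 3]) (.leaf (nat_lit 337) (nat_lit 3) [nat_lit 1, nat_lit 0, nat_lit 1, nat_lit 3, nat_lit 1, nat_lit 0, nat_lit 1, nat_lit 3, nat_lit 1, nat_lit 0, nat_lit 1])) (.node (nat_lit 360) (.leaf (nat_lit 338) (nat_lit 1) [nat_lit 3, nat_lit 1, nat_lit 0, nat_lit 1, nat_lit 3, nat_lit 1, nat_lit 0, nat_lit 1, nat_lit 3, nat_lit 1, nat_lit 0]) (.leaf (nat_lit 314) (nat_lit 1) [nat_lit 2, nat_lit 1, nat_lit 0, nat_lit 1, nat_lit 2, nat_lit 1, nat_lit 0, nat_lit 1, nat_lit 2, nat_lit 1, nat_lit 0]))) (.node (nat_lit 363) (.node (nat_lit 362) (.leaf (nat_lit 315) (nat_lit 0) [nat_lit 1, nat_lit 2, nat_lit 1, nat_lit 0, nat_lit 1, nat_lit 2, nat_lit 1, nat_lit 0, nat_lit 1, nat_lit 2, nat_lit 1]) (.leaf (nat_lit 312) (nat_lit 1) [nat_lit 0, nat_lit 1, nat_lit 2, nat_lit 1, nat_lit 0, nat_lit 1, nat_lit 2, nat_lit 1, nat_lit 0, nat_lit 1, nat_lit 2])) (.node (nat_lit 364) (.leaf (nat_lit 313) (nat_lit 2) [nat_lit 1, nat_lit 0, nat_lit 1, nat_lit 2, nat_lit 1, nat_lit 0, nat_lit 1, nat_lit 2, nat_lit 1, nat_lit 0, nat_lit 1]) (.node (nat_lit 365) (.leaf (nat_lit 314) (nat_lit 1) [nat_lit 2, nat_lit 1, nat_lit 0, nat_lit 1, nat_lit 2, nat_lit 1, nat_lit 0, nat_lit 1, nat_lit 2, nat_lit 1, nat_lit 0]) (.leaf (nat_lit 315) (nat_lit 0) [nat_lit 1, nat_lit 2, nat_lit 1, nat_lit 0, nat_lit 1, nat_lit 2, nat_lit 1, nat_lit 0, nat_lit 1, nat_lit 2, nat_lit 1]))))) (.node (nat_lit 371) (.node (nat_lit 368) (.node (nat_lit 367) (.leaf (nat_lit 312) (nat_lit 1) [nat_lit 0, nat_lit 1, nat_lit 2, nat_lit 1, nat_lit 0, nat_lit 1, nat_lit 2, nat_lit 1, nat_lit 0, nat_lit 1, nat_lit 2]) (.leaf (nat_lit 313) (nat_lit 2) [nat_lit 1, nat_lit 0, nat_lit 1, nat_lit 2, nat_lit 1, nat_lit 0, nat_lit 1, nat_lit 2, nat_lit 1, nat_lit 0, nat_lit 1])) (.node (nat_lit 369) (.leaf (nat_lit 314) (nat_lit 1) [nat_lit 2, nat_lit 1, nat_lit 0, nat_lit 1, nat_lit 2, nat_lit 1, nat_lit 0, nat_lit 1, nat_lit 2, nat_lit 1, nat_lit 0]) (.node (nat_lit 370) (.leaf (nat_lit 315) (nat_lit 0) [nat_lit 1, nat_lit 2, nat_lit 1, nat_lit 0, nat_lit 1, nat_lit 2, nat_lit 1, nat_lit 0, nat_lit 1, nat_lit 2, nat_lit 1]) (.leaf (nat_lit 312) (nat_lit 1) [nat_lit 0, nat_lit 1, nat_lit 2, nat_lit 1, nat_lit 0, nat_lit 1, nat_lit 2, nat_lit 1, nat_lit 0, nat_lit 1, nat_lit 2])))) (.node (nat_lit 373) (.node (nat_lit 372) (.leaf (nat_lit 313) (nat_lit 2) [nat_lit 1, nat_lit 0, nat_lit 1, nat_lit 2, nat_lit 1, nat_lit 0, nat_lit 1, nat_lit 2, nat_lit 1, nat_lit 0, nat_lit 1]) (.leaf (nat_lit 313) (nat_lit 2) [nat_lit 1, nat_lit 0, nat_lit 1, nat_lit 2, nat_lit 1, nat_lit 0, nat_lit 1, nat_lit 2, nat_lit 1, nat_lit 0, nat_lit 1])) (.node (nat_lit 374) (.leaf (nat_lit 314) (nat_lit 1) [nat_lit 2, nat_lit 1, nat_lit 0, nat_lit 1, nat_lit 2, nat_lit 1, nat_lit 0, nat_lit 1, nat_lit 2, nat_lit 1, nat_lit 0]) (.node (nat_lit 375) (.leaf (nat_lit 315) (nat_lit 0) [nat_lit 1, nat_lit 2, nat_lit 1, nat_lit 0, nat_lit 1, nat_lit 2, nat_lit 1, nat_lit 0, nat_lit 1, nat_lit 2, nat_lit 1]) (.leaf (nat_lit 312) (nat_lit 1) [nat_lit 0, nat_lit 1, nat_lit 2, nat_lit 1, nat_lit 0, nat_lit 1, nat_lit 2, nat_lit 1, nat_lit 0, nat_lit 1, nat_lit 2])))))))) (.node (nat_lit 414) (.node (nat_lit 395) (.node (nat_lit 385) (.node (nat_lit 380) (.node (nat_lit 378) (.node (nat_lit 377) (.leaf (nat_lit 313) (nat_lit 2) [nat_lit 1, nat_lit 0, nat_lit 1, nat_lit 2, nat_lit 1, nat_lit 0, nat_lit 1, nat_lit 2, nat_lit 1, nat_lit 0, nat_lit 1]) (.leaf (nat_lit 314) (nat_lit 1) [nat_lit 2, nat_lit 1, nat_lit 0, nat_lit 1, nat_lit 2, nat_lit 1, nat_lit 0, nat_lit 1, nat_lit 2, nat_lit 1, nat_lit 0])) (.node (nat_lit 379) (.leaf (nat_lit 315) (nat_lit 0) [nat_lit 1, nat_lit 2, nat_lit 1, nat_lit 0, nat_lit 1, nat_lit 2, nat_lit 1, nat_lit 0, nat_lit 1, nat_lit 2, nat_lit 1]) (.leaf (nat_lit 312) (nat_lit 1) [nat_lit 0, nat_lit 1, nat_lit 2, nat_lit 1, nat_lit 0, nat_lit 1, nat_lit 2, nat_lit 1, nat_lit 0, nat_lit 1, nat_lit 2]))) (.node (nat_lit 382) (.node (nat_lit 381) (.leaf (nat_lit 313) (nat_lit 2) [nat_lit 1, nat_lit 0, nat_lit 1, nat_lit 2, nat_lit 1, nat_lit 0, nat_lit 1, nat_lit 2, nat_lit 1, nat_lit 0, nat_lit 1]) (.leaf (nat_lit 314) (nat_lit 1) [nat_lit 2, nat_lit 1, nat_lit 0, nat_lit 1, nat_lit 2, nat_lit 1, nat_lit 0, nat_lit 1, nat_lit 2, nat_lit 1, nat_lit 0])) (.node (nat_lit 383) (.leaf (nat_lit 315) (nat_lit 0) [nat_lit 1, nat_lit 2, nat_lit 1, nat_lit 0, nat_lit 1, nat_lit 2, nat_lit 1, nat_lit 0, nat_lit 1, nat_lit 2, nat_lit 1]) (.node (nat_lit 384) (.leaf (nat_lit 312) (nat_lit 1) [nat_lit 0, nat_lit 1, nat_lit 2, nat_lit 1, nat_lit 0, nat_lit 1, nat_lit 2, nat_lit 1, nat_lit 0, nat_lit 1, nat_lit 2]) (.leaf (nat_lit 384) (nat_lit 1) [nat_lit 2, nat_lit 1, nat_lit 2, nat_lit 1, nat_lit 2, nat_lit 1, nat_lit 2, nat_lit 1, nat_lit 2, nat_lit 1, nat_lit 2]))))) (.node (nat_lit 390) (.node (nat_lit 387) (.node (nat_lit 386) (.leaf (nat_lit 385) (nat_lit 2) [nat_lit 1, nat_lit 2, nat_lit 1, nat_lit 2, nat_lit 1, nat_lit 2, nat_lit 1, nat_lit 2, nat_lit 1, nat_lit 2, nat_lit 1]) (.leaf (nat_lit 384) (nat_lit 1) [nat_lit 2, nat_lit 1, nat_lit 2, nat_lit 1, nat_lit 2, nat_lit 1, nat_lit 2, nat_lit 1, nat_lit 2, nat_lit 1, nat_lit 2])) (.node (nat_lit 388) (.leaf (nat_lit 385) (nat_lit 2) [nat_lit 1, nat_lit 2, nat_lit 1, nat_lit 2, nat_lit 1, nat_lit 2, nat_lit 1, nat_lit 2, nat_lit 1, nat_lit 2, nat_lit 1]) (.node (nat_lit 389) (.leaf (nat_lit 384) (nat_lit 1) [nat_lit 2, nat_lit 1, nat_lit 2, nat_lit 1, nat_lit 2, nat_lit 1, nat_lit 2, nat_lit 1, nat_lit 2, nat_lit 1, nat_lit 2]) (.leaf (nat_lit 385) (nat_lit 2) [nat_lit 1, nat_lit 2, nat_lit 1, nat_lit 2, nat_lit 1, nat_lit 2, nat_lit 1, nat_lit 2, nat_lit 1, nat_lit 2, nat_lit 1])))) (.node (nat_lit 392) (.node (nat_lit 391) (.leaf (nat_lit 384) (nat_lit 1) [nat_lit 2, nat_lit 1, nat_lit 2, nat_lit 1, nat_lit 2, nat_lit 1, nat_lit 2, nat_lit 1, nat_lit 2, nat_lit 1, nat_lit 2]) (.leaf (nat_lit 385) (nat_lit 2) [nat_lit 1, nat_lit 2, nat_lit 1, nat_lit 2, nat_lit 1, nat_lit 2, nat_lit 1, nat_lit 2, nat_lit 1, nat_lit 2, nat_lit 1])) (.node (nat_lit 393) (.leaf (nat_lit 384) (nat_lit 1) [nat_lit 2, nat_lit 1, nat_lit 2, nat_lit 1, nat_lit 2, nat_lit 1, nat_lit 2, nat_lit 1, nat_lit 2, nat_lit 1, nat_lit 2]) (.node (nat_lit 394) (.leaf (nat_lit 385) (nat_lit 2) [nat_lit 1, nat_lit 2, nat_lit 1, nat_lit 2, nat_lit 1, nat_lit 2, nat_lit 1, nat_lit 2, nat_lit 1, nat_lit 2, nat_lit 1]) (.leaf (nat_lit 384) (nat_lit 1) [nat_lit 2, nat_lit 1, nat_lit 2, nat_lit 1, nat_lit 2, nat_lit 1, nat_lit 2, nat_lit 1, nat_lit 2, nat_lit 1, nat_lit 2])))))) (.node (nat_lit 404) (.node (nat_lit 399) (.node (nat_lit 397) (.node (nat_lit 396) (.leaf (nat_lit 385) (nat_lit 2) [nat_lit 1, nat_lit 2, nat_lit 1, nat_lit 2, nat_lit 1, nat_lit 2, nat_lit 1, nat_lit 2, nat_lit 1, nat_lit 2, nat_lit 1]) (.leaf (nat_lit 385) (nat_lit 2) [nat_lit 1, nat_lit 2, nat_lit 1, nat_lit 2, nat_lit 1, nat_lit 2, nat_lit 1, nat_lit 2, nat_lit 1, nat_lit 2, nat_lit 1])) (.node (nat_lit 398) (.leaf (nat_lit 384) (nat_lit 1) [nat_lit 2, nat_lit 1, nat_lit 2, nat_lit 1, nat_lit 2, nat_lit 1, nat_lit 2, nat_lit 1, nat_lit 2, nat_lit 1, nat_lit 2]) (.leaf (nat_lit 385) (nat_lit 2) [nat_lit 1, nat_lit 2, nat_lit 1, nat_lit 2, nat_lit 1, nat_lit 2, nat_lit 1, nat_lit 2, nat_lit 1, nat_lit 2, nat_lit 1]))) (.node (nat_lit 401) (.node (nat_lit 400) (.leaf (nat_lit 384) (nat_lit 1) [nat_lit 2, nat_lit 1, nat_lit 2, nat_lit 1, nat_lit 2, nat_lit 1, nat_lit 2, nat_lit 1, nat_lit 2, nat_lit 1, nat_lit 2]) (.leaf (nat_lit 385) (nat_lit 2) [nat_lit 1, nat_lit 2, nat_lit 1, nat_lit 2, nat_lit 1, nat_lit 2, nat_lit 1, nat_lit 2, nat_lit 1, nat_lit 2, nat_lit 1])) (.node (nat_lit 402) (.leaf (nat_lit 384) (nat_lit 1) [nat_lit 2, nat_lit 1, nat_lit 2, nat_lit 1, nat_lit 2, nat_lit 1, nat_lit 2, nat_lit 1, nat_lit 2, nat_lit 1, nat_lit 2]) (.node (nat_lit 403) (.leaf (nat_lit 385) (nat_lit 2) [nat_lit 1, nat_lit 2, nat_lit 1, nat_lit 2, nat_lit 1, nat_lit 2, nat_lit 1, nat_lit 2, nat_lit 1, nat_lit 2, nat_lit 1]) (.leaf (nat_lit 384) (nat_lit 1) [nat_lit 2, nat_lit 1, nat_lit 2, nat_lit 1, nat_lit 2, nat_lit 1, nat_lit 2, nat_lit 1, nat_lit 2, nat_lit 1, nat_lit 2]))))) (.node (nat_lit 409) (.node (nat_lit 406) (.node (nat_lit 405) (.leaf (nat_lit 385) (nat_lit 2) [nat_lit 1, nat_lit 2, nat_lit 1, nat_lit 2, nat_lit 1, nat_lit 2, nat_lit 1, nat_lit 2, nat_lit 1, nat_lit 2, nat_lit 1]) (.leaf (nat_lit 384) (nat_lit 1) [nat_lit 2, nat_lit 1, nat_lit 2, nat_lit 1, nat_lit 2, nat_lit 1, nat_lit 2, nat_lit 1, nat_lit 2, nat_lit 1, nat_lit 2])) (.node (nat_lit 407) (.leaf (nat_lit 385) (nat_lit 2) [nat_lit 1, nat_lit 2, nat_lit 1, nat_lit 2, nat_lit 1, nat_lit 2, nat_lit 1, nat_lit 2, nat_lit 1, nat_lit 2, nat_lit 1]) (.node (nat_lit 408) (.leaf (nat_lit 384) (nat_lit 1) [nat_lit 2, nat_lit 1, nat_lit 2, nat_lit 1, nat_lit 2, nat_lit 1, nat_lit 2, nat_lit 1, nat_lit 2, nat_lit 1, nat_lit 2]) (.leaf (nat_lit 408) (nat_lit 1) [nat_lit 2, nat_lit 1, nat_lit 3, nat_lit 1, nat_lit 2, nat_lit 1, nat_lit 3, nat_lit 1, nat_lit 2, nat_lit 1, nat_lit 3])))) (.node (nat_lit 411) (.node (nat_lit 410) (.leaf (nat_lit 409) (nat_lit 3) [nat_lit 1, nat_lit 2, nat_lit 1, nat_lit 3, nat_lit 1, nat_lit 2, nat_lit 1, nat_lit 3, nat_lit 1, nat_lit 2, nat_lit 1]) (.leaf (nat_lit 410) (nat_lit 1) [nat_lit 3, nat_lit 1, nat_lit 2, nat_lit 1, nat_lit 3, nat_lit 1, nat_lit 2, nat_lit 1, nat_lit 3, nat_lit 1, nat_lit 2])) (.node (nat_lit 412) (.leaf (nat_lit 411) (nat_lit 2) [nat_lit 1, nat_lit 3, nat_lit 1, nat_lit 2, nat_lit 1, nat_lit 3, nat_lit 1, nat_lit 2, nat_lit 1, nat_lit 3, nat_lit 1]) (.node (nat_lit 413) (.leaf (nat_lit 408) (nat_lit 1) [nat_lit 2, nat_lit 1, nat_lit 3, nat_lit 1, nat_lit 2, nat_lit 1, nat_lit 3, nat_lit 1, nat_lit 2, nat_lit 1, nat_lit 3]) (.leaf (nat_lit 409) (nat_lit 3) [nat_lit 1, nat_lit 2, nat_lit 1, nat_lit 3, nat_lit 1, nat_lit 2, nat_lit 1, nat_lit 3, nat_lit 1, nat_lit 2, nat_lit 1]))))))) (.node (nat_lit 433) (.node (nat_lit 423) (.node (nat_lit 418) (.node (nat_lit 416) (.node (nat_lit 415) (.leaf (nat_lit 410) (nat_lit 1) [nat_lit 3, nat_lit 1, nat_lit 2, nat_lit 1, nat_lit 3, nat_lit 1, nat_lit 2, nat_lit 1, nat_lit 3, nat_lit 1, nat_lit 2]) (.leaf (nat_lit 411) (nat_lit 2) [nat_lit 1, nat_lit 3, nat_lit 1, nat_lit 2, nat_lit 1, nat_lit 3, nat_lit 1, nat_lit 2, nat_lit 1, nat_lit 3, nat_lit 1])) (.node (nat_lit 417) (.leaf (nat_lit 408) (nat_lit 1) [nat_lit 2, nat_lit 1, nat_lit 3, nat_lit 1, nat_lit 2, nat_lit 1, nat_lit 3, nat_lit 1, nat_lit 2, nat_lit 1, nat_lit 3]) (.leaf (nat_lit 409) (nat_lit 3) [nat_lit 1, nat_lit 2, nat_lit 1, nat_lit 3, nat_lit 1, nat_lit 2, nat_lit 1, nat_lit 3, nat_lit 1, nat_lit 2, nat_lit 1]))) (.node (nat_lit 420) (.node (nat_lit 419) (.leaf (nat_lit 410) (nat_lit 1) [nat_lit 3, nat_lit 1, nat_lit 2, nat_lit 1, nat_lit 3, nat_lit 1, nat_lit 2, nat_lit 1, nat_lit 3, nat_lit 1, nat_lit 2]) (.leaf (nat_lit 411) (nat_lit 2) [nat_lit 1, nat_lit 3, nat_lit 1, nat_lit 2, nat_lit 1, nat_lit 3, nat_lit 1, nat_lit 2, nat_lit 1, nat_lit 3, nat_lit 1])) (.node (nat_lit 421) (.leaf (nat_lit 411) (nat_lit 2) [nat_lit 1, nat_lit 3, nat_lit 1, nat_lit 2, nat_lit 1, nat_lit 3, nat_lit 1, nat_lit 2, nat_lit 1, nat_lit 3, nat_lit 1]) (.node (nat_lit 422) (.leaf (nat_lit 408) (nat_lit 1) [nat_lit 2, nat_lit 1, nat_lit 3, nat_lit 1, nat_lit 2, nat_lit 1, nat_lit 3, nat_lit 1, nat_lit 2, nat_lit 1, nat_lit 3]) (.leaf (nat_lit 409) (nat_lit 3) [nat_lit 1, nat_lit 2, nat_lit 1, nat_lit 3, nat_lit 1, nat_lit 2, nat_lit 1, nat_lit 3, nat_lit 1, nat_lit 2, nat_lit 1]))))) (.node (nat_lit 428) (.node (nat_lit 425) (.node (nat_lit 424) (.leaf (nat_lit 410) (nat_lit 1) [nat_lit 3, nat_lit 1, nat_lit 2, nat_lit 1, nat_lit 3, nat_lit 1, nat_lit 2, nat_lit 1, nat_lit 3, nat_lit 1, nat_lit 2]) (.leaf (nat_lit 411) (nat_lit 2) [nat_lit 1, nat_lit 3, nat_lit 1, nat_lit 2, nat_lit 1, nat_lit 3, nat_lit 1, nat_lit 2, nat_lit 1, nat_lit 3, nat_lit 1])) (.node (nat_lit 426) (.leaf (nat_lit 408) (nat_lit 1) [nat_lit 2, nat_lit 1, nat_lit 3, nat_lit 1, nat_lit 2, nat_lit 1, nat_lit 3, nat_lit 1, nat_lit 2, nat_lit 1, nat_lit 3]) (.node (nat_lit 427) (.leaf (nat_lit 409) (nat_lit 3) [nat_lit 1, nat_lit 2, nat_lit 1, nat_lit 3, nat_lit 1, nat_lit 2, nat_lit 1, nat_lit 3, nat_lit 1, nat_lit 2, nat_lit 1]) (.leaf (nat_lit 410) (nat_lit 1) [nat_lit 3, nat_lit 1, nat_lit 2, nat_lit 1, nat_lit 3, nat_lit 1, nat_lit 2, nat_lit 1, nat_lit 3, nat_lit 1, nat_lit 2])))) (.node (nat_lit 430) (.node (nat_lit 429) (.leaf (nat_lit 411) (nat_lit 2) [nat_lit 1, nat_lit 3, nat_lit 1, nat_lit 2, nat_lit 1, nat_lit 3, nat_lit 1, nat_lit 2, nat_lit 1, nat_lit 3, nat_lit 1]) (.leaf (nat_lit 408) (nat_lit 1) [nat_lit 2, nat_lit 1, nat_lit 3, nat_lit 1, nat_lit 2, nat_lit 1, nat_lit 3, nat_lit 1, nat_lit 2, nat_lit 1, nat_lit 3])) (.node (nat_lit 431) (.leaf (nat_lit 409) (nat_lit 3) [nat_lit 1, nat_lit 2, nat_lit 1, nat_lit 3, nat_lit 1, nat_lit 2, nat_lit 1, nat_lit 3, nat_lit 1, nat_lit 2, nat_lit 1]) (.node (nat_lit 432) (.leaf (nat_lit 410) (nat_lit 1) [nat_lit 3, nat_lit 1, nat_lit 2, nat_lit 1, nat_lit 3, nat_lit 1, nat_lit 2, nat_lit 1, nat_lit 3, nat_lit 1, nat_lit 2]) (.leaf (nat_lit 338) (nat_lit 1) [nat_lit 3, nat_lit 1, nat_lit 0, nat_lit 1, nat_lit 3, nat_lit 1, nat_lit 0, nat_lit 1, nat_lit 3, nat_lit 1, nat_lit 0])))))) (.node (nat_lit 442) (.node (nat_lit 437) (.node (nat_lit 435) (.node (nat_lit 434) (.leaf (nat_lit 339) (nat_lit 0) [nat_lit 1, nat_lit 3, nat_lit 1, nat_lit 0, nat_lit 1, nat_lit 3, nat_lit 1, nat_lit 0, nat_lit 1, nat_lit 3, nat_lit 1]) (.leaf (nat_lit 336) (nat_lit 1) [nat_lit 0, nat_lit 1, nat_lit 3, nat_lit 1, nat_lit 0, nat_lit 1, nat_lit 3, nat_lit 1, nat_lit 0, nat_lit 1, nat_lit 3])) (.node (nat_lit 436) (.leaf (nat_lit 337) (nat_lit 3) [nat_lit 1, nat_lit 0, nat_lit 1, nat_lit 3, nat_lit 1, nat_lit 0, nat_lit 1, nat_lit 3, nat_lit 1, nat_lit 0, nat_lit 1]) (.leaf (nat_lit 338) (nat_lit 1) [nat_lit 3, nat_lit 1, nat_lit 0, nat_lit 1, nat_lit 3, nat_lit 1, nat_lit 0, nat_lit 1, nat_lit 3, nat_lit 1, nat_lit 0]))) (.node (nat_lit 439) (.node (nat_lit 438) (.leaf (nat_lit 339) (nat_lit 0) [nat_lit 1, nat_lit 3, nat_lit 1, nat_lit 0, nat_lit 1, nat_lit 3, nat_lit 1, nat_lit 0, nat_lit 1, nat_lit 3, nat_lit 1]) (.leaf (nat_lit 336) (nat_lit 1) [nat_lit 0, nat_lit 1, nat_lit 3, nat_lit 1, nat_lit 0, nat_lit 1, nat_lit 3, nat_lit 1, nat_lit 0, nat_lit 1, nat_lit 3])) (.node (nat_lit 440) (.leaf (nat_lit 337) (nat_lit 3) [nat_lit 1, nat_lit 0, nat_lit 1, nat_lit 3, nat_lit 1, nat_lit 0, nat_lit 1, nat_lit 3, nat_lit 1, nat_lit 0, nat_lit 1]) (.node (nat_lit 441) (.leaf (nat_lit 338) (nat_lit 1) [nat_lit 3, nat_lit 1, nat_lit 0, nat_lit 1, nat_lit 3, nat_lit 1, nat_lit 0, nat_lit 1, nat_lit 3, nat_lit 1, nat_lit 0]) (.leaf (nat_lit 339) (nat_lit 0) [nat_lit 1, nat_lit 3, nat_lit 1, nat_lit 0, nat_lit 1, nat_lit 3, nat_lit 1, nat_lit 0, nat_lit 1, nat_lit 3, nat_lit 1]))))) (.node (nat_lit 447) (.node (nat_lit 444) (.node (nat_lit 443) (.leaf (nat_lit 336) (nat_lit 1) [nat_lit 0, nat_lit 1, nat_lit 3, nat_lit 1, nat_lit 0, nat_lit 1, nat_lit 3, nat_lit 1, nat_lit 0, nat_lit 1, nat_lit 3]) (.leaf (nat_lit 337) (nat_lit 3) [nat_lit 1, nat_lit 0, nat_lit 1, nat_lit 3, nat_lit 1, nat_lit 0, nat_lit 1, nat_lit 3, nat_lit 1, nat_lit 0, nat_lit 1])) (.node (nat_lit 445) (.leaf (nat_lit 337) (nat_lit 3) [nat_lit 1, nat_lit 0, nat_lit 1, nat_lit 3, nat_lit 1, nat_lit 0, nat_lit 1, nat_lit 3, nat_lit 1, nat_lit 0, nat_lit 1]) (.node (nat_lit 446) (.leaf (nat_lit 338) (nat_lit 1) [nat_lit 3, nat_lit 1, nat_lit 0, nat_lit 1, nat_lit 3, nat_lit 1, nat_lit 0, nat_lit 1, nat_lit 3, nat_lit 1, nat_lit 0]) (.leaf (nat_lit 339) (nat_lit 0) [nat_lit 1, nat_lit 3, nat_lit 1, nat_lit 0, nat_lit 1, nat_lit 3, nat_lit 1, nat_lit 0, nat_lit 1, nat_lit 3, nat_lit 1])))) (.node (nat_lit 449) (.node (nat_lit 448) (.leaf (nat_lit 336) (nat_lit 1) [nat_lit 0, nat_lit 1, nat_lit 3, nat_lit 1, nat_lit 0, nat_lit 1, nat_lit 3, nat_lit 1, nat_lit 0, nat_lit 1, nat_lit 3]) (.leaf (nat_lit 337) (nat_lit 3) [nat_lit 1, nat_lit 0, nat_lit 1, nat_lit 3, nat_lit 1, nat_lit 0, nat_lit 1, nat_lit 3, nat_lit 1, nat_lit 0, nat_lit 1])) (.node (nat_lit 450) (.leaf (nat_lit 338) (nat_lit 1) [nat_lit 3, nat_lit 1, nat_lit 0, nat_lit 1, nat_lit 3, nat_lit 1, nat_lit 0, nat_lit 1, nat_lit 3, nat_lit 1, nat_lit 0]) (.node (nat_lit 451) (.leaf (nat_lit 339) (nat_lit 0) [nat_lit 1, nat_lit 3, nat_lit 1, nat_lit 0, nat_lit 1, nat_lit 3, nat_lit 1, nat_lit 0, nat_lit 1, nat_lit 3, nat_lit 1]) (.leaf (nat_lit 336) (nat_lit 1) [nat_lit 0, nat_lit 1, nat_lit 3, nat_lit 1, nat_lit 0, nat_lit 1, nat_lit 3, nat_lit 1, nat_lit 0, nat_lit 1, nat_lit 3]))))))))) (.node (nat_lit 527) (.node (nat_lit 489) (.node (nat_lit 470) (.node (nat_lit 461) (.node (nat_lit 456) (.node (nat_lit 454) (.node (nat_lit 453) (.leaf (nat_lit 337) (nat_lit 3) [nat_lit 1, nat_lit 0, nat_lit 1, nat_lit 3, nat_lit 1, nat_lit 0, nat_lit 1, nat_lit 3, nat_lit 1, nat_lit 0, nat_lit 1]) (.leaf (nat_lit 338) (nat_lit 1) [nat_lit 3, nat_lit 1, nat_lit 0, nat_lit 1, nat_lit 3, nat_lit 1, nat_lit 0, nat_lit 1, nat_lit 3, nat_lit 1, nat_lit 0])) (.node (nat_lit 455) (.leaf (nat_lit 339) (nat_lit 0) [nat_lit 1, nat_lit 3, nat_lit 1, nat_lit 0, nat_lit 1, nat_lit 3, nat_lit 1, nat_lit 0, nat_lit 1, nat_lit 3, nat_lit 1]) (.leaf (nat_lit 336) (nat_lit 1) [nat_lit 0, nat_lit 1, nat_lit 3, nat_lit 1, nat_lit 0, nat_lit 1, nat_lit 3, nat_lit 1, nat_lit 0, nat_lit 1, nat_lit 3]))) (.node (nat_lit 458) (.node (nat_lit 457) (.leaf (nat_lit 410) (nat_lit 1) [nat_lit 3, nat_lit 1, nat_lit 2, nat_lit 1, nat_lit 3, nat_lit 1, nat_lit 2, nat_lit 1, nat_lit 3, nat_lit 1, nat_lit 2]) (.leaf (nat_lit 411) (nat_lit 2) [nat_lit 1, nat_lit 3, nat_lit 1, nat_lit 2, nat_lit 1, nat_lit 3, nat_lit 1, nat_lit 2, nat_lit 1, nat_lit 3, nat_lit 1])) (.node (nat_lit 459) (.leaf (nat_lit 408) (nat_lit 1) [nat_lit 2, nat_lit 1, nat_lit 3, nat_lit 1, nat_lit 2, nat_lit 1, nat_lit 3, nat_lit 1, nat_lit 2, nat_lit 1, nat_lit 3]) (.node (nat_lit 460) (.leaf (nat_lit 409) (nat_lit 3) [nat_lit 1, nat_lit 2, nat_lit 1, nat_lit 3, nat_lit 1, nat_lit 2, nat_lit 1, nat_lit 3, nat_lit 1, nat_lit 2, nat_lit 1]) (.leaf (nat_lit 410) (nat_lit 1) [nat_lit 3, nat_lit 1, nat_lit 2, nat_lit 1, nat_lit 3, nat_lit 1, nat_lit 2, nat_lit 1, nat_lit 3, nat_lit 1, nat_lit 2]))))) (.node (nat_lit 465) (.node (nat_lit 463) (.node (nat_lit 462) (.leaf (nat_lit 411) (nat_lit 2) [nat_lit 1, nat_lit 3, nat_lit 1, nat_lit 2, nat_lit 1, nat_lit 3, nat_lit 1, nat_lit 2, nat_lit 1, nat_lit 3, nat_lit 1]) (.leaf (nat_lit 408) (nat_lit 1) [nat_lit 2, nat_lit 1, nat_lit 3, nat_lit 1, nat_lit 2, nat_lit 1, nat_lit 3, nat_lit 1, nat_lit 2, nat_lit 1, nat_lit 3])) (.node (nat_lit 464) (.leaf (nat_lit 409) (nat_lit 3) [nat_lit 1, nat_lit 2, nat_lit 1, nat_lit 3, nat_lit 1, nat_lit 2, nat_lit 1, nat_lit 3, nat_lit 1, nat_lit 2, nat_lit 1]) (.leaf (nat_lit 410) (nat_lit 1) [nat_lit 3, nat_lit 1, nat_lit 2, nat_lit 1, nat_lit 3, nat_lit 1, nat_lit 2, nat_lit 1, nat_lit 3, nat_lit 1, nat_lit 2]))) (.node (nat_lit 467) (.node (nat_lit 466) (.leaf (nat_lit 411) (nat_lit 2) [nat_lit 1, nat_lit 3, nat_lit 1, nat_lit 2, nat_lit 1, nat_lit 3, nat_lit 1, nat_lit 2, nat_lit 1, nat_lit 3, nat_lit 1]) (.leaf (nat_lit 408) (nat_lit 1) [nat_lit 2, nat_lit 1, nat_lit 3, nat_lit 1, nat_lit 2, nat_lit 1, nat_lit 3, nat_lit 1, nat_lit 2, nat_lit 1, nat_lit 3])) (.node (nat_lit 468) (.leaf (nat_lit 409) (nat_lit 3) [nat_lit 1, nat_lit 2, nat_lit 1, nat_lit 3, nat_lit 1, nat_lit 2, nat_lit 1, nat_lit 3, nat_lit 1, nat_lit 2, nat_lit 1]) (.node (nat_lit 469) (.leaf (nat_lit 409) (nat_lit 3) [nat_lit 1, nat_lit 2, nat_lit 1, nat_lit 3, nat_lit 1, nat_lit 2, nat_lit 1, nat_lit 3, nat_lit 1, nat_lit 2, nat_lit 1]) (.leaf (nat_lit 410) (nat_lit 1) [nat_lit 3, nat_lit 1, nat_lit 2, nat_lit 1, nat_lit 3, nat_lit 1, nat_lit 2, nat_lit 1, nat_lit 3, nat_lit 1, nat_lit 2])))))) (.node (nat_lit 479) (.node (nat_lit 474) (.node (nat_lit 472) (.node (nat_lit 471) (.leaf (nat_lit 411) (nat_lit 2) [nat_lit 1, nat_lit 3, nat_lit 1, nat_lit 2, nat_lit 1, nat_lit 3, nat_lit 1, nat_lit 2, nat_lit 1, nat_lit 3, nat_lit 1]) (.leaf (nat_lit 408) (nat_lit 1) [nat_lit 2, nat_lit 1, nat_lit 3, nat_lit 1, nat_lit 2, nat_lit 1, nat_lit 3, nat_lit 1, nat_lit 2, nat_lit 1, nat_lit 3])) (.node (nat_lit 473) (.leaf (nat_lit 409) (nat_lit 3) [nat_lit 1, nat_lit 2, nat_lit 1, nat_lit 3, nat_lit 1, nat_lit 2, nat_lit 1, nat_lit 3, nat_lit 1, nat_lit 2, nat_lit 1]) (.leaf (nat_lit 410) (nat_lit 1) [nat_lit 3, nat_lit 1, nat_lit 2, nat_lit 1, nat_lit 3, nat_lit 1, nat_lit 2, nat_lit 1, nat_lit 3, nat_lit 1, nat_lit 2]))) (.node (nat_lit 476) (.node (nat_lit 475) (.leaf (nat_lit 411) (nat_lit 2) [nat_lit 1, nat_lit 3, nat_lit 1, nat_lit 2, nat_lit 1, nat_lit 3, nat_lit 1, nat_lit 2, nat_lit 1, nat_lit 3, nat_lit 1]) (.leaf (nat_lit 408) (nat_lit 1) [nat_lit 2, nat_lit 1, nat_lit 3, nat_lit 1, nat_lit 2, nat_lit 1, nat_lit 3, nat_lit 1, nat_lit 2, nat_lit 1, nat_lit 3])) (.node (nat_lit 477) (.leaf (nat_lit 409) (nat_lit 3) [nat_lit 1, nat_lit 2, nat_lit 1, nat_lit 3, nat_lit 1, nat_lit 2, nat_lit 1, nat_lit 3, nat_lit 1, nat_lit 2, nat_lit 1]) (.node (nat_lit 478) (.leaf (nat_lit 410) (nat_lit 1) [nat_lit 3, nat_lit 1, nat_lit 2, nat_lit 1, nat_lit 3, nat_lit 1, nat_lit 2, nat_lit 1, nat_lit 3, nat_lit 1, nat_lit 2]) (.leaf (nat_lit 411) (nat_lit 2) [nat_lit 1, nat_lit 3, nat_lit 1, nat_lit 2, nat_lit 1, nat_lit 3, nat_lit 1, nat_lit 2, nat_lit 1, nat_lit 3, nat_lit 1]))))) (.node (nat_lit 484) (.node (nat_lit 481) (.node (nat_lit 480) (.leaf (nat_lit 408) (nat_lit 1) [nat_lit 2, nat_lit 1, nat_lit 3, nat_lit 1, nat_lit 2, nat_lit 1, nat_lit 3, nat_lit 1, nat_lit 2, nat_lit 1, nat_lit 3]) (.leaf (nat_lit 480) (nat_lit 1) [nat_lit 3, nat_lit 1, nat_lit 3, nat_lit 1, nat_lit 3, nat_lit 1, nat_lit 3, nat_lit 1, nat_lit 3, nat_lit 1, nat_lit 3])) (.node (nat_lit 482) (.leaf (nat_lit 481) (nat_lit 3) [nat_lit 1, nat_lit 3, nat_lit 1, nat_lit 3, nat_lit 1, nat_lit 3, nat_lit 1, nat_lit 3, nat_lit 1, nat_lit 3, nat_lit 1]) (.node (nat_lit 483) (.leaf (nat_lit 480) (nat_lit 1) [nat_lit 3, nat_lit 1, nat_lit 3, nat_lit 1, nat_lit 3, nat_lit 1, nat_lit 3, nat_lit 1, nat_lit 3, nat_lit 1, nat_lit 3]) (.leaf (nat_lit 481) (nat_lit 3) [nat_lit 1, nat_lit 3, nat_lit 1, nat_lit 3, nat_lit 1, nat_lit 3, nat_lit 1, nat_lit 3, nat_lit 1, nat_lit 3, nat_lit 1])))) (.node (nat_lit 486) (.node (nat_lit 485) (.leaf (nat_lit 480) (nat_lit 1) [nat_lit 3, nat_lit 1, nat_lit 3, nat_lit 1, nat_lit 3, nat_lit 1, nat_lit 3, nat_lit 1, nat_lit 3, nat_lit 1, nat_lit 3]) (.leaf (nat_lit 481) (nat_lit 3) [nat_lit 1, nat_lit 3, nat_lit 1, nat_lit 3, nat_lit 1, nat_lit 3, nat_lit 1, nat_lit 3, nat_lit 1, nat_lit 3, nat_lit 1])) (.node (nat_lit 487) (.leaf (nat_lit 480) (nat_lit 1) [nat_lit 3, nat_lit 1, nat_lit 3, nat_lit 1, nat_lit 3, nat_lit 1, nat_lit 3, nat_lit 1, nat_lit 3, nat_lit 1, nat_lit 3]) (.node (nat_lit 488) (.leaf (nat_lit 481) (nat_lit 3) [nat_lit 1, nat_lit 3, nat_lit 1, nat_lit 3, nat_lit 1, nat_lit 3, nat_lit 1, nat_lit 3, nat_lit 1, nat_lit 3, nat_lit 1]) (.leaf (nat_lit 480) (nat_lit 1) [nat_lit 3, nat_lit 1, nat_lit 3, nat_lit 1, nat_lit 3, nat_lit 1, nat_lit 3, nat_lit 1, nat_lit 3, nat_lit 1, nat_lit 3]))))))) (.node (nat_lit 508) (.node (nat_lit 498) (.node (nat_lit 493) (.node (nat_lit 491) (.node (nat_lit 490) (.leaf (nat_lit 481) (nat_lit 3) [nat_lit 1, nat_lit 3, nat_lit 1, nat_lit 3, nat_lit 1, nat_lit 3, nat_lit 1, nat_lit 3, nat_lit 1, nat_lit 3, nat_lit 1]) (.leaf (nat_lit 480) (nat_lit 1) [nat_lit 3, nat_lit 1, nat_lit 3, nat_lit 1, nat_lit 3, nat_lit 1, nat_lit 3, nat_lit 1, nat_lit 3, nat_lit 1, nat_lit 3])) (.node (nat_lit 492) (.leaf (nat_lit 481) (nat_lit 3) [nat_lit 1, nat_lit 3, nat_lit 1, nat_lit 3, nat_lit 1, nat_lit 3, nat_lit 1, nat_lit 3, nat_lit 1, nat_lit 3, nat_lit 1]) (.leaf (nat_lit 481) (nat_lit 3) [nat_lit 1, nat_lit 3, nat_lit 1, nat_lit 3, nat_lit 1, nat_lit 3, nat_lit 1, nat_lit 3, nat_lit 1, nat_lit 3, nat_lit 1]))) (.node (nat_lit 495) (.node (nat_lit 494) (.leaf (nat_lit 480) (nat_lit 1) [nat_lit 3, nat_lit 1, nat_lit 3, nat_lit 1, nat_lit 3, nat_lit 1, nat_lit 3, nat_lit 1, nat_lit 3, nat_lit 1, nat_lit 3]) (.leaf (nat_lit 481) (nat_lit 3) [nat_lit 1, nat_lit 3, nat_lit 1, nat_lit 3, nat_lit 1, nat_lit 3, nat_lit 1, nat_lit 3, nat_lit 1, nat_lit 3, nat_lit 1])) (.node (nat_lit 496) (.leaf (nat_lit 480) (nat_lit 1) [nat_lit 3, nat_lit 1, nat_lit 3, nat_lit 1, nat_lit 3, nat_lit 1, nat_lit 3, nat_lit 1, nat_lit 3, nat_lit 1, nat_lit 3]) (.node (nat_lit 497) (.leaf (nat_lit 481) (nat_lit 3) [nat_lit 1, nat_lit 3, nat_lit 1, nat_lit 3, nat_lit 1, nat_lit 3, nat_lit 1, nat_lit 3, nat_lit 1, nat_lit 3, nat_lit 1]) (.leaf (nat_lit 480) (nat_lit 1) [nat_lit 3, nat_lit 1, nat_lit 3, nat_lit 1, nat_lit 3, nat_lit 1, nat_lit 3, nat_lit 1, nat_lit 3, nat_lit 1, nat_lit 3]))))) (.node (nat_lit 503) (.node (nat_lit 500) (.node (nat_lit 499) (.leaf (nat_lit 481) (nat_lit 3) [nat_lit 1, nat_lit 3, nat_lit 1, nat_lit 3, nat_lit 1, nat_lit 3, nat_lit 1, nat_lit 3, nat_lit 1, nat_lit 3, nat_lit 1]) (.leaf (nat_lit 480) (nat_lit 1) [nat_lit 3, nat_lit 1, nat_lit 3, nat_lit 1, nat_lit 3, nat_lit 1, nat_lit 3, nat_lit 1, nat_lit 3, nat_lit 1, nat_lit 3])) (.node (nat_lit 501) (.leaf (nat_lit 481) (nat_lit 3) [nat_lit 1, nat_lit 3, nat_lit 1, nat_lit 3, nat_lit 1, nat_lit 3, nat_lit 1, nat_lit 3, nat_lit 1, nat_lit 3, nat_lit 1]) (.node (nat_lit 502) (.leaf (nat_lit 480) (nat_lit 1) [nat_lit 3, nat_lit 1, nat_lit 3, nat_lit 1, nat_lit 3, nat_lit 1, nat_lit 3, nat_lit 1, nat_lit 3, nat_lit 1, nat_lit 3]) (.leaf (nat_lit 481) (nat_lit 3) [nat_lit 1, nat_lit 3, nat_lit 1, nat_lit 3, nat_lit 1, nat_lit 3, nat_lit 1, nat_lit 3, nat_lit 1, nat_lit 3, nat_lit 1])))) (.node (nat_lit 505) (.node (nat_lit 504) (.leaf (nat_lit 480) (nat_lit 1) [nat_lit 3, nat_lit 1, nat_lit 3, nat_lit 1, nat_lit 3, nat_lit 1, nat_lit 3, nat_lit 1, nat_lit 3, nat_lit 1, nat_lit 3]) (.leaf (nat_lit 169) (nat_lit 2) [nat_lit 0, nat_lit 2, nat_lit 0, nat_lit 2, nat_lit 0, nat_lit 2, nat_lit 0, nat_lit 2, nat_lit 0, nat_lit 2, nat_lit 0])) (.node (nat_lit 506) (.leaf (nat_lit 168) (nat_lit 0) [nat_lit 2, nat_lit 0, nat_lit 2, nat_lit 0, nat_lit 2, nat_lit 0, nat_lit 2, nat_lit 0, nat_lit 2, nat_lit 0, nat_lit 2]) (.node (nat_lit 507) (.leaf (nat_lit 169) (nat_lit 2) [nat_lit 0, nat_lit 2, nat_lit 0, nat_lit 2, nat_lit 0, nat_lit 2, nat_lit 0, nat_lit 2, nat_lit 0, nat_lit 2, nat_lit 0]) (.leaf (nat_lit 168) (nat_lit 0) [nat_lit 2, nat_lit 0, nat_lit 2, nat_lit 0, nat_lit 2, nat_lit 0, nat_lit 2, nat_lit 0, nat_lit 2, nat_lit 0, nat_lit 2])))))) (.node (nat_lit 517) (.node (nat_lit 512) (.node (nat_lit 510) (.node (nat_lit 509) (.leaf (nat_lit 169) (nat_lit 2) [nat_lit 0, nat_lit 2, nat_lit 0, nat_lit 2, nat_lit 0, nat_lit 2, nat_lit 0, nat_lit 2, nat_lit 0, nat_lit 2, nat_lit 0]) (.leaf (nat_lit 168) (nat_lit 0) [nat_lit 2, nat_lit 0, nat_lit 2, nat_lit 0, nat_lit 2, nat_lit 0, nat_lit 2, nat_lit 0, nat_lit 2, nat_lit 0, nat_lit 2])) (.node (nat_lit 511) (.leaf (nat_lit 169) (nat_lit 2) [nat_lit 0, nat_lit 2, nat_lit 0, nat_lit 2, nat_lit 0, nat_lit 2, nat_lit 0, nat_lit 2, nat_lit 0, nat_lit 2, nat_lit 0]) (.leaf (nat_lit 168) (nat_lit 0) [nat_lit 2, nat_lit 0, nat_lit 2, nat_lit 0, nat_lit 2, nat_lit 0, nat_lit 2, nat_lit 0, nat_lit 2, nat_lit 0, nat_lit 2]))) (.node (nat_lit 514) (.node (nat_lit 513) (.leaf (nat_lit 169) (nat_lit 2) [nat_lit 0, nat_lit 2, nat_lit 0, nat_lit 2, nat_lit 0, nat_lit 2, nat_lit 0, nat_lit 2, nat_lit 0, nat_lit 2, nat_lit 0]) (.leaf (nat_lit 168) (nat_lit 0) [nat_lit 2, nat_lit 0, nat_lit 2, nat_lit 0, nat_lit 2, nat_lit 0, nat_lit 2, nat_lit 0, nat_lit 2, nat_lit 0, nat_lit 2])) (.node (nat_lit 515) (.leaf (nat_lit 169) (nat_lit 2) [nat_lit 0, nat_lit 2, nat_lit 0, nat_lit 2, nat_lit 0, nat_lit 2, nat_lit 0, nat_lit 2, nat_lit 0, nat_lit 2, nat_lit 0]) (.node (nat_lit 516) (.leaf (nat_lit 168) (nat_lit 0) [nat_lit 2, nat_lit 0, nat_lit 2, nat_lit 0, nat_lit 2, nat_lit 0, nat_lit 2, nat_lit 0, nat_lit 2, nat_lit 0, nat_lit 2]) (.leaf (nat_lit 168) (nat_lit 0) [nat_lit 2, nat_lit 0, nat_lit 2, nat_lit 0, nat_lit 2, nat_lit 0, nat_lit 2, nat_lit 0, nat_lit 2, nat_lit 0, nat_lit 2]))))) (.node (nat_lit 522) (.node (nat_lit 519) (.node (nat_lit 518) (.leaf (nat_lit 169) (nat_lit 2) [nat_lit 0, nat_lit 2, nat_lit 0, nat_lit 2, nat_lit 0, nat_lit 2, nat_lit 0, nat_lit 2, nat_lit 0, nat_lit 2, nat_lit 0]) (.leaf (nat_lit 168) (nat_lit 0) [nat_lit 2, nat_lit 0, nat_lit 2, nat_lit 0, nat_lit 2, nat_lit 0, nat_lit 2, nat_lit 0, nat_lit 2, nat_lit 0, nat_lit 2])) (.node (nat_lit 520) (.leaf (nat_lit 169) (nat_lit 2) [nat_lit 0, nat_lit 2, nat_lit 0, nat_lit 2, nat_lit 0, nat_lit 2, nat_lit 0, nat_lit 2, nat_lit 0, nat_lit 2, nat_lit 0]) (.node (nat_lit 521) (.leaf (nat_lit 168) (nat_lit 0) [nat_lit 2, nat_lit 0, nat_lit 2, nat_lit 0, nat_lit 2, nat_lit 0, nat_lit 2, nat_lit 0, nat_lit 2, nat_lit 0, nat_lit 2]) (.leaf (nat_lit 169) (nat_lit 2) [nat_lit 0, nat_lit 2, nat_lit 0, nat_lit 2, nat_lit 0, nat_lit 2, nat_lit 0, nat_lit 2, nat_lit 0, nat_lit 2, nat_lit 0])))) (.node (nat_lit 524) (.node (nat_lit 523) (.leaf (nat_lit 168) (nat_lit 0) [nat_lit 2, nat_lit 0, nat_lit 2, nat_lit 0, nat_lit 2, nat_lit 0, nat_lit 2, nat_lit 0, nat_lit 2, nat_lit 0, nat_lit 2]) (.leaf (nat_lit 169) (nat_lit 2) [nat_lit 0, nat_lit 2, nat_lit 0, nat_lit 2, nat_lit 0, nat_lit 2, nat_lit 0, nat_lit 2, nat_lit 0, nat_lit 2, nat_lit 0])) (.node (nat_lit 525) (.leaf (nat_lit 168) (nat_lit 0) [nat_lit 2, nat_lit 0, nat_lit 2, nat_lit 0, nat_lit 2, nat_lit 0, nat_lit 2, nat_lit 0, nat_lit 2, nat_lit 0, nat_lit 2]) (.node (nat_lit 526) (.leaf (nat_lit 169) (nat_lit 2) [nat_lit 0, nat_lit 2, nat_lit 0, nat_lit 2, nat_lit 0, nat_lit 2, nat_lit 0, nat_lit 2, nat_lit 0, nat_lit 2, nat_lit 0]) (.leaf (nat_lit 168) (nat_lit 0) [nat_lit 2, nat_lit 0, nat_lit 2, nat_lit 0, nat_lit 2, nat_lit 0, nat_lit 2, nat_lit 0, nat_lit 2, nat_lit 0, nat_lit 2])))))))) (.node (nat_lit 565) (.node (nat_lit 546) (.node (nat_lit 536) (.node (nat_lit 531) (.node (nat_lit 529) (.node (nat_lit 528) (.leaf (nat_lit 169) (nat_lit 2) [nat_lit 0, nat_lit 2, nat_lit 0, nat_lit 2, nat_lit 0, nat_lit 2, nat_lit 0, nat_lit 2, nat_lit 0, nat_lit 2, nat_lit 0]) (.leaf (nat_lit 528) (nat_lit 2) [nat_lit 0, nat_lit 2, nat_lit 1, nat_lit 2, nat_lit 0, nat_lit 2, nat_lit 1, nat_lit 2, nat_lit 0, nat_lit 2, nat_lit 1])) (.node (nat_lit 530) (.leaf (nat_lit 529) (nat_lit 1) [nat_lit 2, nat_lit 0, nat_lit 2, nat_lit 1, nat_lit 2, nat_lit 0, nat_lit 2, nat_lit 1, nat_lit 2, nat_lit 0, nat_lit 2]) (.leaf (nat_lit 530) (nat_lit 2) [nat_lit 1, nat_lit 2, nat_lit 0, nat_lit 2, nat_lit 1, nat_lit 2, nat_lit 0, nat_lit 2, nat_lit 1, nat_lit 2, nat_lit 0]))) (.node (nat_lit 533) (.node (nat_lit 532) (.leaf (nat_lit 531) (nat_lit 0) [nat_lit 2, nat_lit 1, nat_lit 2, nat_lit 0, nat_lit 2, nat_lit 1, nat_lit 2, nat_lit 0, nat_lit 2, nat_lit 1, nat_lit 2]) (.leaf (nat_lit 528) (nat_lit 2) [nat_lit 0, nat_lit 2, nat_lit 1, nat_lit 2, nat_lit 0, nat_lit 2, nat_lit 1, nat_lit 2, nat_lit 0, nat_lit 2, nat_lit 1])) (.node (nat_lit 534) (.leaf (nat_lit 529) (nat_lit 1) [nat_lit 2, nat_lit 0, nat_lit 2, nat_lit 1, nat_lit 2, nat_lit 0, nat_lit 2, nat_lit 1, nat_lit 2, nat_lit 0, nat_lit 2]) (.node (nat_lit 535) (.leaf (nat_lit 530) (nat_lit 2) [nat_lit 1, nat_lit 2, nat_lit 0, nat_lit 2, nat_lit 1, nat_lit 2, nat_lit 0, nat_lit 2, nat_lit 1, nat_lit 2, nat_lit 0]) (.leaf (nat_lit 531) (nat_lit 0) [nat_lit 2, nat_lit 1, nat_lit 2, nat_lit 0, nat_lit 2, nat_lit 1, nat_lit 2, nat_lit 0, nat_lit 2, nat_lit 1, nat_lit 2]))))) (.node (nat_lit 541) (.node (nat_lit 538) (.node (nat_lit 537) (.leaf (nat_lit 528) (nat_lit 2) [nat_lit 0, nat_lit 2, nat_lit 1, nat_lit 2, nat_lit 0, nat_lit 2, nat_lit 1, nat_lit 2, nat_lit 0, nat_lit 2, nat_lit 1]) (.leaf (nat_lit 529) (nat_lit 1) [nat_lit 2, nat_lit 0, nat_lit 2, nat_lit 1, nat_lit 2, nat_lit 0, nat_lit 2, nat_lit 1, nat_lit 2, nat_lit 0, nat_lit 2])) (.node (nat_lit 539) (.leaf (nat_lit 530) (nat_lit 2) [nat_lit 1, nat_lit 2, nat_lit 0, nat_lit 2, nat_lit 1, nat_lit 2, nat_lit 0, nat_lit 2, nat_lit 1, nat_lit 2, nat_lit 0]) (.node (nat_lit 540) (.leaf (nat_lit 531) (nat_lit 0) [nat_lit 2, nat_lit 1, nat_lit 2, nat_lit 0, nat_lit 2, nat_lit 1, nat_lit 2, nat_lit 0, nat_lit 2, nat_lit 1, nat_lit 2]) (.leaf (nat_lit 531) (nat_lit 0) [nat_lit 2, nat_lit 1, nat_lit 2, nat_lit 0, nat_lit 2, nat_lit 1, nat_lit 2, nat_lit 0, nat_lit 2, nat_lit 1, nat_lit 2])))) (.node (nat_lit 543) (.node (nat_lit 542) (.leaf (nat_lit 528) (nat_lit 2) [nat_lit 0, nat_lit 2, nat_lit 1, nat_lit 2, nat_lit 0, nat_lit 2, nat_lit 1, nat_lit 2, nat_lit 0, nat_lit 2, nat_lit 1]) (.leaf (nat_lit 529) (nat_lit 1) [nat_lit 2, nat_lit 0, nat_lit 2, nat_lit 1, nat_lit 2, nat_lit 0, nat_lit 2, nat_lit 1, nat_lit 2, nat_lit 0, nat_lit 2])) (.node (nat_lit 544) (.leaf (nat_lit 530) (nat_lit 2) [nat_lit 1, nat_lit 2, nat_lit 0, nat_lit 2, nat_lit 1, nat_lit 2, nat_lit 0, nat_lit 2, nat_lit 1, nat_lit 2, nat_lit 0]) (.node (nat_lit 545) (.leaf (nat_lit 531) (nat_lit 0) [nat_lit 2, nat_lit 1, nat_lit 2, nat_lit 0, nat_lit 2, nat_lit 1, nat_lit 2, nat_lit 0, nat_lit 2, nat_lit 1, nat_lit 2]) (.leaf (nat_lit 528) (nat_lit 2) [nat_lit 0, nat_lit 2, nat_lit 1, nat_lit 2, nat_lit 0, nat_lit 2, nat_lit 1, nat_lit 2, nat_lit 0, nat_lit 2, nat_lit 1])))))) (.node (nat_lit 555) (.node (nat_lit 550) (.node (nat_lit 548) (.node (nat_lit 547) (.leaf (nat_lit 529) (nat_lit 1) [nat_lit 2, nat_lit 0, nat_lit 2, nat_lit 1, nat_lit 2, nat_lit 0, nat_lit 2, nat_lit 1, nat_lit 2, nat_lit 0, nat_lit 2]) (.leaf (nat_lit 530) (nat_lit 2) [nat_lit 1, nat_lit 2, nat_lit 0, nat_lit 2, nat_lit 1, nat_lit 2, nat_lit 0, nat_lit 2, nat_lit 1, nat_lit 2, nat_lit 0])) (.node (nat_lit 549) (.leaf (nat_lit 531) (nat_lit 0) [nat_lit 2, nat_lit 1, nat_lit 2, nat_lit 0, nat_lit 2, nat_lit 1, nat_lit 2, nat_lit 0, nat_lit 2, nat_lit 1, nat_lit 2]) (.leaf (nat_lit 528) (nat_lit 2) [nat_lit 0, nat_lit 2, nat_lit 1, nat_lit 2, nat_lit 0, nat_lit 2, nat_lit 1, nat_lit 2, nat_lit 0, nat_lit 2, nat_lit 1]))) (.node (nat_lit 552) (.node (nat_lit 551) (.leaf (nat_lit 529) (nat_lit 1) [nat_lit 2, nat_lit 0, nat_lit 2, nat_lit 1, nat_lit 2, nat_lit 0, nat_lit 2, nat_lit 1, nat_lit 2, nat_lit 0, nat_lit 2]) (.leaf (nat_lit 530) (nat_lit 2) [nat_lit 1, nat_lit 2, nat_lit 0, nat_lit 2, nat_lit 1, nat_lit 2, nat_lit 0, nat_lit 2, nat_lit 1, nat_lit 2, nat_lit 0])) (.node (nat_lit 553) (.leaf (nat_lit 552) (nat_lit 2) [nat_lit 0, nat_lit 2, nat_lit 3, nat_lit 2, nat_lit 0, nat_lit 2, nat_lit 3, nat_lit 2, nat_lit 0, nat_lit 2, nat_lit 3]) (.node (nat_lit 554) (.leaf (nat_lit 553) (nat_lit 3) [nat_lit 2, nat_lit 0, nat_lit 2, nat_lit 3, nat_lit 2, nat_lit 0, nat_lit 2, nat_lit 3, nat_lit 2, nat_lit 0, nat_lit 2]) (.leaf (nat_lit 554) (nat_lit 2) [nat_lit 3, nat_lit 2, nat_lit 0, nat_lit 2, nat_lit 3, nat_lit 2, nat_lit 0, nat_lit 2, nat_lit 3, nat_lit 2, nat_lit 0]))))) (.node (nat_lit 560) (.node (nat_lit 557) (.node (nat_lit 556) (.leaf (nat_lit 555) (nat_lit 0) [nat_lit 2, nat_lit 3, nat_lit 2, nat_lit 0, nat_lit 2, nat_lit 3, nat_lit 2, nat_lit 0, nat_lit 2, nat_lit 3, nat_lit 2]) (.leaf (nat_lit 552) (nat_lit 2) [nat_lit 0, nat_lit 2, nat_lit 3, nat_lit 2, nat_lit 0, nat_lit 2, nat_lit 3, nat_lit 2, nat_lit 0, nat_lit 2, nat_lit 3])) (.node (nat_lit 558) (.leaf (nat_lit 553) (nat_lit 3) [nat_lit 2, nat_lit 0, nat_lit 2, nat_lit 3, nat_lit 2, nat_lit 0, nat_lit 2, nat_lit 3, nat_lit 2, nat_lit 0, nat_lit 2]) (.node (nat_lit 559) (.leaf (nat_lit 554) (nat_lit 2) [nat_lit 3, nat_lit 2, nat_lit 0, nat_lit 2, nat_lit 3, nat_lit 2, nat_lit 0, nat_lit 2, nat_lit 3, nat_lit 2, nat_lit 0]) (.leaf (nat_lit 555) (nat_lit 0) [nat_lit 2, nat_lit 3, nat_lit 2, nat_lit 0, nat_lit 2, nat_lit 3, nat_lit 2, nat_lit 0, nat_lit 2, nat_lit 3, nat_lit 2])))) (.node (nat_lit 562) (.node (nat_lit 561) (.leaf (nat_lit 552) (nat_lit 2) [nat_lit 0, nat_lit 2, nat_lit 3, nat_lit 2, nat_lit 0, nat_lit 2, nat_lit 3, nat_lit 2, nat_lit 0, nat_lit 2, nat_lit 3]) (.leaf (nat_lit 553) (nat_lit 3) [nat_lit 2, nat_lit 0, nat_lit 2, nat_lit 3, nat_lit 2, nat_lit 0, nat_lit 2, nat_lit 3, nat_lit 2, nat_lit 0, nat_lit 2])) (.node (nat_lit 563) (.leaf (nat_lit 554) (nat_lit 2) [nat_lit 3, nat_lit 2, nat_lit 0, nat_lit 2, nat_lit 3, nat_lit 2, nat_lit 0, nat_lit 2, nat_lit 3, nat_lit 2, nat_lit 0]) (.node (nat_lit 564) (.leaf (nat_lit 555) (nat_lit 0) [nat_lit 2, nat_lit 3, nat_lit 2, nat_lit 0, nat_lit 2, nat_lit 3, nat_lit 2, nat_lit 0, nat_lit 2, nat_lit 3, nat_lit 2]) (.leaf (nat_lit 555) (nat_lit 0) [nat_lit 2, nat_lit 3, nat_lit 2, nat_lit 0, nat_lit 2, nat_lit 3, nat_lit 2, nat_lit 0, nat_lit 2, nat_lit 3, nat_lit 2]))))))) (.node (nat_lit 584) (.node (nat_lit 574) (.node (nat_lit 569) (.node (nat_lit 567) (.node (nat_lit 566) (.leaf (nat_lit 552) (nat_lit 2) [nat_lit 0, nat_lit 2, nat_lit 3, nat_lit 2, nat_lit 0, nat_lit 2, nat_lit 3, nat_lit 2, nat_lit 0, nat_lit 2, nat_lit 3]) (.leaf (nat_lit 553) (nat_lit 3) [nat_lit 2, nat_lit 0, nat_lit 2, nat_lit 3, nat_lit 2, nat_lit 0, nat_lit 2, nat_lit 3, nat_lit 2, nat_lit 0, nat_lit 2])) (.node (nat_lit 568) (.leaf (nat_lit 554) (nat_lit 2) [nat_lit 3, nat_lit 2, nat_lit 0, nat_lit 2, nat_lit 3, nat_lit 2, nat_lit 0, nat_lit 2, nat_lit 3, nat_lit 2, nat_lit 0]) (.leaf (nat_lit 555) (nat_lit 0) [nat_lit 2, nat_lit 3, nat_lit 2, nat_lit 0, nat_lit 2, nat_lit 3, nat_lit 2, nat_lit 0, nat_lit 2, nat_lit 3, nat_lit 2]))) (.node (nat_lit 571) (.node (nat_lit 570) (.leaf (nat_lit 552) (nat_lit 2) [nat_lit 0, nat_lit 2, nat_lit 3, nat_lit 2, nat_lit 0, nat_lit 2, nat_lit 3, nat_lit 2, nat_lit 0, nat_lit 2, nat_lit 3]) (.leaf (nat_lit 553) (nat_lit 3) [nat_lit 2, nat_lit 0, nat_lit 2, nat_lit 3, nat_lit 2, nat_lit 0, nat_lit 2, nat_lit 3, nat_lit 2, nat_lit 0, nat_lit 2])) (.node (nat_lit 572) (.leaf (nat_lit 554) (nat_lit 2) [nat_lit 3, nat_lit 2, nat_lit 0, nat_lit 2, nat_lit 3, nat_lit 2, nat_lit 0, nat_lit 2, nat_lit 3, nat_lit 2, nat_lit 0]) (.node (nat_lit 573) (.leaf (nat_lit 555) (nat_lit 0) [nat_lit 2, nat_lit 3, nat_lit 2, nat_lit 0, nat_lit 2, nat_lit 3, nat_lit 2, nat_lit 0, nat_lit 2, nat_lit 3, nat_lit 2]) (.leaf (nat_lit 552) (nat_lit 2) [nat_lit 0, nat_lit 2, nat_lit 3, nat_lit 2, nat_lit 0, nat_lit 2, nat_lit 3, nat_lit 2, nat_lit 0, nat_lit 2, nat_lit 3]))))) (.node (nat_lit 579) (.node (nat_lit 576) (.node (nat_lit 575) (.leaf (nat_lit 553) (nat_lit 3) [nat_lit 2, nat_lit 0, nat_lit 2, nat_lit 3, nat_lit 2, nat_lit 0, nat_lit 2, nat_lit 3, nat_lit 2, nat_lit 0, nat_lit 2]) (.leaf (nat_lit 554) (nat_lit 2) [nat_lit 3, nat_lit 2, nat_lit 0, nat_lit 2, nat_lit 3, nat_lit 2, nat_lit 0, nat_lit 2, nat_lit 3, nat_lit 2, nat_lit 0])) (.node (nat_lit 577) (.leaf (nat_lit 530) (nat_lit 2) [nat_lit 1, nat_lit 2, nat_lit 0, nat_lit 2, nat_lit 1, nat_lit 2, nat_lit 0, nat_lit 2, nat_lit 1, nat_lit 2, nat_lit 0]) (.node (nat_lit 578) (.leaf (nat_lit 531) (nat_lit 0) [nat_lit 2, nat_lit 1, nat_lit 2, nat_lit 0, nat_lit 2, nat_lit 1, nat_lit 2, nat_lit 0, nat_lit 2, nat_lit 1, nat_lit 2]) (.leaf (nat_lit 528) (nat_lit 2) [nat_lit 0, nat_lit 2, nat_lit 1, nat_lit 2, nat_lit 0, nat_lit 2, nat_lit 1, nat_lit 2, nat_lit 0, nat_lit 2, nat_lit 1])))) (.node (nat_lit 581) (.node (nat_lit 580) (.leaf (nat_lit 529) (nat_lit 1) [nat_lit 2, nat_lit 0, nat_lit 2, nat_lit 1, nat_lit 2, nat_lit 0, nat_lit 2, nat_lit 1, nat_lit 2, nat_lit 0, nat_lit 2]) (.leaf (nat_lit 530) (nat_lit 2) [nat_lit 1, nat_lit 2, nat_lit 0, nat_lit 2, nat_lit 1, nat_lit 2, nat_lit 0, nat_lit 2, nat_lit 1, nat_lit 2, nat_lit 0])) (.node (nat_lit 582) (.leaf (nat_lit 531) (nat_lit 0) [nat_lit 2, nat_lit 1, nat_lit 2, nat_lit 0, nat_lit 2, nat_lit 1, nat_lit 2, nat_lit 0, nat_lit 2, nat_lit 1, nat_lit 2]) (.node (nat_lit 583) (.leaf (nat_lit 528) (nat_lit 2) [nat_lit 0, nat_lit 2, nat_lit 1, nat_lit 2, nat_lit 0, nat_lit 2, nat_lit 1, nat_lit 2, nat_lit 0, nat_lit 2, nat_lit 1]) (.leaf (nat_lit 529) (nat_lit 1) [nat_lit 2, nat_lit 0, nat_lit 2, nat_lit 1, nat_lit 2, nat_lit 0, nat_lit 2, nat_lit 1, nat_lit 2, nat_lit 0, nat_lit 2])))))) (.node (nat_lit 593) (.node (nat_lit 588) (.node (nat_lit 586) (.node (nat_lit 585) (.leaf (nat_lit 530) (nat_lit 2) [nat_lit 1, nat_lit 2, nat_lit 0, nat_lit 2, nat_lit 1, nat_lit 2, nat_lit 0, nat_lit 2, nat_lit 1, nat_lit 2, nat_lit 0]) (.leaf (nat_lit 531) (nat_lit 0) [nat_lit 2, nat_lit 1, nat_lit 2, nat_lit 0, nat_lit 2, nat_lit 1, nat_lit 2, nat_lit 0, nat_lit 2, nat_lit 1, nat_lit 2])) (.node (nat_lit 587) (.leaf (nat_lit 528) (nat_lit 2) [nat_lit 0, nat_lit 2, nat_lit 1, nat_lit 2, nat_lit 0, nat_lit 2, nat_lit 1, nat_lit 2, nat_lit 0, nat_lit 2, nat_lit 1]) (.leaf (nat_lit 529) (nat_lit 1) [nat_lit 2, nat_lit 0, nat_lit 2, nat_lit 1, nat_lit 2, nat_lit 0, nat_lit 2, nat_lit 1, nat_lit 2, nat_lit 0, nat_lit 2]))) (.node (nat_lit 590) (.node (nat_lit 589) (.leaf (nat_lit 529) (nat_lit 1) [nat_lit 2, nat_lit 0, nat_lit 2, nat_lit 1, nat_lit 2, nat_lit 0, nat_lit 2, nat_lit 1, nat_lit 2, nat_lit 0, nat_lit 2]) (.leaf (nat_lit 530) (nat_lit 2) [nat_lit 1, nat_lit 2, nat_lit 0, nat_lit 2, nat_lit 1, nat_lit 2, nat_lit 0, nat_lit 2, nat_lit 1, nat_lit 2, nat_lit 0])) (.node (nat_lit 591) (.leaf (nat_lit 531) (nat_lit 0) [nat_lit 2, nat_lit 1, nat_lit 2, nat_lit 0, nat_lit 2, nat_lit 1, nat_lit 2, nat_lit 0, nat_lit 2, nat_lit 1, nat_lit 2]) (.node (nat_lit 592) (.leaf (nat_lit 528) (nat_lit 2) [nat_lit 0, nat_lit 2, nat_lit 1, nat_lit 2, nat_lit 0, nat_lit 2, nat_lit 1, nat_lit 2, nat_lit 0, nat_lit 2, nat_lit 1]) (.leaf (nat_lit 529) (nat_lit 1) [nat_lit 2, nat_lit 0, nat_lit 2, nat_lit 1, nat_lit 2, nat_lit 0, nat_lit 2, nat_lit 1, nat_lit 2, nat_lit 0, nat_lit 2]))))) (.node (nat_lit 598) (.node (nat_lit 595) (.node (nat_lit 594) (.leaf (nat_lit 530) (nat_lit 2) [nat_lit 1, nat_lit 2, nat_lit 0, nat_lit 2, nat_lit 1, nat_lit 2, nat_lit 0, nat_lit 2, nat_lit 1, nat_lit 2, nat_lit 0]) (.leaf (nat_lit 531) (nat_lit 0) [nat_lit 2, nat_lit 1, nat_lit 2, nat_lit 0, nat_lit 2, nat_lit 1, nat_lit 2, nat_lit 0, nat_lit 2, nat_lit 1, nat_lit 2])) (.node (nat_lit 596) (.leaf (nat_lit 528) (nat_lit 2) [nat_lit 0, nat_lit 2, nat_lit 1, nat_lit 2, nat_lit 0, nat_lit 2, nat_lit 1, nat_lit 2, nat_lit 0, nat_lit 2, nat_lit 1]) (.node (nat_lit 597) (.leaf (nat_lit 529) (nat_lit 1) [nat_lit 2, nat_lit 0, nat_lit 2, nat_lit 1, nat_lit 2, nat_lit 0, nat_lit 2, nat_lit 1, nat_lit 2, nat_lit 0, nat_lit 2]) (.leaf (nat_lit 530) (nat_lit 2) [nat_lit 1, nat_lit 2, nat_lit 0, nat_lit 2, nat_lit 1, nat_lit 2, nat_lit 0, nat_lit 2, nat_lit 1, nat_lit 2, nat_lit 0])))) (.node (nat_lit 600) (.node (nat_lit 599) (.leaf (nat_lit 531) (nat_lit 0) [nat_lit 2, nat_lit 1, nat_lit 2, nat_lit 0, nat_lit 2, nat_lit 1, nat_lit 2, nat_lit 0, nat_lit 2, nat_lit 1, nat_lit 2]) (.leaf (nat_lit 528) (nat_lit 2) [nat_lit 0, nat_lit 2, nat_lit 1, nat_lit 2, nat_lit 0, nat_lit 2, nat_lit 1, nat_lit 2, nat_lit 0, nat_lit 2, nat_lit 1])) (.node (nat_lit 601) (.leaf (nat_lit 385) (nat_lit 2) [nat_lit 1, nat_lit 2, nat_lit 1, nat_lit 2, nat_lit 1, nat_lit 2, nat_lit 1, nat_lit 2, nat_lit 1, nat_lit 2, nat_lit 1]) (.node (nat_lit 602) (.leaf (nat_lit 384) (nat_lit 1) [nat_lit 2, nat_lit 1, nat_lit 2, nat_lit 1, nat_lit 2, nat_lit 1, nat_lit 2, nat_lit 1, nat_lit 2, nat_lit 1, nat_lit 2]) (.leaf (nat_lit 385) (nat_lit 2) [nat_lit 1, nat_lit 2, nat_lit 1, nat_lit 2, nat_lit 1, nat_lit 2, nat_lit 1, nat_lit 2, nat_lit 1, nat_lit 2, nat_lit 1]))))))))))) (.node (nat_lit 904) (.node (nat_lit 753) (.node (nat_lit 678) (.node (nat_lit 640) (.node (nat_lit 621) (.node (nat_lit 612) (.node (nat_lit 607) (.node (nat_lit 605) (.node (nat_lit 604) (.leaf (nat_lit 384) (nat_lit 1) [nat_lit 2, nat_lit 1, nat_lit 2, nat_lit 1, nat_lit 2, nat_lit 1, nat_lit 2, nat_lit 1, nat_lit 2, nat_lit 1, nat_lit 2]) (.leaf (nat_lit 385) (nat_lit 2) [nat_lit 1, nat_lit 2, nat_lit 1, nat_lit 2, nat_lit 1, nat_lit 2, nat_lit 1, nat_lit 2, nat_lit 1, nat_lit 2, nat_lit 1])) (.node (nat_lit 606) (.leaf (nat_lit 384) (nat_lit 1) [nat_lit 2, nat_lit 1, nat_lit 2, nat_lit 1, nat_lit 2, nat_lit 1, nat_lit 2, nat_lit 1, nat_lit 2, nat_lit 1, nat_lit 2]) (.leaf (nat_lit 385) (nat_lit 2) [nat_lit 1, nat_lit 2, nat_lit 1, nat_lit 2, nat_lit 1, nat_lit 2, nat_lit 1, nat_lit 2, nat_lit 1, nat_lit 2, nat_lit 1]))) (.node (nat_lit 609) (.node (nat_lit 608) (.leaf (nat_lit 384) (nat_lit 1) [nat_lit 2, nat_lit 1, nat_lit 2, nat_lit 1, nat_lit 2, nat_lit 1, nat_lit 2, nat_lit 1, nat_lit 2, nat_lit 1, nat_lit 2]) (.leaf (nat_lit 385) (nat_lit 2) [nat_lit 1, nat_lit 2, nat_lit 1, nat_lit 2, nat_lit 1, nat_lit 2, nat_lit 1, nat_lit 2, nat_lit 1, nat_lit 2, nat_lit 1])) (.node (nat_lit 610) (.leaf (nat_lit 384) (nat_lit 1) [nat_lit 2, nat_lit 1, nat_lit 2, nat_lit 1, nat_lit 2, nat_lit 1, nat_lit 2, nat_lit 1, nat_lit 2, nat_lit 1, nat_lit 2]) (.node (nat_lit 611) (.leaf (nat_lit 385) (nat_lit 2) [nat_lit 1, nat_lit 2, nat_lit 1, nat_lit 2, nat_lit 1, nat_lit 2, nat_lit 1, nat_lit 2, nat_lit 1, nat_lit 2, nat_lit 1]) (.leaf (nat_lit 384) (nat_lit 1) [nat_lit 2, nat_lit 1, nat_lit 2, nat_lit 1, nat_lit 2, nat_lit 1, nat_lit 2, nat_lit 1, nat_lit 2, nat_lit 1, nat_lit 2]))))) (.node (nat_lit 616) (.node (nat_lit 614) (.node (nat_lit 613) (.leaf (nat_lit 384) (nat_lit 1) [nat_lit 2, nat_lit 1, nat_lit 2, nat_lit 1, nat_lit 2, nat_lit 1, nat_lit 2, nat_lit 1, nat_lit 2, nat_lit 1, nat_lit 2]) (.leaf (nat_lit 385) (nat_lit 2) [nat_lit 1, nat_lit 2, nat_lit 1, nat_lit 2, nat_lit 1, nat_lit 2, nat_lit 1, nat_lit 2, nat_lit 1, nat_lit 2, nat_lit 1])) (.node (nat_lit 615) (.leaf (nat_lit 384) (nat_lit 1) [nat_lit 2, nat_lit 1, nat_lit 2, nat_lit 1, nat_lit 2, nat_lit 1, nat_lit 2, nat_lit 1, nat_lit 2, nat_lit 1, nat_lit 2]) (.leaf (nat_lit 385) (nat_lit 2) [nat_lit 1, nat_lit 2, nat_lit 1, nat_lit 2, nat_lit 1, nat_lit 2, nat_lit 1, nat_lit 2, nat_lit 1, nat_lit 2, nat_lit 1]))) (.node (nat_lit 618) (.node (nat_lit 617) (.leaf (nat_lit 384) (nat_lit 1) [nat_lit 2, nat_lit 1, nat_lit 2, nat_lit 1, nat_lit 2, nat_lit 1, nat_lit 2, nat_lit 1, nat_lit 2, nat_lit 1, nat_lit 2]) (.leaf (nat_lit 385) (nat_lit 2) [nat_lit 1, nat_lit 2, nat_lit 1, nat_lit 2, nat_lit 1, nat_lit 2, nat_lit 1, nat_lit 2, nat_lit 1, nat_lit 2, nat_lit 1])) (.node (nat_lit 619) (.leaf (nat_lit 384) (nat_lit 1) [nat_lit 2, nat_lit 1, nat_lit 2, nat_lit 1, nat_lit 2, nat_lit 1, nat_lit 2, nat_lit 1, nat_lit 2, nat_lit 1, nat_lit 2]) (.node (nat_lit 620) (.leaf (nat_lit 385) (nat_lit 2) [nat_lit 1, nat_lit 2, nat_lit 1, nat_lit 2, nat_lit 1, nat_lit 2, nat_lit 1, nat_lit 2, nat_lit 1, nat_lit 2, nat_lit 1]) (.leaf (nat_lit 384) (nat_lit 1) [nat_lit 2, nat_lit 1, nat_lit 2, nat_lit 1, nat_lit 2, nat_lit 1, nat_lit 2, nat_lit 1, nat_lit 2, nat_lit 1, nat_lit 2])))))) (.node (nat_lit 630) (.node (nat_lit 625) (.node (nat_lit 623) (.node (nat_lit 622) (.leaf (nat_lit 385) (nat_lit 2) [nat_lit 1, nat_lit 2, nat_lit 1, nat_lit 2, nat_lit 1, nat_lit 2, nat_lit 1, nat_lit 2, nat_lit 1, nat_lit 2, nat_lit 1]) (.leaf (nat_lit 384) (nat_lit 1) [nat_lit 2, nat_lit 1, nat_lit 2, nat_lit 1, nat_lit 2, nat_lit 1, nat_lit 2, nat_lit 1, nat_lit 2, nat_lit 1, nat_lit 2])) (.node (nat_lit 624) (.leaf (nat_lit 385) (nat_lit 2) [nat_lit 1, nat_lit 2, nat_lit 1, nat_lit 2, nat_lit 1, nat_lit 2, nat_lit 1, nat_lit 2, nat_lit 1, nat_lit 2, nat_lit 1]) (.leaf (nat_lit 624) (nat_lit 2) [nat_lit 1, nat_lit 2, nat_lit 3, nat_lit 2, nat_lit 1, nat_lit 2, nat_lit 3, nat_lit 2, nat_lit 1, nat_lit 2, nat_lit 3]))) (.node (nat_lit 627) (.node (nat_lit 626) (.leaf (nat_lit 625) (nat_lit 3) [nat_lit 2, nat_lit 1, nat_lit 2, nat_lit 3, nat_lit 2, nat_lit 1, nat_lit 2, nat_lit 3, nat_lit 2, nat_lit 1, nat_lit 2]) (.leaf (nat_lit 626) (nat_lit 2) [nat_lit 3, nat_lit 2, nat_lit 1, nat_lit 2, nat_lit 3, nat_lit 2, nat_lit 1, nat_lit 2, nat_lit 3, nat_lit 2, nat_lit 1])) (.node (nat_lit 628) (.leaf (nat_lit 627) (nat_lit 1) [nat_lit 2, nat_lit 3, nat_lit 2, nat_lit 1, nat_lit 2, nat_lit 3, nat_lit 2, nat_lit 1, nat_lit 2, nat_lit 3, nat_lit 2]) (.node (nat_lit 629) (.leaf (nat_lit 624) (nat_lit 2) [nat_lit 1, nat_lit 2, nat_lit 3, nat_lit 2, nat_lit 1, nat_lit 2, nat_lit 3, nat_lit 2, nat_lit 1, nat_lit 2, nat_lit 3]) (.leaf (nat_lit 625) (nat_lit 3) [nat_lit 2, nat_lit 1, nat_lit 2, nat_lit 3, nat_lit 2, nat_lit 1, nat_lit 2, nat_lit 3, nat_lit 2, nat_lit 1, nat_lit 2]))))) (.node (nat_lit 635) (.node (nat_lit 632) (.node (nat_lit 631) (.leaf (nat_lit 626) (nat_lit 2) [nat_lit 3, nat_lit 2, nat_lit 1, nat_lit 2, nat_lit 3, nat_lit 2, nat_lit 1, nat_lit 2, nat_lit 3, nat_lit 2, nat_lit 1]) (.leaf (nat_lit 627) (nat_lit 1) [nat_lit 2, nat_lit 3, nat_lit 2, nat_lit 1, nat_lit 2, nat_lit 3, nat_lit 2, nat_lit 1, nat_lit 2, nat_lit 3, nat_lit 2])) (.node (nat_lit 633) (.leaf (nat_lit 624) (nat_lit 2) [nat_lit 1, nat_lit 2, nat_lit 3, nat_lit 2, nat_lit 1, nat_lit 2, nat_lit 3, nat_lit 2, nat_lit 1, nat_lit 2, nat_lit 3]) (.node (nat_lit 634) (.leaf (nat_lit 625) (nat_lit 3) [nat_lit 2, nat_lit 1, nat_lit 2, nat_lit 3, nat_lit 2, nat_lit 1, nat_lit 2, nat_lit 3, nat_lit 2, nat_lit 1, nat_lit 2]) (.leaf (nat_lit 626) (nat_lit 2) [nat_lit 3, nat_lit 2, nat_lit 1, nat_lit 2, nat_lit 3, nat_lit 2, nat_lit 1, nat_lit 2, nat_lit 3, nat_lit 2, nat_lit 1])))) (.node (nat_lit 637) (.node (nat_lit 636) (.leaf (nat_lit 627) (nat_lit 1) [nat_lit 2, nat_lit 3, nat_lit 2, nat_lit 1, nat_lit 2, nat_lit 3, nat_lit 2, nat_lit 1, nat_lit 2, nat_lit 3, nat_lit 2]) (.leaf (nat_lit 627) (nat_lit 1) [nat_lit 2, nat_lit 3, nat_lit 2, nat_lit 1, nat_lit 2, nat_lit 3, nat_lit 2, nat_lit 1, nat_lit 2, nat_lit 3, nat_lit 2])) (.node (nat_lit 638) (.leaf (nat_lit 624) (nat_lit 2) [nat_lit 1, nat_lit 2, nat_lit 3, nat_lit 2, nat_lit 1, nat_lit 2, nat_lit 3, nat_lit 2, nat_lit 1, nat_lit 2, nat_lit 3]) (.node (nat_lit 639) (.leaf (nat_lit 625) (nat_lit 3) [nat_lit 2, nat_lit 1, nat_lit 2, nat_lit 3, nat_lit 2, nat_lit 1, nat_lit 2, nat_lit 3, nat_lit 2, nat_lit 1, nat_lit 2]) (.leaf (nat_lit 626) (nat_lit 2) [nat_lit 3, nat_lit 2, nat_lit 1, nat_lit 2, nat_lit 3, nat_lit 2, nat_lit 1, nat_lit 2, nat_lit 3, nat_lit 2, nat_lit 1]))))))) (.node (nat_lit 659) (.node (nat_lit 649) (.node (nat_lit 644) (.node (nat_lit 642) (.node (nat_lit 641) (.leaf (nat_lit 627) (nat_lit 1) [nat_lit 2, nat_lit 3, nat_lit 2, nat_lit 1, nat_lit 2, nat_lit 3, nat_lit 2, nat_lit 1, nat_lit 2, nat_lit 3, nat_lit 2]) (.leaf (nat_lit 624) (nat_lit 2) [nat_lit 1, nat_lit 2, nat_lit 3, nat_lit 2, nat_lit 1, nat_lit 2, nat_lit 3, nat_lit 2, nat_lit 1, nat_lit 2, nat_lit 3])) (.node (nat_lit 643) (.leaf (nat_lit 625) (nat_lit 3) [nat_lit 2, nat_lit 1, nat_lit 2, nat_lit 3, nat_lit 2, nat_lit 1, nat_lit 2, nat_lit 3, nat_lit 2, nat_lit 1, nat_lit 2]) (.leaf (nat_lit 626) (nat_lit 2) [nat_lit 3, nat_lit 2, nat_lit 1, nat_lit 2, nat_lit 3, nat_lit 2, nat_lit 1, nat_lit 2, nat_lit 3, nat_lit 2, nat_lit 1]))) (.node (nat_lit 646) (.node (nat_lit 645) (.leaf (nat_lit 627) (nat_lit 1) [nat_lit 2, nat_lit 3, nat_lit 2, nat_lit 1, nat_lit 2, nat_lit 3, nat_lit 2, nat_lit 1, nat_lit 2, nat_lit 3, nat_lit 2]) (.leaf (nat_lit 624) (nat_lit 2) [nat_lit 1, nat_lit 2, nat_lit 3, nat_lit 2, nat_lit 1, nat_lit 2, nat_lit 3, nat_lit 2, nat_lit 1, nat_lit 2, nat_lit 3])) (.node (nat_lit 647) (.leaf (nat_lit 625) (nat_lit 3) [nat_lit 2, nat_lit 1, nat_lit 2, nat_lit 3, nat_lit 2, nat_lit 1, nat_lit 2, nat_lit 3, nat_lit 2, nat_lit 1, nat_lit 2]) (.node (nat_lit 648) (.leaf (nat_lit 626) (nat_lit 2) [nat_lit 3, nat_lit 2, nat_lit 1, nat_lit 2, nat_lit 3, nat_lit 2, nat_lit 1, nat_lit 2, nat_lit 3, nat_lit 2, nat_lit 1]) (.leaf (nat_lit 554) (nat_lit 2) [nat_lit 3, nat_lit 2, nat_lit 0, nat_lit 2, nat_lit 3, nat_lit 2, nat_lit 0, nat_lit 2, nat_lit 3, nat_lit 2, nat_lit 0]))))) (.node (nat_lit 654) (.node (nat_lit 651) (.node (nat_lit 650) (.leaf (nat_lit 555) (nat_lit 0) [nat_lit 2, nat_lit 3, nat_lit 2, nat_lit 0, nat_lit 2, nat_lit 3, nat_lit 2, nat_lit 0, nat_lit 2, nat_lit 3, nat_lit 2]) (.leaf (nat_lit 552) (nat_lit 2) [nat_lit 0, nat_lit 2, nat_lit 3, nat_lit 2, nat_lit 0, nat_lit 2, nat_lit 3, nat_lit 2, nat_lit 0, nat_lit 2, nat_lit 3])) (.node (nat_lit 652) (.leaf (nat_lit 553) (nat_lit 3) [nat_lit 2, nat_lit 0, nat_lit 2, nat_lit 3, nat_lit 2, nat_lit 0, nat_lit 2, nat_lit 3, nat_lit 2, nat_lit 0, nat_lit 2]) (.node (nat_lit 653) (.leaf (nat_lit 554) (nat_lit 2) [nat_lit 3, nat_lit 2, nat_lit 0, nat_lit 2, nat_lit 3, nat_lit 2, nat_lit 0, nat_lit 2, nat_lit 3, nat_lit 2, nat_lit 0]) (.leaf (nat_lit 555) (nat_lit 0) [nat_lit 2, nat_lit 3, nat_lit 2, nat_lit 0, nat_lit 2, nat_lit 3, nat_lit 2, nat_lit 0, nat_lit 2, nat_lit 3, nat_lit 2])))) (.node (nat_lit 656) (.node (nat_lit 655) (.leaf (nat_lit 552) (nat_lit 2) [nat_lit 0, nat_lit 2, nat_lit 3, nat_lit 2, nat_lit 0, nat_lit 2, nat_lit 3, nat_lit 2, nat_lit 0, nat_lit 2, nat_lit 3]) (.leaf (nat_lit 553) (nat_lit 3) [nat_lit 2, nat_lit 0, nat_lit 2, nat_lit 3, nat_lit 2, nat_lit 0, nat_lit 2, nat_lit 3, nat_lit 2, nat_lit 0, nat_lit 2])) (.node (nat_lit 657) (.leaf (nat_lit 554) (nat_lit 2) [nat_lit 3, nat_lit 2, nat_lit 0, nat_lit 2, nat_lit 3, nat_lit 2, nat_lit 0, nat_lit 2, nat_lit 3, nat_lit 2, nat_lit 0]) (.node (nat_lit 658) (.leaf (nat_lit 555) (nat_lit 0) [nat_lit 2, nat_lit 3, nat_lit 2, nat_lit 0, nat_lit 2, nat_lit 3, nat_lit 2, nat_lit 0, nat_lit 2, nat_lit 3, nat_lit 2]) (.leaf (nat_lit 552) (nat_lit 2) [nat_lit 0, nat_lit 2, nat_lit 3, nat_lit 2, nat_lit 0, nat_lit 2, nat_lit 3, nat_lit 2, nat_lit 0, nat_lit 2, nat_lit 3])))))) (.node (nat_lit 668) (.node (nat_lit 663) (.node (nat_lit 661) (.node (nat_lit 660) (.leaf (nat_lit 553) (nat_lit 3) [nat_lit 2, nat_lit 0, nat_lit 2, nat_lit 3, nat_lit 2, nat_lit 0, nat_lit 2, nat_lit 3, nat_lit 2, nat_lit 0, nat_lit 2]) (.leaf (nat_lit 553) (nat_lit 3) [nat_lit 2, nat_lit 0, nat_lit 2, nat_lit 3, nat_lit 2, nat_lit 0, nat_lit 2, nat_lit 3, nat_lit 2, nat_lit 0, nat_lit 2])) (.node (nat_lit 662) (.leaf (nat_lit 554) (nat_lit 2) [nat_lit 3, nat_lit 2, nat_lit 0, nat_lit 2, nat_lit 3, nat_lit 2, nat_lit 0, nat_lit 2, nat_lit 3, nat_lit 2, nat_lit 0]) (.leaf (nat_lit 555) (nat_lit 0) [nat_lit 2, nat_lit 3, nat_lit 2, nat_lit 0, nat_lit 2, nat_lit 3, nat_lit 2, nat_lit 0, nat_lit 2, nat_lit 3, nat_lit 2]))) (.node (nat_lit 665) (.node (nat_lit 664) (.leaf (nat_lit 552) (nat_lit 2) [nat_lit 0, nat_lit 2, nat_lit 3, nat_lit 2, nat_lit 0, nat_lit 2, nat_lit 3, nat_lit 2, nat_lit 0, nat_lit 2, nat_lit 3]) (.leaf (nat_lit 553) (nat_lit 3) [nat_lit 2, nat_lit 0, nat_lit 2, nat_lit 3, nat_lit 2, nat_lit 0, nat_lit 2, nat_lit 3, nat_lit 2, nat_lit 0, nat_lit 2])) (.node (nat_lit 666) (.leaf (nat_lit 554) (nat_lit 2) [nat_lit 3, nat_lit 2, nat_lit 0, nat_lit 2, nat_lit 3, nat_lit 2, nat_lit 0, nat_lit 2, nat_lit 3, nat_lit 2, nat_lit 0]) (.node (nat_lit 667) (.leaf (nat_lit 555) (nat_lit 0) [nat_lit 2, nat_lit 3, nat_lit 2, nat_lit 0, nat_lit 2, nat_lit 3, nat_lit 2, nat_lit 0, nat_lit 2, nat_lit 3, nat_lit 2]) (.leaf (nat_lit 552) (nat_lit 2) [nat_lit 0, nat_lit 2, nat_lit 3, nat_lit 2, nat_lit 0, nat_lit 2, nat_lit 3, nat_lit 2, nat_lit 0, nat_lit 2, nat_lit 3]))))) (.node (nat_lit 673) (.node (nat_lit 670) (.node (nat_lit 669) (.leaf (nat_lit 553) (nat_lit 3) [nat_lit 2, nat_lit 0, nat_lit 2, nat_lit 3, nat_lit 2, nat_lit 0, nat_lit 2, nat_lit 3, nat_lit 2, nat_lit 0, nat_lit 2]) (.leaf (nat_lit 554) (nat_lit 2) [nat_lit 3, nat_lit 2, nat_lit 0, nat_lit 2, nat_lit 3, nat_lit 2, nat_lit 0, nat_lit 2, nat_lit 3, nat_lit 2, nat_lit 0])) (.node (nat_lit 671) (.leaf (nat_lit 555) (nat_lit 0) [nat_lit 2, nat_lit 3, nat_lit 2, nat_lit 0, nat_lit 2, nat_lit 3, nat_lit 2, nat_lit 0, nat_lit 2, nat_lit 3, nat_lit 2]) (.node (nat_lit 672) (.leaf (nat_lit 552) (nat_lit 2) [nat_lit 0, nat_lit 2, nat_lit 3, nat_lit 2, nat_lit 0, nat_lit 2, nat_lit 3, nat_lit 2, nat_lit 0, nat_lit 2, nat_lit 3]) (.leaf (nat_lit 626) (nat_lit 2) [nat_lit 3, nat_lit 2, nat_lit 1, nat_lit 2, nat_lit 3, nat_lit 2, nat_lit 1, nat_lit 2, nat_lit 3, nat_lit 2, nat_lit 1])))) (.node (nat_lit 675) (.node (nat_lit 674) (.leaf (nat_lit 627) (nat_lit 1) [nat_lit 2, nat_lit 3, nat_lit 2, nat_lit 1, nat_lit 2, nat_lit 3, nat_lit 2, nat_lit 1, nat_lit 2, nat_lit 3, nat_lit 2]) (.leaf (nat_lit 624) (nat_lit 2) [nat_lit 1, nat_lit 2, nat_lit 3, nat_lit 2, nat_lit 1, nat_lit 2, nat_lit 3, nat_lit 2, nat_lit 1, nat_lit 2, nat_lit 3])) (.node (nat_lit 676) (.leaf (nat_lit 625) (nat_lit 3) [nat_lit 2, nat_lit 1, nat_lit 2, nat_lit 3, nat_lit 2, nat_lit 1, nat_lit 2, nat_lit 3, nat_lit 2, nat_lit 1, nat_lit 2]) (.node (nat_lit 677) (.leaf (nat_lit 626) (nat_lit 2) [nat_lit 3, nat_lit 2, nat_lit 1, nat_lit 2, nat_lit 3, nat_lit 2, nat_lit 1, nat_lit 2, nat_lit 3, nat_lit 2, nat_lit 1]) (.leaf (nat_lit 627) (nat_lit 1) [nat_lit 2, nat_lit 3, nat_lit 2, nat_lit 1, nat_lit 2, nat_lit 3, nat_lit 2, nat_lit 1, nat_lit 2, nat_lit 3, nat_lit 2])))))))) (.node (nat_lit 715) (.node (nat_lit 696) (.node (nat_lit 687) (.node (nat_lit 682) (.node (nat_lit 680) (.node (nat_lit 679) (.leaf (nat_lit 624) (nat_lit 2) [nat_lit 1, nat_lit 2, nat_lit 3, nat_lit 2, nat_lit 1, nat_lit 2, nat_lit 3, nat_lit 2, nat_lit 1, nat_lit 2, nat_lit 3]) (.leaf (nat_lit 625) (nat_lit 3) [nat_lit 2, nat_lit 1, nat_lit 2, nat_lit 3, nat_lit 2, nat_lit 1, nat_lit 2, nat_lit 3, nat_lit 2, nat_lit 1, nat_lit 2])) (.node (nat_lit 681) (.leaf (nat_lit 626) (nat_lit 2) [nat_lit 3, nat_lit 2, nat_lit 1, nat_lit 2, nat_lit 3, nat_lit 2, nat_lit 1, nat_lit 2, nat_lit 3, nat_lit 2, nat_lit 1]) (.leaf (nat_lit 627) (nat_lit 1) [nat_lit 2, nat_lit 3, nat_lit 2, nat_lit 1, nat_lit 2, nat_lit 3, nat_lit 2, nat_lit 1, nat_lit 2, nat_lit 3, nat_lit 2]))) (.node (nat_lit 684) (.node (nat_lit 683) (.leaf (nat_lit 624) (nat_lit 2) [nat_lit 1, nat_lit 2, nat_lit 3, nat_lit 2, nat_lit 1, nat_lit 2, nat_lit 3, nat_lit 2, nat_lit 1, nat_lit 2, nat_lit 3]) (.leaf (nat_lit 625) (nat_lit 3) [nat_lit 2, nat_lit 1, nat_lit 2, nat_lit 3, nat_lit 2, nat_lit 1, nat_lit 2, nat_lit 3, nat_lit 2, nat_lit 1, nat_lit 2])) (.node (nat_lit 685) (.leaf (nat_lit 625) (nat_lit 3) [nat_lit 2, nat_lit 1, nat_lit 2, nat_lit 3, nat_lit 2, nat_lit 1, nat_lit 2, nat_lit 3, nat_lit 2, nat_lit 1, nat_lit 2]) (.node (nat_lit 686) (.leaf (nat_lit 626) (nat_lit 2) [nat_lit 3, nat_lit 2, nat_lit 1, nat_lit 2, nat_lit 3, nat_lit 2, nat_lit 1, nat_lit 2, nat_lit 3, nat_lit 2, nat_lit 1]) (.leaf (nat_lit 627) (nat_lit 1) [nat_lit 2, nat_lit 3, nat_lit 2, nat_lit 1, nat_lit 2, nat_lit 3, nat_lit 2, nat_lit 1, nat_lit 2, nat_lit 3, nat_lit 2]))))) (.node (nat_lit 691) (.node (nat_lit 689) (.node (nat_lit 688) (.leaf (nat_lit 624) (nat_lit 2) [nat_lit 1, nat_lit 2, nat_lit 3, nat_lit 2, nat_lit 1, nat_lit 2, nat_lit 3, nat_lit 2, nat_lit 1, nat_lit 2, nat_lit 3]) (.leaf (nat_lit 625) (nat_lit 3) [nat_lit 2, nat_lit 1, nat_lit 2, nat_lit 3, nat_lit 2, nat_lit 1, nat_lit 2, nat_lit 3, nat_lit 2, nat_lit 1, nat_lit 2])) (.node (nat_lit 690) (.leaf (nat_lit 626) (nat_lit 2) [nat_lit 3, nat_lit 2, nat_lit 1, nat_lit 2, nat_lit 3, nat_lit 2, nat_lit 1, nat_lit 2, nat_lit 3, nat_lit 2, nat_lit 1]) (.leaf (nat_lit 627) (nat_lit 1) [nat_lit 2, nat_lit 3, nat_lit 2, nat_lit 1, nat_lit 2, nat_lit 3, nat_lit 2, nat_lit 1, nat_lit 2, nat_lit 3, nat_lit 2]))) (.node (nat_lit 693) (.node (nat_lit 692) (.leaf (nat_lit 624) (nat_lit 2) [nat_lit 1, nat_lit 2, nat_lit 3, nat_lit 2, nat_lit 1, nat_lit 2, nat_lit 3, nat_lit 2, nat_lit 1, nat_lit 2, nat_lit 3]) (.leaf (nat_lit 625) (nat_lit 3) [nat_lit 2, nat_lit 1, nat_lit 2, nat_lit 3, nat_lit 2, nat_lit 1, nat_lit 2, nat_lit 3, nat_lit 2, nat_lit 1, nat_lit 2])) (.node (nat_lit 694) (.leaf (nat_lit 626) (nat_lit 2) [nat_lit 3, nat_lit 2, nat_lit 1, nat_lit 2, nat_lit 3, nat_lit 2, nat_lit 1, nat_lit 2, nat_lit 3, nat_lit 2, nat_lit 1]) (.node (nat_lit 695) (.leaf (nat_lit 627) (nat_lit 1) [nat_lit 2, nat_lit 3, nat_lit 2, nat_lit 1, nat_lit 2, nat_lit 3, nat_lit 2, nat_lit 1, nat_lit 2, nat_lit 3, nat_lit 2]) (.leaf (nat_lit 624) (nat_lit 2) [nat_lit 1, nat_lit 2, nat_lit 3, nat_lit 2, nat_lit 1, nat_lit 2, nat_lit 3, nat_lit 2, nat_lit 1, nat_lit 2, nat_lit 3])))))) (.node (nat_lit 705) (.node (nat_lit 700) (.node (nat_lit 698) (.node (nat_lit 697) (.leaf (nat_lit 696) (nat_lit 2) [nat_lit 3, nat_lit 2, nat_lit 3, nat_lit 2, nat_lit 3, nat_lit 2, nat_lit 3, nat_lit 2, nat_lit 3, nat_lit 2, nat_lit 3]) (.leaf (nat_lit 697) (nat_lit 3) [nat_lit 2, nat_lit 3, nat_lit 2, nat_lit 3, nat_lit 2, nat_lit 3, nat_lit 2, nat_lit 3, nat_lit 2, nat_lit 3, nat_lit 2])) (.node (nat_lit 699) (.leaf (nat_lit 696) (nat_lit 2) [nat_lit 3, nat_lit 2, nat_lit 3, nat_lit 2, nat_lit 3, nat_lit 2, nat_lit 3, nat_lit 2, nat_lit 3, nat_lit 2, nat_lit 3]) (.leaf (nat_lit 697) (nat_lit 3) [nat_lit 2, nat_lit 3, nat_lit 2, nat_lit 3, nat_lit 2, nat_lit 3, nat_lit 2, nat_lit 3, nat_lit 2, nat_lit 3, nat_lit 2]))) (.node (nat_lit 702) (.node (nat_lit 701) (.leaf (nat_lit 696) (nat_lit 2) [nat_lit 3, nat_lit 2, nat_lit 3, nat_lit 2, nat_lit 3, nat_lit 2, nat_lit 3, nat_lit 2, nat_lit 3, nat_lit 2, nat_lit 3]) (.leaf (nat_lit 697) (nat_lit 3) [nat_lit 2, nat_lit 3, nat_lit 2, nat_lit 3, nat_lit 2, nat_lit 3, nat_lit 2, nat_lit 3, nat_lit 2, nat_lit 3, nat_lit 2])) (.node (nat_lit 703) (.leaf (nat_lit 696) (nat_lit 2) [nat_lit 3, nat_lit 2, nat_lit 3, nat_lit 2, nat_lit 3, nat_lit 2, nat_lit 3, nat_lit 2, nat_lit 3, nat_lit 2, nat_lit 3]) (.node (nat_lit 704) (.leaf (nat_lit 697) (nat_lit 3) [nat_lit 2, nat_lit 3, nat_lit 2, nat_lit 3, nat_lit 2, nat_lit 3, nat_lit 2, nat_lit 3, nat_lit 2, nat_lit 3, nat_lit 2]) (.leaf (nat_lit 696) (nat_lit 2) [nat_lit 3, nat_lit 2, nat_lit 3, nat_lit 2, nat_lit 3, nat_lit 2, nat_lit 3, nat_lit 2, nat_lit 3, nat_lit 2, nat_lit 3]))))) (.node (nat_lit 710) (.node (nat_lit 707) (.node (nat_lit 706) (.leaf (nat_lit 697) (nat_lit 3) [nat_lit 2, nat_lit 3, nat_lit 2, nat_lit 3, nat_lit 2, nat_lit 3, nat_lit 2, nat_lit 3, nat_lit 2, nat_lit 3, nat_lit 2]) (.leaf (nat_lit 696) (nat_lit 2) [nat_lit 3, nat_lit 2, nat_lit 3, nat_lit 2, nat_lit 3, nat_lit 2, nat_lit 3, nat_lit 2, nat_lit 3, nat_lit 2, nat_lit 3])) (.node (nat_lit 708) (.leaf (nat_lit 697) (nat_lit 3) [nat_lit 2, nat_lit 3, nat_lit 2, nat_lit 3, nat_lit 2, nat_lit 3, nat_lit 2, nat_lit 3, nat_lit 2, nat_lit 3, nat_lit 2]) (.node (nat_lit 709) (.leaf (nat_lit 697) (nat_lit 3) [nat_lit 2, nat_lit 3, nat_lit 2, nat_lit 3, nat_lit 2, nat_lit 3, nat_lit 2, nat_lit 3, nat_lit 2, nat_lit 3, nat_lit 2]) (.leaf (nat_lit 696) (nat_lit 2) [nat_lit 3, nat_lit 2, nat_lit 3, nat_lit 2, nat_lit 3, nat_lit 2, nat_lit 3, nat_lit 2, nat_lit 3, nat_lit 2, nat_lit 3])))) (.node (nat_lit 712) (.node (nat_lit 711) (.leaf (nat_lit 697) (nat_lit 3) [nat_lit 2, nat_lit 3, nat_lit 2, nat_lit 3, nat_lit 2, nat_lit 3, nat_lit 2, nat_lit 3, nat_lit 2, nat_lit 3, nat_lit 2]) (.leaf (nat_lit 696) (nat_lit 2) [nat_lit 3, nat_lit 2, nat_lit 3, nat_lit 2, nat_lit 3, nat_lit 2, nat_lit 3, nat_lit 2, nat_lit 3, nat_lit 2, nat_lit 3])) (.node (nat_lit 713) (.leaf (nat_lit 697) (nat_lit 3) [nat_lit 2, nat_lit 3, nat_lit 2, nat_lit 3, nat_lit 2, nat_lit 3, nat_lit 2, nat_lit 3, nat_lit 2, nat_lit 3, nat_lit 2]) (.node (nat_lit 714) (.leaf (nat_lit 696) (nat_lit 2) [nat_lit 3, nat_lit 2, nat_lit 3, nat_lit 2, nat_lit 3, nat_lit 2, nat_lit 3, nat_lit 2, nat_lit 3, nat_lit 2, nat_lit 3]) (.leaf (nat_lit 697) (nat_lit 3) [nat_lit 2, nat_lit 3, nat_lit 2, nat_lit 3, nat_lit 2, nat_lit 3, nat_lit 2, nat_lit 3, nat_lit 2, nat_lit 3, nat_lit 2]))))))) (.node (nat_lit 734) (.node (nat_lit 724) (.node (nat_lit 719) (.node (nat_lit 717) (.node (nat_lit 716) (.leaf (nat_lit 696) (nat_lit 2) [nat_lit 3, nat_lit 2, nat_lit 3, nat_lit 2, nat_lit 3, nat_lit 2, nat_lit 3, nat_lit 2, nat_lit 3, nat_lit 2, nat_lit 3]) (.leaf (nat_lit 697) (nat_lit 3) [nat_lit 2, nat_lit 3, nat_lit 2, nat_lit 3, nat_lit 2, nat_lit 3, nat_lit 2, nat_lit 3, nat_lit 2, nat_lit 3, nat_lit 2])) (.node (nat_lit 718) (.leaf (nat_lit 696) (nat_lit 2) [nat_lit 3, nat_lit 2, nat_lit 3, nat_lit 2, nat_lit 3, nat_lit 2, nat_lit 3, nat_lit 2, nat_lit 3, nat_lit 2, nat_lit 3]) (.leaf (nat_lit 697) (nat_lit 3) [nat_lit 2, nat_lit 3, nat_lit 2, nat_lit 3, nat_lit 2, nat_lit 3, nat_lit 2, nat_lit 3, nat_lit 2, nat_lit 3, nat_lit 2]))) (.node (nat_lit 721) (.node (nat_lit 720) (.leaf (nat_lit 696) (nat_lit 2) [nat_lit 3, nat_lit 2, nat_lit 3, nat_lit 2, nat_lit 3, nat_lit 2, nat_lit 3, nat_lit 2, nat_lit 3, nat_lit 2, nat_lit 3]) (.leaf (nat_lit 265) (nat_lit 3) [nat_lit 0, nat_lit 3, nat_lit 0, nat_lit 3, nat_lit 0, nat_lit 3, nat_lit 0, nat_lit 3, nat_lit 0, nat_lit 3, nat_lit 0])) (.node (nat_lit 722) (.leaf (nat_lit 264) (nat_lit 0) [nat_lit 3, nat_lit 0, nat_lit 3, nat_lit 0, nat_lit 3, nat_lit 0, nat_lit 3, nat_lit 0, nat_lit 3, nat_lit 0, nat_lit 3]) (.node (nat_lit 723) (.leaf (nat_lit 265) (nat_lit 3) [nat_lit 0, nat_lit 3, nat_lit 0, nat_lit 3, nat_lit 0, nat_lit 3, nat_lit 0, nat_lit 3, nat_lit 0, nat_lit 3, nat_lit 0]) (.leaf (nat_lit 264) (nat_lit 0) [nat_lit 3, nat_lit 0, nat_lit 3, nat_lit 0, nat_lit 3, nat_lit 0, nat_lit 3, nat_lit 0, nat_lit 3, nat_lit 0, nat_lit 3]))))) (.node (nat_lit 729) (.node (nat_lit 726) (.node (nat_lit 725) (.leaf (nat_lit 265) (nat_lit 3) [nat_lit 0, nat_lit 3, nat_lit 0, nat_lit 3, nat_lit 0, nat_lit 3, nat_lit 0, nat_lit 3, nat_lit 0, nat_lit 3, nat_lit 0]) (.leaf (nat_lit 264) (nat_lit 0) [nat_lit 3, nat_lit 0, nat_lit 3, nat_lit 0, nat_lit 3, nat_lit 0, nat_lit 3, nat_lit 0, nat_lit 3, nat_lit 0, nat_lit 3])) (.node (nat_lit 727) (.leaf (nat_lit 265) (nat_lit 3) [nat_lit 0, nat_lit 3, nat_lit 0, nat_lit 3, nat_lit 0, nat_lit 3, nat_lit 0, nat_lit 3, nat_lit 0, nat_lit 3, nat_lit 0]) (.node (nat_lit 728) (.leaf (nat_lit 264) (nat_lit 0) [nat_lit 3, nat_lit 0, nat_lit 3, nat_lit 0, nat_lit 3, nat_lit 0, nat_lit 3, nat_lit 0, nat_lit 3, nat_lit 0, nat_lit 3]) (.leaf (nat_lit 265) (nat_lit 3) [nat_lit 0, nat_lit 3, nat_lit 0, nat_lit 3, nat_lit 0, nat_lit 3, nat_lit 0, nat_lit 3, nat_lit 0, nat_lit 3, nat_lit 0])))) (.node (nat_lit 731) (.node (nat_lit 730) (.leaf (nat_lit 264) (nat_lit 0) [nat_lit 3, nat_lit 0, nat_lit 3, nat_lit 0, nat_lit 3, nat_lit 0, nat_lit 3, nat_lit 0, nat_lit 3, nat_lit 0, nat_lit 3]) (.leaf (nat_lit 265) (nat_lit 3) [nat_lit 0, nat_lit 3, nat_lit 0, nat_lit 3, nat_lit 0, nat_lit 3, nat_lit 0, nat_lit 3, nat_lit 0, nat_lit 3, nat_lit 0])) (.node (nat_lit 732) (.leaf (nat_lit 264) (nat_lit 0) [nat_lit 3, nat_lit 0, nat_lit 3, nat_lit 0, nat_lit 3, nat_lit 0, nat_lit 3, nat_lit 0, nat_lit 3, nat_lit 0, nat_lit 3]) (.node (nat_lit 733) (.leaf (nat_lit 264) (nat_lit 0) [nat_lit 3, nat_lit 0, nat_lit 3, nat_lit 0, nat_lit 3, nat_lit 0, nat_lit 3, nat_lit 0, nat_lit 3, nat_lit 0, nat_lit 3]) (.leaf (nat_lit 265) (nat_lit 3) [nat_lit 0, nat_lit 3, nat_lit 0, nat_lit 3, nat_lit 0, nat_lit 3, nat_lit 0, nat_lit 3, nat_lit 0, nat_lit 3, nat_lit 0])))))) (.node (nat_lit 743) (.node (nat_lit 738) (.node (nat_lit 736) (.node (nat_lit 735) (.leaf (nat_lit 264) (nat_lit 0) [nat_lit 3, nat_lit 0, nat_lit 3, nat_lit 0, nat_lit 3, nat_lit 0, nat_lit 3, nat_lit 0, nat_lit 3, nat_lit 0, nat_lit 3]) (.leaf (nat_lit 265) (nat_lit 3) [nat_lit 0, nat_lit 3, nat_lit 0, nat_lit 3, nat_lit 0, nat_lit 3, nat_lit 0, nat_lit 3, nat_lit 0, nat_lit 3, nat_lit 0])) (.node (nat_lit 737) (.leaf (nat_lit 264) (nat_lit 0) [nat_lit 3, nat_lit 0, nat_lit 3, nat_lit 0, nat_lit 3, nat_lit 0, nat_lit 3, nat_lit 0, nat_lit 3, nat_lit 0, nat_lit 3]) (.leaf (nat_lit 265) (nat_lit 3) [nat_lit 0, nat_lit 3, nat_lit 0, nat_lit 3, nat_lit 0, nat_lit 3, nat_lit 0, nat_lit 3, nat_lit 0, nat_lit 3, nat_lit 0]))) (.node (nat_lit 740) (.node (nat_lit 739) (.leaf (nat_lit 264) (nat_lit 0) [nat_lit 3, nat_lit 0, nat_lit 3, nat_lit 0, nat_lit 3, nat_lit 0, nat_lit 3, nat_lit 0, nat_lit 3, nat_lit 0, nat_lit 3]) (.leaf (nat_lit 265) (nat_lit 3) [nat_lit 0, nat_lit 3, nat_lit 0, nat_lit 3, nat_lit 0, nat_lit 3, nat_lit 0, nat_lit 3, nat_lit 0, nat_lit 3, nat_lit 0])) (.node (nat_lit 741) (.leaf (nat_lit 264) (nat_lit 0) [nat_lit 3, nat_lit 0, nat_lit 3, nat_lit 0, nat_lit 3, nat_lit 0, nat_lit 3, nat_lit 0, nat_lit 3, nat_lit 0, nat_lit 3]) (.node (nat_lit 742) (.leaf (nat_lit 265) (nat_lit 3) [nat_lit 0, nat_lit 3, nat_lit 0, nat_lit 3, nat_lit 0, nat_lit 3, nat_lit 0, nat_lit 3, nat_lit 0, nat_lit 3, nat_lit 0]) (.leaf (nat_lit 264) (nat_lit 0) [nat_lit 3, nat_lit 0, nat_lit 3, nat_lit 0, nat_lit 3, nat_lit 0, nat_lit 3, nat_lit 0, nat_lit 3, nat_lit 0, nat_lit 3]))))) (.node (nat_lit 748) (.node (nat_lit 745) (.node (nat_lit 744) (.leaf (nat_lit 265) (nat_lit 3) [nat_lit 0, nat_lit 3, nat_lit 0, nat_lit 3, nat_lit 0, nat_lit 3, nat_lit 0, nat_lit 3, nat_lit 0, nat_lit 3, nat_lit 0]) (.leaf (nat_lit 744) (nat_lit 3) [nat_lit 0, nat_lit 3, nat_lit 1, nat_lit 3, nat_lit 0, nat_lit 3, nat_lit 1, nat_lit 3, nat_lit 0, nat_lit 3, nat_lit 1])) (.node (nat_lit 746) (.leaf (nat_lit 745) (nat_lit 1) [nat_lit 3, nat_lit 0, nat_lit 3, nat_lit 1, nat_lit 3, nat_lit 0, nat_lit 3, nat_lit 1, nat_lit 3, nat_lit 0, nat_lit 3]) (.node (nat_lit 747) (.leaf (nat_lit 746) (nat_lit 3) [nat_lit 1, nat_lit 3, nat_lit 0, nat_lit 3, nat_lit 1, nat_lit 3, nat_lit 0, nat_lit 3, nat_lit 1, nat_lit 3, nat_lit 0]) (.leaf (nat_lit 747) (nat_lit 0) [nat_lit 3, nat_lit 1, nat_lit 3, nat_lit 0, nat_lit 3, nat_lit 1, nat_lit 3, nat_lit 0, nat_lit 3, nat_lit 1, nat_lit 3])))) (.node (nat_lit 750) (.node (nat_lit 749) (.leaf (nat_lit 744) (nat_lit 3) [nat_lit 0, nat_lit 3, nat_lit 1, nat_lit 3, nat_lit 0, nat_lit 3, nat_lit 1, nat_lit 3, nat_lit 0, nat_lit 3, nat_lit 1]) (.leaf (nat_lit 745) (nat_lit 1) [nat_lit 3, nat_lit 0, nat_lit 3, nat_lit 1, nat_lit 3, nat_lit 0, nat_lit 3, nat_lit 1, nat_lit 3, nat_lit 0, nat_lit 3])) (.node (nat_lit 751) (.leaf (nat_lit 746) (nat_lit 3) [nat_lit 1, nat_lit 3, nat_lit 0, nat_lit 3, nat_lit 1, nat_lit 3, nat_lit 0, nat_lit 3, nat_lit 1, nat_lit 3, nat_lit 0]) (.node (nat_lit 752) (.leaf (nat_lit 747) (nat_lit 0) [nat_lit 3, nat_lit 1, nat_lit 3, nat_lit 0, nat_lit 3, nat_lit 1, nat_lit 3, nat_lit 0, nat_lit 3, nat_lit 1, nat_lit 3]) (.leaf (nat_lit 744) (nat_lit 3) [nat_lit 0, nat_lit 3, nat_lit 1, nat_lit 3, nat_lit 0, nat_lit 3, nat_lit 1, nat_lit 3, nat_lit 0, nat_lit 3, nat_lit 1]))))))))) (.node (nat_lit 828) (.node (nat_lit 790) (.node (nat_lit 771) (.node (nat_lit 762) (.node (nat_lit 757) (.node (nat_lit 755) (.node (nat_lit 754) (.leaf (nat_lit 745) (nat_lit 1) [nat_lit 3, nat_lit 0, nat_lit 3, nat_lit 1, nat_lit 3, nat_lit 0, nat_lit 3, nat_lit 1, nat_lit 3, nat_lit 0, nat_lit 3]) (.leaf (nat_lit 746) (nat_lit 3) [nat_lit 1, nat_lit 3, nat_lit 0, nat_lit 3, nat_lit 1, nat_lit 3, nat_lit 0, nat_lit 3, nat_lit 1, nat_lit 3, nat_lit 0])) (.node (nat_lit 756) (.leaf (nat_lit 747) (nat_lit 0) [nat_lit 3, nat_lit 1, nat_lit 3, nat_lit 0, nat_lit 3, nat_lit 1, nat_lit 3, nat_lit 0, nat_lit 3, nat_lit 1, nat_lit 3]) (.leaf (nat_lit 747) (nat_lit 0) [nat_lit 3, nat_lit 1, nat_lit 3, nat_lit 0, nat_lit 3, nat_lit 1, nat_lit 3, nat_lit 0, nat_lit 3, nat_lit 1, nat_lit 3]))) (.node (nat_lit 759) (.node (nat_lit 758) (.leaf (nat_lit 744) (nat_lit 3) [nat_lit 0, nat_lit 3, nat_lit 1, nat_lit 3, nat_lit 0, nat_lit 3, nat_lit 1, nat_lit 3, nat_lit 0, nat_lit 3, nat_lit 1]) (.leaf (nat_lit 745) (nat_lit 1) [nat_lit 3, nat_lit 0, nat_lit 3, nat_lit 1, nat_lit 3, nat_lit 0, nat_lit 3, nat_lit 1, nat_lit 3, nat_lit 0, nat_lit 3])) (.node (nat_lit 760) (.leaf (nat_lit 746) (nat_lit 3) [nat_lit 1, nat_lit 3, nat_lit 0, nat_lit 3, nat_lit 1, nat_lit 3, nat_lit 0, nat_lit 3, nat_lit 1, nat_lit 3, nat_lit 0]) (.node (nat_lit 761) (.leaf (nat_lit 747) (nat_lit 0) [nat_lit 3, nat_lit 1, nat_lit 3, nat_lit 0, nat_lit 3, nat_lit 1, nat_lit 3, nat_lit 0, nat_lit 3, nat_lit 1, nat_lit 3]) (.leaf (nat_lit 744) (nat_lit 3) [nat_lit 0, nat_lit 3, nat_lit 1, nat_lit 3, nat_lit 0, nat_lit 3, nat_lit 1, nat_lit 3, nat_lit 0, nat_lit 3, nat_lit 1]))))) (.node (nat_lit 766) (.node (nat_lit 764) (.node (nat_lit 763) (.leaf (nat_lit 745) (nat_lit 1) [nat_lit 3, nat_lit 0, nat_lit 3, nat_lit 1, nat_lit 3, nat_lit 0, nat_lit 3, nat_lit 1, nat_lit 3, nat_lit 0, nat_lit 3]) (.leaf (nat_lit 746) (nat_lit 3) [nat_lit 1, nat_lit 3, nat_lit 0, nat_lit 3, nat_lit 1, nat_lit 3, nat_lit 0, nat_lit 3, nat_lit 1, nat_lit 3, nat_lit 0])) (.node (nat_lit 765) (.leaf (nat_lit 747) (nat_lit 0) [nat_lit 3, nat_lit 1, nat_lit 3, nat_lit 0, nat_lit 3, nat_lit 1, nat_lit 3, nat_lit 0, nat_lit 3, nat_lit 1, nat_lit 3]) (.leaf (nat_lit 744) (nat_lit 3) [nat_lit 0, nat_lit 3, nat_lit 1, nat_lit 3, nat_lit 0, nat_lit 3, nat_lit 1, nat_lit 3, nat_lit 0, nat_lit 3, nat_lit 1]))) (.node (nat_lit 768) (.node (nat_lit 767) (.leaf (nat_lit 745) (nat_lit 1) [nat_lit 3, nat_lit 0, nat_lit 3, nat_lit 1, nat_lit 3, nat_lit 0, nat_lit 3, nat_lit 1, nat_lit 3, nat_lit 0, nat_lit 3]) (.leaf (nat_lit 746) (nat_lit 3) [nat_lit 1, nat_lit 3, nat_lit 0, nat_lit 3, nat_lit 1, nat_lit 3, nat_lit 0, nat_lit 3, nat_lit 1, nat_lit 3, nat_lit 0])) (.node (nat_lit 769) (.leaf (nat_lit 768) (nat_lit 3) [nat_lit 0, nat_lit 3, nat_lit 2, nat_lit 3, nat_lit 0, nat_lit 3, nat_lit 2, nat_lit 3, nat_lit 0, nat_lit 3, nat_lit 2]) (.node (nat_lit 770) (.leaf (nat_lit 769) (nat_lit 2) [nat_lit 3, nat_lit 0, nat_lit 3, nat_lit 2, nat_lit 3, nat_lit 0, nat_lit 3, nat_lit 2, nat_lit 3, nat_lit 0, nat_lit 3]) (.leaf (nat_lit 770) (nat_lit 3) [nat_lit 2, nat_lit 3, nat_lit 0, nat_lit 3, nat_lit 2, nat_lit 3, nat_lit 0, nat_lit 3, nat_lit 2, nat_lit 3, nat_lit 0])))))) (.node (nat_lit 780) (.node (nat_lit 775) (.node (nat_lit 773) (.node (nat_lit 772) (.leaf (nat_lit 771) (nat_lit 0) [nat_lit 3, nat_lit 2, nat_lit 3, nat_lit 0, nat_lit 3, nat_lit 2, nat_lit 3, nat_lit 0, nat_lit 3, nat_lit 2, nat_lit 3]) (.leaf (nat_lit 768) (nat_lit 3) [nat_lit 0, nat_lit 3, nat_lit 2, nat_lit 3, nat_lit 0, nat_lit 3, nat_lit 2, nat_lit 3, nat_lit 0, nat_lit 3, nat_lit 2])) (.node (nat_lit 774) (.leaf (nat_lit 769) (nat_lit 2) [nat_lit 3, nat_lit 0, nat_lit 3, nat_lit 2, nat_lit 3, nat_lit 0, nat_lit 3, nat_lit 2, nat_lit 3, nat_lit 0, nat_lit 3]) (.leaf (nat_lit 770) (nat_lit 3) [nat_lit 2, nat_lit 3, nat_lit 0, nat_lit 3, nat_lit 2, nat_lit 3, nat_lit 0, nat_lit 3, nat_lit 2, nat_lit 3, nat_lit 0]))) (.node (nat_lit 777) (.node (nat_lit 776) (.leaf (nat_lit 771) (nat_lit 0) [nat_lit 3, nat_lit 2, nat_lit 3, nat_lit 0, nat_lit 3, nat_lit 2, nat_lit 3, nat_lit 0, nat_lit 3, nat_lit 2, nat_lit 3]) (.leaf (nat_lit 768) (nat_lit 3) [nat_lit 0, nat_lit 3, nat_lit 2, nat_lit 3, nat_lit 0, nat_lit 3, nat_lit 2, nat_lit 3, nat_lit 0, nat_lit 3, nat_lit 2])) (.node (nat_lit 778) (.leaf (nat_lit 769) (nat_lit 2) [nat_lit 3, nat_lit 0, nat_lit 3, nat_lit 2, nat_lit 3, nat_lit 0, nat_lit 3, nat_lit 2, nat_lit 3, nat_lit 0, nat_lit 3]) (.node (nat_lit 779) (.leaf (nat_lit 770) (nat_lit 3) [nat_lit 2, nat_lit 3, nat_lit 0, nat_lit 3, nat_lit 2, nat_lit 3, nat_lit 0, nat_lit 3, nat_lit 2, nat_lit 3, nat_lit 0]) (.leaf (nat_lit 771) (nat_lit 0) [nat_lit 3, nat_lit 2, nat_lit 3, nat_lit 0, nat_lit 3, nat_lit 2, nat_lit 3, nat_lit 0, nat_lit 3, nat_lit 2, nat_lit 3]))))) (.node (nat_lit 785) (.node (nat_lit 782) (.node (nat_lit 781) (.leaf (nat_lit 771) (nat_lit 0) [nat_lit 3, nat_lit 2, nat_lit 3, nat_lit 0, nat_lit 3, nat_lit 2, nat_lit 3, nat_lit 0, nat_lit 3, nat_lit 2, nat_lit 3]) (.leaf (nat_lit 768) (nat_lit 3) [nat_lit 0, nat_lit 3, nat_lit 2, nat_lit 3, nat_lit 0, nat_lit 3, nat_lit 2, nat_lit 3, nat_lit 0, nat_lit 3, nat_lit 2])) (.node (nat_lit 783) (.leaf (nat_lit 769) (nat_lit 2) [nat_lit 3, nat_lit 0, nat_lit 3, nat_lit 2, nat_lit 3, nat_lit 0, nat_lit 3, nat_lit 2, nat_lit 3, nat_lit 0, nat_lit 3]) (.node (nat_lit 784) (.leaf (nat_lit 770) (nat_lit 3) [nat_lit 2, nat_lit 3, nat_lit 0, nat_lit 3, nat_lit 2, nat_lit 3, nat_lit 0, nat_lit 3, nat_lit 2, nat_lit 3, nat_lit 0]) (.leaf (nat_lit 771) (nat_lit 0) [nat_lit 3, nat_lit 2, nat_lit 3, nat_lit 0, nat_lit 3, nat_lit 2, nat_lit 3, nat_lit 0, nat_lit 3, nat_lit 2, nat_lit 3])))) (.node (nat_lit 787) (.node (nat_lit 786) (.leaf (nat_lit 768) (nat_lit 3) [nat_lit 0, nat_lit 3, nat_lit 2, nat_lit 3, nat_lit 0, nat_lit 3, nat_lit 2, nat_lit 3, nat_lit 0, nat_lit 3, nat_lit 2]) (.leaf (nat_lit 769) (nat_lit 2) [nat_lit 3, nat_lit 0, nat_lit 3, nat_lit 2, nat_lit 3, nat_lit 0, nat_lit 3, nat_lit 2, nat_lit 3, nat_lit 0, nat_lit 3])) (.node (nat_lit 788) (.leaf (nat_lit 770) (nat_lit 3) [nat_lit 2, nat_lit 3, nat_lit 0, nat_lit 3, nat_lit 2, nat_lit 3, nat_lit 0, nat_lit 3, nat_lit 2, nat_lit 3, nat_lit 0]) (.node (nat_lit 789) (.leaf (nat_lit 771) (nat_lit 0) [nat_lit 3, nat_lit 2, nat_lit 3, nat_lit 0, nat_lit 3, nat_lit 2, nat_lit 3, nat_lit 0, nat_lit 3, nat_lit 2, nat_lit 3]) (.leaf (nat_lit 768) (nat_lit 3) [nat_lit 0, nat_lit 3, nat_lit 2, nat_lit 3, nat_lit 0, nat_lit 3, nat_lit 2, nat_lit 3, nat_lit 0, nat_lit 3, nat_lit 2]))))))) (.node (nat_lit 809) (.node (nat_lit 799) (.node (nat_lit 794) (.node (nat_lit 792) (.node (nat_lit 791) (.leaf (nat_lit 769) (nat_lit 2) [nat_lit 3, nat_lit 0, nat_lit 3, nat_lit 2, nat_lit 3, nat_lit 0, nat_lit 3, nat_lit 2, nat_lit 3, nat_lit 0, nat_lit 3]) (.leaf (nat_lit 770) (nat_lit 3) [nat_lit 2, nat_lit 3, nat_lit 0, nat_lit 3, nat_lit 2, nat_lit 3, nat_lit 0, nat_lit 3, nat_lit 2, nat_lit 3, nat_lit 0])) (.node (nat_lit 793) (.leaf (nat_lit 746) (nat_lit 3) [nat_lit 1, nat_lit 3, nat_lit 0, nat_lit 3, nat_lit 1, nat_lit 3, nat_lit 0, nat_lit 3, nat_lit 1, nat_lit 3, nat_lit 0]) (.leaf (nat_lit 747) (nat_lit 0) [nat_lit 3, nat_lit 1, nat_lit 3, nat_lit 0, nat_lit 3, nat_lit 1, nat_lit 3, nat_lit 0, nat_lit 3, nat_lit 1, nat_lit 3]))) (.node (nat_lit 796) (.node (nat_lit 795) (.leaf (nat_lit 744) (nat_lit 3) [nat_lit 0, nat_lit 3, nat_lit 1, nat_lit 3, nat_lit 0, nat_lit 3, nat_lit 1, nat_lit 3, nat_lit 0, nat_lit 3, nat_lit 1]) (.leaf (nat_lit 745) (nat_lit 1) [nat_lit 3, nat_lit 0, nat_lit 3, nat_lit 1, nat_lit 3, nat_lit 0, nat_lit 3, nat_lit 1, nat_lit 3, nat_lit 0, nat_lit 3])) (.node (nat_lit 797) (.leaf (nat_lit 746) (nat_lit 3) [nat_lit 1, nat_lit 3, nat_lit 0, nat_lit 3, nat_lit 1, nat_lit 3, nat_lit 0, nat_lit 3, nat_lit 1, nat_lit 3, nat_lit 0]) (.node (nat_lit 798) (.leaf (nat_lit 747) (nat_lit 0) [nat_lit 3, nat_lit 1, nat_lit 3, nat_lit 0, nat_lit 3, nat_lit 1, nat_lit 3, nat_lit 0, nat_lit 3, nat_lit 1, nat_lit 3]) (.leaf (nat_lit 744) (nat_lit 3) [nat_lit 0, nat_lit 3, nat_lit 1, nat_lit 3, nat_lit 0, nat_lit 3, nat_lit 1, nat_lit 3, nat_lit 0, nat_lit 3, nat_lit 1]))))) (.node (nat_lit 804) (.node (nat_lit 801) (.node (nat_lit 800) (.leaf (nat_lit 745) (nat_lit 1) [nat_lit 3, nat_lit 0, nat_lit 3, nat_lit 1, nat_lit 3, nat_lit 0, nat_lit 3, nat_lit 1, nat_lit 3, nat_lit 0, nat_lit 3]) (.leaf (nat_lit 746) (nat_lit 3) [nat_lit 1, nat_lit 3, nat_lit 0, nat_lit 3, nat_lit 1, nat_lit 3, nat_lit 0, nat_lit 3, nat_lit 1, nat_lit 3, nat_lit 0])) (.node (nat_lit 802) (.leaf (nat_lit 747) (nat_lit 0) [nat_lit 3, nat_lit 1, nat_lit 3, nat_lit 0, nat_lit 3, nat_lit 1, nat_lit 3, nat_lit 0, nat_lit 3, nat_lit 1, nat_lit 3]) (.node (nat_lit 803) (.leaf (nat_lit 744) (nat_lit 3) [nat_lit 0, nat_lit 3, nat_lit 1, nat_lit 3, nat_lit 0, nat_lit 3, nat_lit 1, nat_lit 3, nat_lit 0, nat_lit 3, nat_lit 1]) (.leaf (nat_lit 745) (nat_lit 1) [nat_lit 3, nat_lit 0, nat_lit 3, nat_lit 1, nat_lit 3, nat_lit 0, nat_lit 3, nat_lit 1, nat_lit 3, nat_lit 0, nat_lit 3])))) (.node (nat_lit 806) (.node (nat_lit 805) (.leaf (nat_lit 745) (nat_lit 1) [nat_lit 3, nat_lit 0, nat_lit 3, nat_lit 1, nat_lit 3, nat_lit 0, nat_lit 3, nat_lit 1, nat_lit 3, nat_lit 0, nat_lit 3]) (.leaf (nat_lit 746) (nat_lit 3) [nat_lit 1, nat_lit 3, nat_lit 0, nat_lit 3, nat_lit 1, nat_lit 3, nat_lit 0, nat_lit 3, nat_lit 1, nat_lit 3, nat_lit 0])) (.node (nat_lit 807) (.leaf (nat_lit 747) (nat_lit 0) [nat_lit 3, nat_lit 1, nat_lit 3, nat_lit 0, nat_lit 3, nat_lit 1, nat_lit 3, nat_lit 0, nat_lit 3, nat_lit 1, nat_lit 3]) (.node (nat_lit 808) (.leaf (nat_lit 744) (nat_lit 3) [nat_lit 0, nat_lit 3, nat_lit 1, nat_lit 3, nat_lit 0, nat_lit 3, nat_lit 1, nat_lit 3, nat_lit 0, nat_lit 3, nat_lit 1]) (.leaf (nat_lit 745) (nat_lit 1) [nat_lit 3, nat_lit 0, nat_lit 3, nat_lit 1, nat_lit 3, nat_lit 0, nat_lit 3, nat_lit 1, nat_lit 3, nat_lit 0, nat_lit 3])))))) (.node (nat_lit 818) (.node (nat_lit 813) (.node (nat_lit 811) (.node (nat_lit 810) (.leaf (nat_lit 746) (nat_lit 3) [nat_lit 1, nat_lit 3, nat_lit 0, nat_lit 3, nat_lit 1, nat_lit 3, nat_lit 0, nat_lit 3, nat_lit 1, nat_lit 3, nat_lit 0]) (.leaf (nat_lit 747) (nat_lit 0) [nat_lit 3, nat_lit 1, nat_lit 3, nat_lit 0, nat_lit 3, nat_lit 1, nat_lit 3, nat_lit 0, nat_lit 3, nat_lit 1, nat_lit 3])) (.node (nat_lit 812) (.leaf (nat_lit 744) (nat_lit 3) [nat_lit 0, nat_lit 3, nat_lit 1, nat_lit 3, nat_lit 0, nat_lit 3, nat_lit 1, nat_lit 3, nat_lit 0, nat_lit 3, nat_lit 1]) (.leaf (nat_lit 745) (nat_lit 1) [nat_lit 3, nat_lit 0, nat_lit 3, nat_lit 1, nat_lit 3, nat_lit 0, nat_lit 3, nat_lit 1, nat_lit 3, nat_lit 0, nat_lit 3]))) (.node (nat_lit 815) (.node (nat_lit 814) (.leaf (nat_lit 746) (nat_lit 3) [nat_lit 1, nat_lit 3, nat_lit 0, nat_lit 3, nat_lit 1, nat_lit 3, nat_lit 0, nat_lit 3, nat_lit 1, nat_lit 3, nat_lit 0]) (.leaf (nat_lit 747) (nat_lit 0) [nat_lit 3, nat_lit 1, nat_lit 3, nat_lit 0, nat_lit 3, nat_lit 1, nat_lit 3, nat_lit 0, nat_lit 3, nat_lit 1, nat_lit 3])) (.node (nat_lit 816) (.leaf (nat_lit 744) (nat_lit 3) [nat_lit 0, nat_lit 3, nat_lit 1, nat_lit 3, nat_lit 0, nat_lit 3, nat_lit 1, nat_lit 3, nat_lit 0, nat_lit 3, nat_lit 1]) (.node (nat_lit 817) (.leaf (nat_lit 481) (nat_lit 3) [nat_lit 1, nat_lit 3, nat_lit 1, nat_lit 3, nat_lit 1, nat_lit 3, nat_lit 1, nat_lit 3, nat_lit 1, nat_lit 3, nat_lit 1]) (.leaf (nat_lit 480) (nat_lit 1) [nat_lit 3, nat_lit 1, nat_lit 3, nat_lit 1, nat_lit 3, nat_lit 1, nat_lit 3, nat_lit 1, nat_lit 3, nat_lit 1, nat_lit 3]))))) (.node (nat_lit 823) (.node (nat_lit 820) (.node (nat_lit 819) (.leaf (nat_lit 481) (nat_lit 3) [nat_lit 1, nat_lit 3, nat_lit 1, nat_lit 3, nat_lit 1, nat_lit 3, nat_lit 1, nat_lit 3, nat_lit 1, nat_lit 3, nat_lit 1]) (.leaf (nat_lit 480) (nat_lit 1) [nat_lit 3, nat_lit 1, nat_lit 3, nat_lit 1, nat_lit 3, nat_lit 1, nat_lit 3, nat_lit 1, nat_lit 3, nat_lit 1, nat_lit 3])) (.node (nat_lit 821) (.leaf (nat_lit 481) (nat_lit 3) [nat_lit 1, nat_lit 3, nat_lit 1, nat_lit 3, nat_lit 1, nat_lit 3, nat_lit 1, nat_lit 3, nat_lit 1, nat_lit 3, nat_lit 1]) (.node (nat_lit 822) (.leaf (nat_lit 480) (nat_lit 1) [nat_lit 3, nat_lit 1, nat_lit 3, nat_lit 1, nat_lit 3, nat_lit 1, nat_lit 3, nat_lit 1, nat_lit 3, nat_lit 1, nat_lit 3]) (.leaf (nat_lit 481) (nat_lit 3) [nat_lit 1, nat_lit 3, nat_lit 1, nat_lit 3, nat_lit 1, nat_lit 3, nat_lit 1, nat_lit 3, nat_lit 1, nat_lit 3, nat_lit 1])))) (.node (nat_lit 825) (.node (nat_lit 824) (.leaf (nat_lit 480) (nat_lit 1) [nat_lit 3, nat_lit 1, nat_lit 3, nat_lit 1, nat_lit 3, nat_lit 1, nat_lit 3, nat_lit 1, nat_lit 3, nat_lit 1, nat_lit 3]) (.leaf (nat_lit 481) (nat_lit 3) [nat_lit 1, nat_lit 3, nat_lit 1, nat_lit 3, nat_lit 1, nat_lit 3, nat_lit 1, nat_lit 3, nat_lit 1, nat_lit 3, nat_lit 1])) (.node (nat_lit 826) (.leaf (nat_lit 480) (nat_lit 1) [nat_lit 3, nat_lit 1, nat_lit 3, nat_lit 1, nat_lit 3, nat_lit 1, nat_lit 3, nat_lit 1, nat_lit 3, nat_lit 1, nat_lit 3]) (.node (nat_lit 827) (.leaf (nat_lit 481) (nat_lit 3) [nat_lit 1, nat_lit 3, nat_lit 1, nat_lit 3, nat_lit 1, nat_lit 3, nat_lit 1, nat_lit 3, nat_lit 1, nat_lit 3, nat_lit 1]) (.leaf (nat_lit 480) (nat_lit 1) [nat_lit 3, nat_lit 1, nat_lit 3, nat_lit 1, nat_lit 3, nat_lit 1, nat_lit 3, nat_lit 1, nat_lit 3, nat_lit 1, nat_lit 3])))))))) (.node (nat_lit 866) (.node (nat_lit 847) (.node (nat_lit 837) (.node (nat_lit 832) (.node (nat_lit 830) (.node (nat_lit 829) (.leaf (nat_lit 480) (nat_lit 1) [nat_lit 3, nat_lit 1, nat_lit 3, nat_lit 1, nat_lit 3, nat_lit 1, nat_lit 3, nat_lit 1, nat_lit 3, nat_lit 1, nat_lit 3]) (.leaf (nat_lit 481) (nat_lit 3) [nat_lit 1, nat_lit 3, nat_lit 1, nat_lit 3, nat_lit 1, nat_lit 3, nat_lit 1, nat_lit 3, nat_lit 1, nat_lit 3, nat_lit 1])) (.node (nat_lit 831) (.leaf (nat_lit 480) (nat_lit 1) [nat_lit 3, nat_lit 1, nat_lit 3, nat_lit 1, nat_lit 3, nat_lit 1, nat_lit 3, nat_lit 1, nat_lit 3, nat_lit 1, nat_lit 3]) (.leaf (nat_lit 481) (nat_lit 3) [nat_lit 1, nat_lit 3, nat_lit 1, nat_lit 3, nat_lit 1, nat_lit 3, nat_lit 1, nat_lit 3, nat_lit 1, nat_lit 3, nat_lit 1]))) (.node (nat_lit 834) (.node (nat_lit 833) (.leaf (nat_lit 480) (nat_lit 1) [nat_lit 3, nat_lit 1, nat_lit 3, nat_lit 1, nat_lit 3, nat_lit 1, nat_lit 3, nat_lit 1, nat_lit 3, nat_lit 1, nat_lit 3]) (.leaf (nat_lit 481) (nat_lit 3) [nat_lit 1, nat_lit 3, nat_lit 1, nat_lit 3, nat_lit 1, nat_lit 3, nat_lit 1, nat_lit 3, nat_lit 1, nat_lit 3, nat_lit 1])) (.node (nat_lit 835) (.leaf (nat_lit 480) (nat_lit 1) [nat_lit 3, nat_lit 1, nat_lit 3, nat_lit 1, nat_lit 3, nat_lit 1, nat_lit 3, nat_lit 1, nat_lit 3, nat_lit 1, nat_lit 3]) (.node (nat_lit 836) (.leaf (nat_lit 481) (nat_lit 3) [nat_lit 1, nat_lit 3, nat_lit 1, nat_lit 3, nat_lit 1, nat_lit 3, nat_lit 1, nat_lit 3, nat_lit 1, nat_lit 3, nat_lit 1]) (.leaf (nat_lit 480) (nat_lit 1) [nat_lit 3, nat_lit 1, nat_lit 3, nat_lit 1, nat_lit 3, nat_lit 1, nat_lit 3, nat_lit 1, nat_lit 3, nat_lit 1, nat_lit 3]))))) (.node (nat_lit 842) (.node (nat_lit 839) (.node (nat_lit 838) (.leaf (nat_lit 481) (nat_lit 3) [nat_lit 1, nat_lit 3, nat_lit 1, nat_lit 3, nat_lit 1, nat_lit 3, nat_lit 1, nat_lit 3, nat_lit 1, nat_lit 3, nat_lit 1]) (.leaf (nat_lit 480) (nat_lit 1) [nat_lit 3, nat_lit 1, nat_lit 3, nat_lit 1, nat_lit 3, nat_lit 1, nat_lit 3, nat_lit 1, nat_lit 3, nat_lit 1, nat_lit 3])) (.node (nat_lit 840) (.leaf (nat_lit 481) (nat_lit 3) [nat_lit 1, nat_lit 3, nat_lit 1, nat_lit 3, nat_lit 1, nat_lit 3, nat_lit 1, nat_lit 3, nat_lit 1, nat_lit 3, nat_lit 1]) (.node (nat_lit 841) (.leaf (nat_lit 840) (nat_lit 3) [nat_lit 1, nat_lit 3, nat_lit 2, nat_lit 3, nat_lit 1, nat_lit 3, nat_lit 2, nat_lit 3, nat_lit 1, nat_lit 3, nat_lit 2]) (.leaf (nat_lit 841) (nat_lit 2) [nat_lit 3, nat_lit 1, nat_lit 3, nat_lit 2, nat_lit 3, nat_lit 1, nat_lit 3, nat_lit 2, nat_lit 3, nat_lit 1, nat_lit 3])))) (.node (nat_lit 844) (.node (nat_lit 843) (.leaf (nat_lit 842) (nat_lit 3) [nat_lit 2, nat_lit 3, nat_lit 1, nat_lit 3, nat_lit 2, nat_lit 3, nat_lit 1, nat_lit 3, nat_lit 2, nat_lit 3, nat_lit 1]) (.leaf (nat_lit 843) (nat_lit 1) [nat_lit 3, nat_lit 2, nat_lit 3, nat_lit 1, nat_lit 3, nat_lit 2, nat_lit 3, nat_lit 1, nat_lit 3, nat_lit 2, nat_lit 3])) (.node (nat_lit 845) (.leaf (nat_lit 840) (nat_lit 3) [nat_lit 1, nat_lit 3, nat_lit 2, nat_lit 3, nat_lit 1, nat_lit 3, nat_lit 2, nat_lit 3, nat_lit 1, nat_lit 3, nat_lit 2]) (.node (nat_lit 846) (.leaf (nat_lit 841) (nat_lit 2) [nat_lit 3, nat_lit 1, nat_lit 3, nat_lit 2, nat_lit 3, nat_lit 1, nat_lit 3, nat_lit 2, nat_lit 3, nat_lit 1, nat_lit 3]) (.leaf (nat_lit 842) (nat_lit 3) [nat_lit 2, nat_lit 3, nat_lit 1, nat_lit 3, nat_lit 2, nat_lit 3, nat_lit 1, nat_lit 3, nat_lit 2, nat_lit 3, nat_lit 1])))))) (.node (nat_lit 856) (.node (nat_lit 851) (.node (nat_lit 849) (.node (nat_lit 848) (.leaf (nat_lit 843) (nat_lit 1) [nat_lit 3, nat_lit 2, nat_lit 3, nat_lit 1, nat_lit 3, nat_lit 2, nat_lit 3, nat_lit 1, nat_lit 3, nat_lit 2, nat_lit 3]) (.leaf (nat_lit 840) (nat_lit 3) [nat_lit 1, nat_lit 3, nat_lit 2, nat_lit 3, nat_lit 1, nat_lit 3, nat_lit 2, nat_lit 3, nat_lit 1, nat_lit 3, nat_lit 2])) (.node (nat_lit 850) (.leaf (nat_lit 841) (nat_lit 2) [nat_lit 3, nat_lit 1, nat_lit 3, nat_lit 2, nat_lit 3, nat_lit 1, nat_lit 3, nat_lit 2, nat_lit 3, nat_lit 1, nat_lit 3]) (.leaf (nat_lit 842) (nat_lit 3) [nat_lit 2, nat_lit 3, nat_lit 1, nat_lit 3, nat_lit 2, nat_lit 3, nat_lit 1, nat_lit 3, nat_lit 2, nat_lit 3, nat_lit 1]))) (.node (nat_lit 853) (.node (nat_lit 852) (.leaf (nat_lit 843) (nat_lit 1) [nat_lit 3, nat_lit 2, nat_lit 3, nat_lit 1, nat_lit 3, nat_lit 2, nat_lit 3, nat_lit 1, nat_lit 3, nat_lit 2, nat_lit 3]) (.leaf (nat_lit 843) (nat_lit 1) [nat_lit 3, nat_lit 2, nat_lit 3, nat_lit 1, nat_lit 3, nat_lit 2, nat_lit 3, nat_lit 1, nat_lit 3, nat_lit 2, nat_lit 3])) (.node (nat_lit 854) (.leaf (nat_lit 840) (nat_lit 3) [nat_lit 1, nat_lit 3, nat_lit 2, nat_lit 3, nat_lit 1, nat_lit 3, nat_lit 2, nat_lit 3, nat_lit 1, nat_lit 3, nat_lit 2]) (.node (nat_lit 855) (.leaf (nat_lit 841) (nat_lit 2) [nat_lit 3, nat_lit 1, nat_lit 3, nat_lit 2, nat_lit 3, nat_lit 1, nat_lit 3, nat_lit 2, nat_lit 3, nat_lit 1, nat_lit 3]) (.leaf (nat_lit 842) (nat_lit 3) [nat_lit 2, nat_lit 3, nat_lit 1, nat_lit 3, nat_lit 2, nat_lit 3, nat_lit 1, nat_lit 3, nat_lit 2, nat_lit 3, nat_lit 1]))))) (.node (nat_lit 861) (.node (nat_lit 858) (.node (nat_lit 857) (.leaf (nat_lit 843) (nat_lit 1) [nat_lit 3, nat_lit 2, nat_lit 3, nat_lit 1, nat_lit 3, nat_lit 2, nat_lit 3, nat_lit 1, nat_lit 3, nat_lit 2, nat_lit 3]) (.leaf (nat_lit 840) (nat_lit 3) [nat_lit 1, nat_lit 3, nat_lit 2, nat_lit 3, nat_lit 1, nat_lit 3, nat_lit 2, nat_lit 3, nat_lit 1, nat_lit 3, nat_lit 2])) (.node (nat_lit 859) (.leaf (nat_lit 841) (nat_lit 2) [nat_lit 3, nat_lit 1, nat_lit 3, nat_lit 2, nat_lit 3, nat_lit 1, nat_lit 3, nat_lit 2, nat_lit 3, nat_lit 1, nat_lit 3]) (.node (nat_lit 860) (.leaf (nat_lit 842) (nat_lit 3) [nat_lit 2, nat_lit 3, nat_lit 1, nat_lit 3, nat_lit 2, nat_lit 3, nat_lit 1, nat_lit 3, nat_lit 2, nat_lit 3, nat_lit 1]) (.leaf (nat_lit 843) (nat_lit 1) [nat_lit 3, nat_lit 2, nat_lit 3, nat_lit 1, nat_lit 3, nat_lit 2, nat_lit 3, nat_lit 1, nat_lit 3, nat_lit 2, nat_lit 3])))) (.node (nat_lit 863) (.node (nat_lit 862) (.leaf (nat_lit 840) (nat_lit 3) [nat_lit 1, nat_lit 3, nat_lit 2, nat_lit 3, nat_lit 1, nat_lit 3, nat_lit 2, nat_lit 3, nat_lit 1, nat_lit 3, nat_lit 2]) (.leaf (nat_lit 841) (nat_lit 2) [nat_lit 3, nat_lit 1, nat_lit 3, nat_lit 2, nat_lit 3, nat_lit 1, nat_lit 3, nat_lit 2, nat_lit 3, nat_lit 1, nat_lit 3])) (.node (nat_lit 864) (.leaf (nat_lit 842) (nat_lit 3) [nat_lit 2, nat_lit 3, nat_lit 1, nat_lit 3, nat_lit 2, nat_lit 3, nat_lit 1, nat_lit 3, nat_lit 2, nat_lit 3, nat_lit 1]) (.node (nat_lit 865) (.leaf (nat_lit 770) (nat_lit 3) [nat_lit 2, nat_lit 3, nat_lit 0, nat_lit 3, nat_lit 2, nat_lit 3, nat_lit 0, nat_lit 3, nat_lit 2, nat_lit 3, nat_lit 0]) (.leaf (nat_lit 771) (nat_lit 0) [nat_lit 3, nat_lit 2, nat_lit 3, nat_lit 0, nat_lit 3, nat_lit 2, nat_lit 3, nat_lit 0, nat_lit 3, nat_lit 2, nat_lit 3]))))))) (.node (nat_lit 885) (.node (nat_lit 875) (.node (nat_lit 870) (.node (nat_lit 868) (.node (nat_lit 867) (.leaf (nat_lit 768) (nat_lit 3) [nat_lit 0, nat_lit 3, nat_lit 2, nat_lit 3, nat_lit 0, nat_lit 3, nat_lit 2, nat_lit 3, nat_lit 0, nat_lit 3, nat_lit 2]) (.leaf (nat_lit 769) (nat_lit 2) [nat_lit 3, nat_lit 0, nat_lit 3, nat_lit 2, nat_lit 3, nat_lit 0, nat_lit 3, nat_lit 2, nat_lit 3, nat_lit 0, nat_lit 3])) (.node (nat_lit 869) (.leaf (nat_lit 770) (nat_lit 3) [nat_lit 2, nat_lit 3, nat_lit 0, nat_lit 3, nat_lit 2, nat_lit 3, nat_lit 0, nat_lit 3, nat_lit 2, nat_lit 3, nat_lit 0]) (.leaf (nat_lit 771) (nat_lit 0) [nat_lit 3, nat_lit 2, nat_lit 3, nat_lit 0, nat_lit 3, nat_lit 2, nat_lit 3, nat_lit 0, nat_lit 3, nat_lit 2, nat_lit 3]))) (.node (nat_lit 872) (.node (nat_lit 871) (.leaf (nat_lit 768) (nat_lit 3) [nat_lit 0, nat_lit 3, nat_lit 2, nat_lit 3, nat_lit 0, nat_lit 3, nat_lit 2, nat_lit 3, nat_lit 0, nat_lit 3, nat_lit 2]) (.leaf (nat_lit 769) (nat_lit 2) [nat_lit 3, nat_lit 0, nat_lit 3, nat_lit 2, nat_lit 3, nat_lit 0, nat_lit 3, nat_lit 2, nat_lit 3, nat_lit 0, nat_lit 3])) (.node (nat_lit 873) (.leaf (nat_lit 770) (nat_lit 3) [nat_lit 2, nat_lit 3, nat_lit 0, nat_lit 3, nat_lit 2, nat_lit 3, nat_lit 0, nat_lit 3, nat_lit 2, nat_lit 3, nat_lit 0]) (.node (nat_lit 874) (.leaf (nat_lit 771) (nat_lit 0) [nat_lit 3, nat_lit 2, nat_lit 3, nat_lit 0, nat_lit 3, nat_lit 2, nat_lit 3, nat_lit 0, nat_lit 3, nat_lit 2, nat_lit 3]) (.leaf (nat_lit 768) (nat_lit 3) [nat_lit 0, nat_lit 3, nat_lit 2, nat_lit 3, nat_lit 0, nat_lit 3, nat_lit 2, nat_lit 3, nat_lit 0, nat_lit 3, nat_lit 2]))))) (.node (nat_lit 880) (.node (nat_lit 877) (.node (nat_lit 876) (.leaf (nat_lit 769) (nat_lit 2) [nat_lit 3, nat_lit 0, nat_lit 3, nat_lit 2, nat_lit 3, nat_lit 0, nat_lit 3, nat_lit 2, nat_lit 3, nat_lit 0, nat_lit 3]) (.leaf (nat_lit 769) (nat_lit 2) [nat_lit 3, nat_lit 0, nat_lit 3, nat_lit 2, nat_lit 3, nat_lit 0, nat_lit 3, nat_lit 2, nat_lit 3, nat_lit 0, nat_lit 3])) (.node (nat_lit 878) (.leaf (nat_lit 770) (nat_lit 3) [nat_lit 2, nat_lit 3, nat_lit 0, nat_lit 3, nat_lit 2, nat_lit 3, nat_lit 0, nat_lit 3, nat_lit 2, nat_lit 3, nat_lit 0]) (.node (nat_lit 879) (.leaf (nat_lit 771) (nat_lit 0) [nat_lit 3, nat_lit 2, nat_lit 3, nat_lit 0, nat_lit 3, nat_lit 2, nat_lit 3, nat_lit 0, nat_lit 3, nat_lit 2, nat_lit 3]) (.leaf (nat_lit 768) (nat_lit 3) [nat_lit 0, nat_lit 3, nat_lit 2, nat_lit 3, nat_lit 0, nat_lit 3, nat_lit 2, nat_lit 3, nat_lit 0, nat_lit 3, nat_lit 2])))) (.node (nat_lit 882) (.node (nat_lit 881) (.leaf (nat_lit 769) (nat_lit 2) [nat_lit 3, nat_lit 0, nat_lit 3, nat_lit 2, nat_lit 3, nat_lit 0, nat_lit 3, nat_lit 2, nat_lit 3, nat_lit 0, nat_lit 3]) (.leaf (nat_lit 770) (nat_lit 3) [nat_lit 2, nat_lit 3, nat_lit 0, nat_lit 3, nat_lit 2, nat_lit 3, nat_lit 0, nat_lit 3, nat_lit 2, nat_lit 3, nat_lit 0])) (.node (nat_lit 883) (.leaf (nat_lit 771) (nat_lit 0) [nat_lit 3, nat_lit 2, nat_lit 3, nat_lit 0, nat_lit 3, nat_lit 2, nat_lit 3, nat_lit 0, nat_lit 3, nat_lit 2, nat_lit 3]) (.node (nat_lit 884) (.leaf (nat_lit 768) (nat_lit 3) [nat_lit 0, nat_lit 3, nat_lit 2, nat_lit 3, nat_lit 0, nat_lit 3, nat_lit 2, nat_lit 3, nat_lit 0, nat_lit 3, nat_lit 2]) (.leaf (nat_lit 769) (nat_lit 2) [nat_lit 3, nat_lit 0, nat_lit 3, nat_lit 2, nat_lit 3, nat_lit 0, nat_lit 3, nat_lit 2, nat_lit 3, nat_lit 0, nat_lit 3])))))) (.node (nat_lit 894) (.node (nat_lit 889) (.node (nat_lit 887) (.node (nat_lit 886) (.leaf (nat_lit 770) (nat_lit 3) [nat_lit 2, nat_lit 3, nat_lit 0, nat_lit 3, nat_lit 2, nat_lit 3, nat_lit 0, nat_lit 3, nat_lit 2, nat_lit 3, nat_lit 0]) (.leaf (nat_lit 771) (nat_lit 0) [nat_lit 3, nat_lit 2, nat_lit 3, nat_lit 0, nat_lit 3, nat_lit 2, nat_lit 3, nat_lit 0, nat_lit 3, nat_lit 2, nat_lit 3])) (.node (nat_lit 888) (.leaf (nat_lit 768) (nat_lit 3) [nat_lit 0, nat_lit 3, nat_lit 2, nat_lit 3, nat_lit 0, nat_lit 3, nat_lit 2, nat_lit 3, nat_lit 0, nat_lit 3, nat_lit 2]) (.leaf (nat_lit 842) (nat_lit 3) [nat_lit 2, nat_lit 3, nat_lit 1, nat_lit 3, nat_lit 2, nat_lit 3, nat_lit 1, nat_lit 3, nat_lit 2, nat_lit 3, nat_lit 1]))) (.node (nat_lit 891) (.node (nat_lit 890) (.leaf (nat_lit 843) (nat_lit 1) [nat_lit 3, nat_lit 2, nat_lit 3, nat_lit 1, nat_lit 3, nat_lit 2, nat_lit 3, nat_lit 1, nat_lit 3, nat_lit 2, nat_lit 3]) (.leaf (nat_lit 840) (nat_lit 3) [nat_lit 1, nat_lit 3, nat_lit 2, nat_lit 3, nat_lit 1, nat_lit 3, nat_lit 2, nat_lit 3, nat_lit 1, nat_lit 3, nat_lit 2])) (.node (nat_lit 892) (.leaf (nat_lit 841) (nat_lit 2) [nat_lit 3, nat_lit 1, nat_lit 3, nat_lit 2, nat_lit 3, nat_lit 1, nat_lit 3, nat_lit 2, nat_lit 3, nat_lit 1, nat_lit 3]) (.node (nat_lit 893) (.leaf (nat_lit 842) (nat_lit 3) [nat_lit 2, nat_lit 3, nat_lit 1, nat_lit 3, nat_lit 2, nat_lit 3, nat_lit 1, nat_lit 3, nat_lit 2, nat_lit 3, nat_lit 1]) (.leaf (nat_lit 843) (nat_lit 1) [nat_lit 3, nat_lit 2, nat_lit 3, nat_lit 1, nat_lit 3, nat_lit 2, nat_lit 3, nat_lit 1, nat_lit 3, nat_lit 2, nat_lit 3]))))) (.node (nat_lit 899) (.node (nat_lit 896) (.node (nat_lit 895) (.leaf (nat_lit 840) (nat_lit 3) [nat_lit 1, nat_lit 3, nat_lit 2, nat_lit 3, nat_lit 1, nat_lit 3, nat_lit 2, nat_lit 3, nat_lit 1, nat_lit 3, nat_lit 2]) (.leaf (nat_lit 841) (nat_lit 2) [nat_lit 3, nat_lit 1, nat_lit 3, nat_lit 2, nat_lit 3, nat_lit 1, nat_lit 3, nat_lit 2, nat_lit 3, nat_lit 1, nat_lit 3])) (.node (nat_lit 897) (.leaf (nat_lit 842) (nat_lit 3) [nat_lit 2, nat_lit 3, nat_lit 1, nat_lit 3, nat_lit 2, nat_lit 3, nat_lit 1, nat_lit 3, nat_lit 2, nat_lit 3, nat_lit 1]) (.node (nat_lit 898) (.leaf (nat_lit 843) (nat_lit 1) [nat_lit 3, nat_lit 2, nat_lit 3, nat_lit 1, nat_lit 3, nat_lit 2, nat_lit 3, nat_lit 1, nat_lit 3, nat_lit 2, nat_lit 3]) (.leaf (nat_lit 840) (nat_lit 3) [nat_lit 1, nat_lit 3, nat_lit 2, nat_lit 3, nat_lit 1, nat_lit 3, nat_lit 2, nat_lit 3, nat_lit 1, nat_lit 3, nat_lit 2])))) (.node (nat_lit 901) (.node (nat_lit 900) (.leaf (nat_lit 841) (nat_lit 2) [nat_lit 3, nat_lit 1, nat_lit 3, nat_lit 2, nat_lit 3, nat_lit 1, nat_lit 3, nat_lit 2, nat_lit 3, nat_lit 1, nat_lit 3]) (.leaf (nat_lit 841) (nat_lit 2) [nat_lit 3, nat_lit 1, nat_lit 3, nat_lit 2, nat_lit 3, nat_lit 1, nat_lit 3, nat_lit 2, nat_lit 3, nat_lit 1, nat_lit 3])) (.node (nat_lit 902) (.leaf (nat_lit 842) (nat_lit 3) [nat_lit 2, nat_lit 3, nat_lit 1, nat_lit 3, nat_lit 2, nat_lit 3, nat_lit 1, nat_lit 3, nat_lit 2, nat_lit 3, nat_lit 1]) (.node (nat_lit 903) (.leaf (nat_lit 843) (nat_lit 1) [nat_lit 3, nat_lit 2, nat_lit 3, nat_lit 1, nat_lit 3, nat_lit 2, nat_lit 3, nat_lit 1, nat_lit 3, nat_lit 2, nat_lit 3]) (.leaf (nat_lit 840) (nat_lit 3) [nat_lit 1, nat_lit 3, nat_lit 2, nat_lit 3, nat_lit 1, nat_lit 3, nat_lit 2, nat_lit 3, nat_lit 1, nat_lit 3, nat_lit 2])))))))))) (.node (nat_lit 1055) (.node (nat_lit 979) (.node (nat_lit 941) (.node (nat_lit 922) (.node (nat_lit 913) (.node (nat_lit 908) (.node (nat_lit 906) (.node (nat_lit 905) (.leaf (nat_lit 841) (nat_lit 2) [nat_lit 3, nat_lit 1, nat_lit 3, nat_lit 2, nat_lit 3, nat_lit 1, nat_lit 3, nat_lit 2, nat_lit 3, nat_lit 1, nat_lit 3]) (.leaf (nat_lit 842) (nat_lit 3) [nat_lit 2, nat_lit 3, nat_lit 1, nat_lit 3, nat_lit 2, nat_lit 3, nat_lit 1, nat_lit 3, nat_lit 2, nat_lit 3, nat_lit 1])) (.node (nat_lit 907) (.leaf (nat_lit 843) (nat_lit 1) [nat_lit 3, nat_lit 2, nat_lit 3, nat_lit 1, nat_lit 3, nat_lit 2, nat_lit 3, nat_lit 1, nat_lit 3, nat_lit 2, nat_lit 3]) (.leaf (nat_lit 840) (nat_lit 3) [nat_lit 1, nat_lit 3, nat_lit 2, nat_lit 3, nat_lit 1, nat_lit 3, nat_lit 2, nat_lit 3, nat_lit 1, nat_lit 3, nat_lit 2]))) (.node (nat_lit 910) (.node (nat_lit 909) (.leaf (nat_lit 841) (nat_lit 2) [nat_lit 3, nat_lit 1, nat_lit 3, nat_lit 2, nat_lit 3, nat_lit 1, nat_lit 3, nat_lit 2, nat_lit 3, nat_lit 1, nat_lit 3]) (.leaf (nat_lit 842) (nat_lit 3) [nat_lit 2, nat_lit 3, nat_lit 1, nat_lit 3, nat_lit 2, nat_lit 3, nat_lit 1, nat_lit 3, nat_lit 2, nat_lit 3, nat_lit 1])) (.node (nat_lit 911) (.leaf (nat_lit 843) (nat_lit 1) [nat_lit 3, nat_lit 2, nat_lit 3, nat_lit 1, nat_lit 3, nat_lit 2, nat_lit 3, nat_lit 1, nat_lit 3, nat_lit 2, nat_lit 3]) (.node (nat_lit 912) (.leaf (nat_lit 840) (nat_lit 3) [nat_lit 1, nat_lit 3, nat_lit 2, nat_lit 3, nat_lit 1, nat_lit 3, nat_lit 2, nat_lit 3, nat_lit 1, nat_lit 3, nat_lit 2]) (.leaf (nat_lit 697) (nat_lit 3) [nat_lit 2, nat_lit 3, nat_lit 2, nat_lit 3, nat_lit 2, nat_lit 3, nat_lit 2, nat_lit 3, nat_lit 2, nat_lit 3, nat_lit 2]))))) (.node (nat_lit 917) (.node (nat_lit 915) (.node (nat_lit 914) (.leaf (nat_lit 696) (nat_lit 2) [nat_lit 3, nat_lit 2, nat_lit 3, nat_lit 2, nat_lit 3, nat_lit 2, nat_lit 3, nat_lit 2, nat_lit 3, nat_lit 2, nat_lit 3]) (.leaf (nat_lit 697) (nat_lit 3) [nat_lit 2, nat_lit 3, nat_lit 2, nat_lit 3, nat_lit 2, nat_lit 3, nat_lit 2, nat_lit 3, nat_lit 2, nat_lit 3, nat_lit 2])) (.node (nat_lit 916) (.leaf (nat_lit 696) (nat_lit 2) [nat_lit 3, nat_lit 2, nat_lit 3, nat_lit 2, nat_lit 3, nat_lit 2, nat_lit 3, nat_lit 2, nat_lit 3, nat_lit 2, nat_lit 3]) (.leaf (nat_lit 697) (nat_lit 3) [nat_lit 2, nat_lit 3, nat_lit 2, nat_lit 3, nat_lit 2, nat_lit 3, nat_lit 2, nat_lit 3, nat_lit 2, nat_lit 3, nat_lit 2]))) (.node (nat_lit 919) (.node (nat_lit 918) (.leaf (nat_lit 696) (nat_lit 2) [nat_lit 3, nat_lit 2, nat_lit 3, nat_lit 2, nat_lit 3, nat_lit 2, nat_lit 3, nat_lit 2, nat_lit 3, nat_lit 2, nat_lit 3]) (.leaf (nat_lit 697) (nat_lit 3) [nat_lit 2, nat_lit 3, nat_lit 2, nat_lit 3, nat_lit 2, nat_lit 3, nat_lit 2, nat_lit 3, nat_lit 2, nat_lit 3, nat_lit 2])) (.node (nat_lit 920) (.leaf (nat_lit 696) (nat_lit 2) [nat_lit 3, nat_lit 2, nat_lit 3, nat_lit 2, nat_lit 3, nat_lit 2, nat_lit 3, nat_lit 2, nat_lit 3, nat_lit 2, nat_lit 3]) (.node (nat_lit 921) (.leaf (nat_lit 697) (nat_lit 3) [nat_lit 2, nat_lit 3, nat_lit 2, nat_lit 3, nat_lit 2, nat_lit 3, nat_lit 2, nat_lit 3, nat_lit 2, nat_lit 3, nat_lit 2]) (.leaf (nat_lit 696) (nat_lit 2) [nat_lit 3, nat_lit 2, nat_lit 3, nat_lit 2, nat_lit 3, nat_lit 2, nat_lit 3, nat_lit 2, nat_lit 3, nat_lit 2, nat_lit 3])))))) (.node (nat_lit 931) (.node (nat_lit 926) (.node (nat_lit 924) (.node (nat_lit 923) (.leaf (nat_lit 697) (nat_lit 3) [nat_lit 2, nat_lit 3, nat_lit 2, nat_lit 3, nat_lit 2, nat_lit 3, nat_lit 2, nat_lit 3, nat_lit 2, nat_lit 3, nat_lit 2]) (.leaf (nat_lit 696) (nat_lit 2) [nat_lit 3, nat_lit 2, nat_lit 3, nat_lit 2, nat_lit 3, nat_lit 2, nat_lit 3, nat_lit 2, nat_lit 3, nat_lit 2, nat_lit 3])) (.node (nat_lit 925) (.leaf (nat_lit 696) (nat_lit 2) [nat_lit 3, nat_lit 2, nat_lit 3, nat_lit 2, nat_lit 3, nat_lit 2, nat_lit 3, nat_lit 2, nat_lit 3, nat_lit 2, nat_lit 3]) (.leaf (nat_lit 697) (nat_lit 3) [nat_lit 2, nat_lit 3, nat_lit 2, nat_lit 3, nat_lit 2, nat_lit 3, nat_lit 2, nat_lit 3, nat_lit 2, nat_lit 3, nat_lit 2]))) (.node (nat_lit 928) (.node (nat_lit 927) (.leaf (nat_lit 696) (nat_lit 2) [nat_lit 3, nat_lit 2, nat_lit 3, nat_lit 2, nat_lit 3, nat_lit 2, nat_lit 3, nat_lit 2, nat_lit 3, nat_lit 2, nat_lit 3]) (.leaf (nat_lit 697) (nat_lit 3) [nat_lit 2, nat_lit 3, nat_lit 2, nat_lit 3, nat_lit 2, nat_lit 3, nat_lit 2, nat_lit 3, nat_lit 2, nat_lit 3, nat_lit 2])) (.node (nat_lit 929) (.leaf (nat_lit 696) (nat_lit 2) [nat_lit 3, nat_lit 2, nat_lit 3, nat_lit 2, nat_lit 3, nat_lit 2, nat_lit 3, nat_lit 2, nat_lit 3, nat_lit 2, nat_lit 3]) (.node (nat_lit 930) (.leaf (nat_lit 697) (nat_lit 3) [nat_lit 2, nat_lit 3, nat_lit 2, nat_lit 3, nat_lit 2, nat_lit 3, nat_lit 2, nat_lit 3, nat_lit 2, nat_lit 3, nat_lit 2]) (.leaf (nat_lit 696) (nat_lit 2) [nat_lit 3, nat_lit 2, nat_lit 3, nat_lit 2, nat_lit 3, nat_lit 2, nat_lit 3, nat_lit 2, nat_lit 3, nat_lit 2, nat_lit 3]))))) (.node (nat_lit 936) (.node (nat_lit 933) (.node (nat_lit 932) (.leaf (nat_lit 697) (nat_lit 3) [nat_lit 2, nat_lit 3, nat_lit 2, nat_lit 3, nat_lit 2, nat_lit 3, nat_lit 2, nat_lit 3, nat_lit 2, nat_lit 3, nat_lit 2]) (.leaf (nat_lit 696) (nat_lit 2) [nat_lit 3, nat_lit 2, nat_lit 3, nat_lit 2, nat_lit 3, nat_lit 2, nat_lit 3, nat_lit 2, nat_lit 3, nat_lit 2, nat_lit 3])) (.node (nat_lit 934) (.leaf (nat_lit 697) (nat_lit 3) [nat_lit 2, nat_lit 3, nat_lit 2, nat_lit 3, nat_lit 2, nat_lit 3, nat_lit 2, nat_lit 3, nat_lit 2, nat_lit 3, nat_lit 2]) (.node (nat_lit 935) (.leaf (nat_lit 696) (nat_lit 2) [nat_lit 3, nat_lit 2, nat_lit 3, nat_lit 2, nat_lit 3, nat_lit 2, nat_lit 3, nat_lit 2, nat_lit 3, nat_lit 2, nat_lit 3]) (.leaf (nat_lit 697) (nat_lit 3) [nat_lit 2, nat_lit 3, nat_lit 2, nat_lit 3, nat_lit 2, nat_lit 3, nat_lit 2, nat_lit 3, nat_lit 2, nat_lit 3, nat_lit 2])))) (.node (nat_lit 938) (.node (nat_lit 937) (.leaf (nat_lit 936) (nat_lit 0) [nat_lit 1, nat_lit 0, nat_lit 1, nat_lit 0, nat_lit 1, nat_lit 0, nat_lit 1, nat_lit 0, nat_lit 1, nat_lit 0, nat_lit 1, nat_lit 0, nat_lit 1, nat_lit 0, nat_lit 1, nat_lit 0, nat_lit 1]) (.leaf (nat_lit 937) (nat_lit 1) [nat_lit 0, nat_lit 1, nat_lit 0, nat_lit 1, nat_lit 0, nat_lit 1, nat_lit 0, nat_lit 1, nat_lit 0, nat_lit 1, nat_lit 0, nat_lit 1, nat_lit 0, nat_lit 1, nat_lit 0, nat_lit 1, nat_lit 0])) (.node (nat_lit 939) (.leaf (nat_lit 936) (nat_lit 0) [nat_lit 1, nat_lit 0, nat_lit 1, nat_lit 0, nat_lit 1, nat_lit 0, nat_lit 1, nat_lit 0, nat_lit 1, nat_lit 0, nat_lit 1, nat_lit 0, nat_lit 1, nat_lit 0, nat_lit 1, nat_lit 0, nat_lit 1]) (.node (nat_lit 940) (.leaf (nat_lit 937) (nat_lit 1) [nat_lit 0, nat_lit 1, nat_lit 0, nat_lit 1, nat_lit 0, nat_lit 1, nat_lit 0, nat_lit 1, nat_lit 0, nat_lit 1, nat_lit 0, nat_lit 1, nat_lit 0, nat_lit 1, nat_lit 0, nat_lit 1, nat_lit 0]) (.leaf (nat_lit 936) (nat_lit 0) [nat_lit 1, nat_lit 0, nat_lit 1, nat_lit 0, nat_lit 1, nat_lit 0, nat_lit 1, nat_lit 0, nat_lit 1, nat_lit 0, nat_lit 1, nat_lit 0, nat_lit 1, nat_lit 0, nat_lit 1, nat_lit 0, nat_lit 1]))))))) (.node (nat_lit 960) (.node (nat_lit 950) (.node (nat_lit 945) (.node (nat_lit 943) (.node (nat_lit 942) (.leaf (nat_lit 937) (nat_lit 1) [nat_lit 0, nat_lit 1, nat_lit 0, nat_lit 1, nat_lit 0, nat_lit 1, nat_lit 0, nat_lit 1, nat_lit 0, nat_lit 1, nat_lit 0, nat_lit 1, nat_lit 0, nat_lit 1, nat_lit 0, nat_lit 1, nat_lit 0]) (.leaf (nat_lit 936) (nat_lit 0) [nat_lit 1, nat_lit 0, nat_lit 1, nat_lit 0, nat_lit 1, nat_lit 0, nat_lit 1, nat_lit 0, nat_lit 1, nat_lit 0, nat_lit 1, nat_lit 0, nat_lit 1, nat_lit 0, nat_lit 1, nat_lit 0, nat_lit 1])) (.node (nat_lit 944) (.leaf (nat_lit 937) (nat_lit 1) [nat_lit 0, nat_lit 1, nat_lit 0, nat_lit 1, nat_lit 0, nat_lit 1, nat_lit 0, nat_lit 1, nat_lit 0, nat_lit 1, nat_lit 0, nat_lit 1, nat_lit 0, nat_lit 1, nat_lit 0, nat_lit 1, nat_lit 0]) (.leaf (nat_lit 936) (nat_lit 0) [nat_lit 1, nat_lit 0, nat_lit 1, nat_lit 0, nat_lit 1, nat_lit 0, nat_lit 1, nat_lit 0, nat_lit 1, nat_lit 0, nat_lit 1, nat_lit 0, nat_lit 1, nat_lit 0, nat_lit 1, nat_lit 0, nat_lit 1]))) (.node (nat_lit 947) (.node (nat_lit 946) (.leaf (nat_lit 937) (nat_lit 1) [nat_lit 0, nat_lit 1, nat_lit 0, nat_lit 1, nat_lit 0, nat_lit 1, nat_lit 0, nat_lit 1, nat_lit 0, nat_lit 1, nat_lit 0, nat_lit 1, nat_lit 0, nat_lit 1, nat_lit 0, nat_lit 1, nat_lit 0]) (.leaf (nat_lit 936) (nat_lit 0) [nat_lit 1, nat_lit 0, nat_lit 1, nat_lit 0, nat_lit 1, nat_lit 0, nat_lit 1, nat_lit 0, nat_lit 1, nat_lit 0, nat_lit 1, nat_lit 0, nat_lit 1, nat_lit 0, nat_lit 1, nat_lit 0, nat_lit 1])) (.node (nat_lit 948) (.leaf (nat_lit 937) (nat_lit 1) [nat_lit 0, nat_lit 1, nat_lit 0, nat_lit 1, nat_lit 0, nat_lit 1, nat_lit 0, nat_lit 1, nat_lit 0, nat_lit 1, nat_lit 0, nat_lit 1, nat_lit 0, nat_lit 1, nat_lit 0, nat_lit 1, nat_lit 0]) (.node (nat_lit 949) (.leaf (nat_lit 936) (nat_lit 0) [nat_lit 1, nat_lit 0, nat_lit 1, nat_lit 0, nat_lit 1, nat_lit 0, nat_lit 1, nat_lit 0, nat_lit 1, nat_lit 0, nat_lit 1, nat_lit 0, nat_lit 1, nat_lit 0, nat_lit 1, nat_lit 0, nat_lit 1]) (.leaf (nat_lit 937) (nat_lit 1) [nat_lit 0, nat_lit 1, nat_lit 0, nat_lit 1, nat_lit 0, nat_lit 1, nat_lit 0, nat_lit 1, nat_lit 0, nat_lit 1, nat_lit 0, nat_lit 1, nat_lit 0, nat_lit 1, nat_lit 0, nat_lit 1, nat_lit 0]))))) (.node (nat_lit 955) (.node (nat_lit 952) (.node (nat_lit 951) (.leaf (nat_lit 936) (nat_lit 0) [nat_lit 1, nat_lit 0, nat_lit 1, nat_lit 0, nat_lit 1, nat_lit 0, nat_lit 1, nat_lit 0, nat_lit 1, nat_lit 0, nat_lit 1, nat_lit 0, nat_lit 1, nat_lit 0, nat_lit 1, nat_lit 0, nat_lit 1]) (.leaf (nat_lit 937) (nat_lit 1) [nat_lit 0, nat_lit 1, nat_lit 0, nat_lit 1, nat_lit 0, nat_lit 1, nat_lit 0, nat_lit 1, nat_lit 0, nat_lit 1, nat_lit 0, nat_lit 1, nat_lit 0, nat_lit 1, nat_lit 0, nat_lit 1, nat_lit 0])) (.node (nat_lit 953) (.leaf (nat_lit 936) (nat_lit 0) [nat_lit 1, nat_lit 0, nat_lit 1, nat_lit 0, nat_lit 1, nat_lit 0, nat_lit 1, nat_lit 0, nat_lit 1, nat_lit 0, nat_lit 1, nat_lit 0, nat_lit 1, nat_lit 0, nat_lit 1, nat_lit 0, nat_lit 1]) (.node (nat_lit 954) (.leaf (nat_lit 937) (nat_lit 1) [nat_lit 0, nat_lit 1, nat_lit 0, nat_lit 1, nat_lit 0, nat_lit 1, nat_lit 0, nat_lit 1, nat_lit 0, nat_lit 1, nat_lit 0, nat_lit 1, nat_lit 0, nat_lit 1, nat_lit 0, nat_lit 1, nat_lit 0]) (.leaf (nat_lit 937) (nat_lit 1) [nat_lit 0, nat_lit 1, nat_lit 0, nat_lit 1, nat_lit 0, nat_lit 1, nat_lit 0, nat_lit 1, nat_lit 0, nat_lit 1, nat_lit 0, nat_lit 1, nat_lit 0, nat_lit 1, nat_lit 0, nat_lit 1, nat_lit 0])))) (.node (nat_lit 957) (.node (nat_lit 956) (.leaf (nat_lit 936) (nat_lit 0) [nat_lit 1, nat_lit 0, nat_lit 1, nat_lit 0, nat_lit 1, nat_lit 0, nat_lit 1, nat_lit 0, nat_lit 1, nat_lit 0, nat_lit 1, nat_lit 0, nat_lit 1, nat_lit 0, nat_lit 1, nat_lit 0, nat_lit 1]) (.leaf (nat_lit 937) (nat_lit 1) [nat_lit 0, nat_lit 1, nat_lit 0, nat_lit 1, nat_lit 0, nat_lit 1, nat_lit 0, nat_lit 1, nat_lit 0, nat_lit 1, nat_lit 0, nat_lit 1, nat_lit 0, nat_lit 1, nat_lit 0, nat_lit 1, nat_lit 0])) (.node (nat_lit 958) (.leaf (nat_lit 936) (nat_lit 0) [nat_lit 1, nat_lit 0, nat_lit 1, nat_lit 0, nat_lit 1, nat_lit 0, nat_lit 1, nat_lit 0, nat_lit 1, nat_lit 0, nat_lit 1, nat_lit 0, nat_lit 1, nat_lit 0, nat_lit 1, nat_lit 0, nat_lit 1]) (.node (nat_lit 959) (.leaf (nat_lit 937) (nat_lit 1) [nat_lit 0, nat_lit 1, nat_lit 0, nat_lit 1, nat_lit 0, nat_lit 1, nat_lit 0, nat_lit 1, nat_lit 0, nat_lit 1, nat_lit 0, nat_lit 1, nat_lit 0, nat_lit 1, nat_lit 0, nat_lit 1, nat_lit 0]) (.leaf (nat_lit 936) (nat_lit 0) [nat_lit 1, nat_lit 0, nat_lit 1, nat_lit 0, nat_lit 1, nat_lit 0, nat_lit 1, nat_lit 0, nat_lit 1, nat_lit 0, nat_lit 1, nat_lit 0, nat_lit 1, nat_lit 0, nat_lit 1, nat_lit 0, nat_lit 1])))))) (.node (nat_lit 969) (.node (nat_lit 964) (.node (nat_lit 962) (.node (nat_lit 961) (.leaf (nat_lit 937) (nat_lit 1) [nat_lit 0, nat_lit 1, nat_lit 0, nat_lit 1, nat_lit 0, nat_lit 1, nat_lit 0, nat_lit 1, nat_lit 0, nat_lit 1, nat_lit 0, nat_lit 1, nat_lit 0, nat_lit 1, nat_lit 0, nat_lit 1, nat_lit 0]) (.leaf (nat_lit 936) (nat_lit 0) [nat_lit 1, nat_lit 0, nat_lit 1, nat_lit 0, nat_lit 1, nat_lit 0, nat_lit 1, nat_lit 0, nat_lit 1, nat_lit 0, nat_lit 1, nat_lit 0, nat_lit 1, nat_lit 0, nat_lit 1, nat_lit 0, nat_lit 1])) (.node (nat_lit 963) (.leaf (nat_lit 937) (nat_lit 1) [nat_lit 0, nat_lit 1, nat_lit 0, nat_lit 1, nat_lit 0, nat_lit 1, nat_lit 0, nat_lit 1, nat_lit 0, nat_lit 1, nat_lit 0, nat_lit 1, nat_lit 0, nat_lit 1, nat_lit 0, nat_lit 1, nat_lit 0]) (.leaf (nat_lit 936) (nat_lit 0) [nat_lit 1, nat_lit 0, nat_lit 1, nat_lit 0, nat_lit 1, nat_lit 0, nat_lit 1, nat_lit 0, nat_lit 1, nat_lit 0, nat_lit 1, nat_lit 0, nat_lit 1, nat_lit 0, nat_lit 1, nat_lit 0, nat_lit 1]))) (.node (nat_lit 966) (.node (nat_lit 965) (.leaf (nat_lit 937) (nat_lit 1) [nat_lit 0, nat_lit 1, nat_lit 0, nat_lit 1, nat_lit 0, nat_lit 1, nat_lit 0, nat_lit 1, nat_lit 0, nat_lit 1, nat_lit 0, nat_lit 1, nat_lit 0, nat_lit 1, nat_lit 0, nat_lit 1, nat_lit 0]) (.leaf (nat_lit 936) (nat_lit 0) [nat_lit 1, nat_lit 0, nat_lit 1, nat_lit 0, nat_lit 1, nat_lit 0, nat_lit 1, nat_lit 0, nat_lit 1, nat_lit 0, nat_lit 1, nat_lit 0, nat_lit 1, nat_lit 0, nat_lit 1, nat_lit 0, nat_lit 1])) (.node (nat_lit 967) (.leaf (nat_lit 937) (nat_lit 1) [nat_lit 0, nat_lit 1, nat_lit 0, nat_lit 1, nat_lit 0, nat_lit 1, nat_lit 0, nat_lit 1, nat_lit 0, nat_lit 1, nat_lit 0, nat_lit 1, nat_lit 0, nat_lit 1, nat_lit 0, nat_lit 1, nat_lit 0]) (.node (nat_lit 968) (.leaf (nat_lit 936) (nat_lit 0) [nat_lit 1, nat_lit 0, nat_lit 1, nat_lit 0, nat_lit 1, nat_lit 0, nat_lit 1, nat_lit 0, nat_lit 1, nat_lit 0, nat_lit 1, nat_lit 0, nat_lit 1, nat_lit 0, nat_lit 1, nat_lit 0, nat_lit 1]) (.leaf (nat_lit 937) (nat_lit 1) [nat_lit 0, nat_lit 1, nat_lit 0, nat_lit 1, nat_lit 0, nat_lit 1, nat_lit 0, nat_lit 1, nat_lit 0, nat_lit 1, nat_lit 0, nat_lit 1, nat_lit 0, nat_lit 1, nat_lit 0, nat_lit 1, nat_lit 0]))))) (.node (nat_lit 974) (.node (nat_lit 971) (.node (nat_lit 970) (.leaf (nat_lit 936) (nat_lit 0) [nat_lit 1, nat_lit 0, nat_lit 1, nat_lit 0, nat_lit 1, nat_lit 0, nat_lit 1, nat_lit 0, nat_lit 1, nat_lit 0, nat_lit 1, nat_lit 0, nat_lit 1, nat_lit 0, nat_lit 1, nat_lit 0, nat_lit 1]) (.leaf (nat_lit 937) (nat_lit 1) [nat_lit 0, nat_lit 1, nat_lit 0, nat_lit 1, nat_lit 0, nat_lit 1, nat_lit 0, nat_lit 1, nat_lit 0, nat_lit 1, nat_lit 0, nat_lit 1, nat_lit 0, nat_lit 1, nat_lit 0, nat_lit 1, nat_lit 0])) (.node (nat_lit 972) (.leaf (nat_lit 936) (nat_lit 0) [nat_lit 1, nat_lit 0, nat_lit 1, nat_lit 0, nat_lit 1, nat_lit 0, nat_lit 1, nat_lit 0, nat_lit 1, nat_lit 0, nat_lit 1, nat_lit 0, nat_lit 1, nat_lit 0, nat_lit 1, nat_lit 0, nat_lit 1]) (.node (nat_lit 973) (.leaf (nat_lit 972) (nat_lit 0) [nat_lit 1, nat_lit 0, nat_lit 1, nat_lit 2, nat_lit 1, nat_lit 0, nat_lit 1, nat_lit 0, nat_lit 1, nat_lit 2, nat_lit 1, nat_lit 0, nat_lit 1, nat_lit 0, nat_lit 1, nat_lit 2, nat_lit 1]) (.leaf (nat_lit 973) (nat_lit 1) [nat_lit 0, nat_lit 1, nat_lit 0, nat_lit 1, nat_lit 2, nat_lit 1, nat_lit 0, nat_lit 1, nat_lit 0, nat_lit 1, nat_lit 2, nat_lit 1, nat_lit 0, nat_lit 1, nat_lit 0, nat_lit 1, nat_lit 2])))) (.node (nat_lit 976) (.node (nat_lit 975) (.leaf (nat_lit 974) (nat_lit 2) [nat_lit 1, nat_lit 0, nat_lit 1, nat_lit 0, nat_lit 1, nat_lit 2, nat_lit 1, nat_lit 0, nat_lit 1, nat_lit 0, nat_lit 1, nat_lit 2, nat_lit 1, nat_lit 0, nat_lit 1, nat_lit 0, nat_lit 1]) (.leaf (nat_lit 975) (nat_lit 1) [nat_lit 2, nat_lit 1, nat_lit 0, nat_lit 1, nat_lit 0, nat_lit 1, nat_lit 2, nat_lit 1, nat_lit 0, nat_lit 1, nat_lit 0, nat_lit 1, nat_lit 2, nat_lit 1, nat_lit 0, nat_lit 1, nat_lit 0])) (.node (nat_lit 977) (.leaf (nat_lit 976) (nat_lit 0) [nat_lit 1, nat_lit 2, nat_lit 1, nat_lit 0, nat_lit 1, nat_lit 0, nat_lit 1, nat_lit 2, nat_lit 1, nat_lit 0, nat_lit 1, nat_lit 0, nat_lit 1, nat_lit 2, nat_lit 1, nat_lit 0, nat_lit 1]) (.node (nat_lit 978) (.leaf (nat_lit 977) (nat_lit 1) [nat_lit 0, nat_lit 1, nat_lit 2, nat_lit 1, nat_lit 0, nat_lit 1, nat_lit 0, nat_lit 1, nat_lit 2, nat_lit 1, nat_lit 0, nat_lit 1, nat_lit 0, nat_lit 1, nat_lit 2, nat_lit 1, nat_lit 0]) (.leaf (nat_lit 972) (nat_lit 0) [nat_lit 1, nat_lit 0, nat_lit 1, nat_lit 2, nat_lit 1, nat_lit 0, nat_lit 1, nat_lit 0, nat_lit 1, nat_lit 2, nat_lit 1, nat_lit 0, nat_lit 1, nat_lit 0, nat_lit 1, nat_lit 2, nat_lit 1])))))))) (.node (nat_lit 1017) (.node (nat_lit 998) (.node (nat_lit 988) (.node (nat_lit 983) (.node (nat_lit 981) (.node (nat_lit 980) (.leaf (nat_lit 973) (nat_lit 1) [nat_lit 0, nat_lit 1, nat_lit 0, nat_lit 1, nat_lit 2, nat_lit 1, nat_lit 0, nat_lit 1, nat_lit 0, nat_lit 1, nat_lit 2, nat_lit 1, nat_lit 0, nat_lit 1, nat_lit 0, nat_lit 1, nat_lit 2]) (.leaf (nat_lit 974) (nat_lit 2) [nat_lit 1, nat_lit 0, nat_lit 1, nat_lit 0, nat_lit 1, nat_lit 2, nat_lit 1, nat_lit 0, nat_lit 1, nat_lit 0, nat_lit 1, nat_lit 2, nat_lit 1, nat_lit 0, nat_lit 1, nat_lit 0, nat_lit 1])) (.node (nat_lit 982) (.leaf (nat_lit 975) (nat_lit 1) [nat_lit 2, nat_lit 1, nat_lit 0, nat_lit 1, nat_lit 0, nat_lit 1, nat_lit 2, nat_lit 1, nat_lit 0, nat_lit 1, nat_lit 0, nat_lit 1, nat_lit 2, nat_lit 1, nat_lit 0, nat_lit 1, nat_lit 0]) (.leaf (nat_lit 976) (nat_lit 0) [nat_lit 1, nat_lit 2, nat_lit 1, nat_lit 0, nat_lit 1, nat_lit 0, nat_lit 1, nat_lit 2, nat_lit 1, nat_lit 0, nat_lit 1, nat_lit 0, nat_lit 1, nat_lit 2, nat_lit 1, nat_lit 0, nat_lit 1]))) (.node (nat_lit 985) (.node (nat_lit 984) (.leaf (nat_lit 977) (nat_lit 1) [nat_lit 0, nat_lit 1, nat_lit 2, nat_lit 1, nat_lit 0, nat_lit 1, nat_lit 0, nat_lit 1, nat_lit 2, nat_lit 1, nat_lit 0, nat_lit 1, nat_lit 0, nat_lit 1, nat_lit 2, nat_lit 1, nat_lit 0]) (.leaf (nat_lit 972) (nat_lit 0) [nat_lit 1, nat_lit 0, nat_lit 1, nat_lit 2, nat_lit 1, nat_lit 0, nat_lit 1, nat_lit 0, nat_lit 1, nat_lit 2, nat_lit 1, nat_lit 0, nat_lit 1, nat_lit 0, nat_lit 1, nat_lit 2, nat_lit 1])) (.node (nat_lit 986) (.leaf (nat_lit 973) (nat_lit 1) [nat_lit 0, nat_lit 1, nat_lit 0, nat_lit 1, nat_lit 2, nat_lit 1, nat_lit 0, nat_lit 1, nat_lit 0, nat_lit 1, nat_lit 2, nat_lit 1, nat_lit 0, nat_lit 1, nat_lit 0, nat_lit 1, nat_lit 2]) (.node (nat_lit 987) (.leaf (nat_lit 974) (nat_lit 2) [nat_lit 1, nat_lit 0, nat_lit 1, nat_lit 0, nat_lit 1, nat_lit 2, nat_lit 1, nat_lit 0, nat_lit 1, nat_lit 0, nat_lit 1, nat_lit 2, nat_lit 1, nat_lit 0, nat_lit 1, nat_lit 0, nat_lit 1]) (.leaf (nat_lit 975) (nat_lit 1) [nat_lit 2, nat_lit 1, nat_lit 0, nat_lit 1, nat_lit 0, nat_lit 1, nat_lit 2, nat_lit 1, nat_lit 0, nat_lit 1, nat_lit 0, nat_lit 1, nat_lit 2, nat_lit 1, nat_lit 0, nat_lit 1, nat_lit 0]))))) (.node (nat_lit 993) (.node (nat_lit 990) (.node (nat_lit 989) (.leaf (nat_lit 976) (nat_lit 0) [nat_lit 1, nat_lit 2, nat_lit 1, nat_lit 0, nat_lit 1, nat_lit 0, nat_lit 1, nat_lit 2, nat_lit 1, nat_lit 0, nat_lit 1, nat_lit 0, nat_lit 1, nat_lit 2, nat_lit 1, nat_lit 0, nat_lit 1]) (.leaf (nat_lit 977) (nat_lit 1) [nat_lit 0, nat_lit 1, nat_lit 2, nat_lit 1, nat_lit 0, nat_lit 1, nat_lit 0, nat_lit 1, nat_lit 2, nat_lit 1, nat_lit 0, nat_lit 1, nat_lit 0, nat_lit 1, nat_lit 2, nat_lit 1, nat_lit 0])) (.node (nat_lit 991) (.leaf (nat_lit 977) (nat_lit 1) [nat_lit 0, nat_lit 1, nat_lit 2, nat_lit 1, nat_lit 0, nat_lit 1, nat_lit 0, nat_lit 1, nat_lit 2, nat_lit 1, nat_lit 0, nat_lit 1, nat_lit 0, nat_lit 1, nat_lit 2, nat_lit 1, nat_lit 0]) (.node (nat_lit 992) (.leaf (nat_lit 972) (nat_lit 0) [nat_lit 1, nat_lit 0, nat_lit 1, nat_lit 2, nat_lit 1, nat_lit 0, nat_lit 1, nat_lit 0, nat_lit 1, nat_lit 2, nat_lit 1, nat_lit 0, nat_lit 1, nat_lit 0, nat_lit 1, nat_lit 2, nat_lit 1]) (.leaf (nat_lit 973) (nat_lit 1) [nat_lit 0, nat_lit 1, nat_lit 0, nat_lit 1, nat_lit 2, nat_lit 1, nat_lit 0, nat_lit 1, nat_lit 0, nat_lit 1, nat_lit 2, nat_lit 1, nat_lit 0, nat_lit 1, nat_lit 0, nat_lit 1, nat_lit 2])))) (.node (nat_lit 995) (.node (nat_lit 994) (.leaf (nat_lit 974) (nat_lit 2) [nat_lit 1, nat_lit 0, nat_lit 1, nat_lit 0, nat_lit 1, nat_lit 2, nat_lit 1, nat_lit 0, nat_lit 1, nat_lit 0, nat_lit 1, nat_lit 2, nat_lit 1, nat_lit 0, nat_lit 1, nat_lit 0, nat_lit 1]) (.leaf (nat_lit 975) (nat_lit 1) [nat_lit 2, nat_lit 1, nat_lit 0, nat_lit 1, nat_lit 0, nat_lit 1, nat_lit 2, nat_lit 1, nat_lit 0, nat_lit 1, nat_lit 0, nat_lit 1, nat_lit 2, nat_lit 1, nat_lit 0, nat_lit 1, nat_lit 0])) (.node (nat_lit 996) (.leaf (nat_lit 976) (nat_lit 0) [nat_lit 1, nat_lit 2, nat_lit 1, nat_lit 0, nat_lit 1, nat_lit 0, nat_lit 1, nat_lit 2, nat_lit 1, nat_lit 0, nat_lit 1, nat_lit 0, nat_lit 1, nat_lit 2, nat_lit 1, nat_lit 0, nat_lit 1]) (.node (nat_lit 997) (.leaf (nat_lit 977) (nat_lit 1) [nat_lit 0, nat_lit 1, nat_lit 2, nat_lit 1, nat_lit 0, nat_lit 1, nat_lit 0, nat_lit 1, nat_lit 2, nat_lit 1, nat_lit 0, nat_lit 1, nat_lit 0, nat_lit 1, nat_lit 2, nat_lit 1, nat_lit 0]) (.leaf (nat_lit 972) (nat_lit 0) [nat_lit 1, nat_lit 0, nat_lit 1, nat_lit 2, nat_lit 1, nat_lit 0, nat_lit 1, nat_lit 0, nat_lit 1, nat_lit 2, nat_lit 1, nat_lit 0, nat_lit 1, nat_lit 0, nat_lit 1, nat_lit 2, nat_lit 1])))))) (.node (nat_lit 1007) (.node (nat_lit 1002) (.node (nat_lit 1000) (.node (nat_lit 999) (.leaf (nat_lit 973) (nat_lit 1) [nat_lit 0, nat_lit 1, nat_lit 0, nat_lit 1, nat_lit 2, nat_lit 1, nat_lit 0, nat_lit 1, nat_lit 0, nat_lit 1, nat_lit 2, nat_lit 1, nat_lit 0, nat_lit 1, nat_lit 0, nat_lit 1, nat_lit 2]) (.leaf (nat_lit 974) (nat_lit 2) [nat_lit 1, nat_lit 0, nat_lit 1, nat_lit 0, nat_lit 1, nat_lit 2, nat_lit 1, nat_lit 0, nat_lit 1, nat_lit 0, nat_lit 1, nat_lit 2, nat_lit 1, nat_lit 0, nat_lit 1, nat_lit 0, nat_lit 1])) (.node (nat_lit 1001) (.leaf (nat_lit 975) (nat_lit 1) [nat_lit 2, nat_lit 1, nat_lit 0, nat_lit 1, nat_lit 0, nat_lit 1, nat_lit 2, nat_lit 1, nat_lit 0, nat_lit 1, nat_lit 0, nat_lit 1, nat_lit 2, nat_lit 1, nat_lit 0, nat_lit 1, nat_lit 0]) (.leaf (nat_lit 976) (nat_lit 0) [nat_lit 1, nat_lit 2, nat_lit 1, nat_lit 0, nat_lit 1, nat_lit 0, nat_lit 1, nat_lit 2, nat_lit 1, nat_lit 0, nat_lit 1, nat_lit 0, nat_lit 1, nat_lit 2, nat_lit 1, nat_lit 0, nat_lit 1]))) (.node (nat_lit 1004) (.node (nat_lit 1003) (.leaf (nat_lit 977) (nat_lit 1) [nat_lit 0, nat_lit 1, nat_lit 2, nat_lit 1, nat_lit 0, nat_lit 1, nat_lit 0, nat_lit 1, nat_lit 2, nat_lit 1, nat_lit 0, nat_lit 1, nat_lit 0, nat_lit 1, nat_lit 2, nat_lit 1, nat_lit 0]) (.leaf (nat_lit 972) (nat_lit 0) [nat_lit 1, nat_lit 0, nat_lit 1, nat_lit 2, nat_lit 1, nat_lit 0, nat_lit 1, nat_lit 0, nat_lit 1, nat_lit 2, nat_lit 1, nat_lit 0, nat_lit 1, nat_lit 0, nat_lit 1, nat_lit 2, nat_lit 1])) (.node (nat_lit 1005) (.leaf (nat_lit 973) (nat_lit 1) [nat_lit 0, nat_lit 1, nat_lit 0, nat_lit 1, nat_lit 2, nat_lit 1, nat_lit 0, nat_lit 1, nat_lit 0, nat_lit 1, nat_lit 2, nat_lit 1, nat_lit 0, nat_lit 1, nat_lit 0, nat_lit 1, nat_lit 2]) (.node (nat_lit 1006) (.leaf (nat_lit 974) (nat_lit 2) [nat_lit 1, nat_lit 0, nat_lit 1, nat_lit 0, nat_lit 1, nat_lit 2, nat_lit 1, nat_lit 0, nat_lit 1, nat_lit 0, nat_lit 1, nat_lit 2, nat_lit 1, nat_lit 0, nat_lit 1, nat_lit 0, nat_lit 1]) (.leaf (nat_lit 975) (nat_lit 1) [nat_lit 2, nat_lit 1, nat_lit 0, nat_lit 1, nat_lit 0, nat_lit 1, nat_lit 2, nat_lit 1, nat_lit 0, nat_lit 1, nat_lit 0, nat_lit 1, nat_lit 2, nat_lit 1, nat_lit 0, nat_lit 1, nat_lit 0]))))) (.node (nat_lit 1012) (.node (nat_lit 1009) (.node (nat_lit 1008) (.leaf (nat_lit 976) (nat_lit 0) [nat_lit 1, nat_lit 2, nat_lit 1, nat_lit 0, nat_lit 1, nat_lit 0, nat_lit 1, nat_lit 2, nat_lit 1, nat_lit 0, nat_lit 1, nat_lit 0, nat_lit 1, nat_lit 2, nat_lit 1, nat_lit 0, nat_lit 1]) (.leaf (nat_lit 1008) (nat_lit 0) [nat_lit 1, nat_lit 0, nat_lit 1, nat_lit 3, nat_lit 1, nat_lit 0, nat_lit 1, nat_lit 0, nat_lit 1, nat_lit 3, nat_lit 1, nat_lit 0, nat_lit 1, nat_lit 0, nat_lit 1, nat_lit 3, nat_lit 1])) (.node (nat_lit 1010) (.leaf (nat_lit 1009) (nat_lit 1) [nat_lit 0, nat_lit 1, nat_lit 0, nat_lit 1, nat_lit 3, nat_lit 1, nat_lit 0, nat_lit 1, nat_lit 0, nat_lit 1, nat_lit 3, nat_lit 1, nat_lit 0, nat_lit 1, nat_lit 0, nat_lit 1, nat_lit 3]) (.node (nat_lit 1011) (.leaf (nat_lit 1010) (nat_lit 3) [nat_lit 1, nat_lit 0, nat_lit 1, nat_lit 0, nat_lit 1, nat_lit 3, nat_lit 1, nat_lit 0, nat_lit 1, nat_lit 0, nat_lit 1, nat_lit 3, nat_lit 1, nat_lit 0, nat_lit 1, nat_lit 0, nat_lit 1]) (.leaf (nat_lit 1011) (nat_lit 1) [nat_lit 3, nat_lit 1, nat_lit 0, nat_lit 1, nat_lit 0, nat_lit 1, nat_lit 3, nat_lit 1, nat_lit 0, nat_lit 1, nat_lit 0, nat_lit 1, nat_lit 3, nat_lit 1, nat_lit 0, nat_lit 1, nat_lit 0])))) (.node (nat_lit 1014) (.node (nat_lit 1013) (.leaf (nat_lit 1012) (nat_lit 0) [nat_lit 1, nat_lit 3, nat_lit 1, nat_lit 0, nat_lit 1, nat_lit 0, nat_lit 1, nat_lit 3, nat_lit 1, nat_lit 0, nat_lit 1, nat_lit 0, nat_lit 1, nat_lit 3, nat_lit 1, nat_lit 0, nat_lit 1]) (.leaf (nat_lit 1013) (nat_lit 1) [nat_lit 0, nat_lit 1, nat_lit 3, nat_lit 1, nat_lit 0, nat_lit 1, nat_lit 0, nat_lit 1, nat_lit 3, nat_lit 1, nat_lit 0, nat_lit 1, nat_lit 0, nat_lit 1, nat_lit 3, nat_lit 1, nat_lit 0])) (.node (nat_lit 1015) (.leaf (nat_lit 1008) (nat_lit 0) [nat_lit 1, nat_lit 0, nat_lit 1, nat_lit 3, nat_lit 1, nat_lit 0, nat_lit 1, nat_lit 0, nat_lit 1, nat_lit 3, nat_lit 1, nat_lit 0, nat_lit 1, nat_lit 0, nat_lit 1, nat_lit 3, nat_lit 1]) (.node (nat_lit 1016) (.leaf (nat_lit 1009) (nat_lit 1) [nat_lit 0, nat_lit 1, nat_lit 0, nat_lit 1, nat_lit 3, nat_lit 1, nat_lit 0, nat_lit 1, nat_lit 0, nat_lit 1, nat_lit 3, nat_lit 1, nat_lit 0, nat_lit 1, nat_lit 0, nat_lit 1, nat_lit 3]) (.leaf (nat_lit 1010) (nat_lit 3) [nat_lit 1, nat_lit 0, nat_lit 1, nat_lit 0, nat_lit 1, nat_lit 3, nat_lit 1, nat_lit 0, nat_lit 1, nat_lit 0, nat_lit 1, nat_lit 3, nat_lit 1, nat_lit 0, nat_lit 1, nat_lit 0, nat_lit 1]))))))) (.node (nat_lit 1036) (.node (nat_lit 1026) (.node (nat_lit 1021) (.node (nat_lit 1019) (.node (nat_lit 1018) (.leaf (nat_lit 1011) (nat_lit 1) [nat_lit 3, nat_lit 1, nat_lit 0, nat_lit 1, nat_lit 0, nat_lit 1, nat_lit 3, nat_lit 1, nat_lit 0, nat_lit 1, nat_lit 0, nat_lit 1, nat_lit 3, nat_lit 1, nat_lit 0, nat_lit 1, nat_lit 0]) (.leaf (nat_lit 1012) (nat_lit 0) [nat_lit 1, nat_lit 3, nat_lit 1, nat_lit 0, nat_lit 1, nat_lit 0, nat_lit 1, nat_lit 3, nat_lit 1, nat_lit 0, nat_lit 1, nat_lit 0, nat_lit 1, nat_lit 3, nat_lit 1, nat_lit 0, nat_lit 1])) (.node (nat_lit 1020) (.leaf (nat_lit 1013) (nat_lit 1) [nat_lit 0, nat_lit 1, nat_lit 3, nat_lit 1, nat_lit 0, nat_lit 1, nat_lit 0, nat_lit 1, nat_lit 3, nat_lit 1, nat_lit 0, nat_lit 1, nat_lit 0, nat_lit 1, nat_lit 3, nat_lit 1, nat_lit 0]) (.leaf (nat_lit 1008) (nat_lit 0) [nat_lit 1, nat_lit 0, nat_lit 1, nat_lit 3, nat_lit 1, nat_lit 0, nat_lit 1, nat_lit 0, nat_lit 1, nat_lit 3, nat_lit 1, nat_lit 0, nat_lit 1, nat_lit 0, nat_lit 1, nat_lit 3, nat_lit 1]))) (.node (nat_lit 1023) (.node (nat_lit 1022) (.leaf (nat_lit 1009) (nat_lit 1) [nat_lit 0, nat_lit 1, nat_lit 0, nat_lit 1, nat_lit 3, nat_lit 1, nat_lit 0, nat_lit 1, nat_lit 0, nat_lit 1, nat_lit 3, nat_lit 1, nat_lit 0, nat_lit 1, nat_lit 0, nat_lit 1, nat_lit 3]) (.leaf (nat_lit 1010) (nat_lit 3) [nat_lit 1, nat_lit 0, nat_lit 1, nat_lit 0, nat_lit 1, nat_lit 3, nat_lit 1, nat_lit 0, nat_lit 1, nat_lit 0, nat_lit 1, nat_lit 3, nat_lit 1, nat_lit 0, nat_lit 1, nat_lit 0, nat_lit 1])) (.node (nat_lit 1024) (.leaf (nat_lit 1011) (nat_lit 1) [nat_lit 3, nat_lit 1, nat_lit 0, nat_lit 1, nat_lit 0, nat_lit 1, nat_lit 3, nat_lit 1, nat_lit 0, nat_lit 1, nat_lit 0, nat_lit 1, nat_lit 3, nat_lit 1, nat_lit 0, nat_lit 1, nat_lit 0]) (.node (nat_lit 1025) (.leaf (nat_lit 1012) (nat_lit 0) [nat_lit 1, nat_lit 3, nat_lit 1, nat_lit 0, nat_lit 1, nat_lit 0, nat_lit 1, nat_lit 3, nat_lit 1, nat_lit 0, nat_lit 1, nat_lit 0, nat_lit 1, nat_lit 3, nat_lit 1, nat_lit 0, nat_lit 1]) (.leaf (nat_lit 1013) (nat_lit 1) [nat_lit 0, nat_lit 1, nat_lit 3, nat_lit 1, nat_lit 0, nat_lit 1, nat_lit 0, nat_lit 1, nat_lit 3, nat_lit 1, nat_lit 0, nat_lit 1, nat_lit 0, nat_lit 1, nat_lit 3, nat_lit 1, nat_lit 0]))))) (.node (nat_lit 1031) (.node (nat_lit 1028) (.node (nat_lit 1027) (.leaf (nat_lit 1013) (nat_lit 1) [nat_lit 0, nat_lit 1, nat_lit 3, nat_lit 1, nat_lit 0, nat_lit 1, nat_lit 0, nat_lit 1, nat_lit 3, nat_lit 1, nat_lit 0, nat_lit 1, nat_lit 0, nat_lit 1, nat_lit 3, nat_lit 1, nat_lit 0]) (.leaf (nat_lit 1008) (nat_lit 0) [nat_lit 1, nat_lit 0, nat_lit 1, nat_lit 3, nat_lit 1, nat_lit 0, nat_lit 1, nat_lit 0, nat_lit 1, nat_lit 3, nat_lit 1, nat_lit 0, nat_lit 1, nat_lit 0, nat_lit 1, nat_lit 3, nat_lit 1])) (.node (nat_lit 1029) (.leaf (nat_lit 1009) (nat_lit 1) [nat_lit 0, nat_lit 1, nat_lit 0, nat_lit 1, nat_lit 3, nat_lit 1, nat_lit 0, nat_lit 1, nat_lit 0, nat_lit 1, nat_lit 3, nat_lit 1, nat_lit 0, nat_lit 1, nat_lit 0, nat_lit 1, nat_lit 3]) (.node (nat_lit 1030) (.leaf (nat_lit 1010) (nat_lit 3) [nat_lit 1, nat_lit 0, nat_lit 1, nat_lit 0, nat_lit 1, nat_lit 3, nat_lit 1, nat_lit 0, nat_lit 1, nat_lit 0, nat_lit 1, nat_lit 3, nat_lit 1, nat_lit 0, nat_lit 1, nat_lit 0, nat_lit 1]) (.leaf (nat_lit 1011) (nat_lit 1) [nat_lit 3, nat_lit 1, nat_lit 0, nat_lit 1, nat_lit 0, nat_lit 1, nat_lit 3, nat_lit 1, nat_lit 0, nat_lit 1, nat_lit 0, nat_lit 1, nat_lit 3, nat_lit 1, nat_lit 0, nat_lit 1, nat_lit 0])))) (.node (nat_lit 1033) (.node (nat_lit 1032) (.leaf (nat_lit 1012) (nat_lit 0) [nat_lit 1, nat_lit 3, nat_lit 1, nat_lit 0, nat_lit 1, nat_lit 0, nat_lit 1, nat_lit 3, nat_lit 1, nat_lit 0, nat_lit 1, nat_lit 0, nat_lit 1, nat_lit 3, nat_lit 1, nat_lit 0, nat_lit 1]) (.leaf (nat_lit 1013) (nat_lit 1) [nat_lit 0, nat_lit 1, nat_lit 3, nat_lit 1, nat_lit 0, nat_lit 1, nat_lit 0, nat_lit 1, nat_lit 3, nat_lit 1, nat_lit 0, nat_lit 1, nat_lit 0, nat_lit 1, nat_lit 3, nat_lit 1, nat_lit 0])) (.node (nat_lit 1034) (.leaf (nat_lit 1008) (nat_lit 0) [nat_lit 1, nat_lit 0, nat_lit 1, nat_lit 3, nat_lit 1, nat_lit 0, nat_lit 1, nat_lit 0, nat_lit 1, nat_lit 3, nat_lit 1, nat_lit 0, nat_lit 1, nat_lit 0, nat_lit 1, nat_lit 3, nat_lit 1]) (.node (nat_lit 1035) (.leaf (nat_lit 1009) (nat_lit 1) [nat_lit 0, nat_lit 1, nat_lit 0, nat_lit 1, nat_lit 3, nat_lit 1, nat_lit 0, nat_lit 1, nat_lit 0, nat_lit 1, nat_lit 3, nat_lit 1, nat_lit 0, nat_lit 1, nat_lit 0, nat_lit 1, nat_lit 3]) (.leaf (nat_lit 1010) (nat_lit 3) [nat_lit 1, nat_lit 0, nat_lit 1, nat_lit 0, nat_lit 1, nat_lit 3, nat_lit 1, nat_lit 0, nat_lit 1, nat_lit 0, nat_lit 1, nat_lit 3, nat_lit 1, nat_lit 0, nat_lit 1, nat_lit 0, nat_lit 1])))))) (.node (nat_lit 1045) (.node (nat_lit 1040) (.node (nat_lit 1038) (.node (nat_lit 1037) (.leaf (nat_lit 1011) (nat_lit 1) [nat_lit 3, nat_lit 1, nat_lit 0, nat_lit 1, nat_lit 0, nat_lit 1, nat_lit 3, nat_lit 1, nat_lit 0, nat_lit 1, nat_lit 0, nat_lit 1, nat_lit 3, nat_lit 1, nat_lit 0, nat_lit 1, nat_lit 0]) (.leaf (nat_lit 1012) (nat_lit 0) [nat_lit 1, nat_lit 3, nat_lit 1, nat_lit 0, nat_lit 1, nat_lit 0, nat_lit 1, nat_lit 3, nat_lit 1, nat_lit 0, nat_lit 1, nat_lit 0, nat_lit 1, nat_lit 3, nat_lit 1, nat_lit 0, nat_lit 1])) (.node (nat_lit 1039) (.leaf (nat_lit 1013) (nat_lit 1) [nat_lit 0, nat_lit 1, nat_lit 3, nat_lit 1, nat_lit 0, nat_lit 1, nat_lit 0, nat_lit 1, nat_lit 3, nat_lit 1, nat_lit 0, nat_lit 1, nat_lit 0, nat_lit 1, nat_lit 3, nat_lit 1, nat_lit 0]) (.leaf (nat_lit 1008) (nat_lit 0) [nat_lit 1, nat_lit 0, nat_lit 1, nat_lit 3, nat_lit 1, nat_lit 0, nat_lit 1, nat_lit 0, nat_lit 1, nat_lit 3, nat_lit 1, nat_lit 0, nat_lit 1, nat_lit 0, nat_lit 1, nat_lit 3, nat_lit 1]))) (.node (nat_lit 1042) (.node (nat_lit 1041) (.leaf (nat_lit 1009) (nat_lit 1) [nat_lit 0, nat_lit 1, nat_lit 0, nat_lit 1, nat_lit 3, nat_lit 1, nat_lit 0, nat_lit 1, nat_lit 0, nat_lit 1, nat_lit 3, nat_lit 1, nat_lit 0, nat_lit 1, nat_lit 0, nat_lit 1, nat_lit 3]) (.leaf (nat_lit 1010) (nat_lit 3) [nat_lit 1, nat_lit 0, nat_lit 1, nat_lit 0, nat_lit 1, nat_lit 3, nat_lit 1, nat_lit 0, nat_lit 1, nat_lit 0, nat_lit 1, nat_lit 3, nat_lit 1, nat_lit 0, nat_lit 1, nat_lit 0, nat_lit 1])) (.node (nat_lit 1043) (.leaf (nat_lit 1011) (nat_lit 1) [nat_lit 3, nat_lit 1, nat_lit 0, nat_lit 1, nat_lit 0, nat_lit 1, nat_lit 3, nat_lit 1, nat_lit 0, nat_lit 1, nat_lit 0, nat_lit 1, nat_lit 3, nat_lit 1, nat_lit 0, nat_lit 1, nat_lit 0]) (.node (nat_lit 1044) (.leaf (nat_lit 1012) (nat_lit 0) [nat_lit 1, nat_lit 3, nat_lit 1, nat_lit 0, nat_lit 1, nat_lit 0, nat_lit 1, nat_lit 3, nat_lit 1, nat_lit 0, nat_lit 1, nat_lit 0, nat_lit 1, nat_lit 3, nat_lit 1, nat_lit 0, nat_lit 1]) (.leaf (nat_lit 1044) (nat_lit 0) [nat_lit 2, nat_lit 0, nat_lit 1, nat_lit 0, nat_lit 1, nat_lit 0, nat_lit 2, nat_lit 0, nat_lit 1, nat_lit 0, nat_lit 1, nat_lit 0, nat_lit 2, nat_lit 0, nat_lit 1, nat_lit 0, nat_lit 1]))))) (.node (nat_lit 1050) (.node (nat_lit 1047) (.node (nat_lit 1046) (.leaf (nat_lit 1045) (nat_lit 1) [nat_lit 0, nat_lit 2, nat_lit 0, nat_lit 1, nat_lit 0, nat_lit 1, nat_lit 0, nat_lit 2, nat_lit 0, nat_lit 1, nat_lit 0, nat_lit 1, nat_lit 0, nat_lit 2, nat_lit 0, nat_lit 1, nat_lit 0]) (.leaf (nat_lit 1046) (nat_lit 0) [nat_lit 1, nat_lit 0, nat_lit 2, nat_lit 0, nat_lit 1, nat_lit 0, nat_lit 1, nat_lit 0, nat_lit 2, nat_lit 0, nat_lit 1, nat_lit 0, nat_lit 1, nat_lit 0, nat_lit 2, nat_lit 0, nat_lit 1])) (.node (nat_lit 1048) (.leaf (nat_lit 1047) (nat_lit 1) [nat_lit 0, nat_lit 1, nat_lit 0, nat_lit 2, nat_lit 0, nat_lit 1, nat_lit 0, nat_lit 1, nat_lit 0, nat_lit 2, nat_lit 0, nat_lit 1, nat_lit 0, nat_lit 1, nat_lit 0, nat_lit 2, nat_lit 0]) (.node (nat_lit 1049) (.leaf (nat_lit 1048) (nat_lit 0) [nat_lit 1, nat_lit 0, nat_lit 1, nat_lit 0, nat_lit 2, nat_lit 0, nat_lit 1, nat_lit 0, nat_lit 1, nat_lit 0, nat_lit 2, nat_lit 0, nat_lit 1, nat_lit 0, nat_lit 1, nat_lit 0, nat_lit 2]) (.leaf (nat_lit 1049) (nat_lit 2) [nat_lit 0, nat_lit 1, nat_lit 0, nat_lit 1, nat_lit 0, nat_lit 2, nat_lit 0, nat_lit 1, nat_lit 0, nat_lit 1, nat_lit 0, nat_lit 2, nat_lit 0, nat_lit 1, nat_lit 0, nat_lit 1, nat_lit 0])))) (.node (nat_lit 1052) (.node (nat_lit 1051) (.leaf (nat_lit 1044) (nat_lit 0) [nat_lit 2, nat_lit 0, nat_lit 1, nat_lit 0, nat_lit 1, nat_lit 0, nat_lit 2, nat_lit 0, nat_lit 1, nat_lit 0, nat_lit 1, nat_lit 0, nat_lit 2, nat_lit 0, nat_lit 1, nat_lit 0, nat_lit 1]) (.leaf (nat_lit 1045) (nat_lit 1) [nat_lit 0, nat_lit 2, nat_lit 0, nat_lit 1, nat_lit 0, nat_lit 1, nat_lit 0, nat_lit 2, nat_lit 0, nat_lit 1, nat_lit 0, nat_lit 1, nat_lit 0, nat_lit 2, nat_lit 0, nat_lit 1, nat_lit 0])) (.node (nat_lit 1053) (.leaf (nat_lit 1046) (nat_lit 0) [nat_lit 1, nat_lit 0, nat_lit 2, nat_lit 0, nat_lit 1, nat_lit 0, nat_lit 1, nat_lit 0, nat_lit 2, nat_lit 0, nat_lit 1, nat_lit 0, nat_lit 1, nat_lit 0, nat_lit 2, nat_lit 0, nat_lit 1]) (.node (nat_lit 1054) (.leaf (nat_lit 1047) (nat_lit 1) [nat_lit 0, nat_lit 1, nat_lit 0, nat_lit 2, nat_lit 0, nat_lit 1, nat_lit 0, nat_lit 1, nat_lit 0, nat_lit 2, nat_lit 0, nat_lit 1, nat_lit 0, nat_lit 1, nat_lit 0, nat_lit 2, nat_lit 0]) (.leaf (nat_lit 1048) (nat_lit 0) [nat_lit 1, nat_lit 0, nat_lit 1, nat_lit 0, nat_lit 2, nat_lit 0, nat_lit 1, nat_lit 0, nat_lit 1, nat_lit 0, nat_lit 2, nat_lit 0, nat_lit 1, nat_lit 0, nat_lit 1, nat_lit 0, nat_lit 2]))))))))) (.node (nat_lit 1130) (.node (nat_lit 1092) (.node (nat_lit 1073) (.node (nat_lit 1064) (.node (nat_lit 1059) (.node (nat_lit 1057) (.node (nat_lit 1056) (.leaf (nat_lit 1049) (nat_lit 2) [nat_lit 0, nat_lit 1, nat_lit 0, nat_lit 1, nat_lit 0, nat_lit 2, nat_lit 0, nat_lit 1, nat_lit 0, nat_lit 1, nat_lit 0, nat_lit 2, nat_lit 0, nat_lit 1, nat_lit 0, nat_lit 1, nat_lit 0]) (.leaf (nat_lit 1044) (nat_lit 0) [nat_lit 2, nat_lit 0, nat_lit 1, nat_lit 0, nat_lit 1, nat_lit 0, nat_lit 2, nat_lit 0, nat_lit 1, nat_lit 0, nat_lit 1, nat_lit 0, nat_lit 2, nat_lit 0, nat_lit 1, nat_lit 0, nat_lit 1])) (.node (nat_lit 1058) (.leaf (nat_lit 1045) (nat_lit 1) [nat_lit 0, nat_lit 2, nat_lit 0, nat_lit 1, nat_lit 0, nat_lit 1, nat_lit 0, nat_lit 2, nat_lit 0, nat_lit 1, nat_lit 0, nat_lit 1, nat_lit 0, nat_lit 2, nat_lit 0, nat_lit 1, nat_lit 0]) (.leaf (nat_lit 1046) (nat_lit 0) [nat_lit 1, nat_lit 0, nat_lit 2, nat_lit 0, nat_lit 1, nat_lit 0, nat_lit 1, nat_lit 0, nat_lit 2, nat_lit 0, nat_lit 1, nat_lit 0, nat_lit 1, nat_lit 0, nat_lit 2, nat_lit 0, nat_lit 1]))) (.node (nat_lit 1061) (.node (nat_lit 1060) (.leaf (nat_lit 1047) (nat_lit 1) [nat_lit 0, nat_lit 1, nat_lit 0, nat_lit 2, nat_lit 0, nat_lit 1, nat_lit 0, nat_lit 1, nat_lit 0, nat_lit 2, nat_lit 0, nat_lit 1, nat_lit 0, nat_lit 1, nat_lit 0, nat_lit 2, nat_lit 0]) (.leaf (nat_lit 1048) (nat_lit 0) [nat_lit 1, nat_lit 0, nat_lit 1, nat_lit 0, nat_lit 2, nat_lit 0, nat_lit 1, nat_lit 0, nat_lit 1, nat_lit 0, nat_lit 2, nat_lit 0, nat_lit 1, nat_lit 0, nat_lit 1, nat_lit 0, nat_lit 2])) (.node (nat_lit 1062) (.leaf (nat_lit 1049) (nat_lit 2) [nat_lit 0, nat_lit 1, nat_lit 0, nat_lit 1, nat_lit 0, nat_lit 2, nat_lit 0, nat_lit 1, nat_lit 0, nat_lit 1, nat_lit 0, nat_lit 2, nat_lit 0, nat_lit 1, nat_lit 0, nat_lit 1, nat_lit 0]) (.node (nat_lit 1063) (.leaf (nat_lit 1049) (nat_lit 2) [nat_lit 0, nat_lit 1, nat_lit 0, nat_lit 1, nat_lit 0, nat_lit 2, nat_lit 0, nat_lit 1, nat_lit 0, nat_lit 1, nat_lit 0, nat_lit 2, nat_lit 0, nat_lit 1, nat_lit 0, nat_lit 1, nat_lit 0]) (.leaf (nat_lit 1044) (nat_lit 0) [nat_lit 2, nat_lit 0, nat_lit 1, nat_lit 0, nat_lit 1, nat_lit 0, nat_lit 2, nat_lit 0, nat_lit 1, nat_lit 0, nat_lit 1, nat_lit 0, nat_lit 2, nat_lit 0, nat_lit 1, nat_lit 0, nat_lit 1]))))) (.node (nat_lit 1068) (.node (nat_lit 1066) (.node (nat_lit 1065) (.leaf (nat_lit 1045) (nat_lit 1) [nat_lit 0, nat_lit 2, nat_lit 0, nat_lit 1, nat_lit 0, nat_lit 1, nat_lit 0, nat_lit 2, nat_lit 0, nat_lit 1, nat_lit 0, nat_lit 1, nat_lit 0, nat_lit 2, nat_lit 0, nat_lit 1, nat_lit 0]) (.leaf (nat_lit 1046) (nat_lit 0) [nat_lit 1, nat_lit 0, nat_lit 2, nat_lit 0, nat_lit 1, nat_lit 0, nat_lit 1, nat_lit 0, nat_lit 2, nat_lit 0, nat_lit 1, nat_lit 0, nat_lit 1, nat_lit 0, nat_lit 2, nat_lit 0, nat_lit 1])) (.node (nat_lit 1067) (.leaf (nat_lit 1047) (nat_lit 1) [nat_lit 0, nat_lit 1, nat_lit 0, nat_lit 2, nat_lit 0, nat_lit 1, nat_lit 0, nat_lit 1, nat_lit 0, nat_lit 2, nat_lit 0, nat_lit 1, nat_lit 0, nat_lit 1, nat_lit 0, nat_lit 2, nat_lit 0]) (.leaf (nat_lit 1048) (nat_lit 0) [nat_lit 1, nat_lit 0, nat_lit 1, nat_lit 0, nat_lit 2, nat_lit 0, nat_lit 1, nat_lit 0, nat_lit 1, nat_lit 0, nat_lit 2, nat_lit 0, nat_lit 1, nat_lit 0, nat_lit 1, nat_lit 0, nat_lit 2]))) (.node (nat_lit 1070) (.node (nat_lit 1069) (.leaf (nat_lit 1049) (nat_lit 2) [nat_lit 0, nat_lit 1, nat_lit 0, nat_lit 1, nat_lit 0, nat_lit 2, nat_lit 0, nat_lit 1, nat_lit 0, nat_lit 1, nat_lit 0, nat_lit 2, nat_lit 0, nat_lit 1, nat_lit 0, nat_lit 1, nat_lit 0]) (.leaf (nat_lit 1044) (nat_lit 0) [nat_lit 2, nat_lit 0, nat_lit 1, nat_lit 0, nat_lit 1, nat_lit 0, nat_lit 2, nat_lit 0, nat_lit 1, nat_lit 0, nat_lit 1, nat_lit 0, nat_lit 2, nat_lit 0, nat_lit 1, nat_lit 0, nat_lit 1])) (.node (nat_lit 1071) (.leaf (nat_lit 1045) (nat_lit 1) [nat_lit 0, nat_lit 2, nat_lit 0, nat_lit 1, nat_lit 0, nat_lit 1, nat_lit 0, nat_lit 2, nat_lit 0, nat_lit 1, nat_lit 0, nat_lit 1, nat_lit 0, nat_lit 2, nat_lit 0, nat_lit 1, nat_lit 0]) (.node (nat_lit 1072) (.leaf (nat_lit 1046) (nat_lit 0) [nat_lit 1, nat_lit 0, nat_lit 2, nat_lit 0, nat_lit 1, nat_lit 0, nat_lit 1, nat_lit 0, nat_lit 2, nat_lit 0, nat_lit 1, nat_lit 0, nat_lit 1, nat_lit 0, nat_lit 2, nat_lit 0, nat_lit 1]) (.leaf (nat_lit 1047) (nat_lit 1) [nat_lit 0, nat_lit 1, nat_lit 0, nat_lit 2, nat_lit 0, nat_lit 1, nat_lit 0, nat_lit 1, nat_lit 0, nat_lit 2, nat_lit 0, nat_lit 1, nat_lit 0, nat_lit 1, nat_lit 0, nat_lit 2, nat_lit 0])))))) (.node (nat_lit 1082) (.node (nat_lit 1077) (.node (nat_lit 1075) (.node (nat_lit 1074) (.leaf (nat_lit 1048) (nat_lit 0) [nat_lit 1, nat_lit 0, nat_lit 1, nat_lit 0, nat_lit 2, nat_lit 0, nat_lit 1, nat_lit 0, nat_lit 1, nat_lit 0, nat_lit 2, nat_lit 0, nat_lit 1, nat_lit 0, nat_lit 1, nat_lit 0, nat_lit 2]) (.leaf (nat_lit 1049) (nat_lit 2) [nat_lit 0, nat_lit 1, nat_lit 0, nat_lit 1, nat_lit 0, nat_lit 2, nat_lit 0, nat_lit 1, nat_lit 0, nat_lit 1, nat_lit 0, nat_lit 2, nat_lit 0, nat_lit 1, nat_lit 0, nat_lit 1, nat_lit 0])) (.node (nat_lit 1076) (.leaf (nat_lit 1044) (nat_lit 0) [nat_lit 2, nat_lit 0, nat_lit 1, nat_lit 0, nat_lit 1, nat_lit 0, nat_lit 2, nat_lit 0, nat_lit 1, nat_lit 0, nat_lit 1, nat_lit 0, nat_lit 2, nat_lit 0, nat_lit 1, nat_lit 0, nat_lit 1]) (.leaf (nat_lit 1045) (nat_lit 1) [nat_lit 0, nat_lit 2, nat_lit 0, nat_lit 1, nat_lit 0, nat_lit 1, nat_lit 0, nat_lit 2, nat_lit 0, nat_lit 1, nat_lit 0, nat_lit 1, nat_lit 0, nat_lit 2, nat_lit 0, nat_lit 1, nat_lit 0]))) (.node (nat_lit 1079) (.node (nat_lit 1078) (.leaf (nat_lit 1046) (nat_lit 0) [nat_lit 1, nat_lit 0, nat_lit 2, nat_lit 0, nat_lit 1, nat_lit 0, nat_lit 1, nat_lit 0, nat_lit 2, nat_lit 0, nat_lit 1, nat_lit 0, nat_lit 1, nat_lit 0, nat_lit 2, nat_lit 0, nat_lit 1]) (.leaf (nat_lit 1047) (nat_lit 1) [nat_lit 0, nat_lit 1, nat_lit 0, nat_lit 2, nat_lit 0, nat_lit 1, nat_lit 0, nat_lit 1, nat_lit 0, nat_lit 2, nat_lit 0, nat_lit 1, nat_lit 0, nat_lit 1, nat_lit 0, nat_lit 2, nat_lit 0])) (.node (nat_lit 1080) (.leaf (nat_lit 1048) (nat_lit 0) [nat_lit 1, nat_lit 0, nat_lit 1, nat_lit 0, nat_lit 2, nat_lit 0, nat_lit 1, nat_lit 0, nat_lit 1, nat_lit 0, nat_lit 2, nat_lit 0, nat_lit 1, nat_lit 0, nat_lit 1, nat_lit 0, nat_lit 2]) (.node (nat_lit 1081) (.leaf (nat_lit 1080) (nat_lit 0) [nat_lit 2, nat_lit 0, nat_lit 1, nat_lit 2, nat_lit 1, nat_lit 0, nat_lit 2, nat_lit 0, nat_lit 1, nat_lit 2, nat_lit 1, nat_lit 0, nat_lit 2, nat_lit 0, nat_lit 1, nat_lit 2, nat_lit 1]) (.leaf (nat_lit 1081) (nat_lit 1) [nat_lit 0, nat_lit 2, nat_lit 0, nat_lit 1, nat_lit 2, nat_lit 1, nat_lit 0, nat_lit 2, nat_lit 0, nat_lit 1, nat_lit 2, nat_lit 1, nat_lit 0, nat_lit 2, nat_lit 0, nat_lit 1, nat_lit 2]))))) (.node (nat_lit 1087) (.node (nat_lit 1084) (.node (nat_lit 1083) (.leaf (nat_lit 1082) (nat_lit 2) [nat_lit 1, nat_lit 0, nat_lit 2, nat_lit 0, nat_lit 1, nat_lit 2, nat_lit 1, nat_lit 0, nat_lit 2, nat_lit 0, nat_lit 1, nat_lit 2, nat_lit 1, nat_lit 0, nat_lit 2, nat_lit 0, nat_lit 1]) (.leaf (nat_lit 1083) (nat_lit 1) [nat_lit 2, nat_lit 1, nat_lit 0, nat_lit 2, nat_lit 0, nat_lit 1, nat_lit 2, nat_lit 1, nat_lit 0, nat_lit 2, nat_lit 0, nat_lit 1, nat_lit 2, nat_lit 1, nat_lit 0, nat_lit 2, nat_lit 0])) (.node (nat_lit 1085) (.leaf (nat_lit 1084) (nat_lit 0) [nat_lit 1, nat_lit 2, nat_lit 1, nat_lit 0, nat_lit 2, nat_lit 0, nat_lit 1, nat_lit 2, nat_lit 1, nat_lit 0, nat_lit 2, nat_lit 0, nat_lit 1, nat_lit 2, nat_lit 1, nat_lit 0, nat_lit 2]) (.node (nat_lit 1086) (.leaf (nat_lit 1085) (nat_lit 2) [nat_lit 0, nat_lit 1, nat_lit 2, nat_lit 1, nat_lit 0, nat_lit 2, nat_lit 0, nat_lit 1, nat_lit 2, nat_lit 1, nat_lit 0, nat_lit 2, nat_lit 0, nat_lit 1, nat_lit 2, nat_lit 1, nat_lit 0]) (.leaf (nat_lit 1080) (nat_lit 0) [nat_lit 2, nat_lit 0, nat_lit 1, nat_lit 2, nat_lit 1, nat_lit 0, nat_lit 2, nat_lit 0, nat_lit 1, nat_lit 2, nat_lit 1, nat_lit 0, nat_lit 2, nat_lit 0, nat_lit 1, nat_lit 2, nat_lit 1])))) (.node (nat_lit 1089) (.node (nat_lit 1088) (.leaf (nat_lit 1081) (nat_lit 1) [nat_lit 0, nat_lit 2, nat_lit 0, nat_lit 1, nat_lit 2, nat_lit 1, nat_lit 0, nat_lit 2, nat_lit 0, nat_lit 1, nat_lit 2, nat_lit 1, nat_lit 0, nat_lit 2, nat_lit 0, nat_lit 1, nat_lit 2]) (.leaf (nat_lit 1082) (nat_lit 2) [nat_lit 1, nat_lit 0, nat_lit 2, nat_lit 0, nat_lit 1, nat_lit 2, nat_lit 1, nat_lit 0, nat_lit 2, nat_lit 0, nat_lit 1, nat_lit 2, nat_lit 1, nat_lit 0, nat_lit 2, nat_lit 0, nat_lit 1])) (.node (nat_lit 1090) (.leaf (nat_lit 1083) (nat_lit 1) [nat_lit 2, nat_lit 1, nat_lit 0, nat_lit 2, nat_lit 0, nat_lit 1, nat_lit 2, nat_lit 1, nat_lit 0, nat_lit 2, nat_lit 0, nat_lit 1, nat_lit 2, nat_lit 1, nat_lit 0, nat_lit 2, nat_lit 0]) (.node (nat_lit 1091) (.leaf (nat_lit 1084) (nat_lit 0) [nat_lit 1, nat_lit 2, nat_lit 1, nat_lit 0, nat_lit 2, nat_lit 0, nat_lit 1, nat_lit 2, nat_lit 1, nat_lit 0, nat_lit 2, nat_lit 0, nat_lit 1, nat_lit 2, nat_lit 1, nat_lit 0, nat_lit 2]) (.leaf (nat_lit 1085) (nat_lit 2) [nat_lit 0, nat_lit 1, nat_lit 2, nat_lit 1, nat_lit 0, nat_lit 2, nat_lit 0, nat_lit 1, nat_lit 2, nat_lit 1, nat_lit 0, nat_lit 2, nat_lit 0, nat_lit 1, nat_lit 2, nat_lit 1, nat_lit 0]))))))) (.node (nat_lit 1111) (.node (nat_lit 1101) (.node (nat_lit 1096) (.node (nat_lit 1094) (.node (nat_lit 1093) (.leaf (nat_lit 1080) (nat_lit 0) [nat_lit 2, nat_lit 0, nat_lit 1, nat_lit 2, nat_lit 1, nat_lit 0, nat_lit 2, nat_lit 0, nat_lit 1, nat_lit 2, nat_lit 1, nat_lit 0, nat_lit 2, nat_lit 0, nat_lit 1, nat_lit 2, nat_lit 1]) (.leaf (nat_lit 1081) (nat_lit 1) [nat_lit 0, nat_lit 2, nat_lit 0, nat_lit 1, nat_lit 2, nat_lit 1, nat_lit 0, nat_lit 2, nat_lit 0, nat_lit 1, nat_lit 2, nat_lit 1, nat_lit 0, nat_lit 2, nat_lit 0, nat_lit 1, nat_lit 2])) (.node (nat_lit 1095) (.leaf (nat_lit 1082) (nat_lit 2) [nat_lit 1, nat_lit 0, nat_lit 2, nat_lit 0, nat_lit 1, nat_lit 2, nat_lit 1, nat_lit 0, nat_lit 2, nat_lit 0, nat_lit 1, nat_lit 2, nat_lit 1, nat_lit 0, nat_lit 2, nat_lit 0, nat_lit 1]) (.leaf (nat_lit 1083) (nat_lit 1) [nat_lit 2, nat_lit 1, nat_lit 0, nat_lit 2, nat_lit 0, nat_lit 1, nat_lit 2, nat_lit 1, nat_lit 0, nat_lit 2, nat_lit 0, nat_lit 1, nat_lit 2, nat_lit 1, nat_lit 0, nat_lit 2, nat_lit 0]))) (.node (nat_lit 1098) (.node (nat_lit 1097) (.leaf (nat_lit 1084) (nat_lit 0) [nat_lit 1, nat_lit 2, nat_lit 1, nat_lit 0, nat_lit 2, nat_lit 0, nat_lit 1, nat_lit 2, nat_lit 1, nat_lit 0, nat_lit 2, nat_lit 0, nat_lit 1, nat_lit 2, nat_lit 1, nat_lit 0, nat_lit 2]) (.leaf (nat_lit 1085) (nat_lit 2) [nat_lit 0, nat_lit 1, nat_lit 2, nat_lit 1, nat_lit 0, nat_lit 2, nat_lit 0, nat_lit 1, nat_lit 2, nat_lit 1, nat_lit 0, nat_lit 2, nat_lit 0, nat_lit 1, nat_lit 2, nat_lit 1, nat_lit 0])) (.node (nat_lit 1099) (.leaf (nat_lit 1085) (nat_lit 2) [nat_lit 0, nat_lit 1, nat_lit 2, nat_lit 1, nat_lit 0, nat_lit 2, nat_lit 0, nat_lit 1, nat_lit 2, nat_lit 1, nat_lit 0, nat_lit 2, nat_lit 0, nat_lit 1, nat_lit 2, nat_lit 1, nat_lit 0]) (.node (nat_lit 1100) (.leaf (nat_lit 1080) (nat_lit 0) [nat_lit 2, nat_lit 0, nat_lit 1, nat_lit 2, nat_lit 1, nat_lit 0, nat_lit 2, nat_lit 0, nat_lit 1, nat_lit 2, nat_lit 1, nat_lit 0, nat_lit 2, nat_lit 0, nat_lit 1, nat_lit 2, nat_lit 1]) (.leaf (nat_lit 1081) (nat_lit 1) [nat_lit 0, nat_lit 2, nat_lit 0, nat_lit 1, nat_lit 2, nat_lit 1, nat_lit 0, nat_lit 2, nat_lit 0, nat_lit 1, nat_lit 2, nat_lit 1, nat_lit 0, nat_lit 2, nat_lit 0, nat_lit 1, nat_lit 2]))))) (.node (nat_lit 1106) (.node (nat_lit 1103) (.node (nat_lit 1102) (.leaf (nat_lit 1082) (nat_lit 2) [nat_lit 1, nat_lit 0, nat_lit 2, nat_lit 0, nat_lit 1, nat_lit 2, nat_lit 1, nat_lit 0, nat_lit 2, nat_lit 0, nat_lit 1, nat_lit 2, nat_lit 1, nat_lit 0, nat_lit 2, nat_lit 0, nat_lit 1]) (.leaf (nat_lit 1083) (nat_lit 1) [nat_lit 2, nat_lit 1, nat_lit 0, nat_lit 2, nat_lit 0, nat_lit 1, nat_lit 2, nat_lit 1, nat_lit 0, nat_lit 2, nat_lit 0, nat_lit 1, nat_lit 2, nat_lit 1, nat_lit 0, nat_lit 2, nat_lit 0])) (.node (nat_lit 1104) (.leaf (nat_lit 1084) (nat_lit 0) [nat_lit 1, nat_lit 2, nat_lit 1, nat_lit 0, nat_lit 2, nat_lit 0, nat_lit 1, nat_lit 2, nat_lit 1, nat_lit 0, nat_lit 2, nat_lit 0, nat_lit 1, nat_lit 2, nat_lit 1, nat_lit 0, nat_lit 2]) (.node (nat_lit 1105) (.leaf (nat_lit 1085) (nat_lit 2) [nat_lit 0, nat_lit 1, nat_lit 2, nat_lit 1, nat_lit 0, nat_lit 2, nat_lit 0, nat_lit 1, nat_lit 2, nat_lit 1, nat_lit 0, nat_lit 2, nat_lit 0, nat_lit 1, nat_lit 2, nat_lit 1, nat_lit 0]) (.leaf (nat_lit 1080) (nat_lit 0) [nat_lit 2, nat_lit 0, nat_lit 1, nat_lit 2, nat_lit 1, nat_lit 0, nat_lit 2, nat_lit 0, nat_lit 1, nat_lit 2, nat_lit 1, nat_lit 0, nat_lit 2, nat_lit 0, nat_lit 1, nat_lit 2, nat_lit 1])))) (.node (nat_lit 1108) (.node (nat_lit 1107) (.leaf (nat_lit 1081) (nat_lit 1) [nat_lit 0, nat_lit 2, nat_lit 0, nat_lit 1, nat_lit 2, nat_lit 1, nat_lit 0, nat_lit 2, nat_lit 0, nat_lit 1, nat_lit 2, nat_lit 1, nat_lit 0, nat_lit 2, nat_lit 0, nat_lit 1, nat_lit 2]) (.leaf (nat_lit 1082) (nat_lit 2) [nat_lit 1, nat_lit 0, nat_lit 2, nat_lit 0, nat_lit 1, nat_lit 2, nat_lit 1, nat_lit 0, nat_lit 2, nat_lit 0, nat_lit 1, nat_lit 2, nat_lit 1, nat_lit 0, nat_lit 2, nat_lit 0, nat_lit 1])) (.node (nat_lit 1109) (.leaf (nat_lit 1083) (nat_lit 1) [nat_lit 2, nat_lit 1, nat_lit 0, nat_lit 2, nat_lit 0, nat_lit 1, nat_lit 2, nat_lit 1, nat_lit 0, nat_lit 2, nat_lit 0, nat_lit 1, nat_lit 2, nat_lit 1, nat_lit 0, nat_lit 2, nat_lit 0]) (.node (nat_lit 1110) (.leaf (nat_lit 1084) (nat_lit 0) [nat_lit 1, nat_lit 2, nat_lit 1, nat_lit 0, nat_lit 2, nat_lit 0, nat_lit 1, nat_lit 2, nat_lit 1, nat_lit 0, nat_lit 2, nat_lit 0, nat_lit 1, nat_lit 2, nat_lit 1, nat_lit 0, nat_lit 2]) (.leaf (nat_lit 1085) (nat_lit 2) [nat_lit 0, nat_lit 1, nat_lit 2, nat_lit 1, nat_lit 0, nat_lit 2, nat_lit 0, nat_lit 1, nat_lit 2, nat_lit 1, nat_lit 0, nat_lit 2, nat_lit 0, nat_lit 1, nat_lit 2, nat_lit 1, nat_lit 0])))))) (.node (nat_lit 1120) (.node (nat_lit 1115) (.node (nat_lit 1113) (.node (nat_lit 1112) (.leaf (nat_lit 1080) (nat_lit 0) [nat_lit 2, nat_lit 0, nat_lit 1, nat_lit 2, nat_lit 1, nat_lit 0, nat_lit 2, nat_lit 0, nat_lit 1, nat_lit 2, nat_lit 1, nat_lit 0, nat_lit 2, nat_lit 0, nat_lit 1, nat_lit 2, nat_lit 1]) (.leaf (nat_lit 1081) (nat_lit 1) [nat_lit 0, nat_lit 2, nat_lit 0, nat_lit 1, nat_lit 2, nat_lit 1, nat_lit 0, nat_lit 2, nat_lit 0, nat_lit 1, nat_lit 2, nat_lit 1, nat_lit 0, nat_lit 2, nat_lit 0, nat_lit 1, nat_lit 2])) (.node (nat_lit 1114) (.leaf (nat_lit 1082) (nat_lit 2) [nat_lit 1, nat_lit 0, nat_lit 2, nat_lit 0, nat_lit 1, nat_lit 2, nat_lit 1, nat_lit 0, nat_lit 2, nat_lit 0, nat_lit 1, nat_lit 2, nat_lit 1, nat_lit 0, nat_lit 2, nat_lit 0, nat_lit 1]) (.leaf (nat_lit 1083) (nat_lit 1) [nat_lit 2, nat_lit 1, nat_lit 0, nat_lit 2, nat_lit 0, nat_lit 1, nat_lit 2, nat_lit 1, nat_lit 0, nat_lit 2, nat_lit 0, nat_lit 1, nat_lit 2, nat_lit 1, nat_lit 0, nat_lit 2, nat_lit 0]))) (.node (nat_lit 1117) (.node (nat_lit 1116) (.leaf (nat_lit 1084) (nat_lit 0) [nat_lit 1, nat_lit 2, nat_lit 1, nat_lit 0, nat_lit 2, nat_lit 0, nat_lit 1, nat_lit 2, nat_lit 1, nat_lit 0, nat_lit 2, nat_lit 0, nat_lit 1, nat_lit 2, nat_lit 1, nat_lit 0, nat_lit 2]) (.leaf (nat_lit 1116) (nat_lit 0) [nat_lit 2, nat_lit 0, nat_lit 1, nat_lit 3, nat_lit 1, nat_lit 0, nat_lit 2, nat_lit 0, nat_lit 1, nat_lit 3, nat_lit 1, nat_lit 0, nat_lit 2, nat_lit 0, nat_lit 1, nat_lit 3, nat_lit 1])) (.node (nat_lit 1118) (.leaf (nat_lit 1117) (nat_lit 1) [nat_lit 0, nat_lit 2, nat_lit 0, nat_lit 1, nat_lit 3, nat_lit 1, nat_lit 0, nat_lit 2, nat_lit 0, nat_lit 1, nat_lit 3, nat_lit 1, nat_lit 0, nat_lit 2, nat_lit 0, nat_lit 1, nat_lit 3]) (.node (nat_lit 1119) (.leaf (nat_lit 1118) (nat_lit 3) [nat_lit 1, nat_lit 0, nat_lit 2, nat_lit 0, nat_lit 1, nat_lit 3, nat_lit 1, nat_lit 0, nat_lit 2, nat_lit 0, nat_lit 1, nat_lit 3, nat_lit 1, nat_lit 0, nat_lit 2, nat_lit 0, nat_lit 1]) (.leaf (nat_lit 1119) (nat_lit 1) [nat_lit 3, nat_lit 1, nat_lit 0, nat_lit 2, nat_lit 0, nat_lit 1, nat_lit 3, nat_lit 1, nat_lit 0, nat_lit 2, nat_lit 0, nat_lit 1, nat_lit 3, nat_lit 1, nat_lit 0, nat_lit 2, nat_lit 0]))))) (.node (nat_lit 1125) (.node (nat_lit 1122) (.node (nat_lit 1121) (.leaf (nat_lit 1120) (nat_lit 0) [nat_lit 1, nat_lit 3, nat_lit 1, nat_lit 0, nat_lit 2, nat_lit 0, nat_lit 1, nat_lit 3, nat_lit 1, nat_lit 0, nat_lit 2, nat_lit 0, nat_lit 1, nat_lit 3, nat_lit 1, nat_lit 0, nat_lit 2]) (.leaf (nat_lit 1121) (nat_lit 2) [nat_lit 0, nat_lit 1, nat_lit 3, nat_lit 1, nat_lit 0, nat_lit 2, nat_lit 0, nat_lit 1, nat_lit 3, nat_lit 1, nat_lit 0, nat_lit 2, nat_lit 0, nat_lit 1, nat_lit 3, nat_lit 1, nat_lit 0])) (.node (nat_lit 1123) (.leaf (nat_lit 1116) (nat_lit 0) [nat_lit 2, nat_lit 0, nat_lit 1, nat_lit 3, nat_lit 1, nat_lit 0, nat_lit 2, nat_lit 0, nat_lit 1, nat_lit 3, nat_lit 1, nat_lit 0, nat_lit 2, nat_lit 0, nat_lit 1, nat_lit 3, nat_lit 1]) (.node (nat_lit 1124) (.leaf (nat_lit 1117) (nat_lit 1) [nat_lit 0, nat_lit 2, nat_lit 0, nat_lit 1, nat_lit 3, nat_lit 1, nat_lit 0, nat_lit 2, nat_lit 0, nat_lit 1, nat_lit 3, nat_lit 1, nat_lit 0, nat_lit 2, nat_lit 0, nat_lit 1, nat_lit 3]) (.leaf (nat_lit 1118) (nat_lit 3) [nat_lit 1, nat_lit 0, nat_lit 2, nat_lit 0, nat_lit 1, nat_lit 3, nat_lit 1, nat_lit 0, nat_lit 2, nat_lit 0, nat_lit 1, nat_lit 3, nat_lit 1, nat_lit 0, nat_lit 2, nat_lit 0, nat_lit 1])))) (.node (nat_lit 1127) (.node (nat_lit 1126) (.leaf (nat_lit 1119) (nat_lit 1) [nat_lit 3, nat_lit 1, nat_lit 0, nat_lit 2, nat_lit 0, nat_lit 1, nat_lit 3, nat_lit 1, nat_lit 0, nat_lit 2, nat_lit 0, nat_lit 1, nat_lit 3, nat_lit 1, nat_lit 0, nat_lit 2, nat_lit 0]) (.leaf (nat_lit 1120) (nat_lit 0) [nat_lit 1, nat_lit 3, nat_lit 1, nat_lit 0, nat_lit 2, nat_lit 0, nat_lit 1, nat_lit 3, nat_lit 1, nat_lit 0, nat_lit 2, nat_lit 0, nat_lit 1, nat_lit 3, nat_lit 1, nat_lit 0, nat_lit 2])) (.node (nat_lit 1128) (.leaf (nat_lit 1121) (nat_lit 2) [nat_lit 0, nat_lit 1, nat_lit 3, nat_lit 1, nat_lit 0, nat_lit 2, nat_lit 0, nat_lit 1, nat_lit 3, nat_lit 1, nat_lit 0, nat_lit 2, nat_lit 0, nat_lit 1, nat_lit 3, nat_lit 1, nat_lit 0]) (.node (nat_lit 1129) (.leaf (nat_lit 1116) (nat_lit 0) [nat_lit 2, nat_lit 0, nat_lit 1, nat_lit 3, nat_lit 1, nat_lit 0, nat_lit 2, nat_lit 0, nat_lit 1, nat_lit 3, nat_lit 1, nat_lit 0, nat_lit 2, nat_lit 0, nat_lit 1, nat_lit 3, nat_lit 1]) (.leaf (nat_lit 1117) (nat_lit 1) [nat_lit 0, nat_lit 2, nat_lit 0, nat_lit 1, nat_lit 3, nat_lit 1, nat_lit 0, nat_lit 2, nat_lit 0, nat_lit 1, nat_lit 3, nat_lit 1, nat_lit 0, nat_lit 2, nat_lit 0, nat_lit 1, nat_lit 3])))))))) (.node (nat_lit 1168) (.node (nat_lit 1149) (.node (nat_lit 1139) (.node (nat_lit 1134) (.node (nat_lit 1132) (.node (nat_lit 1131) (.leaf (nat_lit 1118) (nat_lit 3) [nat_lit 1, nat_lit 0, nat_lit 2, nat_lit 0, nat_lit 1, nat_lit 3, nat_lit 1, nat_lit 0, nat_lit 2, nat_lit 0, nat_lit 1, nat_lit 3, nat_lit 1, nat_lit 0, nat_lit 2, nat_lit 0, nat_lit 1]) (.leaf (nat_lit 1119) (nat_lit 1) [nat_lit 3, nat_lit 1, nat_lit 0, nat_lit 2, nat_lit 0, nat_lit 1, nat_lit 3, nat_lit 1, nat_lit 0, nat_lit 2, nat_lit 0, nat_lit 1, nat_lit 3, nat_lit 1, nat_lit 0, nat_lit 2, nat_lit 0])) (.node (nat_lit 1133) (.leaf (nat_lit 1120) (nat_lit 0) [nat_lit 1, nat_lit 3, nat_lit 1, nat_lit 0, nat_lit 2, nat_lit 0, nat_lit 1, nat_lit 3, nat_lit 1, nat_lit 0, nat_lit 2, nat_lit 0, nat_lit 1, nat_lit 3, nat_lit 1, nat_lit 0, nat_lit 2]) (.leaf (nat_lit 1121) (nat_lit 2) [nat_lit 0, nat_lit 1, nat_lit 3, nat_lit 1, nat_lit 0, nat_lit 2, nat_lit 0, nat_lit 1, nat_lit 3, nat_lit 1, nat_lit 0, nat_lit 2, nat_lit 0, nat_lit 1, nat_lit 3, nat_lit 1, nat_lit 0]))) (.node (nat_lit 1136) (.node (nat_lit 1135) (.leaf (nat_lit 1121) (nat_lit 2) [nat_lit 0, nat_lit 1, nat_lit 3, nat_lit 1, nat_lit 0, nat_lit 2, nat_lit 0, nat_lit 1, nat_lit 3, nat_lit 1, nat_lit 0, nat_lit 2, nat_lit 0, nat_lit 1, nat_lit 3, nat_lit 1, nat_lit 0]) (.leaf (nat_lit 1116) (nat_lit 0) [nat_lit 2, nat_lit 0, nat_lit 1, nat_lit 3, nat_lit 1, nat_lit 0, nat_lit 2, nat_lit 0, nat_lit 1, nat_lit 3, nat_lit 1, nat_lit 0, nat_lit 2, nat_lit 0, nat_lit 1, nat_lit 3, nat_lit 1])) (.node (nat_lit 1137) (.leaf (nat_lit 1117) (nat_lit 1) [nat_lit 0, nat_lit 2, nat_lit 0, nat_lit 1, nat_lit 3, nat_lit 1, nat_lit 0, nat_lit 2, nat_lit 0, nat_lit 1, nat_lit 3, nat_lit 1, nat_lit 0, nat_lit 2, nat_lit 0, nat_lit 1, nat_lit 3]) (.node (nat_lit 1138) (.leaf (nat_lit 1118) (nat_lit 3) [nat_lit 1, nat_lit 0, nat_lit 2, nat_lit 0, nat_lit 1, nat_lit 3, nat_lit 1, nat_lit 0, nat_lit 2, nat_lit 0, nat_lit 1, nat_lit 3, nat_lit 1, nat_lit 0, nat_lit 2, nat_lit 0, nat_lit 1]) (.leaf (nat_lit 1119) (nat_lit 1) [nat_lit 3, nat_lit 1, nat_lit 0, nat_lit 2, nat_lit 0, nat_lit 1, nat_lit 3, nat_lit 1, nat_lit 0, nat_lit 2, nat_lit 0, nat_lit 1, nat_lit 3, nat_lit 1, nat_lit 0, nat_lit 2, nat_lit 0]))))) (.node (nat_lit 1144) (.node (nat_lit 1141) (.node (nat_lit 1140) (.leaf (nat_lit 1120) (nat_lit 0) [nat_lit 1, nat_lit 3, nat_lit 1, nat_lit 0, nat_lit 2, nat_lit 0, nat_lit 1, nat_lit 3, nat_lit 1, nat_lit 0, nat_lit 2, nat_lit 0, nat_lit 1, nat_lit 3, nat_lit 1, nat_lit 0, nat_lit 2]) (.leaf (nat_lit 1121) (nat_lit 2) [nat_lit 0, nat_lit 1, nat_lit 3, nat_lit 1, nat_lit 0, nat_lit 2, nat_lit 0, nat_lit 1, nat_lit 3, nat_lit 1, nat_lit 0, nat_lit 2, nat_lit 0, nat_lit 1, nat_lit 3, nat_lit 1, nat_lit 0])) (.node (nat_lit 1142) (.leaf (nat_lit 1116) (nat_lit 0) [nat_lit 2, nat_lit 0, nat_lit 1, nat_lit 3, nat_lit 1, nat_lit 0, nat_lit 2, nat_lit 0, nat_lit 1, nat_lit 3, nat_lit 1, nat_lit 0, nat_lit 2, nat_lit 0, nat_lit 1, nat_lit 3, nat_lit 1]) (.node (nat_lit 1143) (.leaf (nat_lit 1117) (nat_lit 1) [nat_lit 0, nat_lit 2, nat_lit 0, nat_lit 1, nat_lit 3, nat_lit 1, nat_lit 0, nat_lit 2, nat_lit 0, nat_lit 1, nat_lit 3, nat_lit 1, nat_lit 0, nat_lit 2, nat_lit 0, nat_lit 1, nat_lit 3]) (.leaf (nat_lit 1118) (nat_lit 3) [nat_lit 1, nat_lit 0, nat_lit 2, nat_lit 0, nat_lit 1, nat_lit 3, nat_lit 1, nat_lit 0, nat_lit 2, nat_lit 0, nat_lit 1, nat_lit 3, nat_lit 1, nat_lit 0, nat_lit 2, nat_lit 0, nat_lit 1])))) (.node (nat_lit 1146) (.node (nat_lit 1145) (.leaf (nat_lit 1119) (nat_lit 1) [nat_lit 3, nat_lit 1, nat_lit 0, nat_lit 2, nat_lit 0, nat_lit 1, nat_lit 3, nat_lit 1, nat_lit 0, nat_lit 2, nat_lit 0, nat_lit 1, nat_lit 3, nat_lit 1, nat_lit 0, nat_lit 2, nat_lit 0]) (.leaf (nat_lit 1120) (nat_lit 0) [nat_lit 1, nat_lit 3, nat_lit 1, nat_lit 0, nat_lit 2, nat_lit 0, nat_lit 1, nat_lit 3, nat_lit 1, nat_lit 0, nat_lit 2, nat_lit 0, nat_lit 1, nat_lit 3, nat_lit 1, nat_lit 0, nat_lit 2])) (.node (nat_lit 1147) (.leaf (nat_lit 1121) (nat_lit 2) [nat_lit 0, nat_lit 1, nat_lit 3, nat_lit 1, nat_lit 0, nat_lit 2, nat_lit 0, nat_lit 1, nat_lit 3, nat_lit 1, nat_lit 0, nat_lit 2, nat_lit 0, nat_lit 1, nat_lit 3, nat_lit 1, nat_lit 0]) (.node (nat_lit 1148) (.leaf (nat_lit 1116) (nat_lit 0) [nat_lit 2, nat_lit 0, nat_lit 1, nat_lit 3, nat_lit 1, nat_lit 0, nat_lit 2, nat_lit 0, nat_lit 1, nat_lit 3, nat_lit 1, nat_lit 0, nat_lit 2, nat_lit 0, nat_lit 1, nat_lit 3, nat_lit 1]) (.leaf (nat_lit 1117) (nat_lit 1) [nat_lit 0, nat_lit 2, nat_lit 0, nat_lit 1, nat_lit 3, nat_lit 1, nat_lit 0, nat_lit 2, nat_lit 0, nat_lit 1, nat_lit 3, nat_lit 1, nat_lit 0, nat_lit 2, nat_lit 0, nat_lit 1, nat_lit 3])))))) (.node (nat_lit 1158) (.node (nat_lit 1153) (.node (nat_lit 1151) (.node (nat_lit 1150) (.leaf (nat_lit 1118) (nat_lit 3) [nat_lit 1, nat_lit 0, nat_lit 2, nat_lit 0, nat_lit 1, nat_lit 3, nat_lit 1, nat_lit 0, nat_lit 2, nat_lit 0, nat_lit 1, nat_lit 3, nat_lit 1, nat_lit 0, nat_lit 2, nat_lit 0, nat_lit 1]) (.leaf (nat_lit 1119) (nat_lit 1) [nat_lit 3, nat_lit 1, nat_lit 0, nat_lit 2, nat_lit 0, nat_lit 1, nat_lit 3, nat_lit 1, nat_lit 0, nat_lit 2, nat_lit 0, nat_lit 1, nat_lit 3, nat_lit 1, nat_lit 0, nat_lit 2, nat_lit 0])) (.node (nat_lit 1152) (.leaf (nat_lit 1120) (nat_lit 0) [nat_lit 1, nat_lit 3, nat_lit 1, nat_lit 0, nat_lit 2, nat_lit 0, nat_lit 1, nat_lit 3, nat_lit 1, nat_lit 0, nat_lit 2, nat_lit 0, nat_lit 1, nat_lit 3, nat_lit 1, nat_lit 0, nat_lit 2]) (.leaf (nat_lit 1152) (nat_lit 0) [nat_lit 3, nat_lit 0, nat_lit 1, nat_lit 0, nat_lit 1, nat_lit 0, nat_lit 3, nat_lit 0, nat_lit 1, nat_lit 0, nat_lit 1, nat_lit 0, nat_lit 3, nat_lit 0, nat_lit 1, nat_lit 0, nat_lit 1]))) (.node (nat_lit 1155) (.node (nat_lit 1154) (.leaf (nat_lit 1153) (nat_lit 1) [nat_lit 0, nat_lit 3, nat_lit 0, nat_lit 1, nat_lit 0, nat_lit 1, nat_lit 0, nat_lit 3, nat_lit 0, nat_lit 1, nat_lit 0, nat_lit 1, nat_lit 0, nat_lit 3, nat_lit 0, nat_lit 1, nat_lit 0]) (.leaf (nat_lit 1154) (nat_lit 0) [nat_lit 1, nat_lit 0, nat_lit 3, nat_lit 0, nat_lit 1, nat_lit 0, nat_lit 1, nat_lit 0, nat_lit 3, nat_lit 0, nat_lit 1, nat_lit 0, nat_lit 1, nat_lit 0, nat_lit 3, nat_lit 0, nat_lit 1])) (.node (nat_lit 1156) (.leaf (nat_lit 1155) (nat_lit 1) [nat_lit 0, nat_lit 1, nat_lit 0, nat_lit 3, nat_lit 0, nat_lit 1, nat_lit 0, nat_lit 1, nat_lit 0, nat_lit 3, nat_lit 0, nat_lit 1, nat_lit 0, nat_lit 1, nat_lit 0, nat_lit 3, nat_lit 0]) (.node (nat_lit 1157) (.leaf (nat_lit 1156) (nat_lit 0) [nat_lit 1, nat_lit 0, nat_lit 1, nat_lit 0, nat_lit 3, nat_lit 0, nat_lit 1, nat_lit 0, nat_lit 1, nat_lit 0, nat_lit 3, nat_lit 0, nat_lit 1, nat_lit 0, nat_lit 1, nat_lit 0, nat_lit 3]) (.leaf (nat_lit 1157) (nat_lit 3) [nat_lit 0, nat_lit 1, nat_lit 0, nat_lit 1, nat_lit 0, nat_lit 3, nat_lit 0, nat_lit 1, nat_lit 0, nat_lit 1, nat_lit 0, nat_lit 3, nat_lit 0, nat_lit 1, nat_lit 0, nat_lit 1, nat_lit 0]))))) (.node (nat_lit 1163) (.node (nat_lit 1160) (.node (nat_lit 1159) (.leaf (nat_lit 1152) (nat_lit 0) [nat_lit 3, nat_lit 0, nat_lit 1, nat_lit 0, nat_lit 1, nat_lit 0, nat_lit 3, nat_lit 0, nat_lit 1, nat_lit 0, nat_lit 1, nat_lit 0, nat_lit 3, nat_lit 0, nat_lit 1, nat_lit 0, nat_lit 1]) (.leaf (nat_lit 1153) (nat_lit 1) [nat_lit 0, nat_lit 3, nat_lit 0, nat_lit 1, nat_lit 0, nat_lit 1, nat_lit 0, nat_lit 3, nat_lit 0, nat_lit 1, nat_lit 0, nat_lit 1, nat_lit 0, nat_lit 3, nat_lit 0, nat_lit 1, nat_lit 0])) (.node (nat_lit 1161) (.leaf (nat_lit 1154) (nat_lit 0) [nat_lit 1, nat_lit 0, nat_lit 3, nat_lit 0, nat_lit 1, nat_lit 0, nat_lit 1, nat_lit 0, nat_lit 3, nat_lit 0, nat_lit 1, nat_lit 0, nat_lit 1, nat_lit 0, nat_lit 3, nat_lit 0, nat_lit 1]) (.node (nat_lit 1162) (.leaf (nat_lit 1155) (nat_lit 1) [nat_lit 0, nat_lit 1, nat_lit 0, nat_lit 3, nat_lit 0, nat_lit 1, nat_lit 0, nat_lit 1, nat_lit 0, nat_lit 3, nat_lit 0, nat_lit 1, nat_lit 0, nat_lit 1, nat_lit 0, nat_lit 3, nat_lit 0]) (.leaf (nat_lit 1156) (nat_lit 0) [nat_lit 1, nat_lit 0, nat_lit 1, nat_lit 0, nat_lit 3, nat_lit 0, nat_lit 1, nat_lit 0, nat_lit 1, nat_lit 0, nat_lit 3, nat_lit 0, nat_lit 1, nat_lit 0, nat_lit 1, nat_lit 0, nat_lit 3])))) (.node (nat_lit 1165) (.node (nat_lit 1164) (.leaf (nat_lit 1157) (nat_lit 3) [nat_lit 0, nat_lit 1, nat_lit 0, nat_lit 1, nat_lit 0, nat_lit 3, nat_lit 0, nat_lit 1, nat_lit 0, nat_lit 1, nat_lit 0, nat_lit 3, nat_lit 0, nat_lit 1, nat_lit 0, nat_lit 1, nat_lit 0]) (.leaf (nat_lit 1152) (nat_lit 0) [nat_lit 3, nat_lit 0, nat_lit 1, nat_lit 0, nat_lit 1, nat_lit 0, nat_lit 3, nat_lit 0, nat_lit 1, nat_lit 0, nat_lit 1, nat_lit 0, nat_lit 3, nat_lit 0, nat_lit 1, nat_lit 0, nat_lit 1])) (.node (nat_lit 1166) (.leaf (nat_lit 1153) (nat_lit 1) [nat_lit 0, nat_lit 3, nat_lit 0, nat_lit 1, nat_lit 0, nat_lit 1, nat_lit 0, nat_lit 3, nat_lit 0, nat_lit 1, nat_lit 0, nat_lit 1, nat_lit 0, nat_lit 3, nat_lit 0, nat_lit 1, nat_lit 0]) (.node (nat_lit 1167) (.leaf (nat_lit 1154) (nat_lit 0) [nat_lit 1, nat_lit 0, nat_lit 3, nat_lit 0, nat_lit 1, nat_lit 0, nat_lit 1, nat_lit 0, nat_lit 3, nat_lit 0, nat_lit 1, nat_lit 0, nat_lit 1, nat_lit 0, nat_lit 3, nat_lit 0, nat_lit 1]) (.leaf (nat_lit 1155) (nat_lit 1) [nat_lit 0, nat_lit 1, nat_lit 0, nat_lit 3, nat_lit 0, nat_lit 1, nat_lit 0, nat_lit 1, nat_lit 0, nat_lit 3, nat_lit 0, nat_lit 1, nat_lit 0, nat_lit 1, nat_lit 0, nat_lit 3, nat_lit 0]))))))) (.node (nat_lit 1187) (.node (nat_lit 1177) (.node (nat_lit 1172) (.node (nat_lit 1170) (.node (nat_lit 1169) (.leaf (nat_lit 1156) (nat_lit 0) [nat_lit 1, nat_lit 0, nat_lit 1, nat_lit 0, nat_lit 3, nat_lit 0, nat_lit 1, nat_lit 0, nat_lit 1, nat_lit 0, nat_lit 3, nat_lit 0, nat_lit 1, nat_lit 0, nat_lit 1, nat_lit 0, nat_lit 3]) (.leaf (nat_lit 1157) (nat_lit 3) [nat_lit 0, nat_lit 1, nat_lit 0, nat_lit 1, nat_lit 0, nat_lit 3, nat_lit 0, nat_lit 1, nat_lit 0, nat_lit 1, nat_lit 0, nat_lit 3, nat_lit 0, nat_lit 1, nat_lit 0, nat_lit 1, nat_lit 0])) (.node (nat_lit 1171) (.leaf (nat_lit 1157) (nat_lit 3) [nat_lit 0, nat_lit 1, nat_lit 0, nat_lit 1, nat_lit 0, nat_lit 3, nat_lit 0, nat_lit 1, nat_lit 0, nat_lit 1, nat_lit 0, nat_lit 3, nat_lit 0, nat_lit 1, nat_lit 0, nat_lit 1, nat_lit 0]) (.leaf (nat_lit 1152) (nat_lit 0) [nat_lit 3, nat_lit 0, nat_lit 1, nat_lit 0, nat_lit 1, nat_lit 0, nat_lit 3, nat_lit 0, nat_lit 1, nat_lit 0, nat_lit 1, nat_lit 0, nat_lit 3, nat_lit 0, nat_lit 1, nat_lit 0, nat_lit 1]))) (.node (nat_lit 1174) (.node (nat_lit 1173) (.leaf (nat_lit 1153) (nat_lit 1) [nat_lit 0, nat_lit 3, nat_lit 0, nat_lit 1, nat_lit 0, nat_lit 1, nat_lit 0, nat_lit 3, nat_lit 0, nat_lit 1, nat_lit 0, nat_lit 1, nat_lit 0, nat_lit 3, nat_lit 0, nat_lit 1, nat_lit 0]) (.leaf (nat_lit 1154) (nat_lit 0) [nat_lit 1, nat_lit 0, nat_lit 3, nat_lit 0, nat_lit 1, nat_lit 0, nat_lit 1, nat_lit 0, nat_lit 3, nat_lit 0, nat_lit 1, nat_lit 0, nat_lit 1, nat_lit 0, nat_lit 3, nat_lit 0, nat_lit 1])) (.node (nat_lit 1175) (.leaf (nat_lit 1155) (nat_lit 1) [nat_lit 0, nat_lit 1, nat_lit 0, nat_lit 3, nat_lit 0, nat_lit 1, nat_lit 0, nat_lit 1, nat_lit 0, nat_lit 3, nat_lit 0, nat_lit 1, nat_lit 0, nat_lit 1, nat_lit 0, nat_lit 3, nat_lit 0]) (.node (nat_lit 1176) (.leaf (nat_lit 1156) (nat_lit 0) [nat_lit 1, nat_lit 0, nat_lit 1, nat_lit 0, nat_lit 3, nat_lit 0, nat_lit 1, nat_lit 0, nat_lit 1, nat_lit 0, nat_lit 3, nat_lit 0, nat_lit 1, nat_lit 0, nat_lit 1, nat_lit 0, nat_lit 3]) (.leaf (nat_lit 1157) (nat_lit 3) [nat_lit 0, nat_lit 1, nat_lit 0, nat_lit 1, nat_lit 0, nat_lit 3, nat_lit 0, nat_lit 1, nat_lit 0, nat_lit 1, nat_lit 0, nat_lit 3, nat_lit 0, nat_lit 1, nat_lit 0, nat_lit 1, nat_lit 0]))))) (.node (nat_lit 1182) (.node (nat_lit 1179) (.node (nat_lit 1178) (.leaf (nat_lit 1152) (nat_lit 0) [nat_lit 3, nat_lit 0, nat_lit 1, nat_lit 0, nat_lit 1, nat_lit 0, nat_lit 3, nat_lit 0, nat_lit 1, nat_lit 0, nat_lit 1, nat_lit 0, nat_lit 3, nat_lit 0, nat_lit 1, nat_lit 0, nat_lit 1]) (.leaf (nat_lit 1153) (nat_lit 1) [nat_lit 0, nat_lit 3, nat_lit 0, nat_lit 1, nat_lit 0, nat_lit 1, nat_lit 0, nat_lit 3, nat_lit 0, nat_lit 1, nat_lit 0, nat_lit 1, nat_lit 0, nat_lit 3, nat_lit 0, nat_lit 1, nat_lit 0])) (.node (nat_lit 1180) (.leaf (nat_lit 1154) (nat_lit 0) [nat_lit 1, nat_lit 0, nat_lit 3, nat_lit 0, nat_lit 1, nat_lit 0, nat_lit 1, nat_lit 0, nat_lit 3, nat_lit 0, nat_lit 1, nat_lit 0, nat_lit 1, nat_lit 0, nat_lit 3, nat_lit 0, nat_lit 1]) (.node (nat_lit 1181) (.leaf (nat_lit 1155) (nat_lit 1) [nat_lit 0, nat_lit 1, nat_lit 0, nat_lit 3, nat_lit 0, nat_lit 1, nat_lit 0, nat_lit 1, nat_lit 0, nat_lit 3, nat_lit 0, nat_lit 1, nat_lit 0, nat_lit 1, nat_lit 0, nat_lit 3, nat_lit 0]) (.leaf (nat_lit 1156) (nat_lit 0) [nat_lit 1, nat_lit 0, nat_lit 1, nat_lit 0, nat_lit 3, nat_lit 0, nat_lit 1, nat_lit 0, nat_lit 1, nat_lit 0, nat_lit 3, nat_lit 0, nat_lit 1, nat_lit 0, nat_lit 1, nat_lit 0, nat_lit 3])))) (.node (nat_lit 1184) (.node (nat_lit 1183) (.leaf (nat_lit 1157) (nat_lit 3) [nat_lit 0, nat_lit 1, nat_lit 0, nat_lit 1, nat_lit 0, nat_lit 3, nat_lit 0, nat_lit 1, nat_lit 0, nat_lit 1, nat_lit 0, nat_lit 3, nat_lit 0, nat_lit 1, nat_lit 0, nat_lit 1, nat_lit 0]) (.leaf (nat_lit 1152) (nat_lit 0) [nat_lit 3, nat_lit 0, nat_lit 1, nat_lit 0, nat_lit 1, nat_lit 0, nat_lit 3, nat_lit 0, nat_lit 1, nat_lit 0, nat_lit 1, nat_lit 0, nat_lit 3, nat_lit 0, nat_lit 1, nat_lit 0, nat_lit 1])) (.node (nat_lit 1185) (.leaf (nat_lit 1153) (nat_lit 1) [nat_lit 0, nat_lit 3, nat_lit 0, nat_lit 1, nat_lit 0, nat_lit 1, nat_lit 0, nat_lit 3, nat_lit 0, nat_lit 1, nat_lit 0, nat_lit 1, nat_lit 0, nat_lit 3, nat_lit 0, nat_lit 1, nat_lit 0]) (.node (nat_lit 1186) (.leaf (nat_lit 1154) (nat_lit 0) [nat_lit 1, nat_lit 0, nat_lit 3, nat_lit 0, nat_lit 1, nat_lit 0, nat_lit 1, nat_lit 0, nat_lit 3, nat_lit 0, nat_lit 1, nat_lit 0, nat_lit 1, nat_lit 0, nat_lit 3, nat_lit 0, nat_lit 1]) (.leaf (nat_lit 1155) (nat_lit 1) [nat_lit 0, nat_lit 1, nat_lit 0, nat_lit 3, nat_lit 0, nat_lit 1, nat_lit 0, nat_lit 1, nat_lit 0, nat_lit 3, nat_lit 0, nat_lit 1, nat_lit 0, nat_lit 1, nat_lit 0, nat_lit 3, nat_lit 0])))))) (.node (nat_lit 1196) (.node (nat_lit 1191) (.node (nat_lit 1189) (.node (nat_lit 1188) (.leaf (nat_lit 1156) (nat_lit 0) [nat_lit 1, nat_lit 0, nat_lit 1, nat_lit 0, nat_lit 3, nat_lit 0, nat_lit 1, nat_lit 0, nat_lit 1, nat_lit 0, nat_lit 3, nat_lit 0, nat_lit 1, nat_lit 0, nat_lit 1, nat_lit 0, nat_lit 3]) (.leaf (nat_lit 1188) (nat_lit 0) [nat_lit 3, nat_lit 0, nat_lit 1, nat_lit 2, nat_lit 1, nat_lit 0, nat_lit 3, nat_lit 0, nat_lit 1, nat_lit 2, nat_lit 1, nat_lit 0, nat_lit 3, nat_lit 0, nat_lit 1, nat_lit 2, nat_lit 1])) (.node (nat_lit 1190) (.leaf (nat_lit 1189) (nat_lit 1) [nat_lit 0, nat_lit 3, nat_lit 0, nat_lit 1, nat_lit 2, nat_lit 1, nat_lit 0, nat_lit 3, nat_lit 0, nat_lit 1, nat_lit 2, nat_lit 1, nat_lit 0, nat_lit 3, nat_lit 0, nat_lit 1, nat_lit 2]) (.leaf (nat_lit 1190) (nat_lit 2) [nat_lit 1, nat_lit 0, nat_lit 3, nat_lit 0, nat_lit 1, nat_lit 2, nat_lit 1, nat_lit 0, nat_lit 3, nat_lit 0, nat_lit 1, nat_lit 2, nat_lit 1, nat_lit 0, nat_lit 3, nat_lit 0, nat_lit 1]))) (.node (nat_lit 1193) (.node (nat_lit 1192) (.leaf (nat_lit 1191) (nat_lit 1) [nat_lit 2, nat_lit 1, nat_lit 0, nat_lit 3, nat_lit 0, nat_lit 1, nat_lit 2, nat_lit 1, nat_lit 0, nat_lit 3, nat_lit 0, nat_lit 1, nat_lit 2, nat_lit 1, nat_lit 0, nat_lit 3, nat_lit 0]) (.leaf (nat_lit 1192) (nat_lit 0) [nat_lit 1, nat_lit 2, nat_lit 1, nat_lit 0, nat_lit 3, nat_lit 0, nat_lit 1, nat_lit 2, nat_lit 1, nat_lit 0, nat_lit 3, nat_lit 0, nat_lit 1, nat_lit 2, nat_lit 1, nat_lit 0, nat_lit 3])) (.node (nat_lit 1194) (.leaf (nat_lit 1193) (nat_lit 3) [nat_lit 0, nat_lit 1, nat_lit 2, nat_lit 1, nat_lit 0, nat_lit 3, nat_lit 0, nat_lit 1, nat_lit 2, nat_lit 1, nat_lit 0, nat_lit 3, nat_lit 0, nat_lit 1, nat_lit 2, nat_lit 1, nat_lit 0]) (.node (nat_lit 1195) (.leaf (nat_lit 1188) (nat_lit 0) [nat_lit 3, nat_lit 0, nat_lit 1, nat_lit 2, nat_lit 1, nat_lit 0, nat_lit 3, nat_lit 0, nat_lit 1, nat_lit 2, nat_lit 1, nat_lit 0, nat_lit 3, nat_lit 0, nat_lit 1, nat_lit 2, nat_lit 1]) (.leaf (nat_lit 1189) (nat_lit 1) [nat_lit 0, nat_lit 3, nat_lit 0, nat_lit 1, nat_lit 2, nat_lit 1, nat_lit 0, nat_lit 3, nat_lit 0, nat_lit 1, nat_lit 2, nat_lit 1, nat_lit 0, nat_lit 3, nat_lit 0, nat_lit 1, nat_lit 2]))))) (.node (nat_lit 1201) (.node (nat_lit 1198) (.node (nat_lit 1197) (.leaf (nat_lit 1190) (nat_lit 2) [nat_lit 1, nat_lit 0, nat_lit 3, nat_lit 0, nat_lit 1, nat_lit 2, nat_lit 1, nat_lit 0, nat_lit 3, nat_lit 0, nat_lit 1, nat_lit 2, nat_lit 1, nat_lit 0, nat_lit 3, nat_lit 0, nat_lit 1]) (.leaf (nat_lit 1191) (nat_lit 1) [nat_lit 2, nat_lit 1, nat_lit 0, nat_lit 3, nat_lit 0, nat_lit 1, nat_lit 2, nat_lit 1, nat_lit 0, nat_lit 3, nat_lit 0, nat_lit 1, nat_lit 2, nat_lit 1, nat_lit 0, nat_lit 3, nat_lit 0])) (.node (nat_lit 1199) (.leaf (nat_lit 1192) (nat_lit 0) [nat_lit 1, nat_lit 2, nat_lit 1, nat_lit 0, nat_lit 3, nat_lit 0, nat_lit 1, nat_lit 2, nat_lit 1, nat_lit 0, nat_lit 3, nat_lit 0, nat_lit 1, nat_lit 2, nat_lit 1, nat_lit 0, nat_lit 3]) (.node (nat_lit 1200) (.leaf (nat_lit 1193) (nat_lit 3) [nat_lit 0, nat_lit 1, nat_lit 2, nat_lit 1, nat_lit 0, nat_lit 3, nat_lit 0, nat_lit 1, nat_lit 2, nat_lit 1, nat_lit 0, nat_lit 3, nat_lit 0, nat_lit 1, nat_lit 2, nat_lit 1, nat_lit 0]) (.leaf (nat_lit 1188) (nat_lit 0) [nat_lit 3, nat_lit 0, nat_lit 1, nat_lit 2, nat_lit 1, nat_lit 0, nat_lit 3, nat_lit 0, nat_lit 1, nat_lit 2, nat_lit 1, nat_lit 0, nat_lit 3, nat_lit 0, nat_lit 1, nat_lit 2, nat_lit 1])))) (.node (nat_lit 1203) (.node (nat_lit 1202) (.leaf (nat_lit 1189) (nat_lit 1) [nat_lit 0, nat_lit 3, nat_lit 0, nat_lit 1, nat_lit 2, nat_lit 1, nat_lit 0, nat_lit 3, nat_lit 0, nat_lit 1, nat_lit 2, nat_lit 1, nat_lit 0, nat_lit 3, nat_lit 0, nat_lit 1, nat_lit 2]) (.leaf (nat_lit 1190) (nat_lit 2) [nat_lit 1, nat_lit 0, nat_lit 3, nat_lit 0, nat_lit 1, nat_lit 2, nat_lit 1, nat_lit 0, nat_lit 3, nat_lit 0, nat_lit 1, nat_lit 2, nat_lit 1, nat_lit 0, nat_lit 3, nat_lit 0, nat_lit 1])) (.node (nat_lit 1204) (.leaf (nat_lit 1191) (nat_lit 1) [nat_lit 2, nat_lit 1, nat_lit 0, nat_lit 3, nat_lit 0, nat_lit 1, nat_lit 2, nat_lit 1, nat_lit 0, nat_lit 3, nat_lit 0, nat_lit 1, nat_lit 2, nat_lit 1, nat_lit 0, nat_lit 3, nat_lit 0]) (.node (nat_lit 1205) (.leaf (nat_lit 1192) (nat_lit 0) [nat_lit 1, nat_lit 2, nat_lit 1, nat_lit 0, nat_lit 3, nat_lit 0, nat_lit 1, nat_lit 2, nat_lit 1, nat_lit 0, nat_lit 3, nat_lit 0, nat_lit 1, nat_lit 2, nat_lit 1, nat_lit 0, nat_lit 3]) (.leaf (nat_lit 1193) (nat_lit 3) [nat_lit 0, nat_lit 1, nat_lit 2, nat_lit 1, nat_lit 0, nat_lit 3, nat_lit 0, nat_lit 1, nat_lit 2, nat_lit 1, nat_lit 0, nat_lit 3, nat_lit 0, nat_lit 1, nat_lit 2, nat_lit 1, nat_lit 0])))))))))))) (.node (nat_lit 1809) (.node (nat_lit 1507) (.node (nat_lit 1356) (.node (nat_lit 1281) (.node (nat_lit 1243) (.node (nat_lit 1224) (.node (nat_lit 1215) (.node (nat_lit 1210) (.node (nat_lit 1208) (.node (nat_lit 1207) (.leaf (nat_lit 1193) (nat_lit 3) [nat_lit 0, nat_lit 1, nat_lit 2, nat_lit 1, nat_lit 0, nat_lit 3, nat_lit 0, nat_lit 1, nat_lit 2, nat_lit 1, nat_lit 0, nat_lit 3, nat_lit 0, nat_lit 1, nat_lit 2, nat_lit 1, nat_lit 0]) (.leaf (nat_lit 1188) (nat_lit 0) [nat_lit 3, nat_lit 0, nat_lit 1, nat_lit 2, nat_lit 1, nat_lit 0, nat_lit 3, nat_lit 0, nat_lit 1, nat_lit 2, nat_lit 1, nat_lit 0, nat_lit 3, nat_lit 0, nat_lit 1, nat_lit 2, nat_lit 1])) (.node (nat_lit 1209) (.leaf (nat_lit 1189) (nat_lit 1) [nat_lit 0, nat_lit 3, nat_lit 0, nat_lit 1, nat_lit 2, nat_lit 1, nat_lit 0, nat_lit 3, nat_lit 0, nat_lit 1, nat_lit 2, nat_lit 1, nat_lit 0, nat_lit 3, nat_lit 0, nat_lit 1, nat_lit 2]) (.leaf (nat_lit 1190) (nat_lit 2) [nat_lit 1, nat_lit 0, nat_lit 3, nat_lit 0, nat_lit 1, nat_lit 2, nat_lit 1, nat_lit 0, nat_lit 3, nat_lit 0, nat_lit 1, nat_lit 2, nat_lit 1, nat_lit 0, nat_lit 3, nat_lit 0, nat_lit 1]))) (.node (nat_lit 1212) (.node (nat_lit 1211) (.leaf (nat_lit 1191) (nat_lit 1) [nat_lit 2, nat_lit 1, nat_lit 0, nat_lit 3, nat_lit 0, nat_lit 1, nat_lit 2, nat_lit 1, nat_lit 0, nat_lit 3, nat_lit 0, nat_lit 1, nat_lit 2, nat_lit 1, nat_lit 0, nat_lit 3, nat_lit 0]) (.leaf (nat_lit 1192) (nat_lit 0) [nat_lit 1, nat_lit 2, nat_lit 1, nat_lit 0, nat_lit 3, nat_lit 0, nat_lit 1, nat_lit 2, nat_lit 1, nat_lit 0, nat_lit 3, nat_lit 0, nat_lit 1, nat_lit 2, nat_lit 1, nat_lit 0, nat_lit 3])) (.node (nat_lit 1213) (.leaf (nat_lit 1193) (nat_lit 3) [nat_lit 0, nat_lit 1, nat_lit 2, nat_lit 1, nat_lit 0, nat_lit 3, nat_lit 0, nat_lit 1, nat_lit 2, nat_lit 1, nat_lit 0, nat_lit 3, nat_lit 0, nat_lit 1, nat_lit 2, nat_lit 1, nat_lit 0]) (.node (nat_lit 1214) (.leaf (nat_lit 1188) (nat_lit 0) [nat_lit 3, nat_lit 0, nat_lit 1, nat_lit 2, nat_lit 1, nat_lit 0, nat_lit 3, nat_lit 0, nat_lit 1, nat_lit 2, nat_lit 1, nat_lit 0, nat_lit 3, nat_lit 0, nat_lit 1, nat_lit 2, nat_lit 1]) (.leaf (nat_lit 1189) (nat_lit 1) [nat_lit 0, nat_lit 3, nat_lit 0, nat_lit 1, nat_lit 2, nat_lit 1, nat_lit 0, nat_lit 3, nat_lit 0, nat_lit 1, nat_lit 2, nat_lit 1, nat_lit 0, nat_lit 3, nat_lit 0, nat_lit 1, nat_lit 2]))))) (.node (nat_lit 1219) (.node (nat_lit 1217) (.node (nat_lit 1216) (.leaf (nat_lit 1190) (nat_lit 2) [nat_lit 1, nat_lit 0, nat_lit 3, nat_lit 0, nat_lit 1, nat_lit 2, nat_lit 1, nat_lit 0, nat_lit 3, nat_lit 0, nat_lit 1, nat_lit 2, nat_lit 1, nat_lit 0, nat_lit 3, nat_lit 0, nat_lit 1]) (.leaf (nat_lit 1191) (nat_lit 1) [nat_lit 2, nat_lit 1, nat_lit 0, nat_lit 3, nat_lit 0, nat_lit 1, nat_lit 2, nat_lit 1, nat_lit 0, nat_lit 3, nat_lit 0, nat_lit 1, nat_lit 2, nat_lit 1, nat_lit 0, nat_lit 3, nat_lit 0])) (.node (nat_lit 1218) (.leaf (nat_lit 1192) (nat_lit 0) [nat_lit 1, nat_lit 2, nat_lit 1, nat_lit 0, nat_lit 3, nat_lit 0, nat_lit 1, nat_lit 2, nat_lit 1, nat_lit 0, nat_lit 3, nat_lit 0, nat_lit 1, nat_lit 2, nat_lit 1, nat_lit 0, nat_lit 3]) (.leaf (nat_lit 1193) (nat_lit 3) [nat_lit 0, nat_lit 1, nat_lit 2, nat_lit 1, nat_lit 0, nat_lit 3, nat_lit 0, nat_lit 1, nat_lit 2, nat_lit 1, nat_lit 0, nat_lit 3, nat_lit 0, nat_lit 1, nat_lit 2, nat_lit 1, nat_lit 0]))) (.node (nat_lit 1221) (.node (nat_lit 1220) (.leaf (nat_lit 1188) (nat_lit 0) [nat_lit 3, nat_lit 0, nat_lit 1, nat_lit 2, nat_lit 1, nat_lit 0, nat_lit 3, nat_lit 0, nat_lit 1, nat_lit 2, nat_lit 1, nat_lit 0, nat_lit 3, nat_lit 0, nat_lit 1, nat_lit 2, nat_lit 1]) (.leaf (nat_lit 1189) (nat_lit 1) [nat_lit 0, nat_lit 3, nat_lit 0, nat_lit 1, nat_lit 2, nat_lit 1, nat_lit 0, nat_lit 3, nat_lit 0, nat_lit 1, nat_lit 2, nat_lit 1, nat_lit 0, nat_lit 3, nat_lit 0, nat_lit 1, nat_lit 2])) (.node (nat_lit 1222) (.leaf (nat_lit 1190) (nat_lit 2) [nat_lit 1, nat_lit 0, nat_lit 3, nat_lit 0, nat_lit 1, nat_lit 2, nat_lit 1, nat_lit 0, nat_lit 3, nat_lit 0, nat_lit 1, nat_lit 2, nat_lit 1, nat_lit 0, nat_lit 3, nat_lit 0, nat_lit 1]) (.node (nat_lit 1223) (.leaf (nat_lit 1191) (nat_lit 1) [nat_lit 2, nat_lit 1, nat_lit 0, nat_lit 3, nat_lit 0, nat_lit 1, nat_lit 2, nat_lit 1, nat_lit 0, nat_lit 3, nat_lit 0, nat_lit 1, nat_lit 2, nat_lit 1, nat_lit 0, nat_lit 3, nat_lit 0]) (.leaf (nat_lit 1192) (nat_lit 0) [nat_lit 1, nat_lit 2, nat_lit 1, nat_lit 0, nat_lit 3, nat_lit 0, nat_lit 1, nat_lit 2, nat_lit 1, nat_lit 0, nat_lit 3, nat_lit 0, nat_lit 1, nat_lit 2, nat_lit 1, nat_lit 0, nat_lit 3])))))) (.node (nat_lit 1233) (.node (nat_lit 1228) (.node (nat_lit 1226) (.node (nat_lit 1225) (.leaf (nat_lit 1224) (nat_lit 0) [nat_lit 3, nat_lit 0, nat_lit 1, nat_lit 3, nat_lit 1, nat_lit 0, nat_lit 3, nat_lit 0, nat_lit 1, nat_lit 3, nat_lit 1, nat_lit 0, nat_lit 3, nat_lit 0, nat_lit 1, nat_lit 3, nat_lit 1]) (.leaf (nat_lit 1225) (nat_lit 1) [nat_lit 0, nat_lit 3, nat_lit 0, nat_lit 1, nat_lit 3, nat_lit 1, nat_lit 0, nat_lit 3, nat_lit 0, nat_lit 1, nat_lit 3, nat_lit 1, nat_lit 0, nat_lit 3, nat_lit 0, nat_lit 1, nat_lit 3])) (.node (nat_lit 1227) (.leaf (nat_lit 1226) (nat_lit 3) [nat_lit 1, nat_lit 0, nat_lit 3, nat_lit 0, nat_lit 1, nat_lit 3, nat_lit 1, nat_lit 0, nat_lit 3, nat_lit 0, nat_lit 1, nat_lit 3, nat_lit 1, nat_lit 0, nat_lit 3, nat_lit 0, nat_lit 1]) (.leaf (nat_lit 1227) (nat_lit 1) [nat_lit 3, nat_lit 1, nat_lit 0, nat_lit 3, nat_lit 0, nat_lit 1, nat_lit 3, nat_lit 1, nat_lit 0, nat_lit 3, nat_lit 0, nat_lit 1, nat_lit 3, nat_lit 1, nat_lit 0, nat_lit 3, nat_lit 0]))) (.node (nat_lit 1230) (.node (nat_lit 1229) (.leaf (nat_lit 1228) (nat_lit 0) [nat_lit 1, nat_lit 3, nat_lit 1, nat_lit 0, nat_lit 3, nat_lit 0, nat_lit 1, nat_lit 3, nat_lit 1, nat_lit 0, nat_lit 3, nat_lit 0, nat_lit 1, nat_lit 3, nat_lit 1, nat_lit 0, nat_lit 3]) (.leaf (nat_lit 1229) (nat_lit 3) [nat_lit 0, nat_lit 1, nat_lit 3, nat_lit 1, nat_lit 0, nat_lit 3, nat_lit 0, nat_lit 1, nat_lit 3, nat_lit 1, nat_lit 0, nat_lit 3, nat_lit 0, nat_lit 1, nat_lit 3, nat_lit 1, nat_lit 0])) (.node (nat_lit 1231) (.leaf (nat_lit 1224) (nat_lit 0) [nat_lit 3, nat_lit 0, nat_lit 1, nat_lit 3, nat_lit 1, nat_lit 0, nat_lit 3, nat_lit 0, nat_lit 1, nat_lit 3, nat_lit 1, nat_lit 0, nat_lit 3, nat_lit 0, nat_lit 1, nat_lit 3, nat_lit 1]) (.node (nat_lit 1232) (.leaf (nat_lit 1225) (nat_lit 1) [nat_lit 0, nat_lit 3, nat_lit 0, nat_lit 1, nat_lit 3, nat_lit 1, nat_lit 0, nat_lit 3, nat_lit 0, nat_lit 1, nat_lit 3, nat_lit 1, nat_lit 0, nat_lit 3, nat_lit 0, nat_lit 1, nat_lit 3]) (.leaf (nat_lit 1226) (nat_lit 3) [nat_lit 1, nat_lit 0, nat_lit 3, nat_lit 0, nat_lit 1, nat_lit 3, nat_lit 1, nat_lit 0, nat_lit 3, nat_lit 0, nat_lit 1, nat_lit 3, nat_lit 1, nat_lit 0, nat_lit 3, nat_lit 0, nat_lit 1]))))) (.node (nat_lit 1238) (.node (nat_lit 1235) (.node (nat_lit 1234) (.leaf (nat_lit 1227) (nat_lit 1) [nat_lit 3, nat_lit 1, nat_lit 0, nat_lit 3, nat_lit 0, nat_lit 1, nat_lit 3, nat_lit 1, nat_lit 0, nat_lit 3, nat_lit 0, nat_lit 1, nat_lit 3, nat_lit 1, nat_lit 0, nat_lit 3, nat_lit 0]) (.leaf (nat_lit 1228) (nat_lit 0) [nat_lit 1, nat_lit 3, nat_lit 1, nat_lit 0, nat_lit 3, nat_lit 0, nat_lit 1, nat_lit 3, nat_lit 1, nat_lit 0, nat_lit 3, nat_lit 0, nat_lit 1, nat_lit 3, nat_lit 1, nat_lit 0, nat_lit 3])) (.node (nat_lit 1236) (.leaf (nat_lit 1229) (nat_lit 3) [nat_lit 0, nat_lit 1, nat_lit 3, nat_lit 1, nat_lit 0, nat_lit 3, nat_lit 0, nat_lit 1, nat_lit 3, nat_lit 1, nat_lit 0, nat_lit 3, nat_lit 0, nat_lit 1, nat_lit 3, nat_lit 1, nat_lit 0]) (.node (nat_lit 1237) (.leaf (nat_lit 1224) (nat_lit 0) [nat_lit 3, nat_lit 0, nat_lit 1, nat_lit 3, nat_lit 1, nat_lit 0, nat_lit 3, nat_lit 0, nat_lit 1, nat_lit 3, nat_lit 1, nat_lit 0, nat_lit 3, nat_lit 0, nat_lit 1, nat_lit 3, nat_lit 1]) (.leaf (nat_lit 1225) (nat_lit 1) [nat_lit 0, nat_lit 3, nat_lit 0, nat_lit 1, nat_lit 3, nat_lit 1, nat_lit 0, nat_lit 3, nat_lit 0, nat_lit 1, nat_lit 3, nat_lit 1, nat_lit 0, nat_lit 3, nat_lit 0, nat_lit 1, nat_lit 3])))) (.node (nat_lit 1240) (.node (nat_lit 1239) (.leaf (nat_lit 1226) (nat_lit 3) [nat_lit 1, nat_lit 0, nat_lit 3, nat_lit 0, nat_lit 1, nat_lit 3, nat_lit 1, nat_lit 0, nat_lit 3, nat_lit 0, nat_lit 1, nat_lit 3, nat_lit 1, nat_lit 0, nat_lit 3, nat_lit 0, nat_lit 1]) (.leaf (nat_lit 1227) (nat_lit 1) [nat_lit 3, nat_lit 1, nat_lit 0, nat_lit 3, nat_lit 0, nat_lit 1, nat_lit 3, nat_lit 1, nat_lit 0, nat_lit 3, nat_lit 0, nat_lit 1, nat_lit 3, nat_lit 1, nat_lit 0, nat_lit 3, nat_lit 0])) (.node (nat_lit 1241) (.leaf (nat_lit 1228) (nat_lit 0) [nat_lit 1, nat_lit 3, nat_lit 1, nat_lit 0, nat_lit 3, nat_lit 0, nat_lit 1, nat_lit 3, nat_lit 1, nat_lit 0, nat_lit 3, nat_lit 0, nat_lit 1, nat_lit 3, nat_lit 1, nat_lit 0, nat_lit 3]) (.node (nat_lit 1242) (.leaf (nat_lit 1229) (nat_lit 3) [nat_lit 0, nat_lit 1, nat_lit 3, nat_lit 1, nat_lit 0, nat_lit 3, nat_lit 0, nat_lit 1, nat_lit 3, nat_lit 1, nat_lit 0, nat_lit 3, nat_lit 0, nat_lit 1, nat_lit 3, nat_lit 1, nat_lit 0]) (.leaf (nat_lit 1229) (nat_lit 3) [nat_lit 0, nat_lit 1, nat_lit 3, nat_lit 1, nat_lit 0, nat_lit 3, nat_lit 0, nat_lit 1, nat_lit 3, nat_lit 1, nat_lit 0, nat_lit 3, nat_lit 0, nat_lit 1, nat_lit 3, nat_lit 1, nat_lit 0]))))))) (.node (nat_lit 1262) (.node (nat_lit 1252) (.node (nat_lit 1247) (.node (nat_lit 1245) (.node (nat_lit 1244) (.leaf (nat_lit 1224) (nat_lit 0) [nat_lit 3, nat_lit 0, nat_lit 1, nat_lit 3, nat_lit 1, nat_lit 0, nat_lit 3, nat_lit 0, nat_lit 1, nat_lit 3, nat_lit 1, nat_lit 0, nat_lit 3, nat_lit 0, nat_lit 1, nat_lit 3, nat_lit 1]) (.leaf (nat_lit 1225) (nat_lit 1) [nat_lit 0, nat_lit 3, nat_lit 0, nat_lit 1, nat_lit 3, nat_lit 1, nat_lit 0, nat_lit 3, nat_lit 0, nat_lit 1, nat_lit 3, nat_lit 1, nat_lit 0, nat_lit 3, nat_lit 0, nat_lit 1, nat_lit 3])) (.node (nat_lit 1246) (.leaf (nat_lit 1226) (nat_lit 3) [nat_lit 1, nat_lit 0, nat_lit 3, nat_lit 0, nat_lit 1, nat_lit 3, nat_lit 1, nat_lit 0, nat_lit 3, nat_lit 0, nat_lit 1, nat_lit 3, nat_lit 1, nat_lit 0, nat_lit 3, nat_lit 0, nat_lit 1]) (.leaf (nat_lit 1227) (nat_lit 1) [nat_lit 3, nat_lit 1, nat_lit 0, nat_lit 3, nat_lit 0, nat_lit 1, nat_lit 3, nat_lit 1, nat_lit 0, nat_lit 3, nat_lit 0, nat_lit 1, nat_lit 3, nat_lit 1, nat_lit 0, nat_lit 3, nat_lit 0]))) (.node (nat_lit 1249) (.node (nat_lit 1248) (.leaf (nat_lit 1228) (nat_lit 0) [nat_lit 1, nat_lit 3, nat_lit 1, nat_lit 0, nat_lit 3, nat_lit 0, nat_lit 1, nat_lit 3, nat_lit 1, nat_lit 0, nat_lit 3, nat_lit 0, nat_lit 1, nat_lit 3, nat_lit 1, nat_lit 0, nat_lit 3]) (.leaf (nat_lit 1229) (nat_lit 3) [nat_lit 0, nat_lit 1, nat_lit 3, nat_lit 1, nat_lit 0, nat_lit 3, nat_lit 0, nat_lit 1, nat_lit 3, nat_lit 1, nat_lit 0, nat_lit 3, nat_lit 0, nat_lit 1, nat_lit 3, nat_lit 1, nat_lit 0])) (.node (nat_lit 1250) (.leaf (nat_lit 1224) (nat_lit 0) [nat_lit 3, nat_lit 0, nat_lit 1, nat_lit 3, nat_lit 1, nat_lit 0, nat_lit 3, nat_lit 0, nat_lit 1, nat_lit 3, nat_lit 1, nat_lit 0, nat_lit 3, nat_lit 0, nat_lit 1, nat_lit 3, nat_lit 1]) (.node (nat_lit 1251) (.leaf (nat_lit 1225) (nat_lit 1) [nat_lit 0, nat_lit 3, nat_lit 0, nat_lit 1, nat_lit 3, nat_lit 1, nat_lit 0, nat_lit 3, nat_lit 0, nat_lit 1, nat_lit 3, nat_lit 1, nat_lit 0, nat_lit 3, nat_lit 0, nat_lit 1, nat_lit 3]) (.leaf (nat_lit 1226) (nat_lit 3) [nat_lit 1, nat_lit 0, nat_lit 3, nat_lit 0, nat_lit 1, nat_lit 3, nat_lit 1, nat_lit 0, nat_lit 3, nat_lit 0, nat_lit 1, nat_lit 3, nat_lit 1, nat_lit 0, nat_lit 3, nat_lit 0, nat_lit 1]))))) (.node (nat_lit 1257) (.node (nat_lit 1254) (.node (nat_lit 1253) (.leaf (nat_lit 1227) (nat_lit 1) [nat_lit 3, nat_lit 1, nat_lit 0, nat_lit 3, nat_lit 0, nat_lit 1, nat_lit 3, nat_lit 1, nat_lit 0, nat_lit 3, nat_lit 0, nat_lit 1, nat_lit 3, nat_lit 1, nat_lit 0, nat_lit 3, nat_lit 0]) (.leaf (nat_lit 1228) (nat_lit 0) [nat_lit 1, nat_lit 3, nat_lit 1, nat_lit 0, nat_lit 3, nat_lit 0, nat_lit 1, nat_lit 3, nat_lit 1, nat_lit 0, nat_lit 3, nat_lit 0, nat_lit 1, nat_lit 3, nat_lit 1, nat_lit 0, nat_lit 3])) (.node (nat_lit 1255) (.leaf (nat_lit 1229) (nat_lit 3) [nat_lit 0, nat_lit 1, nat_lit 3, nat_lit 1, nat_lit 0, nat_lit 3, nat_lit 0, nat_lit 1, nat_lit 3, nat_lit 1, nat_lit 0, nat_lit 3, nat_lit 0, nat_lit 1, nat_lit 3, nat_lit 1, nat_lit 0]) (.node (nat_lit 1256) (.leaf (nat_lit 1224) (nat_lit 0) [nat_lit 3, nat_lit 0, nat_lit 1, nat_lit 3, nat_lit 1, nat_lit 0, nat_lit 3, nat_lit 0, nat_lit 1, nat_lit 3, nat_lit 1, nat_lit 0, nat_lit 3, nat_lit 0, nat_lit 1, nat_lit 3, nat_lit 1]) (.leaf (nat_lit 1225) (nat_lit 1) [nat_lit 0, nat_lit 3, nat_lit 0, nat_lit 1, nat_lit 3, nat_lit 1, nat_lit 0, nat_lit 3, nat_lit 0, nat_lit 1, nat_lit 3, nat_lit 1, nat_lit 0, nat_lit 3, nat_lit 0, nat_lit 1, nat_lit 3])))) (.node (nat_lit 1259) (.node (nat_lit 1258) (.leaf (nat_lit 1226) (nat_lit 3) [nat_lit 1, nat_lit 0, nat_lit 3, nat_lit 0, nat_lit 1, nat_lit 3, nat_lit 1, nat_lit 0, nat_lit 3, nat_lit 0, nat_lit 1, nat_lit 3, nat_lit 1, nat_lit 0, nat_lit 3, nat_lit 0, nat_lit 1]) (.leaf (nat_lit 1227) (nat_lit 1) [nat_lit 3, nat_lit 1, nat_lit 0, nat_lit 3, nat_lit 0, nat_lit 1, nat_lit 3, nat_lit 1, nat_lit 0, nat_lit 3, nat_lit 0, nat_lit 1, nat_lit 3, nat_lit 1, nat_lit 0, nat_lit 3, nat_lit 0])) (.node (nat_lit 1260) (.leaf (nat_lit 1228) (nat_lit 0) [nat_lit 1, nat_lit 3, nat_lit 1, nat_lit 0, nat_lit 3, nat_lit 0, nat_lit 1, nat_lit 3, nat_lit 1, nat_lit 0, nat_lit 3, nat_lit 0, nat_lit 1, nat_lit 3, nat_lit 1, nat_lit 0, nat_lit 3]) (.node (nat_lit 1261) (.leaf (nat_lit 1260) (nat_lit 0) [nat_lit 1, nat_lit 0, nat_lit 2, nat_lit 0, nat_lit 2, nat_lit 0, nat_lit 1, nat_lit 0, nat_lit 2, nat_lit 0, nat_lit 2, nat_lit 0, nat_lit 1, nat_lit 0, nat_lit 2, nat_lit 0, nat_lit 2]) (.leaf (nat_lit 1261) (nat_lit 2) [nat_lit 0, nat_lit 1, nat_lit 0, nat_lit 2, nat_lit 0, nat_lit 2, nat_lit 0, nat_lit 1, nat_lit 0, nat_lit 2, nat_lit 0, nat_lit 2, nat_lit 0, nat_lit 1, nat_lit 0, nat_lit 2, nat_lit 0])))))) (.node (nat_lit 1271) (.node (nat_lit 1266) (.node (nat_lit 1264) (.node (nat_lit 1263) (.leaf (nat_lit 1262) (nat_lit 0) [nat_lit 2, nat_lit 0, nat_lit 1, nat_lit 0, nat_lit 2, nat_lit 0, nat_lit 2, nat_lit 0, nat_lit 1, nat_lit 0, nat_lit 2, nat_lit 0, nat_lit 2, nat_lit 0, nat_lit 1, nat_lit 0, nat_lit 2]) (.leaf (nat_lit 1263) (nat_lit 2) [nat_lit 0, nat_lit 2, nat_lit 0, nat_lit 1, nat_lit 0, nat_lit 2, nat_lit 0, nat_lit 2, nat_lit 0, nat_lit 1, nat_lit 0, nat_lit 2, nat_lit 0, nat_lit 2, nat_lit 0, nat_lit 1, nat_lit 0])) (.node (nat_lit 1265) (.leaf (nat_lit 1264) (nat_lit 0) [nat_lit 2, nat_lit 0, nat_lit 2, nat_lit 0, nat_lit 1, nat_lit 0, nat_lit 2, nat_lit 0, nat_lit 2, nat_lit 0, nat_lit 1, nat_lit 0, nat_lit 2, nat_lit 0, nat_lit 2, nat_lit 0, nat_lit 1]) (.leaf (nat_lit 1265) (nat_lit 1) [nat_lit 0, nat_lit 2, nat_lit 0, nat_lit 2, nat_lit 0, nat_lit 1, nat_lit 0, nat_lit 2, nat_lit 0, nat_lit 2, nat_lit 0, nat_lit 1, nat_lit 0, nat_lit 2, nat_lit 0, nat_lit 2, nat_lit 0]))) (.node (nat_lit 1268) (.node (nat_lit 1267) (.leaf (nat_lit 1260) (nat_lit 0) [nat_lit 1, nat_lit 0, nat_lit 2, nat_lit 0, nat_lit 2, nat_lit 0, nat_lit 1, nat_lit 0, nat_lit 2, nat_lit 0, nat_lit 2, nat_lit 0, nat_lit 1, nat_lit 0, nat_lit 2, nat_lit 0, nat_lit 2]) (.leaf (nat_lit 1261) (nat_lit 2) [nat_lit 0, nat_lit 1, nat_lit 0, nat_lit 2, nat_lit 0, nat_lit 2, nat_lit 0, nat_lit 1, nat_lit 0, nat_lit 2, nat_lit 0, nat_lit 2, nat_lit 0, nat_lit 1, nat_lit 0, nat_lit 2, nat_lit 0])) (.node (nat_lit 1269) (.leaf (nat_lit 1262) (nat_lit 0) [nat_lit 2, nat_lit 0, nat_lit 1, nat_lit 0, nat_lit 2, nat_lit 0, nat_lit 2, nat_lit 0, nat_lit 1, nat_lit 0, nat_lit 2, nat_lit 0, nat_lit 2, nat_lit 0, nat_lit 1, nat_lit 0, nat_lit 2]) (.node (nat_lit 1270) (.leaf (nat_lit 1263) (nat_lit 2) [nat_lit 0, nat_lit 2, nat_lit 0, nat_lit 1, nat_lit 0, nat_lit 2, nat_lit 0, nat_lit 2, nat_lit 0, nat_lit 1, nat_lit 0, nat_lit 2, nat_lit 0, nat_lit 2, nat_lit 0, nat_lit 1, nat_lit 0]) (.leaf (nat_lit 1264) (nat_lit 0) [nat_lit 2, nat_lit 0, nat_lit 2, nat_lit 0, nat_lit 1, nat_lit 0, nat_lit 2, nat_lit 0, nat_lit 2, nat_lit 0, nat_lit 1, nat_lit 0, nat_lit 2, nat_lit 0, nat_lit 2, nat_lit 0, nat_lit 1]))))) (.node (nat_lit 1276) (.node (nat_lit 1273) (.node (nat_lit 1272) (.leaf (nat_lit 1265) (nat_lit 1) [nat_lit 0, nat_lit 2, nat_lit 0, nat_lit 2, nat_lit 0, nat_lit 1, nat_lit 0, nat_lit 2, nat_lit 0, nat_lit 2, nat_lit 0, nat_lit 1, nat_lit 0, nat_lit 2, nat_lit 0, nat_lit 2, nat_lit 0]) (.leaf (nat_lit 1260) (nat_lit 0) [nat_lit 1, nat_lit 0, nat_lit 2, nat_lit 0, nat_lit 2, nat_lit 0, nat_lit 1, nat_lit 0, nat_lit 2, nat_lit 0, nat_lit 2, nat_lit 0, nat_lit 1, nat_lit 0, nat_lit 2, nat_lit 0, nat_lit 2])) (.node (nat_lit 1274) (.leaf (nat_lit 1261) (nat_lit 2) [nat_lit 0, nat_lit 1, nat_lit 0, nat_lit 2, nat_lit 0, nat_lit 2, nat_lit 0, nat_lit 1, nat_lit 0, nat_lit 2, nat_lit 0, nat_lit 2, nat_lit 0, nat_lit 1, nat_lit 0, nat_lit 2, nat_lit 0]) (.node (nat_lit 1275) (.leaf (nat_lit 1262) (nat_lit 0) [nat_lit 2, nat_lit 0, nat_lit 1, nat_lit 0, nat_lit 2, nat_lit 0, nat_lit 2, nat_lit 0, nat_lit 1, nat_lit 0, nat_lit 2, nat_lit 0, nat_lit 2, nat_lit 0, nat_lit 1, nat_lit 0, nat_lit 2]) (.leaf (nat_lit 1263) (nat_lit 2) [nat_lit 0, nat_lit 2, nat_lit 0, nat_lit 1, nat_lit 0, nat_lit 2, nat_lit 0, nat_lit 2, nat_lit 0, nat_lit 1, nat_lit 0, nat_lit 2, nat_lit 0, nat_lit 2, nat_lit 0, nat_lit 1, nat_lit 0])))) (.node (nat_lit 1278) (.node (nat_lit 1277) (.leaf (nat_lit 1264) (nat_lit 0) [nat_lit 2, nat_lit 0, nat_lit 2, nat_lit 0, nat_lit 1, nat_lit 0, nat_lit 2, nat_lit 0, nat_lit 2, nat_lit 0, nat_lit 1, nat_lit 0, nat_lit 2, nat_lit 0, nat_lit 2, nat_lit 0, nat_lit 1]) (.leaf (nat_lit 1265) (nat_lit 1) [nat_lit 0, nat_lit 2, nat_lit 0, nat_lit 2, nat_lit 0, nat_lit 1, nat_lit 0, nat_lit 2, nat_lit 0, nat_lit 2, nat_lit 0, nat_lit 1, nat_lit 0, nat_lit 2, nat_lit 0, nat_lit 2, nat_lit 0])) (.node (nat_lit 1279) (.leaf (nat_lit 1265) (nat_lit 1) [nat_lit 0, nat_lit 2, nat_lit 0, nat_lit 2, nat_lit 0, nat_lit 1, nat_lit 0, nat_lit 2, nat_lit 0, nat_lit 2, nat_lit 0, nat_lit 1, nat_lit 0, nat_lit 2, nat_lit 0, nat_lit 2, nat_lit 0]) (.node (nat_lit 1280) (.leaf (nat_lit 1260) (nat_lit 0) [nat_lit 1, nat_lit 0, nat_lit 2, nat_lit 0, nat_lit 2, nat_lit 0, nat_lit 1, nat_lit 0, nat_lit 2, nat_lit 0, nat_lit 2, nat_lit 0, nat_lit 1, nat_lit 0, nat_lit 2, nat_lit 0, nat_lit 2]) (.leaf (nat_lit 1261) (nat_lit 2) [nat_lit 0, nat_lit 1, nat_lit 0, nat_lit 2, nat_lit 0, nat_lit 2, nat_lit 0, nat_lit 1, nat_lit 0, nat_lit 2, nat_lit 0, nat_lit 2, nat_lit 0, nat_lit 1, nat_lit 0, nat_lit 2, nat_lit 0])))))))) (.node (nat_lit 1318) (.node (nat_lit 1299) (.node (nat_lit 1290) (.node (nat_lit 1285) (.node (nat_lit 1283) (.node (nat_lit 1282) (.leaf (nat_lit 1262) (nat_lit 0) [nat_lit 2, nat_lit 0, nat_lit 1, nat_lit 0, nat_lit 2, nat_lit 0, nat_lit 2, nat_lit 0, nat_lit 1, nat_lit 0, nat_lit 2, nat_lit 0, nat_lit 2, nat_lit 0, nat_lit 1, nat_lit 0, nat_lit 2]) (.leaf (nat_lit 1263) (nat_lit 2) [nat_lit 0, nat_lit 2, nat_lit 0, nat_lit 1, nat_lit 0, nat_lit 2, nat_lit 0, nat_lit 2, nat_lit 0, nat_lit 1, nat_lit 0, nat_lit 2, nat_lit 0, nat_lit 2, nat_lit 0, nat_lit 1, nat_lit 0])) (.node (nat_lit 1284) (.leaf (nat_lit 1264) (nat_lit 0) [nat_lit 2, nat_lit 0, nat_lit 2, nat_lit 0, nat_lit 1, nat_lit 0, nat_lit 2, nat_lit 0, nat_lit 2, nat_lit 0, nat_lit 1, nat_lit 0, nat_lit 2, nat_lit 0, nat_lit 2, nat_lit 0, nat_lit 1]) (.leaf (nat_lit 1265) (nat_lit 1) [nat_lit 0, nat_lit 2, nat_lit 0, nat_lit 2, nat_lit 0, nat_lit 1, nat_lit 0, nat_lit 2, nat_lit 0, nat_lit 2, nat_lit 0, nat_lit 1, nat_lit 0, nat_lit 2, nat_lit 0, nat_lit 2, nat_lit 0]))) (.node (nat_lit 1287) (.node (nat_lit 1286) (.leaf (nat_lit 1260) (nat_lit 0) [nat_lit 1, nat_lit 0, nat_lit 2, nat_lit 0, nat_lit 2, nat_lit 0, nat_lit 1, nat_lit 0, nat_lit 2, nat_lit 0, nat_lit 2, nat_lit 0, nat_lit 1, nat_lit 0, nat_lit 2, nat_lit 0, nat_lit 2]) (.leaf (nat_lit 1261) (nat_lit 2) [nat_lit 0, nat_lit 1, nat_lit 0, nat_lit 2, nat_lit 0, nat_lit 2, nat_lit 0, nat_lit 1, nat_lit 0, nat_lit 2, nat_lit 0, nat_lit 2, nat_lit 0, nat_lit 1, nat_lit 0, nat_lit 2, nat_lit 0])) (.node (nat_lit 1288) (.leaf (nat_lit 1262) (nat_lit 0) [nat_lit 2, nat_lit 0, nat_lit 1, nat_lit 0, nat_lit 2, nat_lit 0, nat_lit 2, nat_lit 0, nat_lit 1, nat_lit 0, nat_lit 2, nat_lit 0, nat_lit 2, nat_lit 0, nat_lit 1, nat_lit 0, nat_lit 2]) (.node (nat_lit 1289) (.leaf (nat_lit 1263) (nat_lit 2) [nat_lit 0, nat_lit 2, nat_lit 0, nat_lit 1, nat_lit 0, nat_lit 2, nat_lit 0, nat_lit 2, nat_lit 0, nat_lit 1, nat_lit 0, nat_lit 2, nat_lit 0, nat_lit 2, nat_lit 0, nat_lit 1, nat_lit 0]) (.leaf (nat_lit 1264) (nat_lit 0) [nat_lit 2, nat_lit 0, nat_lit 2, nat_lit 0, nat_lit 1, nat_lit 0, nat_lit 2, nat_lit 0, nat_lit 2, nat_lit 0, nat_lit 1, nat_lit 0, nat_lit 2, nat_lit 0, nat_lit 2, nat_lit 0, nat_lit 1]))))) (.node (nat_lit 1294) (.node (nat_lit 1292) (.node (nat_lit 1291) (.leaf (nat_lit 1265) (nat_lit 1) [nat_lit 0, nat_lit 2, nat_lit 0, nat_lit 2, nat_lit 0, nat_lit 1, nat_lit 0, nat_lit 2, nat_lit 0, nat_lit 2, nat_lit 0, nat_lit 1, nat_lit 0, nat_lit 2, nat_lit 0, nat_lit 2, nat_lit 0]) (.leaf (nat_lit 1260) (nat_lit 0) [nat_lit 1, nat_lit 0, nat_lit 2, nat_lit 0, nat_lit 2, nat_lit 0, nat_lit 1, nat_lit 0, nat_lit 2, nat_lit 0, nat_lit 2, nat_lit 0, nat_lit 1, nat_lit 0, nat_lit 2, nat_lit 0, nat_lit 2])) (.node (nat_lit 1293) (.leaf (nat_lit 1261) (nat_lit 2) [nat_lit 0, nat_lit 1, nat_lit 0, nat_lit 2, nat_lit 0, nat_lit 2, nat_lit 0, nat_lit 1, nat_lit 0, nat_lit 2, nat_lit 0, nat_lit 2, nat_lit 0, nat_lit 1, nat_lit 0, nat_lit 2, nat_lit 0]) (.leaf (nat_lit 1262) (nat_lit 0) [nat_lit 2, nat_lit 0, nat_lit 1, nat_lit 0, nat_lit 2, nat_lit 0, nat_lit 2, nat_lit 0, nat_lit 1, nat_lit 0, nat_lit 2, nat_lit 0, nat_lit 2, nat_lit 0, nat_lit 1, nat_lit 0, nat_lit 2]))) (.node (nat_lit 1296) (.node (nat_lit 1295) (.leaf (nat_lit 1263) (nat_lit 2) [nat_lit 0, nat_lit 2, nat_lit 0, nat_lit 1, nat_lit 0, nat_lit 2, nat_lit 0, nat_lit 2, nat_lit 0, nat_lit 1, nat_lit 0, nat_lit 2, nat_lit 0, nat_lit 2, nat_lit 0, nat_lit 1, nat_lit 0]) (.leaf (nat_lit 1264) (nat_lit 0) [nat_lit 2, nat_lit 0, nat_lit 2, nat_lit 0, nat_lit 1, nat_lit 0, nat_lit 2, nat_lit 0, nat_lit 2, nat_lit 0, nat_lit 1, nat_lit 0, nat_lit 2, nat_lit 0, nat_lit 2, nat_lit 0, nat_lit 1])) (.node (nat_lit 1297) (.leaf (nat_lit 1296) (nat_lit 0) [nat_lit 1, nat_lit 0, nat_lit 2, nat_lit 1, nat_lit 2, nat_lit 0, nat_lit 1, nat_lit 0, nat_lit 2, nat_lit 1, nat_lit 2, nat_lit 0, nat_lit 1, nat_lit 0, nat_lit 2, nat_lit 1, nat_lit 2]) (.node (nat_lit 1298) (.leaf (nat_lit 1297) (nat_lit 2) [nat_lit 0, nat_lit 1, nat_lit 0, nat_lit 2, nat_lit 1, nat_lit 2, nat_lit 0, nat_lit 1, nat_lit 0, nat_lit 2, nat_lit 1, nat_lit 2, nat_lit 0, nat_lit 1, nat_lit 0, nat_lit 2, nat_lit 1]) (.leaf (nat_lit 1298) (nat_lit 1) [nat_lit 2, nat_lit 0, nat_lit 1, nat_lit 0, nat_lit 2, nat_lit 1, nat_lit 2, nat_lit 0, nat_lit 1, nat_lit 0, nat_lit 2, nat_lit 1, nat_lit 2, nat_lit 0, nat_lit 1, nat_lit 0, nat_lit 2])))))) (.node (nat_lit 1308) (.node (nat_lit 1303) (.node (nat_lit 1301) (.node (nat_lit 1300) (.leaf (nat_lit 1299) (nat_lit 2) [nat_lit 1, nat_lit 2, nat_lit 0, nat_lit 1, nat_lit 0, nat_lit 2, nat_lit 1, nat_lit 2, nat_lit 0, nat_lit 1, nat_lit 0, nat_lit 2, nat_lit 1, nat_lit 2, nat_lit 0, nat_lit 1, nat_lit 0]) (.leaf (nat_lit 1300) (nat_lit 0) [nat_lit 2, nat_lit 1, nat_lit 2, nat_lit 0, nat_lit 1, nat_lit 0, nat_lit 2, nat_lit 1, nat_lit 2, nat_lit 0, nat_lit 1, nat_lit 0, nat_lit 2, nat_lit 1, nat_lit 2, nat_lit 0, nat_lit 1])) (.node (nat_lit 1302) (.leaf (nat_lit 1301) (nat_lit 1) [nat_lit 0, nat_lit 2, nat_lit 1, nat_lit 2, nat_lit 0, nat_lit 1, nat_lit 0, nat_lit 2, nat_lit 1, nat_lit 2, nat_lit 0, nat_lit 1, nat_lit 0, nat_lit 2, nat_lit 1, nat_lit 2, nat_lit 0]) (.leaf (nat_lit 1296) (nat_lit 0) [nat_lit 1, nat_lit 0, nat_lit 2, nat_lit 1, nat_lit 2, nat_lit 0, nat_lit 1, nat_lit 0, nat_lit 2, nat_lit 1, nat_lit 2, nat_lit 0, nat_lit 1, nat_lit 0, nat_lit 2, nat_lit 1, nat_lit 2]))) (.node (nat_lit 1305) (.node (nat_lit 1304) (.leaf (nat_lit 1297) (nat_lit 2) [nat_lit 0, nat_lit 1, nat_lit 0, nat_lit 2, nat_lit 1, nat_lit 2, nat_lit 0, nat_lit 1, nat_lit 0, nat_lit 2, nat_lit 1, nat_lit 2, nat_lit 0, nat_lit 1, nat_lit 0, nat_lit 2, nat_lit 1]) (.leaf (nat_lit 1298) (nat_lit 1) [nat_lit 2, nat_lit 0, nat_lit 1, nat_lit 0, nat_lit 2, nat_lit 1, nat_lit 2, nat_lit 0, nat_lit 1, nat_lit 0, nat_lit 2, nat_lit 1, nat_lit 2, nat_lit 0, nat_lit 1, nat_lit 0, nat_lit 2])) (.node (nat_lit 1306) (.leaf (nat_lit 1299) (nat_lit 2) [nat_lit 1, nat_lit 2, nat_lit 0, nat_lit 1, nat_lit 0, nat_lit 2, nat_lit 1, nat_lit 2, nat_lit 0, nat_lit 1, nat_lit 0, nat_lit 2, nat_lit 1, nat_lit 2, nat_lit 0, nat_lit 1, nat_lit 0]) (.node (nat_lit 1307) (.leaf (nat_lit 1300) (nat_lit 0) [nat_lit 2, nat_lit 1, nat_lit 2, nat_lit 0, nat_lit 1, nat_lit 0, nat_lit 2, nat_lit 1, nat_lit 2, nat_lit 0, nat_lit 1, nat_lit 0, nat_lit 2, nat_lit 1, nat_lit 2, nat_lit 0, nat_lit 1]) (.leaf (nat_lit 1301) (nat_lit 1) [nat_lit 0, nat_lit 2, nat_lit 1, nat_lit 2, nat_lit 0, nat_lit 1, nat_lit 0, nat_lit 2, nat_lit 1, nat_lit 2, nat_lit 0, nat_lit 1, nat_lit 0, nat_lit 2, nat_lit 1, nat_lit 2, nat_lit 0]))))) (.node (nat_lit 1313) (.node (nat_lit 1310) (.node (nat_lit 1309) (.leaf (nat_lit 1296) (nat_lit 0) [nat_lit 1, nat_lit 0, nat_lit 2, nat_lit 1, nat_lit 2, nat_lit 0, nat_lit 1, nat_lit 0, nat_lit 2, nat_lit 1, nat_lit 2, nat_lit 0, nat_lit 1, nat_lit 0, nat_lit 2, nat_lit 1, nat_lit 2]) (.leaf (nat_lit 1297) (nat_lit 2) [nat_lit 0, nat_lit 1, nat_lit 0, nat_lit 2, nat_lit 1, nat_lit 2, nat_lit 0, nat_lit 1, nat_lit 0, nat_lit 2, nat_lit 1, nat_lit 2, nat_lit 0, nat_lit 1, nat_lit 0, nat_lit 2, nat_lit 1])) (.node (nat_lit 1311) (.leaf (nat_lit 1298) (nat_lit 1) [nat_lit 2, nat_lit 0, nat_lit 1, nat_lit 0, nat_lit 2, nat_lit 1, nat_lit 2, nat_lit 0, nat_lit 1, nat_lit 0, nat_lit 2, nat_lit 1, nat_lit 2, nat_lit 0, nat_lit 1, nat_lit 0, nat_lit 2]) (.node (nat_lit 1312) (.leaf (nat_lit 1299) (nat_lit 2) [nat_lit 1, nat_lit 2, nat_lit 0, nat_lit 1, nat_lit 0, nat_lit 2, nat_lit 1, nat_lit 2, nat_lit 0, nat_lit 1, nat_lit 0, nat_lit 2, nat_lit 1, nat_lit 2, nat_lit 0, nat_lit 1, nat_lit 0]) (.leaf (nat_lit 1300) (nat_lit 0) [nat_lit 2, nat_lit 1, nat_lit 2, nat_lit 0, nat_lit 1, nat_lit 0, nat_lit 2, nat_lit 1, nat_lit 2, nat_lit 0, nat_lit 1, nat_lit 0, nat_lit 2, nat_lit 1, nat_lit 2, nat_lit 0, nat_lit 1])))) (.node (nat_lit 1315) (.node (nat_lit 1314) (.leaf (nat_lit 1301) (nat_lit 1) [nat_lit 0, nat_lit 2, nat_lit 1, nat_lit 2, nat_lit 0, nat_lit 1, nat_lit 0, nat_lit 2, nat_lit 1, nat_lit 2, nat_lit 0, nat_lit 1, nat_lit 0, nat_lit 2, nat_lit 1, nat_lit 2, nat_lit 0]) (.leaf (nat_lit 1301) (nat_lit 1) [nat_lit 0, nat_lit 2, nat_lit 1, nat_lit 2, nat_lit 0, nat_lit 1, nat_lit 0, nat_lit 2, nat_lit 1, nat_lit 2, nat_lit 0, nat_lit 1, nat_lit 0, nat_lit 2, nat_lit 1, nat_lit 2, nat_lit 0])) (.node (nat_lit 1316) (.leaf (nat_lit 1296) (nat_lit 0) [nat_lit 1, nat_lit 0, nat_lit 2, nat_lit 1, nat_lit 2, nat_lit 0, nat_lit 1, nat_lit 0, nat_lit 2, nat_lit 1, nat_lit 2, nat_lit 0, nat_lit 1, nat_lit 0, nat_lit 2, nat_lit 1, nat_lit 2]) (.node (nat_lit 1317) (.leaf (nat_lit 1297) (nat_lit 2) [nat_lit 0, nat_lit 1, nat_lit 0, nat_lit 2, nat_lit 1, nat_lit 2, nat_lit 0, nat_lit 1, nat_lit 0, nat_lit 2, nat_lit 1, nat_lit 2, nat_lit 0, nat_lit 1, nat_lit 0, nat_lit 2, nat_lit 1]) (.leaf (nat_lit 1298) (nat_lit 1) [nat_lit 2, nat_lit 0, nat_lit 1, nat_lit 0, nat_lit 2, nat_lit 1, nat_lit 2, nat_lit 0, nat_lit 1, nat_lit 0, nat_lit 2, nat_lit 1, nat_lit 2, nat_lit 0, nat_lit 1, nat_lit 0, nat_lit 2]))))))) (.node (nat_lit 1337) (.node (nat_lit 1327) (.node (nat_lit 1322) (.node (nat_lit 1320) (.node (nat_lit 1319) (.leaf (nat_lit 1299) (nat_lit 2) [nat_lit 1, nat_lit 2, nat_lit 0, nat_lit 1, nat_lit 0, nat_lit 2, nat_lit 1, nat_lit 2, nat_lit 0, nat_lit 1, nat_lit 0, nat_lit 2, nat_lit 1, nat_lit 2, nat_lit 0, nat_lit 1, nat_lit 0]) (.leaf (nat_lit 1300) (nat_lit 0) [nat_lit 2, nat_lit 1, nat_lit 2, nat_lit 0, nat_lit 1, nat_lit 0, nat_lit 2, nat_lit 1, nat_lit 2, nat_lit 0, nat_lit 1, nat_lit 0, nat_lit 2, nat_lit 1, nat_lit 2, nat_lit 0, nat_lit 1])) (.node (nat_lit 1321) (.leaf (nat_lit 1301) (nat_lit 1) [nat_lit 0, nat_lit 2, nat_lit 1, nat_lit 2, nat_lit 0, nat_lit 1, nat_lit 0, nat_lit 2, nat_lit 1, nat_lit 2, nat_lit 0, nat_lit 1, nat_lit 0, nat_lit 2, nat_lit 1, nat_lit 2, nat_lit 0]) (.leaf (nat_lit 1296) (nat_lit 0) [nat_lit 1, nat_lit 0, nat_lit 2, nat_lit 1, nat_lit 2, nat_lit 0, nat_lit 1, nat_lit 0, nat_lit 2, nat_lit 1, nat_lit 2, nat_lit 0, nat_lit 1, nat_lit 0, nat_lit 2, nat_lit 1, nat_lit 2]))) (.node (nat_lit 1324) (.node (nat_lit 1323) (.leaf (nat_lit 1297) (nat_lit 2) [nat_lit 0, nat_lit 1, nat_lit 0, nat_lit 2, nat_lit 1, nat_lit 2, nat_lit 0, nat_lit 1, nat_lit 0, nat_lit 2, nat_lit 1, nat_lit 2, nat_lit 0, nat_lit 1, nat_lit 0, nat_lit 2, nat_lit 1]) (.leaf (nat_lit 1298) (nat_lit 1) [nat_lit 2, nat_lit 0, nat_lit 1, nat_lit 0, nat_lit 2, nat_lit 1, nat_lit 2, nat_lit 0, nat_lit 1, nat_lit 0, nat_lit 2, nat_lit 1, nat_lit 2, nat_lit 0, nat_lit 1, nat_lit 0, nat_lit 2])) (.node (nat_lit 1325) (.leaf (nat_lit 1299) (nat_lit 2) [nat_lit 1, nat_lit 2, nat_lit 0, nat_lit 1, nat_lit 0, nat_lit 2, nat_lit 1, nat_lit 2, nat_lit 0, nat_lit 1, nat_lit 0, nat_lit 2, nat_lit 1, nat_lit 2, nat_lit 0, nat_lit 1, nat_lit 0]) (.node (nat_lit 1326) (.leaf (nat_lit 1300) (nat_lit 0) [nat_lit 2, nat_lit 1, nat_lit 2, nat_lit 0, nat_lit 1, nat_lit 0, nat_lit 2, nat_lit 1, nat_lit 2, nat_lit 0, nat_lit 1, nat_lit 0, nat_lit 2, nat_lit 1, nat_lit 2, nat_lit 0, nat_lit 1]) (.leaf (nat_lit 1301) (nat_lit 1) [nat_lit 0, nat_lit 2, nat_lit 1, nat_lit 2, nat_lit 0, nat_lit 1, nat_lit 0, nat_lit 2, nat_lit 1, nat_lit 2, nat_lit 0, nat_lit 1, nat_lit 0, nat_lit 2, nat_lit 1, nat_lit 2, nat_lit 0]))))) (.node (nat_lit 1332) (.node (nat_lit 1329) (.node (nat_lit 1328) (.leaf (nat_lit 1296) (nat_lit 0) [nat_lit 1, nat_lit 0, nat_lit 2, nat_lit 1, nat_lit 2, nat_lit 0, nat_lit 1, nat_lit 0, nat_lit 2, nat_lit 1, nat_lit 2, nat_lit 0, nat_lit 1, nat_lit 0, nat_lit 2, nat_lit 1, nat_lit 2]) (.leaf (nat_lit 1297) (nat_lit 2) [nat_lit 0, nat_lit 1, nat_lit 0, nat_lit 2, nat_lit 1, nat_lit 2, nat_lit 0, nat_lit 1, nat_lit 0, nat_lit 2, nat_lit 1, nat_lit 2, nat_lit 0, nat_lit 1, nat_lit 0, nat_lit 2, nat_lit 1])) (.node (nat_lit 1330) (.leaf (nat_lit 1298) (nat_lit 1) [nat_lit 2, nat_lit 0, nat_lit 1, nat_lit 0, nat_lit 2, nat_lit 1, nat_lit 2, nat_lit 0, nat_lit 1, nat_lit 0, nat_lit 2, nat_lit 1, nat_lit 2, nat_lit 0, nat_lit 1, nat_lit 0, nat_lit 2]) (.node (nat_lit 1331) (.leaf (nat_lit 1299) (nat_lit 2) [nat_lit 1, nat_lit 2, nat_lit 0, nat_lit 1, nat_lit 0, nat_lit 2, nat_lit 1, nat_lit 2, nat_lit 0, nat_lit 1, nat_lit 0, nat_lit 2, nat_lit 1, nat_lit 2, nat_lit 0, nat_lit 1, nat_lit 0]) (.leaf (nat_lit 1300) (nat_lit 0) [nat_lit 2, nat_lit 1, nat_lit 2, nat_lit 0, nat_lit 1, nat_lit 0, nat_lit 2, nat_lit 1, nat_lit 2, nat_lit 0, nat_lit 1, nat_lit 0, nat_lit 2, nat_lit 1, nat_lit 2, nat_lit 0, nat_lit 1])))) (.node (nat_lit 1334) (.node (nat_lit 1333) (.leaf (nat_lit 1332) (nat_lit 0) [nat_lit 1, nat_lit 0, nat_lit 2, nat_lit 3, nat_lit 2, nat_lit 0, nat_lit 1, nat_lit 0, nat_lit 2, nat_lit 3, nat_lit 2, nat_lit 0, nat_lit 1, nat_lit 0, nat_lit 2, nat_lit 3, nat_lit 2]) (.leaf (nat_lit 1333) (nat_lit 2) [nat_lit 0, nat_lit 1, nat_lit 0, nat_lit 2, nat_lit 3, nat_lit 2, nat_lit 0, nat_lit 1, nat_lit 0, nat_lit 2, nat_lit 3, nat_lit 2, nat_lit 0, nat_lit 1, nat_lit 0, nat_lit 2, nat_lit 3])) (.node (nat_lit 1335) (.leaf (nat_lit 1334) (nat_lit 3) [nat_lit 2, nat_lit 0, nat_lit 1, nat_lit 0, nat_lit 2, nat_lit 3, nat_lit 2, nat_lit 0, nat_lit 1, nat_lit 0, nat_lit 2, nat_lit 3, nat_lit 2, nat_lit 0, nat_lit 1, nat_lit 0, nat_lit 2]) (.node (nat_lit 1336) (.leaf (nat_lit 1335) (nat_lit 2) [nat_lit 3, nat_lit 2, nat_lit 0, nat_lit 1, nat_lit 0, nat_lit 2, nat_lit 3, nat_lit 2, nat_lit 0, nat_lit 1, nat_lit 0, nat_lit 2, nat_lit 3, nat_lit 2, nat_lit 0, nat_lit 1, nat_lit 0]) (.leaf (nat_lit 1336) (nat_lit 0) [nat_lit 2, nat_lit 3, nat_lit 2, nat_lit 0, nat_lit 1, nat_lit 0, nat_lit 2, nat_lit 3, nat_lit 2, nat_lit 0, nat_lit 1, nat_lit 0, nat_lit 2, nat_lit 3, nat_lit 2, nat_lit 0, nat_lit 1])))))) (.node (nat_lit 1346) (.node (nat_lit 1341) (.node (nat_lit 1339) (.node (nat_lit 1338) (.leaf (nat_lit 1337) (nat_lit 1) [nat_lit 0, nat_lit 2, nat_lit 3, nat_lit 2, nat_lit 0, nat_lit 1, nat_lit 0, nat_lit 2, nat_lit 3, nat_lit 2, nat_lit 0, nat_lit 1, nat_lit 0, nat_lit 2, nat_lit 3, nat_lit 2, nat_lit 0]) (.leaf (nat_lit 1332) (nat_lit 0) [nat_lit 1, nat_lit 0, nat_lit 2, nat_lit 3, nat_lit 2, nat_lit 0, nat_lit 1, nat_lit 0, nat_lit 2, nat_lit 3, nat_lit 2, nat_lit 0, nat_lit 1, nat_lit 0, nat_lit 2, nat_lit 3, nat_lit 2])) (.node (nat_lit 1340) (.leaf (nat_lit 1333) (nat_lit 2) [nat_lit 0, nat_lit 1, nat_lit 0, nat_lit 2, nat_lit 3, nat_lit 2, nat_lit 0, nat_lit 1, nat_lit 0, nat_lit 2, nat_lit 3, nat_lit 2, nat_lit 0, nat_lit 1, nat_lit 0, nat_lit 2, nat_lit 3]) (.leaf (nat_lit 1334) (nat_lit 3) [nat_lit 2, nat_lit 0, nat_lit 1, nat_lit 0, nat_lit 2, nat_lit 3, nat_lit 2, nat_lit 0, nat_lit 1, nat_lit 0, nat_lit 2, nat_lit 3, nat_lit 2, nat_lit 0, nat_lit 1, nat_lit 0, nat_lit 2]))) (.node (nat_lit 1343) (.node (nat_lit 1342) (.leaf (nat_lit 1335) (nat_lit 2) [nat_lit 3, nat_lit 2, nat_lit 0, nat_lit 1, nat_lit 0, nat_lit 2, nat_lit 3, nat_lit 2, nat_lit 0, nat_lit 1, nat_lit 0, nat_lit 2, nat_lit 3, nat_lit 2, nat_lit 0, nat_lit 1, nat_lit 0]) (.leaf (nat_lit 1336) (nat_lit 0) [nat_lit 2, nat_lit 3, nat_lit 2, nat_lit 0, nat_lit 1, nat_lit 0, nat_lit 2, nat_lit 3, nat_lit 2, nat_lit 0, nat_lit 1, nat_lit 0, nat_lit 2, nat_lit 3, nat_lit 2, nat_lit 0, nat_lit 1])) (.node (nat_lit 1344) (.leaf (nat_lit 1337) (nat_lit 1) [nat_lit 0, nat_lit 2, nat_lit 3, nat_lit 2, nat_lit 0, nat_lit 1, nat_lit 0, nat_lit 2, nat_lit 3, nat_lit 2, nat_lit 0, nat_lit 1, nat_lit 0, nat_lit 2, nat_lit 3, nat_lit 2, nat_lit 0]) (.node (nat_lit 1345) (.leaf (nat_lit 1332) (nat_lit 0) [nat_lit 1, nat_lit 0, nat_lit 2, nat_lit 3, nat_lit 2, nat_lit 0, nat_lit 1, nat_lit 0, nat_lit 2, nat_lit 3, nat_lit 2, nat_lit 0, nat_lit 1, nat_lit 0, nat_lit 2, nat_lit 3, nat_lit 2]) (.leaf (nat_lit 1333) (nat_lit 2) [nat_lit 0, nat_lit 1, nat_lit 0, nat_lit 2, nat_lit 3, nat_lit 2, nat_lit 0, nat_lit 1, nat_lit 0, nat_lit 2, nat_lit 3, nat_lit 2, nat_lit 0, nat_lit 1, nat_lit 0, nat_lit 2, nat_lit 3]))))) (.node (nat_lit 1351) (.node (nat_lit 1348) (.node (nat_lit 1347) (.leaf (nat_lit 1334) (nat_lit 3) [nat_lit 2, nat_lit 0, nat_lit 1, nat_lit 0, nat_lit 2, nat_lit 3, nat_lit 2, nat_lit 0, nat_lit 1, nat_lit 0, nat_lit 2, nat_lit 3, nat_lit 2, nat_lit 0, nat_lit 1, nat_lit 0, nat_lit 2]) (.leaf (nat_lit 1335) (nat_lit 2) [nat_lit 3, nat_lit 2, nat_lit 0, nat_lit 1, nat_lit 0, nat_lit 2, nat_lit 3, nat_lit 2, nat_lit 0, nat_lit 1, nat_lit 0, nat_lit 2, nat_lit 3, nat_lit 2, nat_lit 0, nat_lit 1, nat_lit 0])) (.node (nat_lit 1349) (.leaf (nat_lit 1336) (nat_lit 0) [nat_lit 2, nat_lit 3, nat_lit 2, nat_lit 0, nat_lit 1, nat_lit 0, nat_lit 2, nat_lit 3, nat_lit 2, nat_lit 0, nat_lit 1, nat_lit 0, nat_lit 2, nat_lit 3, nat_lit 2, nat_lit 0, nat_lit 1]) (.node (nat_lit 1350) (.leaf (nat_lit 1337) (nat_lit 1) [nat_lit 0, nat_lit 2, nat_lit 3, nat_lit 2, nat_lit 0, nat_lit 1, nat_lit 0, nat_lit 2, nat_lit 3, nat_lit 2, nat_lit 0, nat_lit 1, nat_lit 0, nat_lit 2, nat_lit 3, nat_lit 2, nat_lit 0]) (.leaf (nat_lit 1337) (nat_lit 1) [nat_lit 0, nat_lit 2, nat_lit 3, nat_lit 2, nat_lit 0, nat_lit 1, nat_lit 0, nat_lit 2, nat_lit 3, nat_lit 2, nat_lit 0, nat_lit 1, nat_lit 0, nat_lit 2, nat_lit 3, nat_lit 2, nat_lit 0])))) (.node (nat_lit 1353) (.node (nat_lit 1352) (.leaf (nat_lit 1332) (nat_lit 0) [nat_lit 1, nat_lit 0, nat_lit 2, nat_lit 3, nat_lit 2, nat_lit 0, nat_lit 1, nat_lit 0, nat_lit 2, nat_lit 3, nat_lit 2, nat_lit 0, nat_lit 1, nat_lit 0, nat_lit 2, nat_lit 3, nat_lit 2]) (.leaf (nat_lit 1333) (nat_lit 2) [nat_lit 0, nat_lit 1, nat_lit 0, nat_lit 2, nat_lit 3, nat_lit 2, nat_lit 0, nat_lit 1, nat_lit 0, nat_lit 2, nat_lit 3, nat_lit 2, nat_lit 0, nat_lit 1, nat_lit 0, nat_lit 2, nat_lit 3])) (.node (nat_lit 1354) (.leaf (nat_lit 1334) (nat_lit 3) [nat_lit 2, nat_lit 0, nat_lit 1, nat_lit 0, nat_lit 2, nat_lit 3, nat_lit 2, nat_lit 0, nat_lit 1, nat_lit 0, nat_lit 2, nat_lit 3, nat_lit 2, nat_lit 0, nat_lit 1, nat_lit 0, nat_lit 2]) (.node (nat_lit 1355) (.leaf (nat_lit 1335) (nat_lit 2) [nat_lit 3, nat_lit 2, nat_lit 0, nat_lit 1, nat_lit 0, nat_lit 2, nat_lit 3, nat_lit 2, nat_lit 0, nat_lit 1, nat_lit 0, nat_lit 2, nat_lit 3, nat_lit 2, nat_lit 0, nat_lit 1, nat_lit 0]) (.leaf (nat_lit 1336) (nat_lit 0) [nat_lit 2, nat_lit 3, nat_lit 2, nat_lit 0, nat_lit 1, nat_lit 0, nat_lit 2, nat_lit 3, nat_lit 2, nat_lit 0, nat_lit 1, nat_lit 0, nat_lit 2, nat_lit 3, nat_lit 2, nat_lit 0, nat_lit 1]))))))))) (.node (nat_lit 1431) (.node (nat_lit 1393) (.node (nat_lit 1374) (.node (nat_lit 1365) (.node (nat_lit 1360) (.node (nat_lit 1358) (.node (nat_lit 1357) (.leaf (nat_lit 1337) (nat_lit 1) [nat_lit 0, nat_lit 2, nat_lit 3, nat_lit 2, nat_lit 0, nat_lit 1, nat_lit 0, nat_lit 2, nat_lit 3, nat_lit 2, nat_lit 0, nat_lit 1, nat_lit 0, nat_lit 2, nat_lit 3, nat_lit 2, nat_lit 0]) (.leaf (nat_lit 1332) (nat_lit 0) [nat_lit 1, nat_lit 0, nat_lit 2, nat_lit 3, nat_lit 2, nat_lit 0, nat_lit 1, nat_lit 0, nat_lit 2, nat_lit 3, nat_lit 2, nat_lit 0, nat_lit 1, nat_lit 0, nat_lit 2, nat_lit 3, nat_lit 2])) (.node (nat_lit 1359) (.leaf (nat_lit 1333) (nat_lit 2) [nat_lit 0, nat_lit 1, nat_lit 0, nat_lit 2, nat_lit 3, nat_lit 2, nat_lit 0, nat_lit 1, nat_lit 0, nat_lit 2, nat_lit 3, nat_lit 2, nat_lit 0, nat_lit 1, nat_lit 0, nat_lit 2, nat_lit 3]) (.leaf (nat_lit 1334) (nat_lit 3) [nat_lit 2, nat_lit 0, nat_lit 1, nat_lit 0, nat_lit 2, nat_lit 3, nat_lit 2, nat_lit 0, nat_lit 1, nat_lit 0, nat_lit 2, nat_lit 3, nat_lit 2, nat_lit 0, nat_lit 1, nat_lit 0, nat_lit 2]))) (.node (nat_lit 1362) (.node (nat_lit 1361) (.leaf (nat_lit 1335) (nat_lit 2) [nat_lit 3, nat_lit 2, nat_lit 0, nat_lit 1, nat_lit 0, nat_lit 2, nat_lit 3, nat_lit 2, nat_lit 0, nat_lit 1, nat_lit 0, nat_lit 2, nat_lit 3, nat_lit 2, nat_lit 0, nat_lit 1, nat_lit 0]) (.leaf (nat_lit 1336) (nat_lit 0) [nat_lit 2, nat_lit 3, nat_lit 2, nat_lit 0, nat_lit 1, nat_lit 0, nat_lit 2, nat_lit 3, nat_lit 2, nat_lit 0, nat_lit 1, nat_lit 0, nat_lit 2, nat_lit 3, nat_lit 2, nat_lit 0, nat_lit 1])) (.node (nat_lit 1363) (.leaf (nat_lit 1337) (nat_lit 1) [nat_lit 0, nat_lit 2, nat_lit 3, nat_lit 2, nat_lit 0, nat_lit 1, nat_lit 0, nat_lit 2, nat_lit 3, nat_lit 2, nat_lit 0, nat_lit 1, nat_lit 0, nat_lit 2, nat_lit 3, nat_lit 2, nat_lit 0]) (.node (nat_lit 1364) (.leaf (nat_lit 1332) (nat_lit 0) [nat_lit 1, nat_lit 0, nat_lit 2, nat_lit 3, nat_lit 2, nat_lit 0, nat_lit 1, nat_lit 0, nat_lit 2, nat_lit 3, nat_lit 2, nat_lit 0, nat_lit 1, nat_lit 0, nat_lit 2, nat_lit 3, nat_lit 2]) (.leaf (nat_lit 1333) (nat_lit 2) [nat_lit 0, nat_lit 1, nat_lit 0, nat_lit 2, nat_lit 3, nat_lit 2, nat_lit 0, nat_lit 1, nat_lit 0, nat_lit 2, nat_lit 3, nat_lit 2, nat_lit 0, nat_lit 1, nat_lit 0, nat_lit 2, nat_lit 3]))))) (.node (nat_lit 1369) (.node (nat_lit 1367) (.node (nat_lit 1366) (.leaf (nat_lit 1334) (nat_lit 3) [nat_lit 2, nat_lit 0, nat_lit 1, nat_lit 0, nat_lit 2, nat_lit 3, nat_lit 2, nat_lit 0, nat_lit 1, nat_lit 0, nat_lit 2, nat_lit 3, nat_lit 2, nat_lit 0, nat_lit 1, nat_lit 0, nat_lit 2]) (.leaf (nat_lit 1335) (nat_lit 2) [nat_lit 3, nat_lit 2, nat_lit 0, nat_lit 1, nat_lit 0, nat_lit 2, nat_lit 3, nat_lit 2, nat_lit 0, nat_lit 1, nat_lit 0, nat_lit 2, nat_lit 3, nat_lit 2, nat_lit 0, nat_lit 1, nat_lit 0])) (.node (nat_lit 1368) (.leaf (nat_lit 1336) (nat_lit 0) [nat_lit 2, nat_lit 3, nat_lit 2, nat_lit 0, nat_lit 1, nat_lit 0, nat_lit 2, nat_lit 3, nat_lit 2, nat_lit 0, nat_lit 1, nat_lit 0, nat_lit 2, nat_lit 3, nat_lit 2, nat_lit 0, nat_lit 1]) (.leaf (nat_lit 1368) (nat_lit 0) [nat_lit 2, nat_lit 0, nat_lit 2, nat_lit 0, nat_lit 2, nat_lit 0, nat_lit 2, nat_lit 0, nat_lit 2, nat_lit 0, nat_lit 2, nat_lit 0, nat_lit 2, nat_lit 0, nat_lit 2, nat_lit 0, nat_lit 2]))) (.node (nat_lit 1371) (.node (nat_lit 1370) (.leaf (nat_lit 1369) (nat_lit 2) [nat_lit 0, nat_lit 2, nat_lit 0, nat_lit 2, nat_lit 0, nat_lit 2, nat_lit 0, nat_lit 2, nat_lit 0, nat_lit 2, nat_lit 0, nat_lit 2, nat_lit 0, nat_lit 2, nat_lit 0, nat_lit 2, nat_lit 0]) (.leaf (nat_lit 1368) (nat_lit 0) [nat_lit 2, nat_lit 0, nat_lit 2, nat_lit 0, nat_lit 2, nat_lit 0, nat_lit 2, nat_lit 0, nat_lit 2, nat_lit 0, nat_lit 2, nat_lit 0, nat_lit 2, nat_lit 0, nat_lit 2, nat_lit 0, nat_lit 2])) (.node (nat_lit 1372) (.leaf (nat_lit 1369) (nat_lit 2) [nat_lit 0, nat_lit 2, nat_lit 0, nat_lit 2, nat_lit 0, nat_lit 2, nat_lit 0, nat_lit 2, nat_lit 0, nat_lit 2, nat_lit 0, nat_lit 2, nat_lit 0, nat_lit 2, nat_lit 0, nat_lit 2, nat_lit 0]) (.node (nat_lit 1373) (.leaf (nat_lit 1368) (nat_lit 0) [nat_lit 2, nat_lit 0, nat_lit 2, nat_lit 0, nat_lit 2, nat_lit 0, nat_lit 2, nat_lit 0, nat_lit 2, nat_lit 0, nat_lit 2, nat_lit 0, nat_lit 2, nat_lit 0, nat_lit 2, nat_lit 0, nat_lit 2]) (.leaf (nat_lit 1369) (nat_lit 2) [nat_lit 0, nat_lit 2, nat_lit 0, nat_lit 2, nat_lit 0, nat_lit 2, nat_lit 0, nat_lit 2, nat_lit 0, nat_lit 2, nat_lit 0, nat_lit 2, nat_lit 0, nat_lit 2, nat_lit 0, nat_lit 2, nat_lit 0])))))) (.node (nat_lit 1383) (.node (nat_lit 1378) (.node (nat_lit 1376) (.node (nat_lit 1375) (.leaf (nat_lit 1368) (nat_lit 0) [nat_lit 2, nat_lit 0, nat_lit 2, nat_lit 0, nat_lit 2, nat_lit 0, nat_lit 2, nat_lit 0, nat_lit 2, nat_lit 0, nat_lit 2, nat_lit 0, nat_lit 2, nat_lit 0, nat_lit 2, nat_lit 0, nat_lit 2]) (.leaf (nat_lit 1369) (nat_lit 2) [nat_lit 0, nat_lit 2, nat_lit 0, nat_lit 2, nat_lit 0, nat_lit 2, nat_lit 0, nat_lit 2, nat_lit 0, nat_lit 2, nat_lit 0, nat_lit 2, nat_lit 0, nat_lit 2, nat_lit 0, nat_lit 2, nat_lit 0])) (.node (nat_lit 1377) (.leaf (nat_lit 1368) (nat_lit 0) [nat_lit 2, nat_lit 0, nat_lit 2, nat_lit 0, nat_lit 2, nat_lit 0, nat_lit 2, nat_lit 0, nat_lit 2, nat_lit 0, nat_lit 2, nat_lit 0, nat_lit 2, nat_lit 0, nat_lit 2, nat_lit 0, nat_lit 2]) (.leaf (nat_lit 1369) (nat_lit 2) [nat_lit 0, nat_lit 2, nat_lit 0, nat_lit 2, nat_lit 0, nat_lit 2, nat_lit 0, nat_lit 2, nat_lit 0, nat_lit 2, nat_lit 0, nat_lit 2, nat_lit 0, nat_lit 2, nat_lit 0, nat_lit 2, nat_lit 0]))) (.node (nat_lit 1380) (.node (nat_lit 1379) (.leaf (nat_lit 1368) (nat_lit 0) [nat_lit 2, nat_lit 0, nat_lit 2, nat_lit 0, nat_lit 2, nat_lit 0, nat_lit 2, nat_lit 0, nat_lit 2, nat_lit 0, nat_lit 2, nat_lit 0, nat_lit 2, nat_lit 0, nat_lit 2, nat_lit 0, nat_lit 2]) (.leaf (nat_lit 1369) (nat_lit 2) [nat_lit 0, nat_lit 2, nat_lit 0, nat_lit 2, nat_lit 0, nat_lit 2, nat_lit 0, nat_lit 2, nat_lit 0, nat_lit 2, nat_lit 0, nat_lit 2, nat_lit 0, nat_lit 2, nat_lit 0, nat_lit 2, nat_lit 0])) (.node (nat_lit 1381) (.leaf (nat_lit 1368) (nat_lit 0) [nat_lit 2, nat_lit 0, nat_lit 2, nat_lit 0, nat_lit 2, nat_lit 0, nat_lit 2, nat_lit 0, nat_lit 2, nat_lit 0, nat_lit 2, nat_lit 0, nat_lit 2, nat_lit 0, nat_lit 2, nat_lit 0, nat_lit 2]) (.node (nat_lit 1382) (.leaf (nat_lit 1369) (nat_lit 2) [nat_lit 0, nat_lit 2, nat_lit 0, nat_lit 2, nat_lit 0, nat_lit 2, nat_lit 0, nat_lit 2, nat_lit 0, nat_lit 2, nat_lit 0, nat_lit 2, nat_lit 0, nat_lit 2, nat_lit 0, nat_lit 2, nat_lit 0]) (.leaf (nat_lit 1368) (nat_lit 0) [nat_lit 2, nat_lit 0, nat_lit 2, nat_lit 0, nat_lit 2, nat_lit 0, nat_lit 2, nat_lit 0, nat_lit 2, nat_lit 0, nat_lit 2, nat_lit 0, nat_lit 2, nat_lit 0, nat_lit 2, nat_lit 0, nat_lit 2]))))) (.node (nat_lit 1388) (.node (nat_lit 1385) (.node (nat_lit 1384) (.leaf (nat_lit 1369) (nat_lit 2) [nat_lit 0, nat_lit 2, nat_lit 0, nat_lit 2, nat_lit 0, nat_lit 2, nat_lit 0, nat_lit 2, nat_lit 0, nat_lit 2, nat_lit 0, nat_lit 2, nat_lit 0, nat_lit 2, nat_lit 0, nat_lit 2, nat_lit 0]) (.leaf (nat_lit 1368) (nat_lit 0) [nat_lit 2, nat_lit 0, nat_lit 2, nat_lit 0, nat_lit 2, nat_lit 0, nat_lit 2, nat_lit 0, nat_lit 2, nat_lit 0, nat_lit 2, nat_lit 0, nat_lit 2, nat_lit 0, nat_lit 2, nat_lit 0, nat_lit 2])) (.node (nat_lit 1386) (.leaf (nat_lit 1369) (nat_lit 2) [nat_lit 0, nat_lit 2, nat_lit 0, nat_lit 2, nat_lit 0, nat_lit 2, nat_lit 0, nat_lit 2, nat_lit 0, nat_lit 2, nat_lit 0, nat_lit 2, nat_lit 0, nat_lit 2, nat_lit 0, nat_lit 2, nat_lit 0]) (.node (nat_lit 1387) (.leaf (nat_lit 1369) (nat_lit 2) [nat_lit 0, nat_lit 2, nat_lit 0, nat_lit 2, nat_lit 0, nat_lit 2, nat_lit 0, nat_lit 2, nat_lit 0, nat_lit 2, nat_lit 0, nat_lit 2, nat_lit 0, nat_lit 2, nat_lit 0, nat_lit 2, nat_lit 0]) (.leaf (nat_lit 1368) (nat_lit 0) [nat_lit 2, nat_lit 0, nat_lit 2, nat_lit 0, nat_lit 2, nat_lit 0, nat_lit 2, nat_lit 0, nat_lit 2, nat_lit 0, nat_lit 2, nat_lit 0, nat_lit 2, nat_lit 0, nat_lit 2, nat_lit 0, nat_lit 2])))) (.node (nat_lit 1390) (.node (nat_lit 1389) (.leaf (nat_lit 1369) (nat_lit 2) [nat_lit 0, nat_lit 2, nat_lit 0, nat_lit 2, nat_lit 0, nat_lit 2, nat_lit 0, nat_lit 2, nat_lit 0, nat_lit 2, nat_lit 0, nat_lit 2, nat_lit 0, nat_lit 2, nat_lit 0, nat_lit 2, nat_lit 0]) (.leaf (nat_lit 1368) (nat_lit 0) [nat_lit 2, nat_lit 0, nat_lit 2, nat_lit 0, nat_lit 2, nat_lit 0, nat_lit 2, nat_lit 0, nat_lit 2, nat_lit 0, nat_lit 2, nat_lit 0, nat_lit 2, nat_lit 0, nat_lit 2, nat_lit 0, nat_lit 2])) (.node (nat_lit 1391) (.leaf (nat_lit 1369) (nat_lit 2) [nat_lit 0, nat_lit 2, nat_lit 0, nat_lit 2, nat_lit 0, nat_lit 2, nat_lit 0, nat_lit 2, nat_lit 0, nat_lit 2, nat_lit 0, nat_lit 2, nat_lit 0, nat_lit 2, nat_lit 0, nat_lit 2, nat_lit 0]) (.node (nat_lit 1392) (.leaf (nat_lit 1368) (nat_lit 0) [nat_lit 2, nat_lit 0, nat_lit 2, nat_lit 0, nat_lit 2, nat_lit 0, nat_lit 2, nat_lit 0, nat_lit 2, nat_lit 0, nat_lit 2, nat_lit 0, nat_lit 2, nat_lit 0, nat_lit 2, nat_lit 0, nat_lit 2]) (.leaf (nat_lit 1369) (nat_lit 2) [nat_lit 0, nat_lit 2, nat_lit 0, nat_lit 2, nat_lit 0, nat_lit 2, nat_lit 0, nat_lit 2, nat_lit 0, nat_lit 2, nat_lit 0, nat_lit 2, nat_lit 0, nat_lit 2, nat_lit 0, nat_lit 2, nat_lit 0]))))))) (.node (nat_lit 1412) (.node (nat_lit 1402) (.node (nat_lit 1397) (.node (nat_lit 1395) (.node (nat_lit 1394) (.leaf (nat_lit 1368) (nat_lit 0) [nat_lit 2, nat_lit 0, nat_lit 2, nat_lit 0, nat_lit 2, nat_lit 0, nat_lit 2, nat_lit 0, nat_lit 2, nat_lit 0, nat_lit 2, nat_lit 0, nat_lit 2, nat_lit 0, nat_lit 2, nat_lit 0, nat_lit 2]) (.leaf (nat_lit 1369) (nat_lit 2) [nat_lit 0, nat_lit 2, nat_lit 0, nat_lit 2, nat_lit 0, nat_lit 2, nat_lit 0, nat_lit 2, nat_lit 0, nat_lit 2, nat_lit 0, nat_lit 2, nat_lit 0, nat_lit 2, nat_lit 0, nat_lit 2, nat_lit 0])) (.node (nat_lit 1396) (.leaf (nat_lit 1368) (nat_lit 0) [nat_lit 2, nat_lit 0, nat_lit 2, nat_lit 0, nat_lit 2, nat_lit 0, nat_lit 2, nat_lit 0, nat_lit 2, nat_lit 0, nat_lit 2, nat_lit 0, nat_lit 2, nat_lit 0, nat_lit 2, nat_lit 0, nat_lit 2]) (.leaf (nat_lit 1369) (nat_lit 2) [nat_lit 0, nat_lit 2, nat_lit 0, nat_lit 2, nat_lit 0, nat_lit 2, nat_lit 0, nat_lit 2, nat_lit 0, nat_lit 2, nat_lit 0, nat_lit 2, nat_lit 0, nat_lit 2, nat_lit 0, nat_lit 2, nat_lit 0]))) (.node (nat_lit 1399) (.node (nat_lit 1398) (.leaf (nat_lit 1368) (nat_lit 0) [nat_lit 2, nat_lit 0, nat_lit 2, nat_lit 0, nat_lit 2, nat_lit 0, nat_lit 2, nat_lit 0, nat_lit 2, nat_lit 0, nat_lit 2, nat_lit 0, nat_lit 2, nat_lit 0, nat_lit 2, nat_lit 0, nat_lit 2]) (.leaf (nat_lit 1369) (nat_lit 2) [nat_lit 0, nat_lit 2, nat_lit 0, nat_lit 2, nat_lit 0, nat_lit 2, nat_lit 0, nat_lit 2, nat_lit 0, nat_lit 2, nat_lit 0, nat_lit 2, nat_lit 0, nat_lit 2, nat_lit 0, nat_lit 2, nat_lit 0])) (.node (nat_lit 1400) (.leaf (nat_lit 1368) (nat_lit 0) [nat_lit 2, nat_lit 0, nat_lit 2, nat_lit 0, nat_lit 2, nat_lit 0, nat_lit 2, nat_lit 0, nat_lit 2, nat_lit 0, nat_lit 2, nat_lit 0, nat_lit 2, nat_lit 0, nat_lit 2, nat_lit 0, nat_lit 2]) (.node (nat_lit 1401) (.leaf (nat_lit 1369) (nat_lit 2) [nat_lit 0, nat_lit 2, nat_lit 0, nat_lit 2, nat_lit 0, nat_lit 2, nat_lit 0, nat_lit 2, nat_lit 0, nat_lit 2, nat_lit 0, nat_lit 2, nat_lit 0, nat_lit 2, nat_lit 0, nat_lit 2, nat_lit 0]) (.leaf (nat_lit 1368) (nat_lit 0) [nat_lit 2, nat_lit 0, nat_lit 2, nat_lit 0, nat_lit 2, nat_lit 0, nat_lit 2, nat_lit 0, nat_lit 2, nat_lit 0, nat_lit 2, nat_lit 0, nat_lit 2, nat_lit 0, nat_lit 2, nat_lit 0, nat_lit 2]))))) (.node (nat_lit 1407) (.node (nat_lit 1404) (.node (nat_lit 1403) (.leaf (nat_lit 1369) (nat_lit 2) [nat_lit 0, nat_lit 2, nat_lit 0, nat_lit 2, nat_lit 0, nat_lit 2, nat_lit 0, nat_lit 2, nat_lit 0, nat_lit 2, nat_lit 0, nat_lit 2, nat_lit 0, nat_lit 2, nat_lit 0, nat_lit 2, nat_lit 0]) (.leaf (nat_lit 1368) (nat_lit 0) [nat_lit 2, nat_lit 0, nat_lit 2, nat_lit 0, nat_lit 2, nat_lit 0, nat_lit 2, nat_lit 0, nat_lit 2, nat_lit 0, nat_lit 2, nat_lit 0, nat_lit 2, nat_lit 0, nat_lit 2, nat_lit 0, nat_lit 2])) (.node (nat_lit 1405) (.leaf (nat_lit 1404) (nat_lit 0) [nat_lit 2, nat_lit 0, nat_lit 2, nat_lit 1, nat_lit 2, nat_lit 0, nat_lit 2, nat_lit 0, nat_lit 2, nat_lit 1, nat_lit 2, nat_lit 0, nat_lit 2, nat_lit 0, nat_lit 2, nat_lit 1, nat_lit 2]) (.node (nat_lit 1406) (.leaf (nat_lit 1405) (nat_lit 2) [nat_lit 0, nat_lit 2, nat_lit 0, nat_lit 2, nat_lit 1, nat_lit 2, nat_lit 0, nat_lit 2, nat_lit 0, nat_lit 2, nat_lit 1, nat_lit 2, nat_lit 0, nat_lit 2, nat_lit 0, nat_lit 2, nat_lit 1]) (.leaf (nat_lit 1406) (nat_lit 1) [nat_lit 2, nat_lit 0, nat_lit 2, nat_lit 0, nat_lit 2, nat_lit 1, nat_lit 2, nat_lit 0, nat_lit 2, nat_lit 0, nat_lit 2, nat_lit 1, nat_lit 2, nat_lit 0, nat_lit 2, nat_lit 0, nat_lit 2])))) (.node (nat_lit 1409) (.node (nat_lit 1408) (.leaf (nat_lit 1407) (nat_lit 2) [nat_lit 1, nat_lit 2, nat_lit 0, nat_lit 2, nat_lit 0, nat_lit 2, nat_lit 1, nat_lit 2, nat_lit 0, nat_lit 2, nat_lit 0, nat_lit 2, nat_lit 1, nat_lit 2, nat_lit 0, nat_lit 2, nat_lit 0]) (.leaf (nat_lit 1408) (nat_lit 0) [nat_lit 2, nat_lit 1, nat_lit 2, nat_lit 0, nat_lit 2, nat_lit 0, nat_lit 2, nat_lit 1, nat_lit 2, nat_lit 0, nat_lit 2, nat_lit 0, nat_lit 2, nat_lit 1, nat_lit 2, nat_lit 0, nat_lit 2])) (.node (nat_lit 1410) (.leaf (nat_lit 1409) (nat_lit 2) [nat_lit 0, nat_lit 2, nat_lit 1, nat_lit 2, nat_lit 0, nat_lit 2, nat_lit 0, nat_lit 2, nat_lit 1, nat_lit 2, nat_lit 0, nat_lit 2, nat_lit 0, nat_lit 2, nat_lit 1, nat_lit 2, nat_lit 0]) (.node (nat_lit 1411) (.leaf (nat_lit 1404) (nat_lit 0) [nat_lit 2, nat_lit 0, nat_lit 2, nat_lit 1, nat_lit 2, nat_lit 0, nat_lit 2, nat_lit 0, nat_lit 2, nat_lit 1, nat_lit 2, nat_lit 0, nat_lit 2, nat_lit 0, nat_lit 2, nat_lit 1, nat_lit 2]) (.leaf (nat_lit 1405) (nat_lit 2) [nat_lit 0, nat_lit 2, nat_lit 0, nat_lit 2, nat_lit 1, nat_lit 2, nat_lit 0, nat_lit 2, nat_lit 0, nat_lit 2, nat_lit 1, nat_lit 2, nat_lit 0, nat_lit 2, nat_lit 0, nat_lit 2, nat_lit 1])))))) (.node (nat_lit 1421) (.node (nat_lit 1416) (.node (nat_lit 1414) (.node (nat_lit 1413) (.leaf (nat_lit 1406) (nat_lit 1) [nat_lit 2, nat_lit 0, nat_lit 2, nat_lit 0, nat_lit 2, nat_lit 1, nat_lit 2, nat_lit 0, nat_lit 2, nat_lit 0, nat_lit 2, nat_lit 1, nat_lit 2, nat_lit 0, nat_lit 2, nat_lit 0, nat_lit 2]) (.leaf (nat_lit 1407) (nat_lit 2) [nat_lit 1, nat_lit 2, nat_lit 0, nat_lit 2, nat_lit 0, nat_lit 2, nat_lit 1, nat_lit 2, nat_lit 0, nat_lit 2, nat_lit 0, nat_lit 2, nat_lit 1, nat_lit 2, nat_lit 0, nat_lit 2, nat_lit 0])) (.node (nat_lit 1415) (.leaf (nat_lit 1408) (nat_lit 0) [nat_lit 2, nat_lit 1, nat_lit 2, nat_lit 0, nat_lit 2, nat_lit 0, nat_lit 2, nat_lit 1, nat_lit 2, nat_lit 0, nat_lit 2, nat_lit 0, nat_lit 2, nat_lit 1, nat_lit 2, nat_lit 0, nat_lit 2]) (.leaf (nat_lit 1409) (nat_lit 2) [nat_lit 0, nat_lit 2, nat_lit 1, nat_lit 2, nat_lit 0, nat_lit 2, nat_lit 0, nat_lit 2, nat_lit 1, nat_lit 2, nat_lit 0, nat_lit 2, nat_lit 0, nat_lit 2, nat_lit 1, nat_lit 2, nat_lit 0]))) (.node (nat_lit 1418) (.node (nat_lit 1417) (.leaf (nat_lit 1404) (nat_lit 0) [nat_lit 2, nat_lit 0, nat_lit 2, nat_lit 1, nat_lit 2, nat_lit 0, nat_lit 2, nat_lit 0, nat_lit 2, nat_lit 1, nat_lit 2, nat_lit 0, nat_lit 2, nat_lit 0, nat_lit 2, nat_lit 1, nat_lit 2]) (.leaf (nat_lit 1405) (nat_lit 2) [nat_lit 0, nat_lit 2, nat_lit 0, nat_lit 2, nat_lit 1, nat_lit 2, nat_lit 0, nat_lit 2, nat_lit 0, nat_lit 2, nat_lit 1, nat_lit 2, nat_lit 0, nat_lit 2, nat_lit 0, nat_lit 2, nat_lit 1])) (.node (nat_lit 1419) (.leaf (nat_lit 1406) (nat_lit 1) [nat_lit 2, nat_lit 0, nat_lit 2, nat_lit 0, nat_lit 2, nat_lit 1, nat_lit 2, nat_lit 0, nat_lit 2, nat_lit 0, nat_lit 2, nat_lit 1, nat_lit 2, nat_lit 0, nat_lit 2, nat_lit 0, nat_lit 2]) (.node (nat_lit 1420) (.leaf (nat_lit 1407) (nat_lit 2) [nat_lit 1, nat_lit 2, nat_lit 0, nat_lit 2, nat_lit 0, nat_lit 2, nat_lit 1, nat_lit 2, nat_lit 0, nat_lit 2, nat_lit 0, nat_lit 2, nat_lit 1, nat_lit 2, nat_lit 0, nat_lit 2, nat_lit 0]) (.leaf (nat_lit 1408) (nat_lit 0) [nat_lit 2, nat_lit 1, nat_lit 2, nat_lit 0, nat_lit 2, nat_lit 0, nat_lit 2, nat_lit 1, nat_lit 2, nat_lit 0, nat_lit 2, nat_lit 0, nat_lit 2, nat_lit 1, nat_lit 2, nat_lit 0, nat_lit 2]))))) (.node (nat_lit 1426) (.node (nat_lit 1423) (.node (nat_lit 1422) (.leaf (nat_lit 1409) (nat_lit 2) [nat_lit 0, nat_lit 2, nat_lit 1, nat_lit 2, nat_lit 0, nat_lit 2, nat_lit 0, nat_lit 2, nat_lit 1, nat_lit 2, nat_lit 0, nat_lit 2, nat_lit 0, nat_lit 2, nat_lit 1, nat_lit 2, nat_lit 0]) (.leaf (nat_lit 1409) (nat_lit 2) [nat_lit 0, nat_lit 2, nat_lit 1, nat_lit 2, nat_lit 0, nat_lit 2, nat_lit 0, nat_lit 2, nat_lit 1, nat_lit 2, nat_lit 0, nat_lit 2, nat_lit 0, nat_lit 2, nat_lit 1, nat_lit 2, nat_lit 0])) (.node (nat_lit 1424) (.leaf (nat_lit 1404) (nat_lit 0) [nat_lit 2, nat_lit 0, nat_lit 2, nat_lit 1, nat_lit 2, nat_lit 0, nat_lit 2, nat_lit 0, nat_lit 2, nat_lit 1, nat_lit 2, nat_lit 0, nat_lit 2, nat_lit 0, nat_lit 2, nat_lit 1, nat_lit 2]) (.node (nat_lit 1425) (.leaf (nat_lit 1405) (nat_lit 2) [nat_lit 0, nat_lit 2, nat_lit 0, nat_lit 2, nat_lit 1, nat_lit 2, nat_lit 0, nat_lit 2, nat_lit 0, nat_lit 2, nat_lit 1, nat_lit 2, nat_lit 0, nat_lit 2, nat_lit 0, nat_lit 2, nat_lit 1]) (.leaf (nat_lit 1406) (nat_lit 1) [nat_lit 2, nat_lit 0, nat_lit 2, nat_lit 0, nat_lit 2, nat_lit 1, nat_lit 2, nat_lit 0, nat_lit 2, nat_lit 0, nat_lit 2, nat_lit 1, nat_lit 2, nat_lit 0, nat_lit 2, nat_lit 0, nat_lit 2])))) (.node (nat_lit 1428) (.node (nat_lit 1427) (.leaf (nat_lit 1407) (nat_lit 2) [nat_lit 1, nat_lit 2, nat_lit 0, nat_lit 2, nat_lit 0, nat_lit 2, nat_lit 1, nat_lit 2, nat_lit 0, nat_lit 2, nat_lit 0, nat_lit 2, nat_lit 1, nat_lit 2, nat_lit 0, nat_lit 2, nat_lit 0]) (.leaf (nat_lit 1408) (nat_lit 0) [nat_lit 2, nat_lit 1, nat_lit 2, nat_lit 0, nat_lit 2, nat_lit 0, nat_lit 2, nat_lit 1, nat_lit 2, nat_lit 0, nat_lit 2, nat_lit 0, nat_lit 2, nat_lit 1, nat_lit 2, nat_lit 0, nat_lit 2])) (.node (nat_lit 1429) (.leaf (nat_lit 1409) (nat_lit 2) [nat_lit 0, nat_lit 2, nat_lit 1, nat_lit 2, nat_lit 0, nat_lit 2, nat_lit 0, nat_lit 2, nat_lit 1, nat_lit 2, nat_lit 0, nat_lit 2, nat_lit 0, nat_lit 2, nat_lit 1, nat_lit 2, nat_lit 0]) (.node (nat_lit 1430) (.leaf (nat_lit 1404) (nat_lit 0) [nat_lit 2, nat_lit 0, nat_lit 2, nat_lit 1, nat_lit 2, nat_lit 0, nat_lit 2, nat_lit 0, nat_lit 2, nat_lit 1, nat_lit 2, nat_lit 0, nat_lit 2, nat_lit 0, nat_lit 2, nat_lit 1, nat_lit 2]) (.leaf (nat_lit 1405) (nat_lit 2) [nat_lit 0, nat_lit 2, nat_lit 0, nat_lit 2, nat_lit 1, nat_lit 2, nat_lit 0, nat_lit 2, nat_lit 0, nat_lit 2, nat_lit 1, nat_lit 2, nat_lit 0, nat_lit 2, nat_lit 0, nat_lit 2, nat_lit 1])))))))) (.node (nat_lit 1469) (.node (nat_lit 1450) (.node (nat_lit 1440) (.node (nat_lit 1435) (.node (nat_lit 1433) (.node (nat_lit 1432) (.leaf (nat_lit 1406) (nat_lit 1) [nat_lit 2, nat_lit 0, nat_lit 2, nat_lit 0, nat_lit 2, nat_lit 1, nat_lit 2, nat_lit 0, nat_lit 2, nat_lit 0, nat_lit 2, nat_lit 1, nat_lit 2, nat_lit 0, nat_lit 2, nat_lit 0, nat_lit 2]) (.leaf (nat_lit 1407) (nat_lit 2) [nat_lit 1, nat_lit 2, nat_lit 0, nat_lit 2, nat_lit 0, nat_lit 2, nat_lit 1, nat_lit 2, nat_lit 0, nat_lit 2, nat_lit 0, nat_lit 2, nat_lit 1, nat_lit 2, nat_lit 0, nat_lit 2, nat_lit 0])) (.node (nat_lit 1434) (.leaf (nat_lit 1408) (nat_lit 0) [nat_lit 2, nat_lit 1, nat_lit 2, nat_lit 0, nat_lit 2, nat_lit 0, nat_lit 2, nat_lit 1, nat_lit 2, nat_lit 0, nat_lit 2, nat_lit 0, nat_lit 2, nat_lit 1, nat_lit 2, nat_lit 0, nat_lit 2]) (.leaf (nat_lit 1409) (nat_lit 2) [nat_lit 0, nat_lit 2, nat_lit 1, nat_lit 2, nat_lit 0, nat_lit 2, nat_lit 0, nat_lit 2, nat_lit 1, nat_lit 2, nat_lit 0, nat_lit 2, nat_lit 0, nat_lit 2, nat_lit 1, nat_lit 2, nat_lit 0]))) (.node (nat_lit 1437) (.node (nat_lit 1436) (.leaf (nat_lit 1404) (nat_lit 0) [nat_lit 2, nat_lit 0, nat_lit 2, nat_lit 1, nat_lit 2, nat_lit 0, nat_lit 2, nat_lit 0, nat_lit 2, nat_lit 1, nat_lit 2, nat_lit 0, nat_lit 2, nat_lit 0, nat_lit 2, nat_lit 1, nat_lit 2]) (.leaf (nat_lit 1405) (nat_lit 2) [nat_lit 0, nat_lit 2, nat_lit 0, nat_lit 2, nat_lit 1, nat_lit 2, nat_lit 0, nat_lit 2, nat_lit 0, nat_lit 2, nat_lit 1, nat_lit 2, nat_lit 0, nat_lit 2, nat_lit 0, nat_lit 2, nat_lit 1])) (.node (nat_lit 1438) (.leaf (nat_lit 1406) (nat_lit 1) [nat_lit 2, nat_lit 0, nat_lit 2, nat_lit 0, nat_lit 2, nat_lit 1, nat_lit 2, nat_lit 0, nat_lit 2, nat_lit 0, nat_lit 2, nat_lit 1, nat_lit 2, nat_lit 0, nat_lit 2, nat_lit 0, nat_lit 2]) (.node (nat_lit 1439) (.leaf (nat_lit 1407) (nat_lit 2) [nat_lit 1, nat_lit 2, nat_lit 0, nat_lit 2, nat_lit 0, nat_lit 2, nat_lit 1, nat_lit 2, nat_lit 0, nat_lit 2, nat_lit 0, nat_lit 2, nat_lit 1, nat_lit 2, nat_lit 0, nat_lit 2, nat_lit 0]) (.leaf (nat_lit 1408) (nat_lit 0) [nat_lit 2, nat_lit 1, nat_lit 2, nat_lit 0, nat_lit 2, nat_lit 0, nat_lit 2, nat_lit 1, nat_lit 2, nat_lit 0, nat_lit 2, nat_lit 0, nat_lit 2, nat_lit 1, nat_lit 2, nat_lit 0, nat_lit 2]))))) (.node (nat_lit 1445) (.node (nat_lit 1442) (.node (nat_lit 1441) (.leaf (nat_lit 1440) (nat_lit 0) [nat_lit 2, nat_lit 0, nat_lit 2, nat_lit 3, nat_lit 2, nat_lit 0, nat_lit 2, nat_lit 0, nat_lit 2, nat_lit 3, nat_lit 2, nat_lit 0, nat_lit 2, nat_lit 0, nat_lit 2, nat_lit 3, nat_lit 2]) (.leaf (nat_lit 1441) (nat_lit 2) [nat_lit 0, nat_lit 2, nat_lit 0, nat_lit 2, nat_lit 3, nat_lit 2, nat_lit 0, nat_lit 2, nat_lit 0, nat_lit 2, nat_lit 3, nat_lit 2, nat_lit 0, nat_lit 2, nat_lit 0, nat_lit 2, nat_lit 3])) (.node (nat_lit 1443) (.leaf (nat_lit 1442) (nat_lit 3) [nat_lit 2, nat_lit 0, nat_lit 2, nat_lit 0, nat_lit 2, nat_lit 3, nat_lit 2, nat_lit 0, nat_lit 2, nat_lit 0, nat_lit 2, nat_lit 3, nat_lit 2, nat_lit 0, nat_lit 2, nat_lit 0, nat_lit 2]) (.node (nat_lit 1444) (.leaf (nat_lit 1443) (nat_lit 2) [nat_lit 3, nat_lit 2, nat_lit 0, nat_lit 2, nat_lit 0, nat_lit 2, nat_lit 3, nat_lit 2, nat_lit 0, nat_lit 2, nat_lit 0, nat_lit 2, nat_lit 3, nat_lit 2, nat_lit 0, nat_lit 2, nat_lit 0]) (.leaf (nat_lit 1444) (nat_lit 0) [nat_lit 2, nat_lit 3, nat_lit 2, nat_lit 0, nat_lit 2, nat_lit 0, nat_lit 2, nat_lit 3, nat_lit 2, nat_lit 0, nat_lit 2, nat_lit 0, nat_lit 2, nat_lit 3, nat_lit 2, nat_lit 0, nat_lit 2])))) (.node (nat_lit 1447) (.node (nat_lit 1446) (.leaf (nat_lit 1445) (nat_lit 2) [nat_lit 0, nat_lit 2, nat_lit 3, nat_lit 2, nat_lit 0, nat_lit 2, nat_lit 0, nat_lit 2, nat_lit 3, nat_lit 2, nat_lit 0, nat_lit 2, nat_lit 0, nat_lit 2, nat_lit 3, nat_lit 2, nat_lit 0]) (.leaf (nat_lit 1440) (nat_lit 0) [nat_lit 2, nat_lit 0, nat_lit 2, nat_lit 3, nat_lit 2, nat_lit 0, nat_lit 2, nat_lit 0, nat_lit 2, nat_lit 3, nat_lit 2, nat_lit 0, nat_lit 2, nat_lit 0, nat_lit 2, nat_lit 3, nat_lit 2])) (.node (nat_lit 1448) (.leaf (nat_lit 1441) (nat_lit 2) [nat_lit 0, nat_lit 2, nat_lit 0, nat_lit 2, nat_lit 3, nat_lit 2, nat_lit 0, nat_lit 2, nat_lit 0, nat_lit 2, nat_lit 3, nat_lit 2, nat_lit 0, nat_lit 2, nat_lit 0, nat_lit 2, nat_lit 3]) (.node (nat_lit 1449) (.leaf (nat_lit 1442) (nat_lit 3) [nat_lit 2, nat_lit 0, nat_lit 2, nat_lit 0, nat_lit 2, nat_lit 3, nat_lit 2, nat_lit 0, nat_lit 2, nat_lit 0, nat_lit 2, nat_lit 3, nat_lit 2, nat_lit 0, nat_lit 2, nat_lit 0, nat_lit 2]) (.leaf (nat_lit 1443) (nat_lit 2) [nat_lit 3, nat_lit 2, nat_lit 0, nat_lit 2, nat_lit 0, nat_lit 2, nat_lit 3, nat_lit 2, nat_lit 0, nat_lit 2, nat_lit 0, nat_lit 2, nat_lit 3, nat_lit 2, nat_lit 0, nat_lit 2, nat_lit 0])))))) (.node (nat_lit 1459) (.node (nat_lit 1454) (.node (nat_lit 1452) (.node (nat_lit 1451) (.leaf (nat_lit 1444) (nat_lit 0) [nat_lit 2, nat_lit 3, nat_lit 2, nat_lit 0, nat_lit 2, nat_lit 0, nat_lit 2, nat_lit 3, nat_lit 2, nat_lit 0, nat_lit 2, nat_lit 0, nat_lit 2, nat_lit 3, nat_lit 2, nat_lit 0, nat_lit 2]) (.leaf (nat_lit 1445) (nat_lit 2) [nat_lit 0, nat_lit 2, nat_lit 3, nat_lit 2, nat_lit 0, nat_lit 2, nat_lit 0, nat_lit 2, nat_lit 3, nat_lit 2, nat_lit 0, nat_lit 2, nat_lit 0, nat_lit 2, nat_lit 3, nat_lit 2, nat_lit 0])) (.node (nat_lit 1453) (.leaf (nat_lit 1440) (nat_lit 0) [nat_lit 2, nat_lit 0, nat_lit 2, nat_lit 3, nat_lit 2, nat_lit 0, nat_lit 2, nat_lit 0, nat_lit 2, nat_lit 3, nat_lit 2, nat_lit 0, nat_lit 2, nat_lit 0, nat_lit 2, nat_lit 3, nat_lit 2]) (.leaf (nat_lit 1441) (nat_lit 2) [nat_lit 0, nat_lit 2, nat_lit 0, nat_lit 2, nat_lit 3, nat_lit 2, nat_lit 0, nat_lit 2, nat_lit 0, nat_lit 2, nat_lit 3, nat_lit 2, nat_lit 0, nat_lit 2, nat_lit 0, nat_lit 2, nat_lit 3]))) (.node (nat_lit 1456) (.node (nat_lit 1455) (.leaf (nat_lit 1442) (nat_lit 3) [nat_lit 2, nat_lit 0, nat_lit 2, nat_lit 0, nat_lit 2, nat_lit 3, nat_lit 2, nat_lit 0, nat_lit 2, nat_lit 0, nat_lit 2, nat_lit 3, nat_lit 2, nat_lit 0, nat_lit 2, nat_lit 0, nat_lit 2]) (.leaf (nat_lit 1443) (nat_lit 2) [nat_lit 3, nat_lit 2, nat_lit 0, nat_lit 2, nat_lit 0, nat_lit 2, nat_lit 3, nat_lit 2, nat_lit 0, nat_lit 2, nat_lit 0, nat_lit 2, nat_lit 3, nat_lit 2, nat_lit 0, nat_lit 2, nat_lit 0])) (.node (nat_lit 1457) (.leaf (nat_lit 1444) (nat_lit 0) [nat_lit 2, nat_lit 3, nat_lit 2, nat_lit 0, nat_lit 2, nat_lit 0, nat_lit 2, nat_lit 3, nat_lit 2, nat_lit 0, nat_lit 2, nat_lit 0, nat_lit 2, nat_lit 3, nat_lit 2, nat_lit 0, nat_lit 2]) (.node (nat_lit 1458) (.leaf (nat_lit 1445) (nat_lit 2) [nat_lit 0, nat_lit 2, nat_lit 3, nat_lit 2, nat_lit 0, nat_lit 2, nat_lit 0, nat_lit 2, nat_lit 3, nat_lit 2, nat_lit 0, nat_lit 2, nat_lit 0, nat_lit 2, nat_lit 3, nat_lit 2, nat_lit 0]) (.leaf (nat_lit 1445) (nat_lit 2) [nat_lit 0, nat_lit 2, nat_lit 3, nat_lit 2, nat_lit 0, nat_lit 2, nat_lit 0, nat_lit 2, nat_lit 3, nat_lit 2, nat_lit 0, nat_lit 2, nat_lit 0, nat_lit 2, nat_lit 3, nat_lit 2, nat_lit 0]))))) (.node (nat_lit 1464) (.node (nat_lit 1461) (.node (nat_lit 1460) (.leaf (nat_lit 1440) (nat_lit 0) [nat_lit 2, nat_lit 0, nat_lit 2, nat_lit 3, nat_lit 2, nat_lit 0, nat_lit 2, nat_lit 0, nat_lit 2, nat_lit 3, nat_lit 2, nat_lit 0, nat_lit 2, nat_lit 0, nat_lit 2, nat_lit 3, nat_lit 2]) (.leaf (nat_lit 1441) (nat_lit 2) [nat_lit 0, nat_lit 2, nat_lit 0, nat_lit 2, nat_lit 3, nat_lit 2, nat_lit 0, nat_lit 2, nat_lit 0, nat_lit 2, nat_lit 3, nat_lit 2, nat_lit 0, nat_lit 2, nat_lit 0, nat_lit 2, nat_lit 3])) (.node (nat_lit 1462) (.leaf (nat_lit 1442) (nat_lit 3) [nat_lit 2, nat_lit 0, nat_lit 2, nat_lit 0, nat_lit 2, nat_lit 3, nat_lit 2, nat_lit 0, nat_lit 2, nat_lit 0, nat_lit 2, nat_lit 3, nat_lit 2, nat_lit 0, nat_lit 2, nat_lit 0, nat_lit 2]) (.node (nat_lit 1463) (.leaf (nat_lit 1443) (nat_lit 2) [nat_lit 3, nat_lit 2, nat_lit 0, nat_lit 2, nat_lit 0, nat_lit 2, nat_lit 3, nat_lit 2, nat_lit 0, nat_lit 2, nat_lit 0, nat_lit 2, nat_lit 3, nat_lit 2, nat_lit 0, nat_lit 2, nat_lit 0]) (.leaf (nat_lit 1444) (nat_lit 0) [nat_lit 2, nat_lit 3, nat_lit 2, nat_lit 0, nat_lit 2, nat_lit 0, nat_lit 2, nat_lit 3, nat_lit 2, nat_lit 0, nat_lit 2, nat_lit 0, nat_lit 2, nat_lit 3, nat_lit 2, nat_lit 0, nat_lit 2])))) (.node (nat_lit 1466) (.node (nat_lit 1465) (.leaf (nat_lit 1445) (nat_lit 2) [nat_lit 0, nat_lit 2, nat_lit 3, nat_lit 2, nat_lit 0, nat_lit 2, nat_lit 0, nat_lit 2, nat_lit 3, nat_lit 2, nat_lit 0, nat_lit 2, nat_lit 0, nat_lit 2, nat_lit 3, nat_lit 2, nat_lit 0]) (.leaf (nat_lit 1440) (nat_lit 0) [nat_lit 2, nat_lit 0, nat_lit 2, nat_lit 3, nat_lit 2, nat_lit 0, nat_lit 2, nat_lit 0, nat_lit 2, nat_lit 3, nat_lit 2, nat_lit 0, nat_lit 2, nat_lit 0, nat_lit 2, nat_lit 3, nat_lit 2])) (.node (nat_lit 1467) (.leaf (nat_lit 1441) (nat_lit 2) [nat_lit 0, nat_lit 2, nat_lit 0, nat_lit 2, nat_lit 3, nat_lit 2, nat_lit 0, nat_lit 2, nat_lit 0, nat_lit 2, nat_lit 3, nat_lit 2, nat_lit 0, nat_lit 2, nat_lit 0, nat_lit 2, nat_lit 3]) (.node (nat_lit 1468) (.leaf (nat_lit 1442) (nat_lit 3) [nat_lit 2, nat_lit 0, nat_lit 2, nat_lit 0, nat_lit 2, nat_lit 3, nat_lit 2, nat_lit 0, nat_lit 2, nat_lit 0, nat_lit 2, nat_lit 3, nat_lit 2, nat_lit 0, nat_lit 2, nat_lit 0, nat_lit 2]) (.leaf (nat_lit 1443) (nat_lit 2) [nat_lit 3, nat_lit 2, nat_lit 0, nat_lit 2, nat_lit 0, nat_lit 2, nat_lit 3, nat_lit 2, nat_lit 0, nat_lit 2, nat_lit 0, nat_lit 2, nat_lit 3, nat_lit 2, nat_lit 0, nat_lit 2, nat_lit 0]))))))) (.node (nat_lit 1488) (.node (nat_lit 1478) (.node (nat_lit 1473) (.node (nat_lit 1471) (.node (nat_lit 1470) (.leaf (nat_lit 1444) (nat_lit 0) [nat_lit 2, nat_lit 3, nat_lit 2, nat_lit 0, nat_lit 2, nat_lit 0, nat_lit 2, nat_lit 3, nat_lit 2, nat_lit 0, nat_lit 2, nat_lit 0, nat_lit 2, nat_lit 3, nat_lit 2, nat_lit 0, nat_lit 2]) (.leaf (nat_lit 1445) (nat_lit 2) [nat_lit 0, nat_lit 2, nat_lit 3, nat_lit 2, nat_lit 0, nat_lit 2, nat_lit 0, nat_lit 2, nat_lit 3, nat_lit 2, nat_lit 0, nat_lit 2, nat_lit 0, nat_lit 2, nat_lit 3, nat_lit 2, nat_lit 0])) (.node (nat_lit 1472) (.leaf (nat_lit 1440) (nat_lit 0) [nat_lit 2, nat_lit 0, nat_lit 2, nat_lit 3, nat_lit 2, nat_lit 0, nat_lit 2, nat_lit 0, nat_lit 2, nat_lit 3, nat_lit 2, nat_lit 0, nat_lit 2, nat_lit 0, nat_lit 2, nat_lit 3, nat_lit 2]) (.leaf (nat_lit 1441) (nat_lit 2) [nat_lit 0, nat_lit 2, nat_lit 0, nat_lit 2, nat_lit 3, nat_lit 2, nat_lit 0, nat_lit 2, nat_lit 0, nat_lit 2, nat_lit 3, nat_lit 2, nat_lit 0, nat_lit 2, nat_lit 0, nat_lit 2, nat_lit 3]))) (.node (nat_lit 1475) (.node (nat_lit 1474) (.leaf (nat_lit 1442) (nat_lit 3) [nat_lit 2, nat_lit 0, nat_lit 2, nat_lit 0, nat_lit 2, nat_lit 3, nat_lit 2, nat_lit 0, nat_lit 2, nat_lit 0, nat_lit 2, nat_lit 3, nat_lit 2, nat_lit 0, nat_lit 2, nat_lit 0, nat_lit 2]) (.leaf (nat_lit 1443) (nat_lit 2) [nat_lit 3, nat_lit 2, nat_lit 0, nat_lit 2, nat_lit 0, nat_lit 2, nat_lit 3, nat_lit 2, nat_lit 0, nat_lit 2, nat_lit 0, nat_lit 2, nat_lit 3, nat_lit 2, nat_lit 0, nat_lit 2, nat_lit 0])) (.node (nat_lit 1476) (.leaf (nat_lit 1444) (nat_lit 0) [nat_lit 2, nat_lit 3, nat_lit 2, nat_lit 0, nat_lit 2, nat_lit 0, nat_lit 2, nat_lit 3, nat_lit 2, nat_lit 0, nat_lit 2, nat_lit 0, nat_lit 2, nat_lit 3, nat_lit 2, nat_lit 0, nat_lit 2]) (.node (nat_lit 1477) (.leaf (nat_lit 1476) (nat_lit 0) [nat_lit 3, nat_lit 0, nat_lit 2, nat_lit 0, nat_lit 2, nat_lit 0, nat_lit 3, nat_lit 0, nat_lit 2, nat_lit 0, nat_lit 2, nat_lit 0, nat_lit 3, nat_lit 0, nat_lit 2, nat_lit 0, nat_lit 2]) (.leaf (nat_lit 1477) (nat_lit 2) [nat_lit 0, nat_lit 3, nat_lit 0, nat_lit 2, nat_lit 0, nat_lit 2, nat_lit 0, nat_lit 3, nat_lit 0, nat_lit 2, nat_lit 0, nat_lit 2, nat_lit 0, nat_lit 3, nat_lit 0, nat_lit 2, nat_lit 0]))))) (.node (nat_lit 1483) (.node (nat_lit 1480) (.node (nat_lit 1479) (.leaf (nat_lit 1478) (nat_lit 0) [nat_lit 2, nat_lit 0, nat_lit 3, nat_lit 0, nat_lit 2, nat_lit 0, nat_lit 2, nat_lit 0, nat_lit 3, nat_lit 0, nat_lit 2, nat_lit 0, nat_lit 2, nat_lit 0, nat_lit 3, nat_lit 0, nat_lit 2]) (.leaf (nat_lit 1479) (nat_lit 2) [nat_lit 0, nat_lit 2, nat_lit 0, nat_lit 3, nat_lit 0, nat_lit 2, nat_lit 0, nat_lit 2, nat_lit 0, nat_lit 3, nat_lit 0, nat_lit 2, nat_lit 0, nat_lit 2, nat_lit 0, nat_lit 3, nat_lit 0])) (.node (nat_lit 1481) (.leaf (nat_lit 1480) (nat_lit 0) [nat_lit 2, nat_lit 0, nat_lit 2, nat_lit 0, nat_lit 3, nat_lit 0, nat_lit 2, nat_lit 0, nat_lit 2, nat_lit 0, nat_lit 3, nat_lit 0, nat_lit 2, nat_lit 0, nat_lit 2, nat_lit 0, nat_lit 3]) (.node (nat_lit 1482) (.leaf (nat_lit 1481) (nat_lit 3) [nat_lit 0, nat_lit 2, nat_lit 0, nat_lit 2, nat_lit 0, nat_lit 3, nat_lit 0, nat_lit 2, nat_lit 0, nat_lit 2, nat_lit 0, nat_lit 3, nat_lit 0, nat_lit 2, nat_lit 0, nat_lit 2, nat_lit 0]) (.leaf (nat_lit 1476) (nat_lit 0) [nat_lit 3, nat_lit 0, nat_lit 2, nat_lit 0, nat_lit 2, nat_lit 0, nat_lit 3, nat_lit 0, nat_lit 2, nat_lit 0, nat_lit 2, nat_lit 0, nat_lit 3, nat_lit 0, nat_lit 2, nat_lit 0, nat_lit 2])))) (.node (nat_lit 1485) (.node (nat_lit 1484) (.leaf (nat_lit 1477) (nat_lit 2) [nat_lit 0, nat_lit 3, nat_lit 0, nat_lit 2, nat_lit 0, nat_lit 2, nat_lit 0, nat_lit 3, nat_lit 0, nat_lit 2, nat_lit 0, nat_lit 2, nat_lit 0, nat_lit 3, nat_lit 0, nat_lit 2, nat_lit 0]) (.leaf (nat_lit 1478) (nat_lit 0) [nat_lit 2, nat_lit 0, nat_lit 3, nat_lit 0, nat_lit 2, nat_lit 0, nat_lit 2, nat_lit 0, nat_lit 3, nat_lit 0, nat_lit 2, nat_lit 0, nat_lit 2, nat_lit 0, nat_lit 3, nat_lit 0, nat_lit 2])) (.node (nat_lit 1486) (.leaf (nat_lit 1479) (nat_lit 2) [nat_lit 0, nat_lit 2, nat_lit 0, nat_lit 3, nat_lit 0, nat_lit 2, nat_lit 0, nat_lit 2, nat_lit 0, nat_lit 3, nat_lit 0, nat_lit 2, nat_lit 0, nat_lit 2, nat_lit 0, nat_lit 3, nat_lit 0]) (.node (nat_lit 1487) (.leaf (nat_lit 1480) (nat_lit 0) [nat_lit 2, nat_lit 0, nat_lit 2, nat_lit 0, nat_lit 3, nat_lit 0, nat_lit 2, nat_lit 0, nat_lit 2, nat_lit 0, nat_lit 3, nat_lit 0, nat_lit 2, nat_lit 0, nat_lit 2, nat_lit 0, nat_lit 3]) (.leaf (nat_lit 1481) (nat_lit 3) [nat_lit 0, nat_lit 2, nat_lit 0, nat_lit 2, nat_lit 0, nat_lit 3, nat_lit 0, nat_lit 2, nat_lit 0, nat_lit 2, nat_lit 0, nat_lit 3, nat_lit 0, nat_lit 2, nat_lit 0, nat_lit 2, nat_lit 0])))))) (.node (nat_lit 1497) (.node (nat_lit 1492) (.node (nat_lit 1490) (.node (nat_lit 1489) (.leaf (nat_lit 1476) (nat_lit 0) [nat_lit 3, nat_lit 0, nat_lit 2, nat_lit 0, nat_lit 2, nat_lit 0, nat_lit 3, nat_lit 0, nat_lit 2, nat_lit 0, nat_lit 2, nat_lit 0, nat_lit 3, nat_lit 0, nat_lit 2, nat_lit 0, nat_lit 2]) (.leaf (nat_lit 1477) (nat_lit 2) [nat_lit 0, nat_lit 3, nat_lit 0, nat_lit 2, nat_lit 0, nat_lit 2, nat_lit 0, nat_lit 3, nat_lit 0, nat_lit 2, nat_lit 0, nat_lit 2, nat_lit 0, nat_lit 3, nat_lit 0, nat_lit 2, nat_lit 0])) (.node (nat_lit 1491) (.leaf (nat_lit 1478) (nat_lit 0) [nat_lit 2, nat_lit 0, nat_lit 3, nat_lit 0, nat_lit 2, nat_lit 0, nat_lit 2, nat_lit 0, nat_lit 3, nat_lit 0, nat_lit 2, nat_lit 0, nat_lit 2, nat_lit 0, nat_lit 3, nat_lit 0, nat_lit 2]) (.leaf (nat_lit 1479) (nat_lit 2) [nat_lit 0, nat_lit 2, nat_lit 0, nat_lit 3, nat_lit 0, nat_lit 2, nat_lit 0, nat_lit 2, nat_lit 0, nat_lit 3, nat_lit 0, nat_lit 2, nat_lit 0, nat_lit 2, nat_lit 0, nat_lit 3, nat_lit 0]))) (.node (nat_lit 1494) (.node (nat_lit 1493) (.leaf (nat_lit 1480) (nat_lit 0) [nat_lit 2, nat_lit 0, nat_lit 2, nat_lit 0, nat_lit 3, nat_lit 0, nat_lit 2, nat_lit 0, nat_lit 2, nat_lit 0, nat_lit 3, nat_lit 0, nat_lit 2, nat_lit 0, nat_lit 2, nat_lit 0, nat_lit 3]) (.leaf (nat_lit 1481) (nat_lit 3) [nat_lit 0, nat_lit 2, nat_lit 0, nat_lit 2, nat_lit 0, nat_lit 3, nat_lit 0, nat_lit 2, nat_lit 0, nat_lit 2, nat_lit 0, nat_lit 3, nat_lit 0, nat_lit 2, nat_lit 0, nat_lit 2, nat_lit 0])) (.node (nat_lit 1495) (.leaf (nat_lit 1481) (nat_lit 3) [nat_lit 0, nat_lit 2, nat_lit 0, nat_lit 2, nat_lit 0, nat_lit 3, nat_lit 0, nat_lit 2, nat_lit 0, nat_lit 2, nat_lit 0, nat_lit 3, nat_lit 0, nat_lit 2, nat_lit 0, nat_lit 2, nat_lit 0]) (.node (nat_lit 1496) (.leaf (nat_lit 1476) (nat_lit 0) [nat_lit 3, nat_lit 0, nat_lit 2, nat_lit 0, nat_lit 2, nat_lit 0, nat_lit 3, nat_lit 0, nat_lit 2, nat_lit 0, nat_lit 2, nat_lit 0, nat_lit 3, nat_lit 0, nat_lit 2, nat_lit 0, nat_lit 2]) (.leaf (nat_lit 1477) (nat_lit 2) [nat_lit 0, nat_lit 3, nat_lit 0, nat_lit 2, nat_lit 0, nat_lit 2, nat_lit 0, nat_lit 3, nat_lit 0, nat_lit 2, nat_lit 0, nat_lit 2, nat_lit 0, nat_lit 3, nat_lit 0, nat_lit 2, nat_lit 0]))))) (.node (nat_lit 1502) (.node (nat_lit 1499) (.node (nat_lit 1498) (.leaf (nat_lit 1478) (nat_lit 0) [nat_lit 2, nat_lit 0, nat_lit 3, nat_lit 0, nat_lit 2, nat_lit 0, nat_lit 2, nat_lit 0, nat_lit 3, nat_lit 0, nat_lit 2, nat_lit 0, nat_lit 2, nat_lit 0, nat_lit 3, nat_lit 0, nat_lit 2]) (.leaf (nat_lit 1479) (nat_lit 2) [nat_lit 0, nat_lit 2, nat_lit 0, nat_lit 3, nat_lit 0, nat_lit 2, nat_lit 0, nat_lit 2, nat_lit 0, nat_lit 3, nat_lit 0, nat_lit 2, nat_lit 0, nat_lit 2, nat_lit 0, nat_lit 3, nat_lit 0])) (.node (nat_lit 1500) (.leaf (nat_lit 1480) (nat_lit 0) [nat_lit 2, nat_lit 0, nat_lit 2, nat_lit 0, nat_lit 3, nat_lit 0, nat_lit 2, nat_lit 0, nat_lit 2, nat_lit 0, nat_lit 3, nat_lit 0, nat_lit 2, nat_lit 0, nat_lit 2, nat_lit 0, nat_lit 3]) (.node (nat_lit 1501) (.leaf (nat_lit 1481) (nat_lit 3) [nat_lit 0, nat_lit 2, nat_lit 0, nat_lit 2, nat_lit 0, nat_lit 3, nat_lit 0, nat_lit 2, nat_lit 0, nat_lit 2, nat_lit 0, nat_lit 3, nat_lit 0, nat_lit 2, nat_lit 0, nat_lit 2, nat_lit 0]) (.leaf (nat_lit 1476) (nat_lit 0) [nat_lit 3, nat_lit 0, nat_lit 2, nat_lit 0, nat_lit 2, nat_lit 0, nat_lit 3, nat_lit 0, nat_lit 2, nat_lit 0, nat_lit 2, nat_lit 0, nat_lit 3, nat_lit 0, nat_lit 2, nat_lit 0, nat_lit 2])))) (.node (nat_lit 1504) (.node (nat_lit 1503) (.leaf (nat_lit 1477) (nat_lit 2) [nat_lit 0, nat_lit 3, nat_lit 0, nat_lit 2, nat_lit 0, nat_lit 2, nat_lit 0, nat_lit 3, nat_lit 0, nat_lit 2, nat_lit 0, nat_lit 2, nat_lit 0, nat_lit 3, nat_lit 0, nat_lit 2, nat_lit 0]) (.leaf (nat_lit 1478) (nat_lit 0) [nat_lit 2, nat_lit 0, nat_lit 3, nat_lit 0, nat_lit 2, nat_lit 0, nat_lit 2, nat_lit 0, nat_lit 3, nat_lit 0, nat_lit 2, nat_lit 0, nat_lit 2, nat_lit 0, nat_lit 3, nat_lit 0, nat_lit 2])) (.node (nat_lit 1505) (.leaf (nat_lit 1479) (nat_lit 2) [nat_lit 0, nat_lit 2, nat_lit 0, nat_lit 3, nat_lit 0, nat_lit 2, nat_lit 0, nat_lit 2, nat_lit 0, nat_lit 3, nat_lit 0, nat_lit 2, nat_lit 0, nat_lit 2, nat_lit 0, nat_lit 3, nat_lit 0]) (.node (nat_lit 1506) (.leaf (nat_lit 1480) (nat_lit 0) [nat_lit 2, nat_lit 0, nat_lit 2, nat_lit 0, nat_lit 3, nat_lit 0, nat_lit 2, nat_lit 0, nat_lit 2, nat_lit 0, nat_lit 3, nat_lit 0, nat_lit 2, nat_lit 0, nat_lit 2, nat_lit 0, nat_lit 3]) (.leaf (nat_lit 1481) (nat_lit 3) [nat_lit 0, nat_lit 2, nat_lit 0, nat_lit 2, nat_lit 0, nat_lit 3, nat_lit 0, nat_lit 2, nat_lit 0, nat_lit 2, nat_lit 0, nat_lit 3, nat_lit 0, nat_lit 2, nat_lit 0, nat_lit 2, nat_lit 0])))))))))) (.node (nat_lit 1658) (.node (nat_lit 1582) (.node (nat_lit 1544) (.node (nat_lit 1525) (.node (nat_lit 1516) (.node (nat_lit 1511) (.node (nat_lit 1509) (.node (nat_lit 1508) (.leaf (nat_lit 1476) (nat_lit 0) [nat_lit 3, nat_lit 0, nat_lit 2, nat_lit 0, nat_lit 2, nat_lit 0, nat_lit 3, nat_lit 0, nat_lit 2, nat_lit 0, nat_lit 2, nat_lit 0, nat_lit 3, nat_lit 0, nat_lit 2, nat_lit 0, nat_lit 2]) (.leaf (nat_lit 1477) (nat_lit 2) [nat_lit 0, nat_lit 3, nat_lit 0, nat_lit 2, nat_lit 0, nat_lit 2, nat_lit 0, nat_lit 3, nat_lit 0, nat_lit 2, nat_lit 0, nat_lit 2, nat_lit 0, nat_lit 3, nat_lit 0, nat_lit 2, nat_lit 0])) (.node (nat_lit 1510) (.leaf (nat_lit 1478) (nat_lit 0) [nat_lit 2, nat_lit 0, nat_lit 3, nat_lit 0, nat_lit 2, nat_lit 0, nat_lit 2, nat_lit 0, nat_lit 3, nat_lit 0, nat_lit 2, nat_lit 0, nat_lit 2, nat_lit 0, nat_lit 3, nat_lit 0, nat_lit 2]) (.leaf (nat_lit 1479) (nat_lit 2) [nat_lit 0, nat_lit 2, nat_lit 0, nat_lit 3, nat_lit 0, nat_lit 2, nat_lit 0, nat_lit 2, nat_lit 0, nat_lit 3, nat_lit 0, nat_lit 2, nat_lit 0, nat_lit 2, nat_lit 0, nat_lit 3, nat_lit 0]))) (.node (nat_lit 1513) (.node (nat_lit 1512) (.leaf (nat_lit 1480) (nat_lit 0) [nat_lit 2, nat_lit 0, nat_lit 2, nat_lit 0, nat_lit 3, nat_lit 0, nat_lit 2, nat_lit 0, nat_lit 2, nat_lit 0, nat_lit 3, nat_lit 0, nat_lit 2, nat_lit 0, nat_lit 2, nat_lit 0, nat_lit 3]) (.leaf (nat_lit 1512) (nat_lit 0) [nat_lit 3, nat_lit 0, nat_lit 2, nat_lit 1, nat_lit 2, nat_lit 0, nat_lit 3, nat_lit 0, nat_lit 2, nat_lit 1, nat_lit 2, nat_lit 0, nat_lit 3, nat_lit 0, nat_lit 2, nat_lit 1, nat_lit 2])) (.node (nat_lit 1514) (.leaf (nat_lit 1513) (nat_lit 2) [nat_lit 0, nat_lit 3, nat_lit 0, nat_lit 2, nat_lit 1, nat_lit 2, nat_lit 0, nat_lit 3, nat_lit 0, nat_lit 2, nat_lit 1, nat_lit 2, nat_lit 0, nat_lit 3, nat_lit 0, nat_lit 2, nat_lit 1]) (.node (nat_lit 1515) (.leaf (nat_lit 1514) (nat_lit 1) [nat_lit 2, nat_lit 0, nat_lit 3, nat_lit 0, nat_lit 2, nat_lit 1, nat_lit 2, nat_lit 0, nat_lit 3, nat_lit 0, nat_lit 2, nat_lit 1, nat_lit 2, nat_lit 0, nat_lit 3, nat_lit 0, nat_lit 2]) (.leaf (nat_lit 1515) (nat_lit 2) [nat_lit 1, nat_lit 2, nat_lit 0, nat_lit 3, nat_lit 0, nat_lit 2, nat_lit 1, nat_lit 2, nat_lit 0, nat_lit 3, nat_lit 0, nat_lit 2, nat_lit 1, nat_lit 2, nat_lit 0, nat_lit 3, nat_lit 0]))))) (.node (nat_lit 1520) (.node (nat_lit 1518) (.node (nat_lit 1517) (.leaf (nat_lit 1516) (nat_lit 0) [nat_lit 2, nat_lit 1, nat_lit 2, nat_lit 0, nat_lit 3, nat_lit 0, nat_lit 2, nat_lit 1, nat_lit 2, nat_lit 0, nat_lit 3, nat_lit 0, nat_lit 2, nat_lit 1, nat_lit 2, nat_lit 0, nat_lit 3]) (.leaf (nat_lit 1517) (nat_lit 3) [nat_lit 0, nat_lit 2, nat_lit 1, nat_lit 2, nat_lit 0, nat_lit 3, nat_lit 0, nat_lit 2, nat_lit 1, nat_lit 2, nat_lit 0, nat_lit 3, nat_lit 0, nat_lit 2, nat_lit 1, nat_lit 2, nat_lit 0])) (.node (nat_lit 1519) (.leaf (nat_lit 1512) (nat_lit 0) [nat_lit 3, nat_lit 0, nat_lit 2, nat_lit 1, nat_lit 2, nat_lit 0, nat_lit 3, nat_lit 0, nat_lit 2, nat_lit 1, nat_lit 2, nat_lit 0, nat_lit 3, nat_lit 0, nat_lit 2, nat_lit 1, nat_lit 2]) (.leaf (nat_lit 1513) (nat_lit 2) [nat_lit 0, nat_lit 3, nat_lit 0, nat_lit 2, nat_lit 1, nat_lit 2, nat_lit 0, nat_lit 3, nat_lit 0, nat_lit 2, nat_lit 1, nat_lit 2, nat_lit 0, nat_lit 3, nat_lit 0, nat_lit 2, nat_lit 1]))) (.node (nat_lit 1522) (.node (nat_lit 1521) (.leaf (nat_lit 1514) (nat_lit 1) [nat_lit 2, nat_lit 0, nat_lit 3, nat_lit 0, nat_lit 2, nat_lit 1, nat_lit 2, nat_lit 0, nat_lit 3, nat_lit 0, nat_lit 2, nat_lit 1, nat_lit 2, nat_lit 0, nat_lit 3, nat_lit 0, nat_lit 2]) (.leaf (nat_lit 1515) (nat_lit 2) [nat_lit 1, nat_lit 2, nat_lit 0, nat_lit 3, nat_lit 0, nat_lit 2, nat_lit 1, nat_lit 2, nat_lit 0, nat_lit 3, nat_lit 0, nat_lit 2, nat_lit 1, nat_lit 2, nat_lit 0, nat_lit 3, nat_lit 0])) (.node (nat_lit 1523) (.leaf (nat_lit 1516) (nat_lit 0) [nat_lit 2, nat_lit 1, nat_lit 2, nat_lit 0, nat_lit 3, nat_lit 0, nat_lit 2, nat_lit 1, nat_lit 2, nat_lit 0, nat_lit 3, nat_lit 0, nat_lit 2, nat_lit 1, nat_lit 2, nat_lit 0, nat_lit 3]) (.node (nat_lit 1524) (.leaf (nat_lit 1517) (nat_lit 3) [nat_lit 0, nat_lit 2, nat_lit 1, nat_lit 2, nat_lit 0, nat_lit 3, nat_lit 0, nat_lit 2, nat_lit 1, nat_lit 2, nat_lit 0, nat_lit 3, nat_lit 0, nat_lit 2, nat_lit 1, nat_lit 2, nat_lit 0]) (.leaf (nat_lit 1512) (nat_lit 0) [nat_lit 3, nat_lit 0, nat_lit 2, nat_lit 1, nat_lit 2, nat_lit 0, nat_lit 3, nat_lit 0, nat_lit 2, nat_lit 1, nat_lit 2, nat_lit 0, nat_lit 3, nat_lit 0, nat_lit 2, nat_lit 1, nat_lit 2])))))) (.node (nat_lit 1534) (.node (nat_lit 1529) (.node (nat_lit 1527) (.node (nat_lit 1526) (.leaf (nat_lit 1513) (nat_lit 2) [nat_lit 0, nat_lit 3, nat_lit 0, nat_lit 2, nat_lit 1, nat_lit 2, nat_lit 0, nat_lit 3, nat_lit 0, nat_lit 2, nat_lit 1, nat_lit 2, nat_lit 0, nat_lit 3, nat_lit 0, nat_lit 2, nat_lit 1]) (.leaf (nat_lit 1514) (nat_lit 1) [nat_lit 2, nat_lit 0, nat_lit 3, nat_lit 0, nat_lit 2, nat_lit 1, nat_lit 2, nat_lit 0, nat_lit 3, nat_lit 0, nat_lit 2, nat_lit 1, nat_lit 2, nat_lit 0, nat_lit 3, nat_lit 0, nat_lit 2])) (.node (nat_lit 1528) (.leaf (nat_lit 1515) (nat_lit 2) [nat_lit 1, nat_lit 2, nat_lit 0, nat_lit 3, nat_lit 0, nat_lit 2, nat_lit 1, nat_lit 2, nat_lit 0, nat_lit 3, nat_lit 0, nat_lit 2, nat_lit 1, nat_lit 2, nat_lit 0, nat_lit 3, nat_lit 0]) (.leaf (nat_lit 1516) (nat_lit 0) [nat_lit 2, nat_lit 1, nat_lit 2, nat_lit 0, nat_lit 3, nat_lit 0, nat_lit 2, nat_lit 1, nat_lit 2, nat_lit 0, nat_lit 3, nat_lit 0, nat_lit 2, nat_lit 1, nat_lit 2, nat_lit 0, nat_lit 3]))) (.node (nat_lit 1531) (.node (nat_lit 1530) (.leaf (nat_lit 1517) (nat_lit 3) [nat_lit 0, nat_lit 2, nat_lit 1, nat_lit 2, nat_lit 0, nat_lit 3, nat_lit 0, nat_lit 2, nat_lit 1, nat_lit 2, nat_lit 0, nat_lit 3, nat_lit 0, nat_lit 2, nat_lit 1, nat_lit 2, nat_lit 0]) (.leaf (nat_lit 1517) (nat_lit 3) [nat_lit 0, nat_lit 2, nat_lit 1, nat_lit 2, nat_lit 0, nat_lit 3, nat_lit 0, nat_lit 2, nat_lit 1, nat_lit 2, nat_lit 0, nat_lit 3, nat_lit 0, nat_lit 2, nat_lit 1, nat_lit 2, nat_lit 0])) (.node (nat_lit 1532) (.leaf (nat_lit 1512) (nat_lit 0) [nat_lit 3, nat_lit 0, nat_lit 2, nat_lit 1, nat_lit 2, nat_lit 0, nat_lit 3, nat_lit 0, nat_lit 2, nat_lit 1, nat_lit 2, nat_lit 0, nat_lit 3, nat_lit 0, nat_lit 2, nat_lit 1, nat_lit 2]) (.node (nat_lit 1533) (.leaf (nat_lit 1513) (nat_lit 2) [nat_lit 0, nat_lit 3, nat_lit 0, nat_lit 2, nat_lit 1, nat_lit 2, nat_lit 0, nat_lit 3, nat_lit 0, nat_lit 2, nat_lit 1, nat_lit 2, nat_lit 0, nat_lit 3, nat_lit 0, nat_lit 2, nat_lit 1]) (.leaf (nat_lit 1514) (nat_lit 1) [nat_lit 2, nat_lit 0, nat_lit 3, nat_lit 0, nat_lit 2, nat_lit 1, nat_lit 2, nat_lit 0, nat_lit 3, nat_lit 0, nat_lit 2, nat_lit 1, nat_lit 2, nat_lit 0, nat_lit 3, nat_lit 0, nat_lit 2]))))) (.node (nat_lit 1539) (.node (nat_lit 1536) (.node (nat_lit 1535) (.leaf (nat_lit 1515) (nat_lit 2) [nat_lit 1, nat_lit 2, nat_lit 0, nat_lit 3, nat_lit 0, nat_lit 2, nat_lit 1, nat_lit 2, nat_lit 0, nat_lit 3, nat_lit 0, nat_lit 2, nat_lit 1, nat_lit 2, nat_lit 0, nat_lit 3, nat_lit 0]) (.leaf (nat_lit 1516) (nat_lit 0) [nat_lit 2, nat_lit 1, nat_lit 2, nat_lit 0, nat_lit 3, nat_lit 0, nat_lit 2, nat_lit 1, nat_lit 2, nat_lit 0, nat_lit 3, nat_lit 0, nat_lit 2, nat_lit 1, nat_lit 2, nat_lit 0, nat_lit 3])) (.node (nat_lit 1537) (.leaf (nat_lit 1517) (nat_lit 3) [nat_lit 0, nat_lit 2, nat_lit 1, nat_lit 2, nat_lit 0, nat_lit 3, nat_lit 0, nat_lit 2, nat_lit 1, nat_lit 2, nat_lit 0, nat_lit 3, nat_lit 0, nat_lit 2, nat_lit 1, nat_lit 2, nat_lit 0]) (.node (nat_lit 1538) (.leaf (nat_lit 1512) (nat_lit 0) [nat_lit 3, nat_lit 0, nat_lit 2, nat_lit 1, nat_lit 2, nat_lit 0, nat_lit 3, nat_lit 0, nat_lit 2, nat_lit 1, nat_lit 2, nat_lit 0, nat_lit 3, nat_lit 0, nat_lit 2, nat_lit 1, nat_lit 2]) (.leaf (nat_lit 1513) (nat_lit 2) [nat_lit 0, nat_lit 3, nat_lit 0, nat_lit 2, nat_lit 1, nat_lit 2, nat_lit 0, nat_lit 3, nat_lit 0, nat_lit 2, nat_lit 1, nat_lit 2, nat_lit 0, nat_lit 3, nat_lit 0, nat_lit 2, nat_lit 1])))) (.node (nat_lit 1541) (.node (nat_lit 1540) (.leaf (nat_lit 1514) (nat_lit 1) [nat_lit 2, nat_lit 0, nat_lit 3, nat_lit 0, nat_lit 2, nat_lit 1, nat_lit 2, nat_lit 0, nat_lit 3, nat_lit 0, nat_lit 2, nat_lit 1, nat_lit 2, nat_lit 0, nat_lit 3, nat_lit 0, nat_lit 2]) (.leaf (nat_lit 1515) (nat_lit 2) [nat_lit 1, nat_lit 2, nat_lit 0, nat_lit 3, nat_lit 0, nat_lit 2, nat_lit 1, nat_lit 2, nat_lit 0, nat_lit 3, nat_lit 0, nat_lit 2, nat_lit 1, nat_lit 2, nat_lit 0, nat_lit 3, nat_lit 0])) (.node (nat_lit 1542) (.leaf (nat_lit 1516) (nat_lit 0) [nat_lit 2, nat_lit 1, nat_lit 2, nat_lit 0, nat_lit 3, nat_lit 0, nat_lit 2, nat_lit 1, nat_lit 2, nat_lit 0, nat_lit 3, nat_lit 0, nat_lit 2, nat_lit 1, nat_lit 2, nat_lit 0, nat_lit 3]) (.node (nat_lit 1543) (.leaf (nat_lit 1517) (nat_lit 3) [nat_lit 0, nat_lit 2, nat_lit 1, nat_lit 2, nat_lit 0, nat_lit 3, nat_lit 0, nat_lit 2, nat_lit 1, nat_lit 2, nat_lit 0, nat_lit 3, nat_lit 0, nat_lit 2, nat_lit 1, nat_lit 2, nat_lit 0]) (.leaf (nat_lit 1512) (nat_lit 0) [nat_lit 3, nat_lit 0, nat_lit 2, nat_lit 1, nat_lit 2, nat_lit 0, nat_lit 3, nat_lit 0, nat_lit 2, nat_lit 1, nat_lit 2, nat_lit 0, nat_lit 3, nat_lit 0, nat_lit 2, nat_lit 1, nat_lit 2]))))))) (.node (nat_lit 1563) (.node (nat_lit 1553) (.node (nat_lit 1548) (.node (nat_lit 1546) (.node (nat_lit 1545) (.leaf (nat_lit 1513) (nat_lit 2) [nat_lit 0, nat_lit 3, nat_lit 0, nat_lit 2, nat_lit 1, nat_lit 2, nat_lit 0, nat_lit 3, nat_lit 0, nat_lit 2, nat_lit 1, nat_lit 2, nat_lit 0, nat_lit 3, nat_lit 0, nat_lit 2, nat_lit 1]) (.leaf (nat_lit 1514) (nat_lit 1) [nat_lit 2, nat_lit 0, nat_lit 3, nat_lit 0, nat_lit 2, nat_lit 1, nat_lit 2, nat_lit 0, nat_lit 3, nat_lit 0, nat_lit 2, nat_lit 1, nat_lit 2, nat_lit 0, nat_lit 3, nat_lit 0, nat_lit 2])) (.node (nat_lit 1547) (.leaf (nat_lit 1515) (nat_lit 2) [nat_lit 1, nat_lit 2, nat_lit 0, nat_lit 3, nat_lit 0, nat_lit 2, nat_lit 1, nat_lit 2, nat_lit 0, nat_lit 3, nat_lit 0, nat_lit 2, nat_lit 1, nat_lit 2, nat_lit 0, nat_lit 3, nat_lit 0]) (.leaf (nat_lit 1516) (nat_lit 0) [nat_lit 2, nat_lit 1, nat_lit 2, nat_lit 0, nat_lit 3, nat_lit 0, nat_lit 2, nat_lit 1, nat_lit 2, nat_lit 0, nat_lit 3, nat_lit 0, nat_lit 2, nat_lit 1, nat_lit 2, nat_lit 0, nat_lit 3]))) (.node (nat_lit 1550) (.node (nat_lit 1549) (.leaf (nat_lit 1548) (nat_lit 0) [nat_lit 3, nat_lit 0, nat_lit 2, nat_lit 3, nat_lit 2, nat_lit 0, nat_lit 3, nat_lit 0, nat_lit 2, nat_lit 3, nat_lit 2, nat_lit 0, nat_lit 3, nat_lit 0, nat_lit 2, nat_lit 3, nat_lit 2]) (.leaf (nat_lit 1549) (nat_lit 2) [nat_lit 0, nat_lit 3, nat_lit 0, nat_lit 2, nat_lit 3, nat_lit 2, nat_lit 0, nat_lit 3, nat_lit 0, nat_lit 2, nat_lit 3, nat_lit 2, nat_lit 0, nat_lit 3, nat_lit 0, nat_lit 2, nat_lit 3])) (.node (nat_lit 1551) (.leaf (nat_lit 1550) (nat_lit 3) [nat_lit 2, nat_lit 0, nat_lit 3, nat_lit 0, nat_lit 2, nat_lit 3, nat_lit 2, nat_lit 0, nat_lit 3, nat_lit 0, nat_lit 2, nat_lit 3, nat_lit 2, nat_lit 0, nat_lit 3, nat_lit 0, nat_lit 2]) (.node (nat_lit 1552) (.leaf (nat_lit 1551) (nat_lit 2) [nat_lit 3, nat_lit 2, nat_lit 0, nat_lit 3, nat_lit 0, nat_lit 2, nat_lit 3, nat_lit 2, nat_lit 0, nat_lit 3, nat_lit 0, nat_lit 2, nat_lit 3, nat_lit 2, nat_lit 0, nat_lit 3, nat_lit 0]) (.leaf (nat_lit 1552) (nat_lit 0) [nat_lit 2, nat_lit 3, nat_lit 2, nat_lit 0, nat_lit 3, nat_lit 0, nat_lit 2, nat_lit 3, nat_lit 2, nat_lit 0, nat_lit 3, nat_lit 0, nat_lit 2, nat_lit 3, nat_lit 2, nat_lit 0, nat_lit 3]))))) (.node (nat_lit 1558) (.node (nat_lit 1555) (.node (nat_lit 1554) (.leaf (nat_lit 1553) (nat_lit 3) [nat_lit 0, nat_lit 2, nat_lit 3, nat_lit 2, nat_lit 0, nat_lit 3, nat_lit 0, nat_lit 2, nat_lit 3, nat_lit 2, nat_lit 0, nat_lit 3, nat_lit 0, nat_lit 2, nat_lit 3, nat_lit 2, nat_lit 0]) (.leaf (nat_lit 1548) (nat_lit 0) [nat_lit 3, nat_lit 0, nat_lit 2, nat_lit 3, nat_lit 2, nat_lit 0, nat_lit 3, nat_lit 0, nat_lit 2, nat_lit 3, nat_lit 2, nat_lit 0, nat_lit 3, nat_lit 0, nat_lit 2, nat_lit 3, nat_lit 2])) (.node (nat_lit 1556) (.leaf (nat_lit 1549) (nat_lit 2) [nat_lit 0, nat_lit 3, nat_lit 0, nat_lit 2, nat_lit 3, nat_lit 2, nat_lit 0, nat_lit 3, nat_lit 0, nat_lit 2, nat_lit 3, nat_lit 2, nat_lit 0, nat_lit 3, nat_lit 0, nat_lit 2, nat_lit 3]) (.node (nat_lit 1557) (.leaf (nat_lit 1550) (nat_lit 3) [nat_lit 2, nat_lit 0, nat_lit 3, nat_lit 0, nat_lit 2, nat_lit 3, nat_lit 2, nat_lit 0, nat_lit 3, nat_lit 0, nat_lit 2, nat_lit 3, nat_lit 2, nat_lit 0, nat_lit 3, nat_lit 0, nat_lit 2]) (.leaf (nat_lit 1551) (nat_lit 2) [nat_lit 3, nat_lit 2, nat_lit 0, nat_lit 3, nat_lit 0, nat_lit 2, nat_lit 3, nat_lit 2, nat_lit 0, nat_lit 3, nat_lit 0, nat_lit 2, nat_lit 3, nat_lit 2, nat_lit 0, nat_lit 3, nat_lit 0])))) (.node (nat_lit 1560) (.node (nat_lit 1559) (.leaf (nat_lit 1552) (nat_lit 0) [nat_lit 2, nat_lit 3, nat_lit 2, nat_lit 0, nat_lit 3, nat_lit 0, nat_lit 2, nat_lit 3, nat_lit 2, nat_lit 0, nat_lit 3, nat_lit 0, nat_lit 2, nat_lit 3, nat_lit 2, nat_lit 0, nat_lit 3]) (.leaf (nat_lit 1553) (nat_lit 3) [nat_lit 0, nat_lit 2, nat_lit 3, nat_lit 2, nat_lit 0, nat_lit 3, nat_lit 0, nat_lit 2, nat_lit 3, nat_lit 2, nat_lit 0, nat_lit 3, nat_lit 0, nat_lit 2, nat_lit 3, nat_lit 2, nat_lit 0])) (.node (nat_lit 1561) (.leaf (nat_lit 1548) (nat_lit 0) [nat_lit 3, nat_lit 0, nat_lit 2, nat_lit 3, nat_lit 2, nat_lit 0, nat_lit 3, nat_lit 0, nat_lit 2, nat_lit 3, nat_lit 2, nat_lit 0, nat_lit 3, nat_lit 0, nat_lit 2, nat_lit 3, nat_lit 2]) (.node (nat_lit 1562) (.leaf (nat_lit 1549) (nat_lit 2) [nat_lit 0, nat_lit 3, nat_lit 0, nat_lit 2, nat_lit 3, nat_lit 2, nat_lit 0, nat_lit 3, nat_lit 0, nat_lit 2, nat_lit 3, nat_lit 2, nat_lit 0, nat_lit 3, nat_lit 0, nat_lit 2, nat_lit 3]) (.leaf (nat_lit 1550) (nat_lit 3) [nat_lit 2, nat_lit 0, nat_lit 3, nat_lit 0, nat_lit 2, nat_lit 3, nat_lit 2, nat_lit 0, nat_lit 3, nat_lit 0, nat_lit 2, nat_lit 3, nat_lit 2, nat_lit 0, nat_lit 3, nat_lit 0, nat_lit 2])))))) (.node (nat_lit 1572) (.node (nat_lit 1567) (.node (nat_lit 1565) (.node (nat_lit 1564) (.leaf (nat_lit 1551) (nat_lit 2) [nat_lit 3, nat_lit 2, nat_lit 0, nat_lit 3, nat_lit 0, nat_lit 2, nat_lit 3, nat_lit 2, nat_lit 0, nat_lit 3, nat_lit 0, nat_lit 2, nat_lit 3, nat_lit 2, nat_lit 0, nat_lit 3, nat_lit 0]) (.leaf (nat_lit 1552) (nat_lit 0) [nat_lit 2, nat_lit 3, nat_lit 2, nat_lit 0, nat_lit 3, nat_lit 0, nat_lit 2, nat_lit 3, nat_lit 2, nat_lit 0, nat_lit 3, nat_lit 0, nat_lit 2, nat_lit 3, nat_lit 2, nat_lit 0, nat_lit 3])) (.node (nat_lit 1566) (.leaf (nat_lit 1553) (nat_lit 3) [nat_lit 0, nat_lit 2, nat_lit 3, nat_lit 2, nat_lit 0, nat_lit 3, nat_lit 0, nat_lit 2, nat_lit 3, nat_lit 2, nat_lit 0, nat_lit 3, nat_lit 0, nat_lit 2, nat_lit 3, nat_lit 2, nat_lit 0]) (.leaf (nat_lit 1553) (nat_lit 3) [nat_lit 0, nat_lit 2, nat_lit 3, nat_lit 2, nat_lit 0, nat_lit 3, nat_lit 0, nat_lit 2, nat_lit 3, nat_lit 2, nat_lit 0, nat_lit 3, nat_lit 0, nat_lit 2, nat_lit 3, nat_lit 2, nat_lit 0]))) (.node (nat_lit 1569) (.node (nat_lit 1568) (.leaf (nat_lit 1548) (nat_lit 0) [nat_lit 3, nat_lit 0, nat_lit 2, nat_lit 3, nat_lit 2, nat_lit 0, nat_lit 3, nat_lit 0, nat_lit 2, nat_lit 3, nat_lit 2, nat_lit 0, nat_lit 3, nat_lit 0, nat_lit 2, nat_lit 3, nat_lit 2]) (.leaf (nat_lit 1549) (nat_lit 2) [nat_lit 0, nat_lit 3, nat_lit 0, nat_lit 2, nat_lit 3, nat_lit 2, nat_lit 0, nat_lit 3, nat_lit 0, nat_lit 2, nat_lit 3, nat_lit 2, nat_lit 0, nat_lit 3, nat_lit 0, nat_lit 2, nat_lit 3])) (.node (nat_lit 1570) (.leaf (nat_lit 1550) (nat_lit 3) [nat_lit 2, nat_lit 0, nat_lit 3, nat_lit 0, nat_lit 2, nat_lit 3, nat_lit 2, nat_lit 0, nat_lit 3, nat_lit 0, nat_lit 2, nat_lit 3, nat_lit 2, nat_lit 0, nat_lit 3, nat_lit 0, nat_lit 2]) (.node (nat_lit 1571) (.leaf (nat_lit 1551) (nat_lit 2) [nat_lit 3, nat_lit 2, nat_lit 0, nat_lit 3, nat_lit 0, nat_lit 2, nat_lit 3, nat_lit 2, nat_lit 0, nat_lit 3, nat_lit 0, nat_lit 2, nat_lit 3, nat_lit 2, nat_lit 0, nat_lit 3, nat_lit 0]) (.leaf (nat_lit 1552) (nat_lit 0) [nat_lit 2, nat_lit 3, nat_lit 2, nat_lit 0, nat_lit 3, nat_lit 0, nat_lit 2, nat_lit 3, nat_lit 2, nat_lit 0, nat_lit 3, nat_lit 0, nat_lit 2, nat_lit 3, nat_lit 2, nat_lit 0, nat_lit 3]))))) (.node (nat_lit 1577) (.node (nat_lit 1574) (.node (nat_lit 1573) (.leaf (nat_lit 1553) (nat_lit 3) [nat_lit 0, nat_lit 2, nat_lit 3, nat_lit 2, nat_lit 0, nat_lit 3, nat_lit 0, nat_lit 2, nat_lit 3, nat_lit 2, nat_lit 0, nat_lit 3, nat_lit 0, nat_lit 2, nat_lit 3, nat_lit 2, nat_lit 0]) (.leaf (nat_lit 1548) (nat_lit 0) [nat_lit 3, nat_lit 0, nat_lit 2, nat_lit 3, nat_lit 2, nat_lit 0, nat_lit 3, nat_lit 0, nat_lit 2, nat_lit 3, nat_lit 2, nat_lit 0, nat_lit 3, nat_lit 0, nat_lit 2, nat_lit 3, nat_lit 2])) (.node (nat_lit 1575) (.leaf (nat_lit 1549) (nat_lit 2) [nat_lit 0, nat_lit 3, nat_lit 0, nat_lit 2, nat_lit 3, nat_lit 2, nat_lit 0, nat_lit 3, nat_lit 0, nat_lit 2, nat_lit 3, nat_lit 2, nat_lit 0, nat_lit 3, nat_lit 0, nat_lit 2, nat_lit 3]) (.node (nat_lit 1576) (.leaf (nat_lit 1550) (nat_lit 3) [nat_lit 2, nat_lit 0, nat_lit 3, nat_lit 0, nat_lit 2, nat_lit 3, nat_lit 2, nat_lit 0, nat_lit 3, nat_lit 0, nat_lit 2, nat_lit 3, nat_lit 2, nat_lit 0, nat_lit 3, nat_lit 0, nat_lit 2]) (.leaf (nat_lit 1551) (nat_lit 2) [nat_lit 3, nat_lit 2, nat_lit 0, nat_lit 3, nat_lit 0, nat_lit 2, nat_lit 3, nat_lit 2, nat_lit 0, nat_lit 3, nat_lit 0, nat_lit 2, nat_lit 3, nat_lit 2, nat_lit 0, nat_lit 3, nat_lit 0])))) (.node (nat_lit 1579) (.node (nat_lit 1578) (.leaf (nat_lit 1552) (nat_lit 0) [nat_lit 2, nat_lit 3, nat_lit 2, nat_lit 0, nat_lit 3, nat_lit 0, nat_lit 2, nat_lit 3, nat_lit 2, nat_lit 0, nat_lit 3, nat_lit 0, nat_lit 2, nat_lit 3, nat_lit 2, nat_lit 0, nat_lit 3]) (.leaf (nat_lit 1553) (nat_lit 3) [nat_lit 0, nat_lit 2, nat_lit 3, nat_lit 2, nat_lit 0, nat_lit 3, nat_lit 0, nat_lit 2, nat_lit 3, nat_lit 2, nat_lit 0, nat_lit 3, nat_lit 0, nat_lit 2, nat_lit 3, nat_lit 2, nat_lit 0])) (.node (nat_lit 1580) (.leaf (nat_lit 1548) (nat_lit 0) [nat_lit 3, nat_lit 0, nat_lit 2, nat_lit 3, nat_lit 2, nat_lit 0, nat_lit 3, nat_lit 0, nat_lit 2, nat_lit 3, nat_lit 2, nat_lit 0, nat_lit 3, nat_lit 0, nat_lit 2, nat_lit 3, nat_lit 2]) (.node (nat_lit 1581) (.leaf (nat_lit 1549) (nat_lit 2) [nat_lit 0, nat_lit 3, nat_lit 0, nat_lit 2, nat_lit 3, nat_lit 2, nat_lit 0, nat_lit 3, nat_lit 0, nat_lit 2, nat_lit 3, nat_lit 2, nat_lit 0, nat_lit 3, nat_lit 0, nat_lit 2, nat_lit 3]) (.leaf (nat_lit 1550) (nat_lit 3) [nat_lit 2, nat_lit 0, nat_lit 3, nat_lit 0, nat_lit 2, nat_lit 3, nat_lit 2, nat_lit 0, nat_lit 3, nat_lit 0, nat_lit 2, nat_lit 3, nat_lit 2, nat_lit 0, nat_lit 3, nat_lit 0, nat_lit 2])))))))) (.node (nat_lit 1620) (.node (nat_lit 1601) (.node (nat_lit 1591) (.node (nat_lit 1586) (.node (nat_lit 1584) (.node (nat_lit 1583) (.leaf (nat_lit 1551) (nat_lit 2) [nat_lit 3, nat_lit 2, nat_lit 0, nat_lit 3, nat_lit 0, nat_lit 2, nat_lit 3, nat_lit 2, nat_lit 0, nat_lit 3, nat_lit 0, nat_lit 2, nat_lit 3, nat_lit 2, nat_lit 0, nat_lit 3, nat_lit 0]) (.leaf (nat_lit 1552) (nat_lit 0) [nat_lit 2, nat_lit 3, nat_lit 2, nat_lit 0, nat_lit 3, nat_lit 0, nat_lit 2, nat_lit 3, nat_lit 2, nat_lit 0, nat_lit 3, nat_lit 0, nat_lit 2, nat_lit 3, nat_lit 2, nat_lit 0, nat_lit 3])) (.node (nat_lit 1585) (.leaf (nat_lit 1584) (nat_lit 0) [nat_lit 1, nat_lit 0, nat_lit 3, nat_lit 0, nat_lit 3, nat_lit 0, nat_lit 1, nat_lit 0, nat_lit 3, nat_lit 0, nat_lit 3, nat_lit 0, nat_lit 1, nat_lit 0, nat_lit 3, nat_lit 0, nat_lit 3]) (.leaf (nat_lit 1585) (nat_lit 3) [nat_lit 0, nat_lit 1, nat_lit 0, nat_lit 3, nat_lit 0, nat_lit 3, nat_lit 0, nat_lit 1, nat_lit 0, nat_lit 3, nat_lit 0, nat_lit 3, nat_lit 0, nat_lit 1, nat_lit 0, nat_lit 3, nat_lit 0]))) (.node (nat_lit 1588) (.node (nat_lit 1587) (.leaf (nat_lit 1586) (nat_lit 0) [nat_lit 3, nat_lit 0, nat_lit 1, nat_lit 0, nat_lit 3, nat_lit 0, nat_lit 3, nat_lit 0, nat_lit 1, nat_lit 0, nat_lit 3, nat_lit 0, nat_lit 3, nat_lit 0, nat_lit 1, nat_lit 0, nat_lit 3]) (.leaf (nat_lit 1587) (nat_lit 3) [nat_lit 0, nat_lit 3, nat_lit 0, nat_lit 1, nat_lit 0, nat_lit 3, nat_lit 0, nat_lit 3, nat_lit 0, nat_lit 1, nat_lit 0, nat_lit 3, nat_lit 0, nat_lit 3, nat_lit 0, nat_lit 1, nat_lit 0])) (.node (nat_lit 1589) (.leaf (nat_lit 1588) (nat_lit 0) [nat_lit 3, nat_lit 0, nat_lit 3, nat_lit 0, nat_lit 1, nat_lit 0, nat_lit 3, nat_lit 0, nat_lit 3, nat_lit 0, nat_lit 1, nat_lit 0, nat_lit 3, nat_lit 0, nat_lit 3, nat_lit 0, nat_lit 1]) (.node (nat_lit 1590) (.leaf (nat_lit 1589) (nat_lit 1) [nat_lit 0, nat_lit 3, nat_lit 0, nat_lit 3, nat_lit 0, nat_lit 1, nat_lit 0, nat_lit 3, nat_lit 0, nat_lit 3, nat_lit 0, nat_lit 1, nat_lit 0, nat_lit 3, nat_lit 0, nat_lit 3, nat_lit 0]) (.leaf (nat_lit 1584) (nat_lit 0) [nat_lit 1, nat_lit 0, nat_lit 3, nat_lit 0, nat_lit 3, nat_lit 0, nat_lit 1, nat_lit 0, nat_lit 3, nat_lit 0, nat_lit 3, nat_lit 0, nat_lit 1, nat_lit 0, nat_lit 3, nat_lit 0, nat_lit 3]))))) (.node (nat_lit 1596) (.node (nat_lit 1593) (.node (nat_lit 1592) (.leaf (nat_lit 1585) (nat_lit 3) [nat_lit 0, nat_lit 1, nat_lit 0, nat_lit 3, nat_lit 0, nat_lit 3, nat_lit 0, nat_lit 1, nat_lit 0, nat_lit 3, nat_lit 0, nat_lit 3, nat_lit 0, nat_lit 1, nat_lit 0, nat_lit 3, nat_lit 0]) (.leaf (nat_lit 1586) (nat_lit 0) [nat_lit 3, nat_lit 0, nat_lit 1, nat_lit 0, nat_lit 3, nat_lit 0, nat_lit 3, nat_lit 0, nat_lit 1, nat_lit 0, nat_lit 3, nat_lit 0, nat_lit 3, nat_lit 0, nat_lit 1, nat_lit 0, nat_lit 3])) (.node (nat_lit 1594) (.leaf (nat_lit 1587) (nat_lit 3) [nat_lit 0, nat_lit 3, nat_lit 0, nat_lit 1, nat_lit 0, nat_lit 3, nat_lit 0, nat_lit 3, nat_lit 0, nat_lit 1, nat_lit 0, nat_lit 3, nat_lit 0, nat_lit 3, nat_lit 0, nat_lit 1, nat_lit 0]) (.node (nat_lit 1595) (.leaf (nat_lit 1588) (nat_lit 0) [nat_lit 3, nat_lit 0, nat_lit 3, nat_lit 0, nat_lit 1, nat_lit 0, nat_lit 3, nat_lit 0, nat_lit 3, nat_lit 0, nat_lit 1, nat_lit 0, nat_lit 3, nat_lit 0, nat_lit 3, nat_lit 0, nat_lit 1]) (.leaf (nat_lit 1589) (nat_lit 1) [nat_lit 0, nat_lit 3, nat_lit 0, nat_lit 3, nat_lit 0, nat_lit 1, nat_lit 0, nat_lit 3, nat_lit 0, nat_lit 3, nat_lit 0, nat_lit 1, nat_lit 0, nat_lit 3, nat_lit 0, nat_lit 3, nat_lit 0])))) (.node (nat_lit 1598) (.node (nat_lit 1597) (.leaf (nat_lit 1584) (nat_lit 0) [nat_lit 1, nat_lit 0, nat_lit 3, nat_lit 0, nat_lit 3, nat_lit 0, nat_lit 1, nat_lit 0, nat_lit 3, nat_lit 0, nat_lit 3, nat_lit 0, nat_lit 1, nat_lit 0, nat_lit 3, nat_lit 0, nat_lit 3]) (.leaf (nat_lit 1585) (nat_lit 3) [nat_lit 0, nat_lit 1, nat_lit 0, nat_lit 3, nat_lit 0, nat_lit 3, nat_lit 0, nat_lit 1, nat_lit 0, nat_lit 3, nat_lit 0, nat_lit 3, nat_lit 0, nat_lit 1, nat_lit 0, nat_lit 3, nat_lit 0])) (.node (nat_lit 1599) (.leaf (nat_lit 1586) (nat_lit 0) [nat_lit 3, nat_lit 0, nat_lit 1, nat_lit 0, nat_lit 3, nat_lit 0, nat_lit 3, nat_lit 0, nat_lit 1, nat_lit 0, nat_lit 3, nat_lit 0, nat_lit 3, nat_lit 0, nat_lit 1, nat_lit 0, nat_lit 3]) (.node (nat_lit 1600) (.leaf (nat_lit 1587) (nat_lit 3) [nat_lit 0, nat_lit 3, nat_lit 0, nat_lit 1, nat_lit 0, nat_lit 3, nat_lit 0, nat_lit 3, nat_lit 0, nat_lit 1, nat_lit 0, nat_lit 3, nat_lit 0, nat_lit 3, nat_lit 0, nat_lit 1, nat_lit 0]) (.leaf (nat_lit 1588) (nat_lit 0) [nat_lit 3, nat_lit 0, nat_lit 3, nat_lit 0, nat_lit 1, nat_lit 0, nat_lit 3, nat_lit 0, nat_lit 3, nat_lit 0, nat_lit 1, nat_lit 0, nat_lit 3, nat_lit 0, nat_lit 3, nat_lit 0, nat_lit 1])))))) (.node (nat_lit 1610) (.node (nat_lit 1605) (.node (nat_lit 1603) (.node (nat_lit 1602) (.leaf (nat_lit 1589) (nat_lit 1) [nat_lit 0, nat_lit 3, nat_lit 0, nat_lit 3, nat_lit 0, nat_lit 1, nat_lit 0, nat_lit 3, nat_lit 0, nat_lit 3, nat_lit 0, nat_lit 1, nat_lit 0, nat_lit 3, nat_lit 0, nat_lit 3, nat_lit 0]) (.leaf (nat_lit 1589) (nat_lit 1) [nat_lit 0, nat_lit 3, nat_lit 0, nat_lit 3, nat_lit 0, nat_lit 1, nat_lit 0, nat_lit 3, nat_lit 0, nat_lit 3, nat_lit 0, nat_lit 1, nat_lit 0, nat_lit 3, nat_lit 0, nat_lit 3, nat_lit 0])) (.node (nat_lit 1604) (.leaf (nat_lit 1584) (nat_lit 0) [nat_lit 1, nat_lit 0, nat_lit 3, nat_lit 0, nat_lit 3, nat_lit 0, nat_lit 1, nat_lit 0, nat_lit 3, nat_lit 0, nat_lit 3, nat_lit 0, nat_lit 1, nat_lit 0, nat_lit 3, nat_lit 0, nat_lit 3]) (.leaf (nat_lit 1585) (nat_lit 3) [nat_lit 0, nat_lit 1, nat_lit 0, nat_lit 3, nat_lit 0, nat_lit 3, nat_lit 0, nat_lit 1, nat_lit 0, nat_lit 3, nat_lit 0, nat_lit 3, nat_lit 0, nat_lit 1, nat_lit 0, nat_lit 3, nat_lit 0]))) (.node (nat_lit 1607) (.node (nat_lit 1606) (.leaf (nat_lit 1586) (nat_lit 0) [nat_lit 3, nat_lit 0, nat_lit 1, nat_lit 0, nat_lit 3, nat_lit 0, nat_lit 3, nat_lit 0, nat_lit 1, nat_lit 0, nat_lit 3, nat_lit 0, nat_lit 3, nat_lit 0, nat_lit 1, nat_lit 0, nat_lit 3]) (.leaf (nat_lit 1587) (nat_lit 3) [nat_lit 0, nat_lit 3, nat_lit 0, nat_lit 1, nat_lit 0, nat_lit 3, nat_lit 0, nat_lit 3, nat_lit 0, nat_lit 1, nat_lit 0, nat_lit 3, nat_lit 0, nat_lit 3, nat_lit 0, nat_lit 1, nat_lit 0])) (.node (nat_lit 1608) (.leaf (nat_lit 1588) (nat_lit 0) [nat_lit 3, nat_lit 0, nat_lit 3, nat_lit 0, nat_lit 1, nat_lit 0, nat_lit 3, nat_lit 0, nat_lit 3, nat_lit 0, nat_lit 1, nat_lit 0, nat_lit 3, nat_lit 0, nat_lit 3, nat_lit 0, nat_lit 1]) (.node (nat_lit 1609) (.leaf (nat_lit 1589) (nat_lit 1) [nat_lit 0, nat_lit 3, nat_lit 0, nat_lit 3, nat_lit 0, nat_lit 1, nat_lit 0, nat_lit 3, nat_lit 0, nat_lit 3, nat_lit 0, nat_lit 1, nat_lit 0, nat_lit 3, nat_lit 0, nat_lit 3, nat_lit 0]) (.leaf (nat_lit 1584) (nat_lit 0) [nat_lit 1, nat_lit 0, nat_lit 3, nat_lit 0, nat_lit 3, nat_lit 0, nat_lit 1, nat_lit 0, nat_lit 3, nat_lit 0, nat_lit 3, nat_lit 0, nat_lit 1, nat_lit 0, nat_lit 3, nat_lit 0, nat_lit 3]))))) (.node (nat_lit 1615) (.node (nat_lit 1612) (.node (nat_lit 1611) (.leaf (nat_lit 1585) (nat_lit 3) [nat_lit 0, nat_lit 1, nat_lit 0, nat_lit 3, nat_lit 0, nat_lit 3, nat_lit 0, nat_lit 1, nat_lit 0, nat_lit 3, nat_lit 0, nat_lit 3, nat_lit 0, nat_lit 1, nat_lit 0, nat_lit 3, nat_lit 0]) (.leaf (nat_lit 1586) (nat_lit 0) [nat_lit 3, nat_lit 0, nat_lit 1, nat_lit 0, nat_lit 3, nat_lit 0, nat_lit 3, nat_lit 0, nat_lit 1, nat_lit 0, nat_lit 3, nat_lit 0, nat_lit 3, nat_lit 0, nat_lit 1, nat_lit 0, nat_lit 3])) (.node (nat_lit 1613) (.leaf (nat_lit 1587) (nat_lit 3) [nat_lit 0, nat_lit 3, nat_lit 0, nat_lit 1, nat_lit 0, nat_lit 3, nat_lit 0, nat_lit 3, nat_lit 0, nat_lit 1, nat_lit 0, nat_lit 3, nat_lit 0, nat_lit 3, nat_lit 0, nat_lit 1, nat_lit 0]) (.node (nat_lit 1614) (.leaf (nat_lit 1588) (nat_lit 0) [nat_lit 3, nat_lit 0, nat_lit 3, nat_lit 0, nat_lit 1, nat_lit 0, nat_lit 3, nat_lit 0, nat_lit 3, nat_lit 0, nat_lit 1, nat_lit 0, nat_lit 3, nat_lit 0, nat_lit 3, nat_lit 0, nat_lit 1]) (.leaf (nat_lit 1589) (nat_lit 1) [nat_lit 0, nat_lit 3, nat_lit 0, nat_lit 3, nat_lit 0, nat_lit 1, nat_lit 0, nat_lit 3, nat_lit 0, nat_lit 3, nat_lit 0, nat_lit 1, nat_lit 0, nat_lit 3, nat_lit 0, nat_lit 3, nat_lit 0])))) (.node (nat_lit 1617) (.node (nat_lit 1616) (.leaf (nat_lit 1584) (nat_lit 0) [nat_lit 1, nat_lit 0, nat_lit 3, nat_lit 0, nat_lit 3, nat_lit 0, nat_lit 1, nat_lit 0, nat_lit 3, nat_lit 0, nat_lit 3, nat_lit 0, nat_lit 1, nat_lit 0, nat_lit 3, nat_lit 0, nat_lit 3]) (.leaf (nat_lit 1585) (nat_lit 3) [nat_lit 0, nat_lit 1, nat_lit 0, nat_lit 3, nat_lit 0, nat_lit 3, nat_lit 0, nat_lit 1, nat_lit 0, nat_lit 3, nat_lit 0, nat_lit 3, nat_lit 0, nat_lit 1, nat_lit 0, nat_lit 3, nat_lit 0])) (.node (nat_lit 1618) (.leaf (nat_lit 1586) (nat_lit 0) [nat_lit 3, nat_lit 0, nat_lit 1, nat_lit 0, nat_lit 3, nat_lit 0, nat_lit 3, nat_lit 0, nat_lit 1, nat_lit 0, nat_lit 3, nat_lit 0, nat_lit 3, nat_lit 0, nat_lit 1, nat_lit 0, nat_lit 3]) (.node (nat_lit 1619) (.leaf (nat_lit 1587) (nat_lit 3) [nat_lit 0, nat_lit 3, nat_lit 0, nat_lit 1, nat_lit 0, nat_lit 3, nat_lit 0, nat_lit 3, nat_lit 0, nat_lit 1, nat_lit 0, nat_lit 3, nat_lit 0, nat_lit 3, nat_lit 0, nat_lit 1, nat_lit 0]) (.leaf (nat_lit 1588) (nat_lit 0) [nat_lit 3, nat_lit 0, nat_lit 3, nat_lit 0, nat_lit 1, nat_lit 0, nat_lit 3, nat_lit 0, nat_lit 3, nat_lit 0, nat_lit 1, nat_lit 0, nat_lit 3, nat_lit 0, nat_lit 3, nat_lit 0, nat_lit 1]))))))) (.node (nat_lit 1639) (.node (nat_lit 1629) (.node (nat_lit 1624) (.node (nat_lit 1622) (.node (nat_lit 1621) (.leaf (nat_lit 1620) (nat_lit 0) [nat_lit 1, nat_lit 0, nat_lit 3, nat_lit 1, nat_lit 3, nat_lit 0, nat_lit 1, nat_lit 0, nat_lit 3, nat_lit 1, nat_lit 3, nat_lit 0, nat_lit 1, nat_lit 0, nat_lit 3, nat_lit 1, nat_lit 3]) (.leaf (nat_lit 1621) (nat_lit 3) [nat_lit 0, nat_lit 1, nat_lit 0, nat_lit 3, nat_lit 1, nat_lit 3, nat_lit 0, nat_lit 1, nat_lit 0, nat_lit 3, nat_lit 1, nat_lit 3, nat_lit 0, nat_lit 1, nat_lit 0, nat_lit 3, nat_lit 1])) (.node (nat_lit 1623) (.leaf (nat_lit 1622) (nat_lit 1) [nat_lit 3, nat_lit 0, nat_lit 1, nat_lit 0, nat_lit 3, nat_lit 1, nat_lit 3, nat_lit 0, nat_lit 1, nat_lit 0, nat_lit 3, nat_lit 1, nat_lit 3, nat_lit 0, nat_lit 1, nat_lit 0, nat_lit 3]) (.leaf (nat_lit 1623) (nat_lit 3) [nat_lit 1, nat_lit 3, nat_lit 0, nat_lit 1, nat_lit 0, nat_lit 3, nat_lit 1, nat_lit 3, nat_lit 0, nat_lit 1, nat_lit 0, nat_lit 3, nat_lit 1, nat_lit 3, nat_lit 0, nat_lit 1, nat_lit 0]))) (.node (nat_lit 1626) (.node (nat_lit 1625) (.leaf (nat_lit 1624) (nat_lit 0) [nat_lit 3, nat_lit 1, nat_lit 3, nat_lit 0, nat_lit 1, nat_lit 0, nat_lit 3, nat_lit 1, nat_lit 3, nat_lit 0, nat_lit 1, nat_lit 0, nat_lit 3, nat_lit 1, nat_lit 3, nat_lit 0, nat_lit 1]) (.leaf (nat_lit 1625) (nat_lit 1) [nat_lit 0, nat_lit 3, nat_lit 1, nat_lit 3, nat_lit 0, nat_lit 1, nat_lit 0, nat_lit 3, nat_lit 1, nat_lit 3, nat_lit 0, nat_lit 1, nat_lit 0, nat_lit 3, nat_lit 1, nat_lit 3, nat_lit 0])) (.node (nat_lit 1627) (.leaf (nat_lit 1620) (nat_lit 0) [nat_lit 1, nat_lit 0, nat_lit 3, nat_lit 1, nat_lit 3, nat_lit 0, nat_lit 1, nat_lit 0, nat_lit 3, nat_lit 1, nat_lit 3, nat_lit 0, nat_lit 1, nat_lit 0, nat_lit 3, nat_lit 1, nat_lit 3]) (.node (nat_lit 1628) (.leaf (nat_lit 1621) (nat_lit 3) [nat_lit 0, nat_lit 1, nat_lit 0, nat_lit 3, nat_lit 1, nat_lit 3, nat_lit 0, nat_lit 1, nat_lit 0, nat_lit 3, nat_lit 1, nat_lit 3, nat_lit 0, nat_lit 1, nat_lit 0, nat_lit 3, nat_lit 1]) (.leaf (nat_lit 1622) (nat_lit 1) [nat_lit 3, nat_lit 0, nat_lit 1, nat_lit 0, nat_lit 3, nat_lit 1, nat_lit 3, nat_lit 0, nat_lit 1, nat_lit 0, nat_lit 3, nat_lit 1, nat_lit 3, nat_lit 0, nat_lit 1, nat_lit 0, nat_lit 3]))))) (.node (nat_lit 1634) (.node (nat_lit 1631) (.node (nat_lit 1630) (.leaf (nat_lit 1623) (nat_lit 3) [nat_lit 1, nat_lit 3, nat_lit 0, nat_lit 1, nat_lit 0, nat_lit 3, nat_lit 1, nat_lit 3, nat_lit 0, nat_lit 1, nat_lit 0, nat_lit 3, nat_lit 1, nat_lit 3, nat_lit 0, nat_lit 1, nat_lit 0]) (.leaf (nat_lit 1624) (nat_lit 0) [nat_lit 3, nat_lit 1, nat_lit 3, nat_lit 0, nat_lit 1, nat_lit 0, nat_lit 3, nat_lit 1, nat_lit 3, nat_lit 0, nat_lit 1, nat_lit 0, nat_lit 3, nat_lit 1, nat_lit 3, nat_lit 0, nat_lit 1])) (.node (nat_lit 1632) (.leaf (nat_lit 1625) (nat_lit 1) [nat_lit 0, nat_lit 3, nat_lit 1, nat_lit 3, nat_lit 0, nat_lit 1, nat_lit 0, nat_lit 3, nat_lit 1, nat_lit 3, nat_lit 0, nat_lit 1, nat_lit 0, nat_lit 3, nat_lit 1, nat_lit 3, nat_lit 0]) (.node (nat_lit 1633) (.leaf (nat_lit 1620) (nat_lit 0) [nat_lit 1, nat_lit 0, nat_lit 3, nat_lit 1, nat_lit 3, nat_lit 0, nat_lit 1, nat_lit 0, nat_lit 3, nat_lit 1, nat_lit 3, nat_lit 0, nat_lit 1, nat_lit 0, nat_lit 3, nat_lit 1, nat_lit 3]) (.leaf (nat_lit 1621) (nat_lit 3) [nat_lit 0, nat_lit 1, nat_lit 0, nat_lit 3, nat_lit 1, nat_lit 3, nat_lit 0, nat_lit 1, nat_lit 0, nat_lit 3, nat_lit 1, nat_lit 3, nat_lit 0, nat_lit 1, nat_lit 0, nat_lit 3, nat_lit 1])))) (.node (nat_lit 1636) (.node (nat_lit 1635) (.leaf (nat_lit 1622) (nat_lit 1) [nat_lit 3, nat_lit 0, nat_lit 1, nat_lit 0, nat_lit 3, nat_lit 1, nat_lit 3, nat_lit 0, nat_lit 1, nat_lit 0, nat_lit 3, nat_lit 1, nat_lit 3, nat_lit 0, nat_lit 1, nat_lit 0, nat_lit 3]) (.leaf (nat_lit 1623) (nat_lit 3) [nat_lit 1, nat_lit 3, nat_lit 0, nat_lit 1, nat_lit 0, nat_lit 3, nat_lit 1, nat_lit 3, nat_lit 0, nat_lit 1, nat_lit 0, nat_lit 3, nat_lit 1, nat_lit 3, nat_lit 0, nat_lit 1, nat_lit 0])) (.node (nat_lit 1637) (.leaf (nat_lit 1624) (nat_lit 0) [nat_lit 3, nat_lit 1, nat_lit 3, nat_lit 0, nat_lit 1, nat_lit 0, nat_lit 3, nat_lit 1, nat_lit 3, nat_lit 0, nat_lit 1, nat_lit 0, nat_lit 3, nat_lit 1, nat_lit 3, nat_lit 0, nat_lit 1]) (.node (nat_lit 1638) (.leaf (nat_lit 1625) (nat_lit 1) [nat_lit 0, nat_lit 3, nat_lit 1, nat_lit 3, nat_lit 0, nat_lit 1, nat_lit 0, nat_lit 3, nat_lit 1, nat_lit 3, nat_lit 0, nat_lit 1, nat_lit 0, nat_lit 3, nat_lit 1, nat_lit 3, nat_lit 0]) (.leaf (nat_lit 1625) (nat_lit 1) [nat_lit 0, nat_lit 3, nat_lit 1, nat_lit 3, nat_lit 0, nat_lit 1, nat_lit 0, nat_lit 3, nat_lit 1, nat_lit 3, nat_lit 0, nat_lit 1, nat_lit 0, nat_lit 3, nat_lit 1, nat_lit 3, nat_lit 0])))))) (.node (nat_lit 1648) (.node (nat_lit 1643) (.node (nat_lit 1641) (.node (nat_lit 1640) (.leaf (nat_lit 1620) (nat_lit 0) [nat_lit 1, nat_lit 0, nat_lit 3, nat_lit 1, nat_lit 3, nat_lit 0, nat_lit 1, nat_lit 0, nat_lit 3, nat_lit 1, nat_lit 3, nat_lit 0, nat_lit 1, nat_lit 0, nat_lit 3, nat_lit 1, nat_lit 3]) (.leaf (nat_lit 1621) (nat_lit 3) [nat_lit 0, nat_lit 1, nat_lit 0, nat_lit 3, nat_lit 1, nat_lit 3, nat_lit 0, nat_lit 1, nat_lit 0, nat_lit 3, nat_lit 1, nat_lit 3, nat_lit 0, nat_lit 1, nat_lit 0, nat_lit 3, nat_lit 1])) (.node (nat_lit 1642) (.leaf (nat_lit 1622) (nat_lit 1) [nat_lit 3, nat_lit 0, nat_lit 1, nat_lit 0, nat_lit 3, nat_lit 1, nat_lit 3, nat_lit 0, nat_lit 1, nat_lit 0, nat_lit 3, nat_lit 1, nat_lit 3, nat_lit 0, nat_lit 1, nat_lit 0, nat_lit 3]) (.leaf (nat_lit 1623) (nat_lit 3) [nat_lit 1, nat_lit 3, nat_lit 0, nat_lit 1, nat_lit 0, nat_lit 3, nat_lit 1, nat_lit 3, nat_lit 0, nat_lit 1, nat_lit 0, nat_lit 3, nat_lit 1, nat_lit 3, nat_lit 0, nat_lit 1, nat_lit 0]))) (.node (nat_lit 1645) (.node (nat_lit 1644) (.leaf (nat_lit 1624) (nat_lit 0) [nat_lit 3, nat_lit 1, nat_lit 3, nat_lit 0, nat_lit 1, nat_lit 0, nat_lit 3, nat_lit 1, nat_lit 3, nat_lit 0, nat_lit 1, nat_lit 0, nat_lit 3, nat_lit 1, nat_lit 3, nat_lit 0, nat_lit 1]) (.leaf (nat_lit 1625) (nat_lit 1) [nat_lit 0, nat_lit 3, nat_lit 1, nat_lit 3, nat_lit 0, nat_lit 1, nat_lit 0, nat_lit 3, nat_lit 1, nat_lit 3, nat_lit 0, nat_lit 1, nat_lit 0, nat_lit 3, nat_lit 1, nat_lit 3, nat_lit 0])) (.node (nat_lit 1646) (.leaf (nat_lit 1620) (nat_lit 0) [nat_lit 1, nat_lit 0, nat_lit 3, nat_lit 1, nat_lit 3, nat_lit 0, nat_lit 1, nat_lit 0, nat_lit 3, nat_lit 1, nat_lit 3, nat_lit 0, nat_lit 1, nat_lit 0, nat_lit 3, nat_lit 1, nat_lit 3]) (.node (nat_lit 1647) (.leaf (nat_lit 1621) (nat_lit 3) [nat_lit 0, nat_lit 1, nat_lit 0, nat_lit 3, nat_lit 1, nat_lit 3, nat_lit 0, nat_lit 1, nat_lit 0, nat_lit 3, nat_lit 1, nat_lit 3, nat_lit 0, nat_lit 1, nat_lit 0, nat_lit 3, nat_lit 1]) (.leaf (nat_lit 1622) (nat_lit 1) [nat_lit 3, nat_lit 0, nat_lit 1, nat_lit 0, nat_lit 3, nat_lit 1, nat_lit 3, nat_lit 0, nat_lit 1, nat_lit 0, nat_lit 3, nat_lit 1, nat_lit 3, nat_lit 0, nat_lit 1, nat_lit 0, nat_lit 3]))))) (.node (nat_lit 1653) (.node (nat_lit 1650) (.node (nat_lit 1649) (.leaf (nat_lit 1623) (nat_lit 3) [nat_lit 1, nat_lit 3, nat_lit 0, nat_lit 1, nat_lit 0, nat_lit 3, nat_lit 1, nat_lit 3, nat_lit 0, nat_lit 1, nat_lit 0, nat_lit 3, nat_lit 1, nat_lit 3, nat_lit 0, nat_lit 1, nat_lit 0]) (.leaf (nat_lit 1624) (nat_lit 0) [nat_lit 3, nat_lit 1, nat_lit 3, nat_lit 0, nat_lit 1, nat_lit 0, nat_lit 3, nat_lit 1, nat_lit 3, nat_lit 0, nat_lit 1, nat_lit 0, nat_lit 3, nat_lit 1, nat_lit 3, nat_lit 0, nat_lit 1])) (.node (nat_lit 1651) (.leaf (nat_lit 1625) (nat_lit 1) [nat_lit 0, nat_lit 3, nat_lit 1, nat_lit 3, nat_lit 0, nat_lit 1, nat_lit 0, nat_lit 3, nat_lit 1, nat_lit 3, nat_lit 0, nat_lit 1, nat_lit 0, nat_lit 3, nat_lit 1, nat_lit 3, nat_lit 0]) (.node (nat_lit 1652) (.leaf (nat_lit 1620) (nat_lit 0) [nat_lit 1, nat_lit 0, nat_lit 3, nat_lit 1, nat_lit 3, nat_lit 0, nat_lit 1, nat_lit 0, nat_lit 3, nat_lit 1, nat_lit 3, nat_lit 0, nat_lit 1, nat_lit 0, nat_lit 3, nat_lit 1, nat_lit 3]) (.leaf (nat_lit 1621) (nat_lit 3) [nat_lit 0, nat_lit 1, nat_lit 0, nat_lit 3, nat_lit 1, nat_lit 3, nat_lit 0, nat_lit 1, nat_lit 0, nat_lit 3, nat_lit 1, nat_lit 3, nat_lit 0, nat_lit 1, nat_lit 0, nat_lit 3, nat_lit 1])))) (.node (nat_lit 1655) (.node (nat_lit 1654) (.leaf (nat_lit 1622) (nat_lit 1) [nat_lit 3, nat_lit 0, nat_lit 1, nat_lit 0, nat_lit 3, nat_lit 1, nat_lit 3, nat_lit 0, nat_lit 1, nat_lit 0, nat_lit 3, nat_lit 1, nat_lit 3, nat_lit 0, nat_lit 1, nat_lit 0, nat_lit 3]) (.leaf (nat_lit 1623) (nat_lit 3) [nat_lit 1, nat_lit 3, nat_lit 0, nat_lit 1, nat_lit 0, nat_lit 3, nat_lit 1, nat_lit 3, nat_lit 0, nat_lit 1, nat_lit 0, nat_lit 3, nat_lit 1, nat_lit 3, nat_lit 0, nat_lit 1, nat_lit 0])) (.node (nat_lit 1656) (.leaf (nat_lit 1624) (nat_lit 0) [nat_lit 3, nat_lit 1, nat_lit 3, nat_lit 0, nat_lit 1, nat_lit 0, nat_lit 3, nat_lit 1, nat_lit 3, nat_lit 0, nat_lit 1, nat_lit 0, nat_lit 3, nat_lit 1, nat_lit 3, nat_lit 0, nat_lit 1]) (.node (nat_lit 1657) (.leaf (nat_lit 1656) (nat_lit 0) [nat_lit 1, nat_lit 0, nat_lit 3, nat_lit 2, nat_lit 3, nat_lit 0, nat_lit 1, nat_lit 0, nat_lit 3, nat_lit 2, nat_lit 3, nat_lit 0, nat_lit 1, nat_lit 0, nat_lit 3, nat_lit 2, nat_lit 3]) (.leaf (nat_lit 1657) (nat_lit 3) [nat_lit 0, nat_lit 1, nat_lit 0, nat_lit 3, nat_lit 2, nat_lit 3, nat_lit 0, nat_lit 1, nat_lit 0, nat_lit 3, nat_lit 2, nat_lit 3, nat_lit 0, nat_lit 1, nat_lit 0, nat_lit 3, nat_lit 2]))))))))) (.node (nat_lit 1733) (.node (nat_lit 1695) (.node (nat_lit 1676) (.node (nat_lit 1667) (.node (nat_lit 1662) (.node (nat_lit 1660) (.node (nat_lit 1659) (.leaf (nat_lit 1658) (nat_lit 2) [nat_lit 3, nat_lit 0, nat_lit 1, nat_lit 0, nat_lit 3, nat_lit 2, nat_lit 3, nat_lit 0, nat_lit 1, nat_lit 0, nat_lit 3, nat_lit 2, nat_lit 3, nat_lit 0, nat_lit 1, nat_lit 0, nat_lit 3]) (.leaf (nat_lit 1659) (nat_lit 3) [nat_lit 2, nat_lit 3, nat_lit 0, nat_lit 1, nat_lit 0, nat_lit 3, nat_lit 2, nat_lit 3, nat_lit 0, nat_lit 1, nat_lit 0, nat_lit 3, nat_lit 2, nat_lit 3, nat_lit 0, nat_lit 1, nat_lit 0])) (.node (nat_lit 1661) (.leaf (nat_lit 1660) (nat_lit 0) [nat_lit 3, nat_lit 2, nat_lit 3, nat_lit 0, nat_lit 1, nat_lit 0, nat_lit 3, nat_lit 2, nat_lit 3, nat_lit 0, nat_lit 1, nat_lit 0, nat_lit 3, nat_lit 2, nat_lit 3, nat_lit 0, nat_lit 1]) (.leaf (nat_lit 1661) (nat_lit 1) [nat_lit 0, nat_lit 3, nat_lit 2, nat_lit 3, nat_lit 0, nat_lit 1, nat_lit 0, nat_lit 3, nat_lit 2, nat_lit 3, nat_lit 0, nat_lit 1, nat_lit 0, nat_lit 3, nat_lit 2, nat_lit 3, nat_lit 0]))) (.node (nat_lit 1664) (.node (nat_lit 1663) (.leaf (nat_lit 1656) (nat_lit 0) [nat_lit 1, nat_lit 0, nat_lit 3, nat_lit 2, nat_lit 3, nat_lit 0, nat_lit 1, nat_lit 0, nat_lit 3, nat_lit 2, nat_lit 3, nat_lit 0, nat_lit 1, nat_lit 0, nat_lit 3, nat_lit 2, nat_lit 3]) (.leaf (nat_lit 1657) (nat_lit 3) [nat_lit 0, nat_lit 1, nat_lit 0, nat_lit 3, nat_lit 2, nat_lit 3, nat_lit 0, nat_lit 1, nat_lit 0, nat_lit 3, nat_lit 2, nat_lit 3, nat_lit 0, nat_lit 1, nat_lit 0, nat_lit 3, nat_lit 2])) (.node (nat_lit 1665) (.leaf (nat_lit 1658) (nat_lit 2) [nat_lit 3, nat_lit 0, nat_lit 1, nat_lit 0, nat_lit 3, nat_lit 2, nat_lit 3, nat_lit 0, nat_lit 1, nat_lit 0, nat_lit 3, nat_lit 2, nat_lit 3, nat_lit 0, nat_lit 1, nat_lit 0, nat_lit 3]) (.node (nat_lit 1666) (.leaf (nat_lit 1659) (nat_lit 3) [nat_lit 2, nat_lit 3, nat_lit 0, nat_lit 1, nat_lit 0, nat_lit 3, nat_lit 2, nat_lit 3, nat_lit 0, nat_lit 1, nat_lit 0, nat_lit 3, nat_lit 2, nat_lit 3, nat_lit 0, nat_lit 1, nat_lit 0]) (.leaf (nat_lit 1660) (nat_lit 0) [nat_lit 3, nat_lit 2, nat_lit 3, nat_lit 0, nat_lit 1, nat_lit 0, nat_lit 3, nat_lit 2, nat_lit 3, nat_lit 0, nat_lit 1, nat_lit 0, nat_lit 3, nat_lit 2, nat_lit 3, nat_lit 0, nat_lit 1]))))) (.node (nat_lit 1671) (.node (nat_lit 1669) (.node (nat_lit 1668) (.leaf (nat_lit 1661) (nat_lit 1) [nat_lit 0, nat_lit 3, nat_lit 2, nat_lit 3, nat_lit 0, nat_lit 1, nat_lit 0, nat_lit 3, nat_lit 2, nat_lit 3, nat_lit 0, nat_lit 1, nat_lit 0, nat_lit 3, nat_lit 2, nat_lit 3, nat_lit 0]) (.leaf (nat_lit 1656) (nat_lit 0) [nat_lit 1, nat_lit 0, nat_lit 3, nat_lit 2, nat_lit 3, nat_lit 0, nat_lit 1, nat_lit 0, nat_lit 3, nat_lit 2, nat_lit 3, nat_lit 0, nat_lit 1, nat_lit 0, nat_lit 3, nat_lit 2, nat_lit 3])) (.node (nat_lit 1670) (.leaf (nat_lit 1657) (nat_lit 3) [nat_lit 0, nat_lit 1, nat_lit 0, nat_lit 3, nat_lit 2, nat_lit 3, nat_lit 0, nat_lit 1, nat_lit 0, nat_lit 3, nat_lit 2, nat_lit 3, nat_lit 0, nat_lit 1, nat_lit 0, nat_lit 3, nat_lit 2]) (.leaf (nat_lit 1658) (nat_lit 2) [nat_lit 3, nat_lit 0, nat_lit 1, nat_lit 0, nat_lit 3, nat_lit 2, nat_lit 3, nat_lit 0, nat_lit 1, nat_lit 0, nat_lit 3, nat_lit 2, nat_lit 3, nat_lit 0, nat_lit 1, nat_lit 0, nat_lit 3]))) (.node (nat_lit 1673) (.node (nat_lit 1672) (.leaf (nat_lit 1659) (nat_lit 3) [nat_lit 2, nat_lit 3, nat_lit 0, nat_lit 1, nat_lit 0, nat_lit 3, nat_lit 2, nat_lit 3, nat_lit 0, nat_lit 1, nat_lit 0, nat_lit 3, nat_lit 2, nat_lit 3, nat_lit 0, nat_lit 1, nat_lit 0]) (.leaf (nat_lit 1660) (nat_lit 0) [nat_lit 3, nat_lit 2, nat_lit 3, nat_lit 0, nat_lit 1, nat_lit 0, nat_lit 3, nat_lit 2, nat_lit 3, nat_lit 0, nat_lit 1, nat_lit 0, nat_lit 3, nat_lit 2, nat_lit 3, nat_lit 0, nat_lit 1])) (.node (nat_lit 1674) (.leaf (nat_lit 1661) (nat_lit 1) [nat_lit 0, nat_lit 3, nat_lit 2, nat_lit 3, nat_lit 0, nat_lit 1, nat_lit 0, nat_lit 3, nat_lit 2, nat_lit 3, nat_lit 0, nat_lit 1, nat_lit 0, nat_lit 3, nat_lit 2, nat_lit 3, nat_lit 0]) (.node (nat_lit 1675) (.leaf (nat_lit 1661) (nat_lit 1) [nat_lit 0, nat_lit 3, nat_lit 2, nat_lit 3, nat_lit 0, nat_lit 1, nat_lit 0, nat_lit 3, nat_lit 2, nat_lit 3, nat_lit 0, nat_lit 1, nat_lit 0, nat_lit 3, nat_lit 2, nat_lit 3, nat_lit 0]) (.leaf (nat_lit 1656) (nat_lit 0) [nat_lit 1, nat_lit 0, nat_lit 3, nat_lit 2, nat_lit 3, nat_lit 0, nat_lit 1, nat_lit 0, nat_lit 3, nat_lit 2, nat_lit 3, nat_lit 0, nat_lit 1, nat_lit 0, nat_lit 3, nat_lit 2, nat_lit 3])))))) (.node (nat_lit 1685) (.node (nat_lit 1680) (.node (nat_lit 1678) (.node (nat_lit 1677) (.leaf (nat_lit 1657) (nat_lit 3) [nat_lit 0, nat_lit 1, nat_lit 0, nat_lit 3, nat_lit 2, nat_lit 3, nat_lit 0, nat_lit 1, nat_lit 0, nat_lit 3, nat_lit 2, nat_lit 3, nat_lit 0, nat_lit 1, nat_lit 0, nat_lit 3, nat_lit 2]) (.leaf (nat_lit 1658) (nat_lit 2) [nat_lit 3, nat_lit 0, nat_lit 1, nat_lit 0, nat_lit 3, nat_lit 2, nat_lit 3, nat_lit 0, nat_lit 1, nat_lit 0, nat_lit 3, nat_lit 2, nat_lit 3, nat_lit 0, nat_lit 1, nat_lit 0, nat_lit 3])) (.node (nat_lit 1679) (.leaf (nat_lit 1659) (nat_lit 3) [nat_lit 2, nat_lit 3, nat_lit 0, nat_lit 1, nat_lit 0, nat_lit 3, nat_lit 2, nat_lit 3, nat_lit 0, nat_lit 1, nat_lit 0, nat_lit 3, nat_lit 2, nat_lit 3, nat_lit 0, nat_lit 1, nat_lit 0]) (.leaf (nat_lit 1660) (nat_lit 0) [nat_lit 3, nat_lit 2, nat_lit 3, nat_lit 0, nat_lit 1, nat_lit 0, nat_lit 3, nat_lit 2, nat_lit 3, nat_lit 0, nat_lit 1, nat_lit 0, nat_lit 3, nat_lit 2, nat_lit 3, nat_lit 0, nat_lit 1]))) (.node (nat_lit 1682) (.node (nat_lit 1681) (.leaf (nat_lit 1661) (nat_lit 1) [nat_lit 0, nat_lit 3, nat_lit 2, nat_lit 3, nat_lit 0, nat_lit 1, nat_lit 0, nat_lit 3, nat_lit 2, nat_lit 3, nat_lit 0, nat_lit 1, nat_lit 0, nat_lit 3, nat_lit 2, nat_lit 3, nat_lit 0]) (.leaf (nat_lit 1656) (nat_lit 0) [nat_lit 1, nat_lit 0, nat_lit 3, nat_lit 2, nat_lit 3, nat_lit 0, nat_lit 1, nat_lit 0, nat_lit 3, nat_lit 2, nat_lit 3, nat_lit 0, nat_lit 1, nat_lit 0, nat_lit 3, nat_lit 2, nat_lit 3])) (.node (nat_lit 1683) (.leaf (nat_lit 1657) (nat_lit 3) [nat_lit 0, nat_lit 1, nat_lit 0, nat_lit 3, nat_lit 2, nat_lit 3, nat_lit 0, nat_lit 1, nat_lit 0, nat_lit 3, nat_lit 2, nat_lit 3, nat_lit 0, nat_lit 1, nat_lit 0, nat_lit 3, nat_lit 2]) (.node (nat_lit 1684) (.leaf (nat_lit 1658) (nat_lit 2) [nat_lit 3, nat_lit 0, nat_lit 1, nat_lit 0, nat_lit 3, nat_lit 2, nat_lit 3, nat_lit 0, nat_lit 1, nat_lit 0, nat_lit 3, nat_lit 2, nat_lit 3, nat_lit 0, nat_lit 1, nat_lit 0, nat_lit 3]) (.leaf (nat_lit 1659) (nat_lit 3) [nat_lit 2, nat_lit 3, nat_lit 0, nat_lit 1, nat_lit 0, nat_lit 3, nat_lit 2, nat_lit 3, nat_lit 0, nat_lit 1, nat_lit 0, nat_lit 3, nat_lit 2, nat_lit 3, nat_lit 0, nat_lit 1, nat_lit 0]))))) (.node (nat_lit 1690) (.node (nat_lit 1687) (.node (nat_lit 1686) (.leaf (nat_lit 1660) (nat_lit 0) [nat_lit 3, nat_lit 2, nat_lit 3, nat_lit 0, nat_lit 1, nat_lit 0, nat_lit 3, nat_lit 2, nat_lit 3, nat_lit 0, nat_lit 1, nat_lit 0, nat_lit 3, nat_lit 2, nat_lit 3, nat_lit 0, nat_lit 1]) (.leaf (nat_lit 1661) (nat_lit 1) [nat_lit 0, nat_lit 3, nat_lit 2, nat_lit 3, nat_lit 0, nat_lit 1, nat_lit 0, nat_lit 3, nat_lit 2, nat_lit 3, nat_lit 0, nat_lit 1, nat_lit 0, nat_lit 3, nat_lit 2, nat_lit 3, nat_lit 0])) (.node (nat_lit 1688) (.leaf (nat_lit 1656) (nat_lit 0) [nat_lit 1, nat_lit 0, nat_lit 3, nat_lit 2, nat_lit 3, nat_lit 0, nat_lit 1, nat_lit 0, nat_lit 3, nat_lit 2, nat_lit 3, nat_lit 0, nat_lit 1, nat_lit 0, nat_lit 3, nat_lit 2, nat_lit 3]) (.node (nat_lit 1689) (.leaf (nat_lit 1657) (nat_lit 3) [nat_lit 0, nat_lit 1, nat_lit 0, nat_lit 3, nat_lit 2, nat_lit 3, nat_lit 0, nat_lit 1, nat_lit 0, nat_lit 3, nat_lit 2, nat_lit 3, nat_lit 0, nat_lit 1, nat_lit 0, nat_lit 3, nat_lit 2]) (.leaf (nat_lit 1658) (nat_lit 2) [nat_lit 3, nat_lit 0, nat_lit 1, nat_lit 0, nat_lit 3, nat_lit 2, nat_lit 3, nat_lit 0, nat_lit 1, nat_lit 0, nat_lit 3, nat_lit 2, nat_lit 3, nat_lit 0, nat_lit 1, nat_lit 0, nat_lit 3])))) (.node (nat_lit 1692) (.node (nat_lit 1691) (.leaf (nat_lit 1659) (nat_lit 3) [nat_lit 2, nat_lit 3, nat_lit 0, nat_lit 1, nat_lit 0, nat_lit 3, nat_lit 2, nat_lit 3, nat_lit 0, nat_lit 1, nat_lit 0, nat_lit 3, nat_lit 2, nat_lit 3, nat_lit 0, nat_lit 1, nat_lit 0]) (.leaf (nat_lit 1660) (nat_lit 0) [nat_lit 3, nat_lit 2, nat_lit 3, nat_lit 0, nat_lit 1, nat_lit 0, nat_lit 3, nat_lit 2, nat_lit 3, nat_lit 0, nat_lit 1, nat_lit 0, nat_lit 3, nat_lit 2, nat_lit 3, nat_lit 0, nat_lit 1])) (.node (nat_lit 1693) (.leaf (nat_lit 1692) (nat_lit 0) [nat_lit 2, nat_lit 0, nat_lit 3, nat_lit 0, nat_lit 3, nat_lit 0, nat_lit 2, nat_lit 0, nat_lit 3, nat_lit 0, nat_lit 3, nat_lit 0, nat_lit 2, nat_lit 0, nat_lit 3, nat_lit 0, nat_lit 3]) (.node (nat_lit 1694) (.leaf (nat_lit 1693) (nat_lit 3) [nat_lit 0, nat_lit 2, nat_lit 0, nat_lit 3, nat_lit 0, nat_lit 3, nat_lit 0, nat_lit 2, nat_lit 0, nat_lit 3, nat_lit 0, nat_lit 3, nat_lit 0, nat_lit 2, nat_lit 0, nat_lit 3, nat_lit 0]) (.leaf (nat_lit 1694) (nat_lit 0) [nat_lit 3, nat_lit 0, nat_lit 2, nat_lit 0, nat_lit 3, nat_lit 0, nat_lit 3, nat_lit 0, nat_lit 2, nat_lit 0, nat_lit 3, nat_lit 0, nat_lit 3, nat_lit 0, nat_lit 2, nat_lit 0, nat_lit 3]))))))) (.node (nat_lit 1714) (.node (nat_lit 1704) (.node (nat_lit 1699) (.node (nat_lit 1697) (.node (nat_lit 1696) (.leaf (nat_lit 1695) (nat_lit 3) [nat_lit 0, nat_lit 3, nat_lit 0, nat_lit 2, nat_lit 0, nat_lit 3, nat_lit 0, nat_lit 3, nat_lit 0, nat_lit 2, nat_lit 0, nat_lit 3, nat_lit 0, nat_lit 3, nat_lit 0, nat_lit 2, nat_lit 0]) (.leaf (nat_lit 1696) (nat_lit 0) [nat_lit 3, nat_lit 0, nat_lit 3, nat_lit 0, nat_lit 2, nat_lit 0, nat_lit 3, nat_lit 0, nat_lit 3, nat_lit 0, nat_lit 2, nat_lit 0, nat_lit 3, nat_lit 0, nat_lit 3, nat_lit 0, nat_lit 2])) (.node (nat_lit 1698) (.leaf (nat_lit 1697) (nat_lit 2) [nat_lit 0, nat_lit 3, nat_lit 0, nat_lit 3, nat_lit 0, nat_lit 2, nat_lit 0, nat_lit 3, nat_lit 0, nat_lit 3, nat_lit 0, nat_lit 2, nat_lit 0, nat_lit 3, nat_lit 0, nat_lit 3, nat_lit 0]) (.leaf (nat_lit 1692) (nat_lit 0) [nat_lit 2, nat_lit 0, nat_lit 3, nat_lit 0, nat_lit 3, nat_lit 0, nat_lit 2, nat_lit 0, nat_lit 3, nat_lit 0, nat_lit 3, nat_lit 0, nat_lit 2, nat_lit 0, nat_lit 3, nat_lit 0, nat_lit 3]))) (.node (nat_lit 1701) (.node (nat_lit 1700) (.leaf (nat_lit 1693) (nat_lit 3) [nat_lit 0, nat_lit 2, nat_lit 0, nat_lit 3, nat_lit 0, nat_lit 3, nat_lit 0, nat_lit 2, nat_lit 0, nat_lit 3, nat_lit 0, nat_lit 3, nat_lit 0, nat_lit 2, nat_lit 0, nat_lit 3, nat_lit 0]) (.leaf (nat_lit 1694) (nat_lit 0) [nat_lit 3, nat_lit 0, nat_lit 2, nat_lit 0, nat_lit 3, nat_lit 0, nat_lit 3, nat_lit 0, nat_lit 2, nat_lit 0, nat_lit 3, nat_lit 0, nat_lit 3, nat_lit 0, nat_lit 2, nat_lit 0, nat_lit 3])) (.node (nat_lit 1702) (.leaf (nat_lit 1695) (nat_lit 3) [nat_lit 0, nat_lit 3, nat_lit 0, nat_lit 2, nat_lit 0, nat_lit 3, nat_lit 0, nat_lit 3, nat_lit 0, nat_lit 2, nat_lit 0, nat_lit 3, nat_lit 0, nat_lit 3, nat_lit 0, nat_lit 2, nat_lit 0]) (.node (nat_lit 1703) (.leaf (nat_lit 1696) (nat_lit 0) [nat_lit 3, nat_lit 0, nat_lit 3, nat_lit 0, nat_lit 2, nat_lit 0, nat_lit 3, nat_lit 0, nat_lit 3, nat_lit 0, nat_lit 2, nat_lit 0, nat_lit 3, nat_lit 0, nat_lit 3, nat_lit 0, nat_lit 2]) (.leaf (nat_lit 1697) (nat_lit 2) [nat_lit 0, nat_lit 3, nat_lit 0, nat_lit 3, nat_lit 0, nat_lit 2, nat_lit 0, nat_lit 3, nat_lit 0, nat_lit 3, nat_lit 0, nat_lit 2, nat_lit 0, nat_lit 3, nat_lit 0, nat_lit 3, nat_lit 0]))))) (.node (nat_lit 1709) (.node (nat_lit 1706) (.node (nat_lit 1705) (.leaf (nat_lit 1692) (nat_lit 0) [nat_lit 2, nat_lit 0, nat_lit 3, nat_lit 0, nat_lit 3, nat_lit 0, nat_lit 2, nat_lit 0, nat_lit 3, nat_lit 0, nat_lit 3, nat_lit 0, nat_lit 2, nat_lit 0, nat_lit 3, nat_lit 0, nat_lit 3]) (.leaf (nat_lit 1693) (nat_lit 3) [nat_lit 0, nat_lit 2, nat_lit 0, nat_lit 3, nat_lit 0, nat_lit 3, nat_lit 0, nat_lit 2, nat_lit 0, nat_lit 3, nat_lit 0, nat_lit 3, nat_lit 0, nat_lit 2, nat_lit 0, nat_lit 3, nat_lit 0])) (.node (nat_lit 1707) (.leaf (nat_lit 1694) (nat_lit 0) [nat_lit 3, nat_lit 0, nat_lit 2, nat_lit 0, nat_lit 3, nat_lit 0, nat_lit 3, nat_lit 0, nat_lit 2, nat_lit 0, nat_lit 3, nat_lit 0, nat_lit 3, nat_lit 0, nat_lit 2, nat_lit 0, nat_lit 3]) (.node (nat_lit 1708) (.leaf (nat_lit 1695) (nat_lit 3) [nat_lit 0, nat_lit 3, nat_lit 0, nat_lit 2, nat_lit 0, nat_lit 3, nat_lit 0, nat_lit 3, nat_lit 0, nat_lit 2, nat_lit 0, nat_lit 3, nat_lit 0, nat_lit 3, nat_lit 0, nat_lit 2, nat_lit 0]) (.leaf (nat_lit 1696) (nat_lit 0) [nat_lit 3, nat_lit 0, nat_lit 3, nat_lit 0, nat_lit 2, nat_lit 0, nat_lit 3, nat_lit 0, nat_lit 3, nat_lit 0, nat_lit 2, nat_lit 0, nat_lit 3, nat_lit 0, nat_lit 3, nat_lit 0, nat_lit 2])))) (.node (nat_lit 1711) (.node (nat_lit 1710) (.leaf (nat_lit 1697) (nat_lit 2) [nat_lit 0, nat_lit 3, nat_lit 0, nat_lit 3, nat_lit 0, nat_lit 2, nat_lit 0, nat_lit 3, nat_lit 0, nat_lit 3, nat_lit 0, nat_lit 2, nat_lit 0, nat_lit 3, nat_lit 0, nat_lit 3, nat_lit 0]) (.leaf (nat_lit 1697) (nat_lit 2) [nat_lit 0, nat_lit 3, nat_lit 0, nat_lit 3, nat_lit 0, nat_lit 2, nat_lit 0, nat_lit 3, nat_lit 0, nat_lit 3, nat_lit 0, nat_lit 2, nat_lit 0, nat_lit 3, nat_lit 0, nat_lit 3, nat_lit 0])) (.node (nat_lit 1712) (.leaf (nat_lit 1692) (nat_lit 0) [nat_lit 2, nat_lit 0, nat_lit 3, nat_lit 0, nat_lit 3, nat_lit 0, nat_lit 2, nat_lit 0, nat_lit 3, nat_lit 0, nat_lit 3, nat_lit 0, nat_lit 2, nat_lit 0, nat_lit 3, nat_lit 0, nat_lit 3]) (.node (nat_lit 1713) (.leaf (nat_lit 1693) (nat_lit 3) [nat_lit 0, nat_lit 2, nat_lit 0, nat_lit 3, nat_lit 0, nat_lit 3, nat_lit 0, nat_lit 2, nat_lit 0, nat_lit 3, nat_lit 0, nat_lit 3, nat_lit 0, nat_lit 2, nat_lit 0, nat_lit 3, nat_lit 0]) (.leaf (nat_lit 1694) (nat_lit 0) [nat_lit 3, nat_lit 0, nat_lit 2, nat_lit 0, nat_lit 3, nat_lit 0, nat_lit 3, nat_lit 0, nat_lit 2, nat_lit 0, nat_lit 3, nat_lit 0, nat_lit 3, nat_lit 0, nat_lit 2, nat_lit 0, nat_lit 3])))))) (.node (nat_lit 1723) (.node (nat_lit 1718) (.node (nat_lit 1716) (.node (nat_lit 1715) (.leaf (nat_lit 1695) (nat_lit 3) [nat_lit 0, nat_lit 3, nat_lit 0, nat_lit 2, nat_lit 0, nat_lit 3, nat_lit 0, nat_lit 3, nat_lit 0, nat_lit 2, nat_lit 0, nat_lit 3, nat_lit 0, nat_lit 3, nat_lit 0, nat_lit 2, nat_lit 0]) (.leaf (nat_lit 1696) (nat_lit 0) [nat_lit 3, nat_lit 0, nat_lit 3, nat_lit 0, nat_lit 2, nat_lit 0, nat_lit 3, nat_lit 0, nat_lit 3, nat_lit 0, nat_lit 2, nat_lit 0, nat_lit 3, nat_lit 0, nat_lit 3, nat_lit 0, nat_lit 2])) (.node (nat_lit 1717) (.leaf (nat_lit 1697) (nat_lit 2) [nat_lit 0, nat_lit 3, nat_lit 0, nat_lit 3, nat_lit 0, nat_lit 2, nat_lit 0, nat_lit 3, nat_lit 0, nat_lit 3, nat_lit 0, nat_lit 2, nat_lit 0, nat_lit 3, nat_lit 0, nat_lit 3, nat_lit 0]) (.leaf (nat_lit 1692) (nat_lit 0) [nat_lit 2, nat_lit 0, nat_lit 3, nat_lit 0, nat_lit 3, nat_lit 0, nat_lit 2, nat_lit 0, nat_lit 3, nat_lit 0, nat_lit 3, nat_lit 0, nat_lit 2, nat_lit 0, nat_lit 3, nat_lit 0, nat_lit 3]))) (.node (nat_lit 1720) (.node (nat_lit 1719) (.leaf (nat_lit 1693) (nat_lit 3) [nat_lit 0, nat_lit 2, nat_lit 0, nat_lit 3, nat_lit 0, nat_lit 3, nat_lit 0, nat_lit 2, nat_lit 0, nat_lit 3, nat_lit 0, nat_lit 3, nat_lit 0, nat_lit 2, nat_lit 0, nat_lit 3, nat_lit 0]) (.leaf (nat_lit 1694) (nat_lit 0) [nat_lit 3, nat_lit 0, nat_lit 2, nat_lit 0, nat_lit 3, nat_lit 0, nat_lit 3, nat_lit 0, nat_lit 2, nat_lit 0, nat_lit 3, nat_lit 0, nat_lit 3, nat_lit 0, nat_lit 2, nat_lit 0, nat_lit 3])) (.node (nat_lit 1721) (.leaf (nat_lit 1695) (nat_lit 3) [nat_lit 0, nat_lit 3, nat_lit 0, nat_lit 2, nat_lit 0, nat_lit 3, nat_lit 0, nat_lit 3, nat_lit 0, nat_lit 2, nat_lit 0, nat_lit 3, nat_lit 0, nat_lit 3, nat_lit 0, nat_lit 2, nat_lit 0]) (.node (nat_lit 1722) (.leaf (nat_lit 1696) (nat_lit 0) [nat_lit 3, nat_lit 0, nat_lit 3, nat_lit 0, nat_lit 2, nat_lit 0, nat_lit 3, nat_lit 0, nat_lit 3, nat_lit 0, nat_lit 2, nat_lit 0, nat_lit 3, nat_lit 0, nat_lit 3, nat_lit 0, nat_lit 2]) (.leaf (nat_lit 1697) (nat_lit 2) [nat_lit 0, nat_lit 3, nat_lit 0, nat_lit 3, nat_lit 0, nat_lit 2, nat_lit 0, nat_lit 3, nat_lit 0, nat_lit 3, nat_lit 0, nat_lit 2, nat_lit 0, nat_lit 3, nat_lit 0, nat_lit 3, nat_lit 0]))))) (.node (nat_lit 1728) (.node (nat_lit 1725) (.node (nat_lit 1724) (.leaf (nat_lit 1692) (nat_lit 0) [nat_lit 2, nat_lit 0, nat_lit 3, nat_lit 0, nat_lit 3, nat_lit 0, nat_lit 2, nat_lit 0, nat_lit 3, nat_lit 0, nat_lit 3, nat_lit 0, nat_lit 2, nat_lit 0, nat_lit 3, nat_lit 0, nat_lit 3]) (.leaf (nat_lit 1693) (nat_lit 3) [nat_lit 0, nat_lit 2, nat_lit 0, nat_lit 3, nat_lit 0, nat_lit 3, nat_lit 0, nat_lit 2, nat_lit 0, nat_lit 3, nat_lit 0, nat_lit 3, nat_lit 0, nat_lit 2, nat_lit 0, nat_lit 3, nat_lit 0])) (.node (nat_lit 1726) (.leaf (nat_lit 1694) (nat_lit 0) [nat_lit 3, nat_lit 0, nat_lit 2, nat_lit 0, nat_lit 3, nat_lit 0, nat_lit 3, nat_lit 0, nat_lit 2, nat_lit 0, nat_lit 3, nat_lit 0, nat_lit 3, nat_lit 0, nat_lit 2, nat_lit 0, nat_lit 3]) (.node (nat_lit 1727) (.leaf (nat_lit 1695) (nat_lit 3) [nat_lit 0, nat_lit 3, nat_lit 0, nat_lit 2, nat_lit 0, nat_lit 3, nat_lit 0, nat_lit 3, nat_lit 0, nat_lit 2, nat_lit 0, nat_lit 3, nat_lit 0, nat_lit 3, nat_lit 0, nat_lit 2, nat_lit 0]) (.leaf (nat_lit 1696) (nat_lit 0) [nat_lit 3, nat_lit 0, nat_lit 3, nat_lit 0, nat_lit 2, nat_lit 0, nat_lit 3, nat_lit 0, nat_lit 3, nat_lit 0, nat_lit 2, nat_lit 0, nat_lit 3, nat_lit 0, nat_lit 3, nat_lit 0, nat_lit 2])))) (.node (nat_lit 1730) (.node (nat_lit 1729) (.leaf (nat_lit 1728) (nat_lit 0) [nat_lit 2, nat_lit 0, nat_lit 3, nat_lit 1, nat_lit 3, nat_lit 0, nat_lit 2, nat_lit 0, nat_lit 3, nat_lit 1, nat_lit 3, nat_lit 0, nat_lit 2, nat_lit 0, nat_lit 3, nat_lit 1, nat_lit 3]) (.leaf (nat_lit 1729) (nat_lit 3) [nat_lit 0, nat_lit 2, nat_lit 0, nat_lit 3, nat_lit 1, nat_lit 3, nat_lit 0, nat_lit 2, nat_lit 0, nat_lit 3, nat_lit 1, nat_lit 3, nat_lit 0, nat_lit 2, nat_lit 0, nat_lit 3, nat_lit 1])) (.node (nat_lit 1731) (.leaf (nat_lit 1730) (nat_lit 1) [nat_lit 3, nat_lit 0, nat_lit 2, nat_lit 0, nat_lit 3, nat_lit 1, nat_lit 3, nat_lit 0, nat_lit 2, nat_lit 0, nat_lit 3, nat_lit 1, nat_lit 3, nat_lit 0, nat_lit 2, nat_lit 0, nat_lit 3]) (.node (nat_lit 1732) (.leaf (nat_lit 1731) (nat_lit 3) [nat_lit 1, nat_lit 3, nat_lit 0, nat_lit 2, nat_lit 0, nat_lit 3, nat_lit 1, nat_lit 3, nat_lit 0, nat_lit 2, nat_lit 0, nat_lit 3, nat_lit 1, nat_lit 3, nat_lit 0, nat_lit 2, nat_lit 0]) (.leaf (nat_lit 1732) (nat_lit 0) [nat_lit 3, nat_lit 1, nat_lit 3, nat_lit 0, nat_lit 2, nat_lit 0, nat_lit 3, nat_lit 1, nat_lit 3, nat_lit 0, nat_lit 2, nat_lit 0, nat_lit 3, nat_lit 1, nat_lit 3, nat_lit 0, nat_lit 2])))))))) (.node (nat_lit 1771) (.node (nat_lit 1752) (.node (nat_lit 1742) (.node (nat_lit 1737) (.node (nat_lit 1735) (.node (nat_lit 1734) (.leaf (nat_lit 1733) (nat_lit 2) [nat_lit 0, nat_lit 3, nat_lit 1, nat_lit 3, nat_lit 0, nat_lit 2, nat_lit 0, nat_lit 3, nat_lit 1, nat_lit 3, nat_lit 0, nat_lit 2, nat_lit 0, nat_lit 3, nat_lit 1, nat_lit 3, nat_lit 0]) (.leaf (nat_lit 1728) (nat_lit 0) [nat_lit 2, nat_lit 0, nat_lit 3, nat_lit 1, nat_lit 3, nat_lit 0, nat_lit 2, nat_lit 0, nat_lit 3, nat_lit 1, nat_lit 3, nat_lit 0, nat_lit 2, nat_lit 0, nat_lit 3, nat_lit 1, nat_lit 3])) (.node (nat_lit 1736) (.leaf (nat_lit 1729) (nat_lit 3) [nat_lit 0, nat_lit 2, nat_lit 0, nat_lit 3, nat_lit 1, nat_lit 3, nat_lit 0, nat_lit 2, nat_lit 0, nat_lit 3, nat_lit 1, nat_lit 3, nat_lit 0, nat_lit 2, nat_lit 0, nat_lit 3, nat_lit 1]) (.leaf (nat_lit 1730) (nat_lit 1) [nat_lit 3, nat_lit 0, nat_lit 2, nat_lit 0, nat_lit 3, nat_lit 1, nat_lit 3, nat_lit 0, nat_lit 2, nat_lit 0, nat_lit 3, nat_lit 1, nat_lit 3, nat_lit 0, nat_lit 2, nat_lit 0, nat_lit 3]))) (.node (nat_lit 1739) (.node (nat_lit 1738) (.leaf (nat_lit 1731) (nat_lit 3) [nat_lit 1, nat_lit 3, nat_lit 0, nat_lit 2, nat_lit 0, nat_lit 3, nat_lit 1, nat_lit 3, nat_lit 0, nat_lit 2, nat_lit 0, nat_lit 3, nat_lit 1, nat_lit 3, nat_lit 0, nat_lit 2, nat_lit 0]) (.leaf (nat_lit 1732) (nat_lit 0) [nat_lit 3, nat_lit 1, nat_lit 3, nat_lit 0, nat_lit 2, nat_lit 0, nat_lit 3, nat_lit 1, nat_lit 3, nat_lit 0, nat_lit 2, nat_lit 0, nat_lit 3, nat_lit 1, nat_lit 3, nat_lit 0, nat_lit 2])) (.node (nat_lit 1740) (.leaf (nat_lit 1733) (nat_lit 2) [nat_lit 0, nat_lit 3, nat_lit 1, nat_lit 3, nat_lit 0, nat_lit 2, nat_lit 0, nat_lit 3, nat_lit 1, nat_lit 3, nat_lit 0, nat_lit 2, nat_lit 0, nat_lit 3, nat_lit 1, nat_lit 3, nat_lit 0]) (.node (nat_lit 1741) (.leaf (nat_lit 1728) (nat_lit 0) [nat_lit 2, nat_lit 0, nat_lit 3, nat_lit 1, nat_lit 3, nat_lit 0, nat_lit 2, nat_lit 0, nat_lit 3, nat_lit 1, nat_lit 3, nat_lit 0, nat_lit 2, nat_lit 0, nat_lit 3, nat_lit 1, nat_lit 3]) (.leaf (nat_lit 1729) (nat_lit 3) [nat_lit 0, nat_lit 2, nat_lit 0, nat_lit 3, nat_lit 1, nat_lit 3, nat_lit 0, nat_lit 2, nat_lit 0, nat_lit 3, nat_lit 1, nat_lit 3, nat_lit 0, nat_lit 2, nat_lit 0, nat_lit 3, nat_lit 1]))))) (.node (nat_lit 1747) (.node (nat_lit 1744) (.node (nat_lit 1743) (.leaf (nat_lit 1730) (nat_lit 1) [nat_lit 3, nat_lit 0, nat_lit 2, nat_lit 0, nat_lit 3, nat_lit 1, nat_lit 3, nat_lit 0, nat_lit 2, nat_lit 0, nat_lit 3, nat_lit 1, nat_lit 3, nat_lit 0, nat_lit 2, nat_lit 0, nat_lit 3]) (.leaf (nat_lit 1731) (nat_lit 3) [nat_lit 1, nat_lit 3, nat_lit 0, nat_lit 2, nat_lit 0, nat_lit 3, nat_lit 1, nat_lit 3, nat_lit 0, nat_lit 2, nat_lit 0, nat_lit 3, nat_lit 1, nat_lit 3, nat_lit 0, nat_lit 2, nat_lit 0])) (.node (nat_lit 1745) (.leaf (nat_lit 1732) (nat_lit 0) [nat_lit 3, nat_lit 1, nat_lit 3, nat_lit 0, nat_lit 2, nat_lit 0, nat_lit 3, nat_lit 1, nat_lit 3, nat_lit 0, nat_lit 2, nat_lit 0, nat_lit 3, nat_lit 1, nat_lit 3, nat_lit 0, nat_lit 2]) (.node (nat_lit 1746) (.leaf (nat_lit 1733) (nat_lit 2) [nat_lit 0, nat_lit 3, nat_lit 1, nat_lit 3, nat_lit 0, nat_lit 2, nat_lit 0, nat_lit 3, nat_lit 1, nat_lit 3, nat_lit 0, nat_lit 2, nat_lit 0, nat_lit 3, nat_lit 1, nat_lit 3, nat_lit 0]) (.leaf (nat_lit 1733) (nat_lit 2) [nat_lit 0, nat_lit 3, nat_lit 1, nat_lit 3, nat_lit 0, nat_lit 2, nat_lit 0, nat_lit 3, nat_lit 1, nat_lit 3, nat_lit 0, nat_lit 2, nat_lit 0, nat_lit 3, nat_lit 1, nat_lit 3, nat_lit 0])))) (.node (nat_lit 1749) (.node (nat_lit 1748) (.leaf (nat_lit 1728) (nat_lit 0) [nat_lit 2, nat_lit 0, nat_lit 3, nat_lit 1, nat_lit 3, nat_lit 0, nat_lit 2, nat_lit 0, nat_lit 3, nat_lit 1, nat_lit 3, nat_lit 0, nat_lit 2, nat_lit 0, nat_lit 3, nat_lit 1, nat_lit 3]) (.leaf (nat_lit 1729) (nat_lit 3) [nat_lit 0, nat_lit 2, nat_lit 0, nat_lit 3, nat_lit 1, nat_lit 3, nat_lit 0, nat_lit 2, nat_lit 0, nat_lit 3, nat_lit 1, nat_lit 3, nat_lit 0, nat_lit 2, nat_lit 0, nat_lit 3, nat_lit 1])) (.node (nat_lit 1750) (.leaf (nat_lit 1730) (nat_lit 1) [nat_lit 3, nat_lit 0, nat_lit 2, nat_lit 0, nat_lit 3, nat_lit 1, nat_lit 3, nat_lit 0, nat_lit 2, nat_lit 0, nat_lit 3, nat_lit 1, nat_lit 3, nat_lit 0, nat_lit 2, nat_lit 0, nat_lit 3]) (.node (nat_lit 1751) (.leaf (nat_lit 1731) (nat_lit 3) [nat_lit 1, nat_lit 3, nat_lit 0, nat_lit 2, nat_lit 0, nat_lit 3, nat_lit 1, nat_lit 3, nat_lit 0, nat_lit 2, nat_lit 0, nat_lit 3, nat_lit 1, nat_lit 3, nat_lit 0, nat_lit 2, nat_lit 0]) (.leaf (nat_lit 1732) (nat_lit 0) [nat_lit 3, nat_lit 1, nat_lit 3, nat_lit 0, nat_lit 2, nat_lit 0, nat_lit 3, nat_lit 1, nat_lit 3, nat_lit 0, nat_lit 2, nat_lit 0, nat_lit 3, nat_lit 1, nat_lit 3, nat_lit 0, nat_lit 2])))))) (.node (nat_lit 1761) (.node (nat_lit 1756) (.node (nat_lit 1754) (.node (nat_lit 1753) (.leaf (nat_lit 1733) (nat_lit 2) [nat_lit 0, nat_lit 3, nat_lit 1, nat_lit 3, nat_lit 0, nat_lit 2, nat_lit 0, nat_lit 3, nat_lit 1, nat_lit 3, nat_lit 0, nat_lit 2, nat_lit 0, nat_lit 3, nat_lit 1, nat_lit 3, nat_lit 0]) (.leaf (nat_lit 1728) (nat_lit 0) [nat_lit 2, nat_lit 0, nat_lit 3, nat_lit 1, nat_lit 3, nat_lit 0, nat_lit 2, nat_lit 0, nat_lit 3, nat_lit 1, nat_lit 3, nat_lit 0, nat_lit 2, nat_lit 0, nat_lit 3, nat_lit 1, nat_lit 3])) (.node (nat_lit 1755) (.leaf (nat_lit 1729) (nat_lit 3) [nat_lit 0, nat_lit 2, nat_lit 0, nat_lit 3, nat_lit 1, nat_lit 3, nat_lit 0, nat_lit 2, nat_lit 0, nat_lit 3, nat_lit 1, nat_lit 3, nat_lit 0, nat_lit 2, nat_lit 0, nat_lit 3, nat_lit 1]) (.leaf (nat_lit 1730) (nat_lit 1) [nat_lit 3, nat_lit 0, nat_lit 2, nat_lit 0, nat_lit 3, nat_lit 1, nat_lit 3, nat_lit 0, nat_lit 2, nat_lit 0, nat_lit 3, nat_lit 1, nat_lit 3, nat_lit 0, nat_lit 2, nat_lit 0, nat_lit 3]))) (.node (nat_lit 1758) (.node (nat_lit 1757) (.leaf (nat_lit 1731) (nat_lit 3) [nat_lit 1, nat_lit 3, nat_lit 0, nat_lit 2, nat_lit 0, nat_lit 3, nat_lit 1, nat_lit 3, nat_lit 0, nat_lit 2, nat_lit 0, nat_lit 3, nat_lit 1, nat_lit 3, nat_lit 0, nat_lit 2, nat_lit 0]) (.leaf (nat_lit 1732) (nat_lit 0) [nat_lit 3, nat_lit 1, nat_lit 3, nat_lit 0, nat_lit 2, nat_lit 0, nat_lit 3, nat_lit 1, nat_lit 3, nat_lit 0, nat_lit 2, nat_lit 0, nat_lit 3, nat_lit 1, nat_lit 3, nat_lit 0, nat_lit 2])) (.node (nat_lit 1759) (.leaf (nat_lit 1733) (nat_lit 2) [nat_lit 0, nat_lit 3, nat_lit 1, nat_lit 3, nat_lit 0, nat_lit 2, nat_lit 0, nat_lit 3, nat_lit 1, nat_lit 3, nat_lit 0, nat_lit 2, nat_lit 0, nat_lit 3, nat_lit 1, nat_lit 3, nat_lit 0]) (.node (nat_lit 1760) (.leaf (nat_lit 1728) (nat_lit 0) [nat_lit 2, nat_lit 0, nat_lit 3, nat_lit 1, nat_lit 3, nat_lit 0, nat_lit 2, nat_lit 0, nat_lit 3, nat_lit 1, nat_lit 3, nat_lit 0, nat_lit 2, nat_lit 0, nat_lit 3, nat_lit 1, nat_lit 3]) (.leaf (nat_lit 1729) (nat_lit 3) [nat_lit 0, nat_lit 2, nat_lit 0, nat_lit 3, nat_lit 1, nat_lit 3, nat_lit 0, nat_lit 2, nat_lit 0, nat_lit 3, nat_lit 1, nat_lit 3, nat_lit 0, nat_lit 2, nat_lit 0, nat_lit 3, nat_lit 1]))))) (.node (nat_lit 1766) (.node (nat_lit 1763) (.node (nat_lit 1762) (.leaf (nat_lit 1730) (nat_lit 1) [nat_lit 3, nat_lit 0, nat_lit 2, nat_lit 0, nat_lit 3, nat_lit 1, nat_lit 3, nat_lit 0, nat_lit 2, nat_lit 0, nat_lit 3, nat_lit 1, nat_lit 3, nat_lit 0, nat_lit 2, nat_lit 0, nat_lit 3]) (.leaf (nat_lit 1731) (nat_lit 3) [nat_lit 1, nat_lit 3, nat_lit 0, nat_lit 2, nat_lit 0, nat_lit 3, nat_lit 1, nat_lit 3, nat_lit 0, nat_lit 2, nat_lit 0, nat_lit 3, nat_lit 1, nat_lit 3, nat_lit 0, nat_lit 2, nat_lit 0])) (.node (nat_lit 1764) (.leaf (nat_lit 1732) (nat_lit 0) [nat_lit 3, nat_lit 1, nat_lit 3, nat_lit 0, nat_lit 2, nat_lit 0, nat_lit 3, nat_lit 1, nat_lit 3, nat_lit 0, nat_lit 2, nat_lit 0, nat_lit 3, nat_lit 1, nat_lit 3, nat_lit 0, nat_lit 2]) (.node (nat_lit 1765) (.leaf (nat_lit 1764) (nat_lit 0) [nat_lit 2, nat_lit 0, nat_lit 3, nat_lit 2, nat_lit 3, nat_lit 0, nat_lit 2, nat_lit 0, nat_lit 3, nat_lit 2, nat_lit 3, nat_lit 0, nat_lit 2, nat_lit 0, nat_lit 3, nat_lit 2, nat_lit 3]) (.leaf (nat_lit 1765) (nat_lit 3) [nat_lit 0, nat_lit 2, nat_lit 0, nat_lit 3, nat_lit 2, nat_lit 3, nat_lit 0, nat_lit 2, nat_lit 0, nat_lit 3, nat_lit 2, nat_lit 3, nat_lit 0, nat_lit 2, nat_lit 0, nat_lit 3, nat_lit 2])))) (.node (nat_lit 1768) (.node (nat_lit 1767) (.leaf (nat_lit 1766) (nat_lit 2) [nat_lit 3, nat_lit 0, nat_lit 2, nat_lit 0, nat_lit 3, nat_lit 2, nat_lit 3, nat_lit 0, nat_lit 2, nat_lit 0, nat_lit 3, nat_lit 2, nat_lit 3, nat_lit 0, nat_lit 2, nat_lit 0, nat_lit 3]) (.leaf (nat_lit 1767) (nat_lit 3) [nat_lit 2, nat_lit 3, nat_lit 0, nat_lit 2, nat_lit 0, nat_lit 3, nat_lit 2, nat_lit 3, nat_lit 0, nat_lit 2, nat_lit 0, nat_lit 3, nat_lit 2, nat_lit 3, nat_lit 0, nat_lit 2, nat_lit 0])) (.node (nat_lit 1769) (.leaf (nat_lit 1768) (nat_lit 0) [nat_lit 3, nat_lit 2, nat_lit 3, nat_lit 0, nat_lit 2, nat_lit 0, nat_lit 3, nat_lit 2, nat_lit 3, nat_lit 0, nat_lit 2, nat_lit 0, nat_lit 3, nat_lit 2, nat_lit 3, nat_lit 0, nat_lit 2]) (.node (nat_lit 1770) (.leaf (nat_lit 1769) (nat_lit 2) [nat_lit 0, nat_lit 3, nat_lit 2, nat_lit 3, nat_lit 0, nat_lit 2, nat_lit 0, nat_lit 3, nat_lit 2, nat_lit 3, nat_lit 0, nat_lit 2, nat_lit 0, nat_lit 3, nat_lit 2, nat_lit 3, nat_lit 0]) (.leaf (nat_lit 1764) (nat_lit 0) [nat_lit 2, nat_lit 0, nat_lit 3, nat_lit 2, nat_lit 3, nat_lit 0, nat_lit 2, nat_lit 0, nat_lit 3, nat_lit 2, nat_lit 3, nat_lit 0, nat_lit 2, nat_lit 0, nat_lit 3, nat_lit 2, nat_lit 3]))))))) (.node (nat_lit 1790) (.node (nat_lit 1780) (.node (nat_lit 1775) (.node (nat_lit 1773) (.node (nat_lit 1772) (.leaf (nat_lit 1765) (nat_lit 3) [nat_lit 0, nat_lit 2, nat_lit 0, nat_lit 3, nat_lit 2, nat_lit 3, nat_lit 0, nat_lit 2, nat_lit 0, nat_lit 3, nat_lit 2, nat_lit 3, nat_lit 0, nat_lit 2, nat_lit 0, nat_lit 3, nat_lit 2]) (.leaf (nat_lit 1766) (nat_lit 2) [nat_lit 3, nat_lit 0, nat_lit 2, nat_lit 0, nat_lit 3, nat_lit 2, nat_lit 3, nat_lit 0, nat_lit 2, nat_lit 0, nat_lit 3, nat_lit 2, nat_lit 3, nat_lit 0, nat_lit 2, nat_lit 0, nat_lit 3])) (.node (nat_lit 1774) (.leaf (nat_lit 1767) (nat_lit 3) [nat_lit 2, nat_lit 3, nat_lit 0, nat_lit 2, nat_lit 0, nat_lit 3, nat_lit 2, nat_lit 3, nat_lit 0, nat_lit 2, nat_lit 0, nat_lit 3, nat_lit 2, nat_lit 3, nat_lit 0, nat_lit 2, nat_lit 0]) (.leaf (nat_lit 1768) (nat_lit 0) [nat_lit 3, nat_lit 2, nat_lit 3, nat_lit 0, nat_lit 2, nat_lit 0, nat_lit 3, nat_lit 2, nat_lit 3, nat_lit 0, nat_lit 2, nat_lit 0, nat_lit 3, nat_lit 2, nat_lit 3, nat_lit 0, nat_lit 2]))) (.node (nat_lit 1777) (.node (nat_lit 1776) (.leaf (nat_lit 1769) (nat_lit 2) [nat_lit 0, nat_lit 3, nat_lit 2, nat_lit 3, nat_lit 0, nat_lit 2, nat_lit 0, nat_lit 3, nat_lit 2, nat_lit 3, nat_lit 0, nat_lit 2, nat_lit 0, nat_lit 3, nat_lit 2, nat_lit 3, nat_lit 0]) (.leaf (nat_lit 1764) (nat_lit 0) [nat_lit 2, nat_lit 0, nat_lit 3, nat_lit 2, nat_lit 3, nat_lit 0, nat_lit 2, nat_lit 0, nat_lit 3, nat_lit 2, nat_lit 3, nat_lit 0, nat_lit 2, nat_lit 0, nat_lit 3, nat_lit 2, nat_lit 3])) (.node (nat_lit 1778) (.leaf (nat_lit 1765) (nat_lit 3) [nat_lit 0, nat_lit 2, nat_lit 0, nat_lit 3, nat_lit 2, nat_lit 3, nat_lit 0, nat_lit 2, nat_lit 0, nat_lit 3, nat_lit 2, nat_lit 3, nat_lit 0, nat_lit 2, nat_lit 0, nat_lit 3, nat_lit 2]) (.node (nat_lit 1779) (.leaf (nat_lit 1766) (nat_lit 2) [nat_lit 3, nat_lit 0, nat_lit 2, nat_lit 0, nat_lit 3, nat_lit 2, nat_lit 3, nat_lit 0, nat_lit 2, nat_lit 0, nat_lit 3, nat_lit 2, nat_lit 3, nat_lit 0, nat_lit 2, nat_lit 0, nat_lit 3]) (.leaf (nat_lit 1767) (nat_lit 3) [nat_lit 2, nat_lit 3, nat_lit 0, nat_lit 2, nat_lit 0, nat_lit 3, nat_lit 2, nat_lit 3, nat_lit 0, nat_lit 2, nat_lit 0, nat_lit 3, nat_lit 2, nat_lit 3, nat_lit 0, nat_lit 2, nat_lit 0]))))) (.node (nat_lit 1785) (.node (nat_lit 1782) (.node (nat_lit 1781) (.leaf (nat_lit 1768) (nat_lit 0) [nat_lit 3, nat_lit 2, nat_lit 3, nat_lit 0, nat_lit 2, nat_lit 0, nat_lit 3, nat_lit 2, nat_lit 3, nat_lit 0, nat_lit 2, nat_lit 0, nat_lit 3, nat_lit 2, nat_lit 3, nat_lit 0, nat_lit 2]) (.leaf (nat_lit 1769) (nat_lit 2) [nat_lit 0, nat_lit 3, nat_lit 2, nat_lit 3, nat_lit 0, nat_lit 2, nat_lit 0, nat_lit 3, nat_lit 2, nat_lit 3, nat_lit 0, nat_lit 2, nat_lit 0, nat_lit 3, nat_lit 2, nat_lit 3, nat_lit 0])) (.node (nat_lit 1783) (.leaf (nat_lit 1769) (nat_lit 2) [nat_lit 0, nat_lit 3, nat_lit 2, nat_lit 3, nat_lit 0, nat_lit 2, nat_lit 0, nat_lit 3, nat_lit 2, nat_lit 3, nat_lit 0, nat_lit 2, nat_lit 0, nat_lit 3, nat_lit 2, nat_lit 3, nat_lit 0]) (.node (nat_lit 1784) (.leaf (nat_lit 1764) (nat_lit 0) [nat_lit 2, nat_lit 0, nat_lit 3, nat_lit 2, nat_lit 3, nat_lit 0, nat_lit 2, nat_lit 0, nat_lit 3, nat_lit 2, nat_lit 3, nat_lit 0, nat_lit 2, nat_lit 0, nat_lit 3, nat_lit 2, nat_lit 3]) (.leaf (nat_lit 1765) (nat_lit 3) [nat_lit 0, nat_lit 2, nat_lit 0, nat_lit 3, nat_lit 2, nat_lit 3, nat_lit 0, nat_lit 2, nat_lit 0, nat_lit 3, nat_lit 2, nat_lit 3, nat_lit 0, nat_lit 2, nat_lit 0, nat_lit 3, nat_lit 2])))) (.node (nat_lit 1787) (.node (nat_lit 1786) (.leaf (nat_lit 1766) (nat_lit 2) [nat_lit 3, nat_lit 0, nat_lit 2, nat_lit 0, nat_lit 3, nat_lit 2, nat_lit 3, nat_lit 0, nat_lit 2, nat_lit 0, nat_lit 3, nat_lit 2, nat_lit 3, nat_lit 0, nat_lit 2, nat_lit 0, nat_lit 3]) (.leaf (nat_lit 1767) (nat_lit 3) [nat_lit 2, nat_lit 3, nat_lit 0, nat_lit 2, nat_lit 0, nat_lit 3, nat_lit 2, nat_lit 3, nat_lit 0, nat_lit 2, nat_lit 0, nat_lit 3, nat_lit 2, nat_lit 3, nat_lit 0, nat_lit 2, nat_lit 0])) (.node (nat_lit 1788) (.leaf (nat_lit 1768) (nat_lit 0) [nat_lit 3, nat_lit 2, nat_lit 3, nat_lit 0, nat_lit 2, nat_lit 0, nat_lit 3, nat_lit 2, nat_lit 3, nat_lit 0, nat_lit 2, nat_lit 0, nat_lit 3, nat_lit 2, nat_lit 3, nat_lit 0, nat_lit 2]) (.node (nat_lit 1789) (.leaf (nat_lit 1769) (nat_lit 2) [nat_lit 0, nat_lit 3, nat_lit 2, nat_lit 3, nat_lit 0, nat_lit 2, nat_lit 0, nat_lit 3, nat_lit 2, nat_lit 3, nat_lit 0, nat_lit 2, nat_lit 0, nat_lit 3, nat_lit 2, nat_lit 3, nat_lit 0]) (.leaf (nat_lit 1764) (nat_lit 0) [nat_lit 2, nat_lit 0, nat_lit 3, nat_lit 2, nat_lit 3, nat_lit 0, nat_lit 2, nat_lit 0, nat_lit 3, nat_lit 2, nat_lit 3, nat_lit 0, nat_lit 2, nat_lit 0, nat_lit 3, nat_lit 2, nat_lit 3])))))) (.node (nat_lit 1799) (.node (nat_lit 1794) (.node (nat_lit 1792) (.node (nat_lit 1791) (.leaf (nat_lit 1765) (nat_lit 3) [nat_lit 0, nat_lit 2, nat_lit 0, nat_lit 3, nat_lit 2, nat_lit 3, nat_lit 0, nat_lit 2, nat_lit 0, nat_lit 3, nat_lit 2, nat_lit 3, nat_lit 0, nat_lit 2, nat_lit 0, nat_lit 3, nat_lit 2]) (.leaf (nat_lit 1766) (nat_lit 2) [nat_lit 3, nat_lit 0, nat_lit 2, nat_lit 0, nat_lit 3, nat_lit 2, nat_lit 3, nat_lit 0, nat_lit 2, nat_lit 0, nat_lit 3, nat_lit 2, nat_lit 3, nat_lit 0, nat_lit 2, nat_lit 0, nat_lit 3])) (.node (nat_lit 1793) (.leaf (nat_lit 1767) (nat_lit 3) [nat_lit 2, nat_lit 3, nat_lit 0, nat_lit 2, nat_lit 0, nat_lit 3, nat_lit 2, nat_lit 3, nat_lit 0, nat_lit 2, nat_lit 0, nat_lit 3, nat_lit 2, nat_lit 3, nat_lit 0, nat_lit 2, nat_lit 0]) (.leaf (nat_lit 1768) (nat_lit 0) [nat_lit 3, nat_lit 2, nat_lit 3, nat_lit 0, nat_lit 2, nat_lit 0, nat_lit 3, nat_lit 2, nat_lit 3, nat_lit 0, nat_lit 2, nat_lit 0, nat_lit 3, nat_lit 2, nat_lit 3, nat_lit 0, nat_lit 2]))) (.node (nat_lit 1796) (.node (nat_lit 1795) (.leaf (nat_lit 1769) (nat_lit 2) [nat_lit 0, nat_lit 3, nat_lit 2, nat_lit 3, nat_lit 0, nat_lit 2, nat_lit 0, nat_lit 3, nat_lit 2, nat_lit 3, nat_lit 0, nat_lit 2, nat_lit 0, nat_lit 3, nat_lit 2, nat_lit 3, nat_lit 0]) (.leaf (nat_lit 1764) (nat_lit 0) [nat_lit 2, nat_lit 0, nat_lit 3, nat_lit 2, nat_lit 3, nat_lit 0, nat_lit 2, nat_lit 0, nat_lit 3, nat_lit 2, nat_lit 3, nat_lit 0, nat_lit 2, nat_lit 0, nat_lit 3, nat_lit 2, nat_lit 3])) (.node (nat_lit 1797) (.leaf (nat_lit 1765) (nat_lit 3) [nat_lit 0, nat_lit 2, nat_lit 0, nat_lit 3, nat_lit 2, nat_lit 3, nat_lit 0, nat_lit 2, nat_lit 0, nat_lit 3, nat_lit 2, nat_lit 3, nat_lit 0, nat_lit 2, nat_lit 0, nat_lit 3, nat_lit 2]) (.node (nat_lit 1798) (.leaf (nat_lit 1766) (nat_lit 2) [nat_lit 3, nat_lit 0, nat_lit 2, nat_lit 0, nat_lit 3, nat_lit 2, nat_lit 3, nat_lit 0, nat_lit 2, nat_lit 0, nat_lit 3, nat_lit 2, nat_lit 3, nat_lit 0, nat_lit 2, nat_lit 0, nat_lit 3]) (.leaf (nat_lit 1767) (nat_lit 3) [nat_lit 2, nat_lit 3, nat_lit 0, nat_lit 2, nat_lit 0, nat_lit 3, nat_lit 2, nat_lit 3, nat_lit 0, nat_lit 2, nat_lit 0, nat_lit 3, nat_lit 2, nat_lit 3, nat_lit 0, nat_lit 2, nat_lit 0]))))) (.node (nat_lit 1804) (.node (nat_lit 1801) (.node (nat_lit 1800) (.leaf (nat_lit 1768) (nat_lit 0) [nat_lit 3, nat_lit 2, nat_lit 3, nat_lit 0, nat_lit 2, nat_lit 0, nat_lit 3, nat_lit 2, nat_lit 3, nat_lit 0, nat_lit 2, nat_lit 0, nat_lit 3, nat_lit 2, nat_lit 3, nat_lit 0, nat_lit 2]) (.leaf (nat_lit 1800) (nat_lit 0) [nat_lit 3, nat_lit 0, nat_lit 3, nat_lit 0, nat_lit 3, nat_lit 0, nat_lit 3, nat_lit 0, nat_lit 3, nat_lit 0, nat_lit 3, nat_lit 0, nat_lit 3, nat_lit 0, nat_lit 3, nat_lit 0, nat_lit 3])) (.node (nat_lit 1802) (.leaf (nat_lit 1801) (nat_lit 3) [nat_lit 0, nat_lit 3, nat_lit 0, nat_lit 3, nat_lit 0, nat_lit 3, nat_lit 0, nat_lit 3, nat_lit 0, nat_lit 3, nat_lit 0, nat_lit 3, nat_lit 0, nat_lit 3, nat_lit 0, nat_lit 3, nat_lit 0]) (.node (nat_lit 1803) (.leaf (nat_lit 1800) (nat_lit 0) [nat_lit 3, nat_lit 0, nat_lit 3, nat_lit 0, nat_lit 3, nat_lit 0, nat_lit 3, nat_lit 0, nat_lit 3, nat_lit 0, nat_lit 3, nat_lit 0, nat_lit 3, nat_lit 0, nat_lit 3, nat_lit 0, nat_lit 3]) (.leaf (nat_lit 1801) (nat_lit 3) [nat_lit 0, nat_lit 3, nat_lit 0, nat_lit 3, nat_lit 0, nat_lit 3, nat_lit 0, nat_lit 3, nat_lit 0, nat_lit 3, nat_lit 0, nat_lit 3, nat_lit 0, nat_lit 3, nat_lit 0, nat_lit 3, nat_lit 0])))) (.node (nat_lit 1806) (.node (nat_lit 1805) (.leaf (nat_lit 1800) (nat_lit 0) [nat_lit 3, nat_lit 0, nat_lit 3, nat_lit 0, nat_lit 3, nat_lit 0, nat_lit 3, nat_lit 0, nat_lit 3, nat_lit 0, nat_lit 3, nat_lit 0, nat_lit 3, nat_lit 0, nat_lit 3, nat_lit 0, nat_lit 3]) (.leaf (nat_lit 1801) (nat_lit 3) [nat_lit 0, nat_lit 3, nat_lit 0, nat_lit 3, nat_lit 0, nat_lit 3, nat_lit 0, nat_lit 3, nat_lit 0, nat_lit 3, nat_lit 0, nat_lit 3, nat_lit 0, nat_lit 3, nat_lit 0, nat_lit 3, nat_lit 0])) (.node (nat_lit 1807) (.leaf (nat_lit 1800) (nat_lit 0) [nat_lit 3, nat_lit 0, nat_lit 3, nat_lit 0, nat_lit 3, nat_lit 0, nat_lit 3, nat_lit 0, nat_lit 3, nat_lit 0, nat_lit 3, nat_lit 0, nat_lit 3, nat_lit 0, nat_lit 3, nat_lit 0, nat_lit 3]) (.node (nat_lit 1808) (.leaf (nat_lit 1801) (nat_lit 3) [nat_lit 0, nat_lit 3, nat_lit 0, nat_lit 3, nat_lit 0, nat_lit 3, nat_lit 0, nat_lit 3, nat_lit 0, nat_lit 3, nat_lit 0, nat_lit 3, nat_lit 0, nat_lit 3, nat_lit 0, nat_lit 3, nat_lit 0]) (.leaf (nat_lit 1800) (nat_lit 0) [nat_lit 3, nat_lit 0, nat_lit 3, nat_lit 0, nat_lit 3, nat_lit 0, nat_lit 3, nat_lit 0, nat_lit 3, nat_lit 0, nat_lit 3, nat_lit 0, nat_lit 3, nat_lit 0, nat_lit 3, nat_lit 0, nat_lit 3]))))))))))) (.node (nat_lit 2110) (.node (nat_lit 1959) (.node (nat_lit 1884) (.node (nat_lit 1846) (.node (nat_lit 1827) (.node (nat_lit 1818) (.node (nat_lit 1813) (.node (nat_lit 1811) (.node (nat_lit 1810) (.leaf (nat_lit 1801) (nat_lit 3) [nat_lit 0, nat_lit 3, nat_lit 0, nat_lit 3, nat_lit 0, nat_lit 3, nat_lit 0, nat_lit 3, nat_lit 0, nat_lit 3, nat_lit 0, nat_lit 3, nat_lit 0, nat_lit 3, nat_lit 0, nat_lit 3, nat_lit 0]) (.leaf (nat_lit 1800) (nat_lit 0) [nat_lit 3, nat_lit 0, nat_lit 3, nat_lit 0, nat_lit 3, nat_lit 0, nat_lit 3, nat_lit 0, nat_lit 3, nat_lit 0, nat_lit 3, nat_lit 0, nat_lit 3, nat_lit 0, nat_lit 3, nat_lit 0, nat_lit 3])) (.node (nat_lit 1812) (.leaf (nat_lit 1801) (nat_lit 3) [nat_lit 0, nat_lit 3, nat_lit 0, nat_lit 3, nat_lit 0, nat_lit 3, nat_lit 0, nat_lit 3, nat_lit 0, nat_lit 3, nat_lit 0, nat_lit 3, nat_lit 0, nat_lit 3, nat_lit 0, nat_lit 3, nat_lit 0]) (.leaf (nat_lit 1800) (nat_lit 0) [nat_lit 3, nat_lit 0, nat_lit 3, nat_lit 0, nat_lit 3, nat_lit 0, nat_lit 3, nat_lit 0, nat_lit 3, nat_lit 0, nat_lit 3, nat_lit 0, nat_lit 3, nat_lit 0, nat_lit 3, nat_lit 0, nat_lit 3]))) (.node (nat_lit 1815) (.node (nat_lit 1814) (.leaf (nat_lit 1801) (nat_lit 3) [nat_lit 0, nat_lit 3, nat_lit 0, nat_lit 3, nat_lit 0, nat_lit 3, nat_lit 0, nat_lit 3, nat_lit 0, nat_lit 3, nat_lit 0, nat_lit 3, nat_lit 0, nat_lit 3, nat_lit 0, nat_lit 3, nat_lit 0]) (.leaf (nat_lit 1800) (nat_lit 0) [nat_lit 3, nat_lit 0, nat_lit 3, nat_lit 0, nat_lit 3, nat_lit 0, nat_lit 3, nat_lit 0, nat_lit 3, nat_lit 0, nat_lit 3, nat_lit 0, nat_lit 3, nat_lit 0, nat_lit 3, nat_lit 0, nat_lit 3])) (.node (nat_lit 1816) (.leaf (nat_lit 1801) (nat_lit 3) [nat_lit 0, nat_lit 3, nat_lit 0, nat_lit 3, nat_lit 0, nat_lit 3, nat_lit 0, nat_lit 3, nat_lit 0, nat_lit 3, nat_lit 0, nat_lit 3, nat_lit 0, nat_lit 3, nat_lit 0, nat_lit 3, nat_lit 0]) (.node (nat_lit 1817) (.leaf (nat_lit 1800) (nat_lit 0) [nat_lit 3, nat_lit 0, nat_lit 3, nat_lit 0, nat_lit 3, nat_lit 0, nat_lit 3, nat_lit 0, nat_lit 3, nat_lit 0, nat_lit 3, nat_lit 0, nat_lit 3, nat_lit 0, nat_lit 3, nat_lit 0, nat_lit 3]) (.leaf (nat_lit 1801) (nat_lit 3) [nat_lit 0, nat_lit 3, nat_lit 0, nat_lit 3, nat_lit 0, nat_lit 3, nat_lit 0, nat_lit 3, nat_lit 0, nat_lit 3, nat_lit 0, nat_lit 3, nat_lit 0, nat_lit 3, nat_lit 0, nat_lit 3, nat_lit 0]))))) (.node (nat_lit 1822) (.node (nat_lit 1820) (.node (nat_lit 1819) (.leaf (nat_lit 1801) (nat_lit 3) [nat_lit 0, nat_lit 3, nat_lit 0, nat_lit 3, nat_lit 0, nat_lit 3, nat_lit 0, nat_lit 3, nat_lit 0, nat_lit 3, nat_lit 0, nat_lit 3, nat_lit 0, nat_lit 3, nat_lit 0, nat_lit 3, nat_lit 0]) (.leaf (nat_lit 1800) (nat_lit 0) [nat_lit 3, nat_lit 0, nat_lit 3, nat_lit 0, nat_lit 3, nat_lit 0, nat_lit 3, nat_lit 0, nat_lit 3, nat_lit 0, nat_lit 3, nat_lit 0, nat_lit 3, nat_lit 0, nat_lit 3, nat_lit 0, nat_lit 3])) (.node (nat_lit 1821) (.leaf (nat_lit 1801) (nat_lit 3) [nat_lit 0, nat_lit 3, nat_lit 0, nat_lit 3, nat_lit 0, nat_lit 3, nat_lit 0, nat_lit 3, nat_lit 0, nat_lit 3, nat_lit 0, nat_lit 3, nat_lit 0, nat_lit 3, nat_lit 0, nat_lit 3, nat_lit 0]) (.leaf (nat_lit 1800) (nat_lit 0) [nat_lit 3, nat_lit 0, nat_lit 3, nat_lit 0, nat_lit 3, nat_lit 0, nat_lit 3, nat_lit 0, nat_lit 3, nat_lit 0, nat_lit 3, nat_lit 0, nat_lit 3, nat_lit 0, nat_lit 3, nat_lit 0, nat_lit 3]))) (.node (nat_lit 1824) (.node (nat_lit 1823) (.leaf (nat_lit 1801) (nat_lit 3) [nat_lit 0, nat_lit 3, nat_lit 0, nat_lit 3, nat_lit 0, nat_lit 3, nat_lit 0, nat_lit 3, nat_lit 0, nat_lit 3, nat_lit 0, nat_lit 3, nat_lit 0, nat_lit 3, nat_lit 0, nat_lit 3, nat_lit 0]) (.leaf (nat_lit 1800) (nat_lit 0) [nat_lit 3, nat_lit 0, nat_lit 3, nat_lit 0, nat_lit 3, nat_lit 0, nat_lit 3, nat_lit 0, nat_lit 3, nat_lit 0, nat_lit 3, nat_lit 0, nat_lit 3, nat_lit 0, nat_lit 3, nat_lit 0, nat_lit 3])) (.node (nat_lit 1825) (.leaf (nat_lit 1801) (nat_lit 3) [nat_lit 0, nat_lit 3, nat_lit 0, nat_lit 3, nat_lit 0, nat_lit 3, nat_lit 0, nat_lit 3, nat_lit 0, nat_lit 3, nat_lit 0, nat_lit 3, nat_lit 0, nat_lit 3, nat_lit 0, nat_lit 3, nat_lit 0]) (.node (nat_lit 1826) (.leaf (nat_lit 1800) (nat_lit 0) [nat_lit 3, nat_lit 0, nat_lit 3, nat_lit 0, nat_lit 3, nat_lit 0, nat_lit 3, nat_lit 0, nat_lit 3, nat_lit 0, nat_lit 3, nat_lit 0, nat_lit 3, nat_lit 0, nat_lit 3, nat_lit 0, nat_lit 3]) (.leaf (nat_lit 1801) (nat_lit 3) [nat_lit 0, nat_lit 3, nat_lit 0, nat_lit 3, nat_lit 0, nat_lit 3, nat_lit 0, nat_lit 3, nat_lit 0, nat_lit 3, nat_lit 0, nat_lit 3, nat_lit 0, nat_lit 3, nat_lit 0, nat_lit 3, nat_lit 0])))))) (.node (nat_lit 1836) (.node (nat_lit 1831) (.node (nat_lit 1829) (.node (nat_lit 1828) (.leaf (nat_lit 1800) (nat_lit 0) [nat_lit 3, nat_lit 0, nat_lit 3, nat_lit 0, nat_lit 3, nat_lit 0, nat_lit 3, nat_lit 0, nat_lit 3, nat_lit 0, nat_lit 3, nat_lit 0, nat_lit 3, nat_lit 0, nat_lit 3, nat_lit 0, nat_lit 3]) (.leaf (nat_lit 1801) (nat_lit 3) [nat_lit 0, nat_lit 3, nat_lit 0, nat_lit 3, nat_lit 0, nat_lit 3, nat_lit 0, nat_lit 3, nat_lit 0, nat_lit 3, nat_lit 0, nat_lit 3, nat_lit 0, nat_lit 3, nat_lit 0, nat_lit 3, nat_lit 0])) (.node (nat_lit 1830) (.leaf (nat_lit 1800) (nat_lit 0) [nat_lit 3, nat_lit 0, nat_lit 3, nat_lit 0, nat_lit 3, nat_lit 0, nat_lit 3, nat_lit 0, nat_lit 3, nat_lit 0, nat_lit 3, nat_lit 0, nat_lit 3, nat_lit 0, nat_lit 3, nat_lit 0, nat_lit 3]) (.leaf (nat_lit 1801) (nat_lit 3) [nat_lit 0, nat_lit 3, nat_lit 0, nat_lit 3, nat_lit 0, nat_lit 3, nat_lit 0, nat_lit 3, nat_lit 0, nat_lit 3, nat_lit 0, nat_lit 3, nat_lit 0, nat_lit 3, nat_lit 0, nat_lit 3, nat_lit 0]))) (.node (nat_lit 1833) (.node (nat_lit 1832) (.leaf (nat_lit 1800) (nat_lit 0) [nat_lit 3, nat_lit 0, nat_lit 3, nat_lit 0, nat_lit 3, nat_lit 0, nat_lit 3, nat_lit 0, nat_lit 3, nat_lit 0, nat_lit 3, nat_lit 0, nat_lit 3, nat_lit 0, nat_lit 3, nat_lit 0, nat_lit 3]) (.leaf (nat_lit 1801) (nat_lit 3) [nat_lit 0, nat_lit 3, nat_lit 0, nat_lit 3, nat_lit 0, nat_lit 3, nat_lit 0, nat_lit 3, nat_lit 0, nat_lit 3, nat_lit 0, nat_lit 3, nat_lit 0, nat_lit 3, nat_lit 0, nat_lit 3, nat_lit 0])) (.node (nat_lit 1834) (.leaf (nat_lit 1800) (nat_lit 0) [nat_lit 3, nat_lit 0, nat_lit 3, nat_lit 0, nat_lit 3, nat_lit 0, nat_lit 3, nat_lit 0, nat_lit 3, nat_lit 0, nat_lit 3, nat_lit 0, nat_lit 3, nat_lit 0, nat_lit 3, nat_lit 0, nat_lit 3]) (.node (nat_lit 1835) (.leaf (nat_lit 1801) (nat_lit 3) [nat_lit 0, nat_lit 3, nat_lit 0, nat_lit 3, nat_lit 0, nat_lit 3, nat_lit 0, nat_lit 3, nat_lit 0, nat_lit 3, nat_lit 0, nat_lit 3, nat_lit 0, nat_lit 3, nat_lit 0, nat_lit 3, nat_lit 0]) (.leaf (nat_lit 1800) (nat_lit 0) [nat_lit 3, nat_lit 0, nat_lit 3, nat_lit 0, nat_lit 3, nat_lit 0, nat_lit 3, nat_lit 0, nat_lit 3, nat_lit 0, nat_lit 3, nat_lit 0, nat_lit 3, nat_lit 0, nat_lit 3, nat_lit 0, nat_lit 3]))))) (.node (nat_lit 1841) (.node (nat_lit 1838) (.node (nat_lit 1837) (.leaf (nat_lit 1836) (nat_lit 0) [nat_lit 3, nat_lit 0, nat_lit 3, nat_lit 1, nat_lit 3, nat_lit 0, nat_lit 3, nat_lit 0, nat_lit 3, nat_lit 1, nat_lit 3, nat_lit 0, nat_lit 3, nat_lit 0, nat_lit 3, nat_lit 1, nat_lit 3]) (.leaf (nat_lit 1837) (nat_lit 3) [nat_lit 0, nat_lit 3, nat_lit 0, nat_lit 3, nat_lit 1, nat_lit 3, nat_lit 0, nat_lit 3, nat_lit 0, nat_lit 3, nat_lit 1, nat_lit 3, nat_lit 0, nat_lit 3, nat_lit 0, nat_lit 3, nat_lit 1])) (.node (nat_lit 1839) (.leaf (nat_lit 1838) (nat_lit 1) [nat_lit 3, nat_lit 0, nat_lit 3, nat_lit 0, nat_lit 3, nat_lit 1, nat_lit 3, nat_lit 0, nat_lit 3, nat_lit 0, nat_lit 3, nat_lit 1, nat_lit 3, nat_lit 0, nat_lit 3, nat_lit 0, nat_lit 3]) (.node (nat_lit 1840) (.leaf (nat_lit 1839) (nat_lit 3) [nat_lit 1, nat_lit 3, nat_lit 0, nat_lit 3, nat_lit 0, nat_lit 3, nat_lit 1, nat_lit 3, nat_lit 0, nat_lit 3, nat_lit 0, nat_lit 3, nat_lit 1, nat_lit 3, nat_lit 0, nat_lit 3, nat_lit 0]) (.leaf (nat_lit 1840) (nat_lit 0) [nat_lit 3, nat_lit 1, nat_lit 3, nat_lit 0, nat_lit 3, nat_lit 0, nat_lit 3, nat_lit 1, nat_lit 3, nat_lit 0, nat_lit 3, nat_lit 0, nat_lit 3, nat_lit 1, nat_lit 3, nat_lit 0, nat_lit 3])))) (.node (nat_lit 1843) (.node (nat_lit 1842) (.leaf (nat_lit 1841) (nat_lit 3) [nat_lit 0, nat_lit 3, nat_lit 1, nat_lit 3, nat_lit 0, nat_lit 3, nat_lit 0, nat_lit 3, nat_lit 1, nat_lit 3, nat_lit 0, nat_lit 3, nat_lit 0, nat_lit 3, nat_lit 1, nat_lit 3, nat_lit 0]) (.leaf (nat_lit 1836) (nat_lit 0) [nat_lit 3, nat_lit 0, nat_lit 3, nat_lit 1, nat_lit 3, nat_lit 0, nat_lit 3, nat_lit 0, nat_lit 3, nat_lit 1, nat_lit 3, nat_lit 0, nat_lit 3, nat_lit 0, nat_lit 3, nat_lit 1, nat_lit 3])) (.node (nat_lit 1844) (.leaf (nat_lit 1837) (nat_lit 3) [nat_lit 0, nat_lit 3, nat_lit 0, nat_lit 3, nat_lit 1, nat_lit 3, nat_lit 0, nat_lit 3, nat_lit 0, nat_lit 3, nat_lit 1, nat_lit 3, nat_lit 0, nat_lit 3, nat_lit 0, nat_lit 3, nat_lit 1]) (.node (nat_lit 1845) (.leaf (nat_lit 1838) (nat_lit 1) [nat_lit 3, nat_lit 0, nat_lit 3, nat_lit 0, nat_lit 3, nat_lit 1, nat_lit 3, nat_lit 0, nat_lit 3, nat_lit 0, nat_lit 3, nat_lit 1, nat_lit 3, nat_lit 0, nat_lit 3, nat_lit 0, nat_lit 3]) (.leaf (nat_lit 1839) (nat_lit 3) [nat_lit 1, nat_lit 3, nat_lit 0, nat_lit 3, nat_lit 0, nat_lit 3, nat_lit 1, nat_lit 3, nat_lit 0, nat_lit 3, nat_lit 0, nat_lit 3, nat_lit 1, nat_lit 3, nat_lit 0, nat_lit 3, nat_lit 0]))))))) (.node (nat_lit 1865) (.node (nat_lit 1855) (.node (nat_lit 1850) (.node (nat_lit 1848) (.node (nat_lit 1847) (.leaf (nat_lit 1840) (nat_lit 0) [nat_lit 3, nat_lit 1, nat_lit 3, nat_lit 0, nat_lit 3, nat_lit 0, nat_lit 3, nat_lit 1, nat_lit 3, nat_lit 0, nat_lit 3, nat_lit 0, nat_lit 3, nat_lit 1, nat_lit 3, nat_lit 0, nat_lit 3]) (.leaf (nat_lit 1841) (nat_lit 3) [nat_lit 0, nat_lit 3, nat_lit 1, nat_lit 3, nat_lit 0, nat_lit 3, nat_lit 0, nat_lit 3, nat_lit 1, nat_lit 3, nat_lit 0, nat_lit 3, nat_lit 0, nat_lit 3, nat_lit 1, nat_lit 3, nat_lit 0])) (.node (nat_lit 1849) (.leaf (nat_lit 1836) (nat_lit 0) [nat_lit 3, nat_lit 0, nat_lit 3, nat_lit 1, nat_lit 3, nat_lit 0, nat_lit 3, nat_lit 0, nat_lit 3, nat_lit 1, nat_lit 3, nat_lit 0, nat_lit 3, nat_lit 0, nat_lit 3, nat_lit 1, nat_lit 3]) (.leaf (nat_lit 1837) (nat_lit 3) [nat_lit 0, nat_lit 3, nat_lit 0, nat_lit 3, nat_lit 1, nat_lit 3, nat_lit 0, nat_lit 3, nat_lit 0, nat_lit 3, nat_lit 1, nat_lit 3, nat_lit 0, nat_lit 3, nat_lit 0, nat_lit 3, nat_lit 1]))) (.node (nat_lit 1852) (.node (nat_lit 1851) (.leaf (nat_lit 1838) (nat_lit 1) [nat_lit 3, nat_lit 0, nat_lit 3, nat_lit 0, nat_lit 3, nat_lit 1, nat_lit 3, nat_lit 0, nat_lit 3, nat_lit 0, nat_lit 3, nat_lit 1, nat_lit 3, nat_lit 0, nat_lit 3, nat_lit 0, nat_lit 3]) (.leaf (nat_lit 1839) (nat_lit 3) [nat_lit 1, nat_lit 3, nat_lit 0, nat_lit 3, nat_lit 0, nat_lit 3, nat_lit 1, nat_lit 3, nat_lit 0, nat_lit 3, nat_lit 0, nat_lit 3, nat_lit 1, nat_lit 3, nat_lit 0, nat_lit 3, nat_lit 0])) (.node (nat_lit 1853) (.leaf (nat_lit 1840) (nat_lit 0) [nat_lit 3, nat_lit 1, nat_lit 3, nat_lit 0, nat_lit 3, nat_lit 0, nat_lit 3, nat_lit 1, nat_lit 3, nat_lit 0, nat_lit 3, nat_lit 0, nat_lit 3, nat_lit 1, nat_lit 3, nat_lit 0, nat_lit 3]) (.node (nat_lit 1854) (.leaf (nat_lit 1841) (nat_lit 3) [nat_lit 0, nat_lit 3, nat_lit 1, nat_lit 3, nat_lit 0, nat_lit 3, nat_lit 0, nat_lit 3, nat_lit 1, nat_lit 3, nat_lit 0, nat_lit 3, nat_lit 0, nat_lit 3, nat_lit 1, nat_lit 3, nat_lit 0]) (.leaf (nat_lit 1841) (nat_lit 3) [nat_lit 0, nat_lit 3, nat_lit 1, nat_lit 3, nat_lit 0, nat_lit 3, nat_lit 0, nat_lit 3, nat_lit 1, nat_lit 3, nat_lit 0, nat_lit 3, nat_lit 0, nat_lit 3, nat_lit 1, nat_lit 3, nat_lit 0]))))) (.node (nat_lit 1860) (.node (nat_lit 1857) (.node (nat_lit 1856) (.leaf (nat_lit 1836) (nat_lit 0) [nat_lit 3, nat_lit 0, nat_lit 3, nat_lit 1, nat_lit 3, nat_lit 0, nat_lit 3, nat_lit 0, nat_lit 3, nat_lit 1, nat_lit 3, nat_lit 0, nat_lit 3, nat_lit 0, nat_lit 3, nat_lit 1, nat_lit 3]) (.leaf (nat_lit 1837) (nat_lit 3) [nat_lit 0, nat_lit 3, nat_lit 0, nat_lit 3, nat_lit 1, nat_lit 3, nat_lit 0, nat_lit 3, nat_lit 0, nat_lit 3, nat_lit 1, nat_lit 3, nat_lit 0, nat_lit 3, nat_lit 0, nat_lit 3, nat_lit 1])) (.node (nat_lit 1858) (.leaf (nat_lit 1838) (nat_lit 1) [nat_lit 3, nat_lit 0, nat_lit 3, nat_lit 0, nat_lit 3, nat_lit 1, nat_lit 3, nat_lit 0, nat_lit 3, nat_lit 0, nat_lit 3, nat_lit 1, nat_lit 3, nat_lit 0, nat_lit 3, nat_lit 0, nat_lit 3]) (.node (nat_lit 1859) (.leaf (nat_lit 1839) (nat_lit 3) [nat_lit 1, nat_lit 3, nat_lit 0, nat_lit 3, nat_lit 0, nat_lit 3, nat_lit 1, nat_lit 3, nat_lit 0, nat_lit 3, nat_lit 0, nat_lit 3, nat_lit 1, nat_lit 3, nat_lit 0, nat_lit 3, nat_lit 0]) (.leaf (nat_lit 1840) (nat_lit 0) [nat_lit 3, nat_lit 1, nat_lit 3, nat_lit 0, nat_lit 3, nat_lit 0, nat_lit 3, nat_lit 1, nat_lit 3, nat_lit 0, nat_lit 3, nat_lit 0, nat_lit 3, nat_lit 1, nat_lit 3, nat_lit 0, nat_lit 3])))) (.node (nat_lit 1862) (.node (nat_lit 1861) (.leaf (nat_lit 1841) (nat_lit 3) [nat_lit 0, nat_lit 3, nat_lit 1, nat_lit 3, nat_lit 0, nat_lit 3, nat_lit 0, nat_lit 3, nat_lit 1, nat_lit 3, nat_lit 0, nat_lit 3, nat_lit 0, nat_lit 3, nat_lit 1, nat_lit 3, nat_lit 0]) (.leaf (nat_lit 1836) (nat_lit 0) [nat_lit 3, nat_lit 0, nat_lit 3, nat_lit 1, nat_lit 3, nat_lit 0, nat_lit 3, nat_lit 0, nat_lit 3, nat_lit 1, nat_lit 3, nat_lit 0, nat_lit 3, nat_lit 0, nat_lit 3, nat_lit 1, nat_lit 3])) (.node (nat_lit 1863) (.leaf (nat_lit 1837) (nat_lit 3) [nat_lit 0, nat_lit 3, nat_lit 0, nat_lit 3, nat_lit 1, nat_lit 3, nat_lit 0, nat_lit 3, nat_lit 0, nat_lit 3, nat_lit 1, nat_lit 3, nat_lit 0, nat_lit 3, nat_lit 0, nat_lit 3, nat_lit 1]) (.node (nat_lit 1864) (.leaf (nat_lit 1838) (nat_lit 1) [nat_lit 3, nat_lit 0, nat_lit 3, nat_lit 0, nat_lit 3, nat_lit 1, nat_lit 3, nat_lit 0, nat_lit 3, nat_lit 0, nat_lit 3, nat_lit 1, nat_lit 3, nat_lit 0, nat_lit 3, nat_lit 0, nat_lit 3]) (.leaf (nat_lit 1839) (nat_lit 3) [nat_lit 1, nat_lit 3, nat_lit 0, nat_lit 3, nat_lit 0, nat_lit 3, nat_lit 1, nat_lit 3, nat_lit 0, nat_lit 3, nat_lit 0, nat_lit 3, nat_lit 1, nat_lit 3, nat_lit 0, nat_lit 3, nat_lit 0])))))) (.node (nat_lit 1874) (.node (nat_lit 1869) (.node (nat_lit 1867) (.node (nat_lit 1866) (.leaf (nat_lit 1840) (nat_lit 0) [nat_lit 3, nat_lit 1, nat_lit 3, nat_lit 0, nat_lit 3, nat_lit 0, nat_lit 3, nat_lit 1, nat_lit 3, nat_lit 0, nat_lit 3, nat_lit 0, nat_lit 3, nat_lit 1, nat_lit 3, nat_lit 0, nat_lit 3]) (.leaf (nat_lit 1841) (nat_lit 3) [nat_lit 0, nat_lit 3, nat_lit 1, nat_lit 3, nat_lit 0, nat_lit 3, nat_lit 0, nat_lit 3, nat_lit 1, nat_lit 3, nat_lit 0, nat_lit 3, nat_lit 0, nat_lit 3, nat_lit 1, nat_lit 3, nat_lit 0])) (.node (nat_lit 1868) (.leaf (nat_lit 1836) (nat_lit 0) [nat_lit 3, nat_lit 0, nat_lit 3, nat_lit 1, nat_lit 3, nat_lit 0, nat_lit 3, nat_lit 0, nat_lit 3, nat_lit 1, nat_lit 3, nat_lit 0, nat_lit 3, nat_lit 0, nat_lit 3, nat_lit 1, nat_lit 3]) (.leaf (nat_lit 1837) (nat_lit 3) [nat_lit 0, nat_lit 3, nat_lit 0, nat_lit 3, nat_lit 1, nat_lit 3, nat_lit 0, nat_lit 3, nat_lit 0, nat_lit 3, nat_lit 1, nat_lit 3, nat_lit 0, nat_lit 3, nat_lit 0, nat_lit 3, nat_lit 1]))) (.node (nat_lit 1871) (.node (nat_lit 1870) (.leaf (nat_lit 1838) (nat_lit 1) [nat_lit 3, nat_lit 0, nat_lit 3, nat_lit 0, nat_lit 3, nat_lit 1, nat_lit 3, nat_lit 0, nat_lit 3, nat_lit 0, nat_lit 3, nat_lit 1, nat_lit 3, nat_lit 0, nat_lit 3, nat_lit 0, nat_lit 3]) (.leaf (nat_lit 1839) (nat_lit 3) [nat_lit 1, nat_lit 3, nat_lit 0, nat_lit 3, nat_lit 0, nat_lit 3, nat_lit 1, nat_lit 3, nat_lit 0, nat_lit 3, nat_lit 0, nat_lit 3, nat_lit 1, nat_lit 3, nat_lit 0, nat_lit 3, nat_lit 0])) (.node (nat_lit 1872) (.leaf (nat_lit 1840) (nat_lit 0) [nat_lit 3, nat_lit 1, nat_lit 3, nat_lit 0, nat_lit 3, nat_lit 0, nat_lit 3, nat_lit 1, nat_lit 3, nat_lit 0, nat_lit 3, nat_lit 0, nat_lit 3, nat_lit 1, nat_lit 3, nat_lit 0, nat_lit 3]) (.node (nat_lit 1873) (.leaf (nat_lit 1872) (nat_lit 0) [nat_lit 3, nat_lit 0, nat_lit 3, nat_lit 2, nat_lit 3, nat_lit 0, nat_lit 3, nat_lit 0, nat_lit 3, nat_lit 2, nat_lit 3, nat_lit 0, nat_lit 3, nat_lit 0, nat_lit 3, nat_lit 2, nat_lit 3]) (.leaf (nat_lit 1873) (nat_lit 3) [nat_lit 0, nat_lit 3, nat_lit 0, nat_lit 3, nat_lit 2, nat_lit 3, nat_lit 0, nat_lit 3, nat_lit 0, nat_lit 3, nat_lit 2, nat_lit 3, nat_lit 0, nat_lit 3, nat_lit 0, nat_lit 3, nat_lit 2]))))) (.node (nat_lit 1879) (.node (nat_lit 1876) (.node (nat_lit 1875) (.leaf (nat_lit 1874) (nat_lit 2) [nat_lit 3, nat_lit 0, nat_lit 3, nat_lit 0, nat_lit 3, nat_lit 2, nat_lit 3, nat_lit 0, nat_lit 3, nat_lit 0, nat_lit 3, nat_lit 2, nat_lit 3, nat_lit 0, nat_lit 3, nat_lit 0, nat_lit 3]) (.leaf (nat_lit 1875) (nat_lit 3) [nat_lit 2, nat_lit 3, nat_lit 0, nat_lit 3, nat_lit 0, nat_lit 3, nat_lit 2, nat_lit 3, nat_lit 0, nat_lit 3, nat_lit 0, nat_lit 3, nat_lit 2, nat_lit 3, nat_lit 0, nat_lit 3, nat_lit 0])) (.node (nat_lit 1877) (.leaf (nat_lit 1876) (nat_lit 0) [nat_lit 3, nat_lit 2, nat_lit 3, nat_lit 0, nat_lit 3, nat_lit 0, nat_lit 3, nat_lit 2, nat_lit 3, nat_lit 0, nat_lit 3, nat_lit 0, nat_lit 3, nat_lit 2, nat_lit 3, nat_lit 0, nat_lit 3]) (.node (nat_lit 1878) (.leaf (nat_lit 1877) (nat_lit 3) [nat_lit 0, nat_lit 3, nat_lit 2, nat_lit 3, nat_lit 0, nat_lit 3, nat_lit 0, nat_lit 3, nat_lit 2, nat_lit 3, nat_lit 0, nat_lit 3, nat_lit 0, nat_lit 3, nat_lit 2, nat_lit 3, nat_lit 0]) (.leaf (nat_lit 1872) (nat_lit 0) [nat_lit 3, nat_lit 0, nat_lit 3, nat_lit 2, nat_lit 3, nat_lit 0, nat_lit 3, nat_lit 0, nat_lit 3, nat_lit 2, nat_lit 3, nat_lit 0, nat_lit 3, nat_lit 0, nat_lit 3, nat_lit 2, nat_lit 3])))) (.node (nat_lit 1881) (.node (nat_lit 1880) (.leaf (nat_lit 1873) (nat_lit 3) [nat_lit 0, nat_lit 3, nat_lit 0, nat_lit 3, nat_lit 2, nat_lit 3, nat_lit 0, nat_lit 3, nat_lit 0, nat_lit 3, nat_lit 2, nat_lit 3, nat_lit 0, nat_lit 3, nat_lit 0, nat_lit 3, nat_lit 2]) (.leaf (nat_lit 1874) (nat_lit 2) [nat_lit 3, nat_lit 0, nat_lit 3, nat_lit 0, nat_lit 3, nat_lit 2, nat_lit 3, nat_lit 0, nat_lit 3, nat_lit 0, nat_lit 3, nat_lit 2, nat_lit 3, nat_lit 0, nat_lit 3, nat_lit 0, nat_lit 3])) (.node (nat_lit 1882) (.leaf (nat_lit 1875) (nat_lit 3) [nat_lit 2, nat_lit 3, nat_lit 0, nat_lit 3, nat_lit 0, nat_lit 3, nat_lit 2, nat_lit 3, nat_lit 0, nat_lit 3, nat_lit 0, nat_lit 3, nat_lit 2, nat_lit 3, nat_lit 0, nat_lit 3, nat_lit 0]) (.node (nat_lit 1883) (.leaf (nat_lit 1876) (nat_lit 0) [nat_lit 3, nat_lit 2, nat_lit 3, nat_lit 0, nat_lit 3, nat_lit 0, nat_lit 3, nat_lit 2, nat_lit 3, nat_lit 0, nat_lit 3, nat_lit 0, nat_lit 3, nat_lit 2, nat_lit 3, nat_lit 0, nat_lit 3]) (.leaf (nat_lit 1877) (nat_lit 3) [nat_lit 0, nat_lit 3, nat_lit 2, nat_lit 3, nat_lit 0, nat_lit 3, nat_lit 0, nat_lit 3, nat_lit 2, nat_lit 3, nat_lit 0, nat_lit 3, nat_lit 0, nat_lit 3, nat_lit 2, nat_lit 3, nat_lit 0])))))))) (.node (nat_lit 1921) (.node (nat_lit 1902) (.node (nat_lit 1893) (.node (nat_lit 1888) (.node (nat_lit 1886) (.node (nat_lit 1885) (.leaf (nat_lit 1872) (nat_lit 0) [nat_lit 3, nat_lit 0, nat_lit 3, nat_lit 2, nat_lit 3, nat_lit 0, nat_lit 3, nat_lit 0, nat_lit 3, nat_lit 2, nat_lit 3, nat_lit 0, nat_lit 3, nat_lit 0, nat_lit 3, nat_lit 2, nat_lit 3]) (.leaf (nat_lit 1873) (nat_lit 3) [nat_lit 0, nat_lit 3, nat_lit 0, nat_lit 3, nat_lit 2, nat_lit 3, nat_lit 0, nat_lit 3, nat_lit 0, nat_lit 3, nat_lit 2, nat_lit 3, nat_lit 0, nat_lit 3, nat_lit 0, nat_lit 3, nat_lit 2])) (.node (nat_lit 1887) (.leaf (nat_lit 1874) (nat_lit 2) [nat_lit 3, nat_lit 0, nat_lit 3, nat_lit 0, nat_lit 3, nat_lit 2, nat_lit 3, nat_lit 0, nat_lit 3, nat_lit 0, nat_lit 3, nat_lit 2, nat_lit 3, nat_lit 0, nat_lit 3, nat_lit 0, nat_lit 3]) (.leaf (nat_lit 1875) (nat_lit 3) [nat_lit 2, nat_lit 3, nat_lit 0, nat_lit 3, nat_lit 0, nat_lit 3, nat_lit 2, nat_lit 3, nat_lit 0, nat_lit 3, nat_lit 0, nat_lit 3, nat_lit 2, nat_lit 3, nat_lit 0, nat_lit 3, nat_lit 0]))) (.node (nat_lit 1890) (.node (nat_lit 1889) (.leaf (nat_lit 1876) (nat_lit 0) [nat_lit 3, nat_lit 2, nat_lit 3, nat_lit 0, nat_lit 3, nat_lit 0, nat_lit 3, nat_lit 2, nat_lit 3, nat_lit 0, nat_lit 3, nat_lit 0, nat_lit 3, nat_lit 2, nat_lit 3, nat_lit 0, nat_lit 3]) (.leaf (nat_lit 1877) (nat_lit 3) [nat_lit 0, nat_lit 3, nat_lit 2, nat_lit 3, nat_lit 0, nat_lit 3, nat_lit 0, nat_lit 3, nat_lit 2, nat_lit 3, nat_lit 0, nat_lit 3, nat_lit 0, nat_lit 3, nat_lit 2, nat_lit 3, nat_lit 0])) (.node (nat_lit 1891) (.leaf (nat_lit 1877) (nat_lit 3) [nat_lit 0, nat_lit 3, nat_lit 2, nat_lit 3, nat_lit 0, nat_lit 3, nat_lit 0, nat_lit 3, nat_lit 2, nat_lit 3, nat_lit 0, nat_lit 3, nat_lit 0, nat_lit 3, nat_lit 2, nat_lit 3, nat_lit 0]) (.node (nat_lit 1892) (.leaf (nat_lit 1872) (nat_lit 0) [nat_lit 3, nat_lit 0, nat_lit 3, nat_lit 2, nat_lit 3, nat_lit 0, nat_lit 3, nat_lit 0, nat_lit 3, nat_lit 2, nat_lit 3, nat_lit 0, nat_lit 3, nat_lit 0, nat_lit 3, nat_lit 2, nat_lit 3]) (.leaf (nat_lit 1873) (nat_lit 3) [nat_lit 0, nat_lit 3, nat_lit 0, nat_lit 3, nat_lit 2, nat_lit 3, nat_lit 0, nat_lit 3, nat_lit 0, nat_lit 3, nat_lit 2, nat_lit 3, nat_lit 0, nat_lit 3, nat_lit 0, nat_lit 3, nat_lit 2]))))) (.node (nat_lit 1897) (.node (nat_lit 1895) (.node (nat_lit 1894) (.leaf (nat_lit 1874) (nat_lit 2) [nat_lit 3, nat_lit 0, nat_lit 3, nat_lit 0, nat_lit 3, nat_lit 2, nat_lit 3, nat_lit 0, nat_lit 3, nat_lit 0, nat_lit 3, nat_lit 2, nat_lit 3, nat_lit 0, nat_lit 3, nat_lit 0, nat_lit 3]) (.leaf (nat_lit 1875) (nat_lit 3) [nat_lit 2, nat_lit 3, nat_lit 0, nat_lit 3, nat_lit 0, nat_lit 3, nat_lit 2, nat_lit 3, nat_lit 0, nat_lit 3, nat_lit 0, nat_lit 3, nat_lit 2, nat_lit 3, nat_lit 0, nat_lit 3, nat_lit 0])) (.node (nat_lit 1896) (.leaf (nat_lit 1876) (nat_lit 0) [nat_lit 3, nat_lit 2, nat_lit 3, nat_lit 0, nat_lit 3, nat_lit 0, nat_lit 3, nat_lit 2, nat_lit 3, nat_lit 0, nat_lit 3, nat_lit 0, nat_lit 3, nat_lit 2, nat_lit 3, nat_lit 0, nat_lit 3]) (.leaf (nat_lit 1877) (nat_lit 3) [nat_lit 0, nat_lit 3, nat_lit 2, nat_lit 3, nat_lit 0, nat_lit 3, nat_lit 0, nat_lit 3, nat_lit 2, nat_lit 3, nat_lit 0, nat_lit 3, nat_lit 0, nat_lit 3, nat_lit 2, nat_lit 3, nat_lit 0]))) (.node (nat_lit 1899) (.node (nat_lit 1898) (.leaf (nat_lit 1872) (nat_lit 0) [nat_lit 3, nat_lit 0, nat_lit 3, nat_lit 2, nat_lit 3, nat_lit 0, nat_lit 3, nat_lit 0, nat_lit 3, nat_lit 2, nat_lit 3, nat_lit 0, nat_lit 3, nat_lit 0, nat_lit 3, nat_lit 2, nat_lit 3]) (.leaf (nat_lit 1873) (nat_lit 3) [nat_lit 0, nat_lit 3, nat_lit 0, nat_lit 3, nat_lit 2, nat_lit 3, nat_lit 0, nat_lit 3, nat_lit 0, nat_lit 3, nat_lit 2, nat_lit 3, nat_lit 0, nat_lit 3, nat_lit 0, nat_lit 3, nat_lit 2])) (.node (nat_lit 1900) (.leaf (nat_lit 1874) (nat_lit 2) [nat_lit 3, nat_lit 0, nat_lit 3, nat_lit 0, nat_lit 3, nat_lit 2, nat_lit 3, nat_lit 0, nat_lit 3, nat_lit 0, nat_lit 3, nat_lit 2, nat_lit 3, nat_lit 0, nat_lit 3, nat_lit 0, nat_lit 3]) (.node (nat_lit 1901) (.leaf (nat_lit 1875) (nat_lit 3) [nat_lit 2, nat_lit 3, nat_lit 0, nat_lit 3, nat_lit 0, nat_lit 3, nat_lit 2, nat_lit 3, nat_lit 0, nat_lit 3, nat_lit 0, nat_lit 3, nat_lit 2, nat_lit 3, nat_lit 0, nat_lit 3, nat_lit 0]) (.leaf (nat_lit 1876) (nat_lit 0) [nat_lit 3, nat_lit 2, nat_lit 3, nat_lit 0, nat_lit 3, nat_lit 0, nat_lit 3, nat_lit 2, nat_lit 3, nat_lit 0, nat_lit 3, nat_lit 0, nat_lit 3, nat_lit 2, nat_lit 3, nat_lit 0, nat_lit 3])))))) (.node (nat_lit 1911) (.node (nat_lit 1906) (.node (nat_lit 1904) (.node (nat_lit 1903) (.leaf (nat_lit 1877) (nat_lit 3) [nat_lit 0, nat_lit 3, nat_lit 2, nat_lit 3, nat_lit 0, nat_lit 3, nat_lit 0, nat_lit 3, nat_lit 2, nat_lit 3, nat_lit 0, nat_lit 3, nat_lit 0, nat_lit 3, nat_lit 2, nat_lit 3, nat_lit 0]) (.leaf (nat_lit 1872) (nat_lit 0) [nat_lit 3, nat_lit 0, nat_lit 3, nat_lit 2, nat_lit 3, nat_lit 0, nat_lit 3, nat_lit 0, nat_lit 3, nat_lit 2, nat_lit 3, nat_lit 0, nat_lit 3, nat_lit 0, nat_lit 3, nat_lit 2, nat_lit 3])) (.node (nat_lit 1905) (.leaf (nat_lit 1873) (nat_lit 3) [nat_lit 0, nat_lit 3, nat_lit 0, nat_lit 3, nat_lit 2, nat_lit 3, nat_lit 0, nat_lit 3, nat_lit 0, nat_lit 3, nat_lit 2, nat_lit 3, nat_lit 0, nat_lit 3, nat_lit 0, nat_lit 3, nat_lit 2]) (.leaf (nat_lit 1874) (nat_lit 2) [nat_lit 3, nat_lit 0, nat_lit 3, nat_lit 0, nat_lit 3, nat_lit 2, nat_lit 3, nat_lit 0, nat_lit 3, nat_lit 0, nat_lit 3, nat_lit 2, nat_lit 3, nat_lit 0, nat_lit 3, nat_lit 0, nat_lit 3]))) (.node (nat_lit 1908) (.node (nat_lit 1907) (.leaf (nat_lit 1875) (nat_lit 3) [nat_lit 2, nat_lit 3, nat_lit 0, nat_lit 3, nat_lit 0, nat_lit 3, nat_lit 2, nat_lit 3, nat_lit 0, nat_lit 3, nat_lit 0, nat_lit 3, nat_lit 2, nat_lit 3, nat_lit 0, nat_lit 3, nat_lit 0]) (.leaf (nat_lit 1876) (nat_lit 0) [nat_lit 3, nat_lit 2, nat_lit 3, nat_lit 0, nat_lit 3, nat_lit 0, nat_lit 3, nat_lit 2, nat_lit 3, nat_lit 0, nat_lit 3, nat_lit 0, nat_lit 3, nat_lit 2, nat_lit 3, nat_lit 0, nat_lit 3])) (.node (nat_lit 1909) (.leaf (nat_lit 937) (nat_lit 1) [nat_lit 0, nat_lit 1, nat_lit 0, nat_lit 1, nat_lit 0, nat_lit 1, nat_lit 0, nat_lit 1, nat_lit 0, nat_lit 1, nat_lit 0, nat_lit 1, nat_lit 0, nat_lit 1, nat_lit 0, nat_lit 1, nat_lit 0]) (.node (nat_lit 1910) (.leaf (nat_lit 936) (nat_lit 0) [nat_lit 1, nat_lit 0, nat_lit 1, nat_lit 0, nat_lit 1, nat_lit 0, nat_lit 1, nat_lit 0, nat_lit 1, nat_lit 0, nat_lit 1, nat_lit 0, nat_lit 1, nat_lit 0, nat_lit 1, nat_lit 0, nat_lit 1]) (.leaf (nat_lit 937) (nat_lit 1) [nat_lit 0, nat_lit 1, nat_lit 0, nat_lit 1, nat_lit 0, nat_lit 1, nat_lit 0, nat_lit 1, nat_lit 0, nat_lit 1, nat_lit 0, nat_lit 1, nat_lit 0, nat_lit 1, nat_lit 0, nat_lit 1, nat_lit 0]))))) (.node (nat_lit 1916) (.node (nat_lit 1913) (.node (nat_lit 1912) (.leaf (nat_lit 936) (nat_lit 0) [nat_lit 1, nat_lit 0, nat_lit 1, nat_lit 0, nat_lit 1, nat_lit 0, nat_lit 1, nat_lit 0, nat_lit 1, nat_lit 0, nat_lit 1, nat_lit 0, nat_lit 1, nat_lit 0, nat_lit 1, nat_lit 0, nat_lit 1]) (.leaf (nat_lit 937) (nat_lit 1) [nat_lit 0, nat_lit 1, nat_lit 0, nat_lit 1, nat_lit 0, nat_lit 1, nat_lit 0, nat_lit 1, nat_lit 0, nat_lit 1, nat_lit 0, nat_lit 1, nat_lit 0, nat_lit 1, nat_lit 0, nat_lit 1, nat_lit 0])) (.node (nat_lit 1914) (.leaf (nat_lit 936) (nat_lit 0) [nat_lit 1, nat_lit 0, nat_lit 1, nat_lit 0, nat_lit 1, nat_lit 0, nat_lit 1, nat_lit 0, nat_lit 1, nat_lit 0, nat_lit 1, nat_lit 0, nat_lit 1, nat_lit 0, nat_lit 1, nat_lit 0, nat_lit 1]) (.node (nat_lit 1915) (.leaf (nat_lit 937) (nat_lit 1) [nat_lit 0, nat_lit 1, nat_lit 0, nat_lit 1, nat_lit 0, nat_lit 1, nat_lit 0, nat_lit 1, nat_lit 0, nat_lit 1, nat_lit 0, nat_lit 1, nat_lit 0, nat_lit 1, nat_lit 0, nat_lit 1, nat_lit 0]) (.leaf (nat_lit 936) (nat_lit 0) [nat_lit 1, nat_lit 0, nat_lit 1, nat_lit 0, nat_lit 1, nat_lit 0, nat_lit 1, nat_lit 0, nat_lit 1, nat_lit 0, nat_lit 1, nat_lit 0, nat_lit 1, nat_lit 0, nat_lit 1, nat_lit 0, nat_lit 1])))) (.node (nat_lit 1918) (.node (nat_lit 1917) (.leaf (nat_lit 937) (nat_lit 1) [nat_lit 0, nat_lit 1, nat_lit 0, nat_lit 1, nat_lit 0, nat_lit 1, nat_lit 0, nat_lit 1, nat_lit 0, nat_lit 1, nat_lit 0, nat_lit 1, nat_lit 0, nat_lit 1, nat_lit 0, nat_lit 1, nat_lit 0]) (.leaf (nat_lit 936) (nat_lit 0) [nat_lit 1, nat_lit 0, nat_lit 1, nat_lit 0, nat_lit 1, nat_lit 0, nat_lit 1, nat_lit 0, nat_lit 1, nat_lit 0, nat_lit 1, nat_lit 0, nat_lit 1, nat_lit 0, nat_lit 1, nat_lit 0, nat_lit 1])) (.node (nat_lit 1919) (.leaf (nat_lit 937) (nat_lit 1) [nat_lit 0, nat_lit 1, nat_lit 0, nat_lit 1, nat_lit 0, nat_lit 1, nat_lit 0, nat_lit 1, nat_lit 0, nat_lit 1, nat_lit 0, nat_lit 1, nat_lit 0, nat_lit 1, nat_lit 0, nat_lit 1, nat_lit 0]) (.node (nat_lit 1920) (.leaf (nat_lit 936) (nat_lit 0) [nat_lit 1, nat_lit 0, nat_lit 1, nat_lit 0, nat_lit 1, nat_lit 0, nat_lit 1, nat_lit 0, nat_lit 1, nat_lit 0, nat_lit 1, nat_lit 0, nat_lit 1, nat_lit 0, nat_lit 1, nat_lit 0, nat_lit 1]) (.leaf (nat_lit 937) (nat_lit 1) [nat_lit 0, nat_lit 1, nat_lit 0, nat_lit 1, nat_lit 0, nat_lit 1, nat_lit 0, nat_lit 1, nat_lit 0, nat_lit 1, nat_lit 0, nat_lit 1, nat_lit 0, nat_lit 1, nat_lit 0, nat_lit 1, nat_lit 0]))))))) (.node (nat_lit 1940) (.node (nat_lit 1930) (.node (nat_lit 1925) (.node (nat_lit 1923) (.node (nat_lit 1922) (.leaf (nat_lit 936) (nat_lit 0) [nat_lit 1, nat_lit 0, nat_lit 1, nat_lit 0, nat_lit 1, nat_lit 0, nat_lit 1, nat_lit 0, nat_lit 1, nat_lit 0, nat_lit 1, nat_lit 0, nat_lit 1, nat_lit 0, nat_lit 1, nat_lit 0, nat_lit 1]) (.leaf (nat_lit 937) (nat_lit 1) [nat_lit 0, nat_lit 1, nat_lit 0, nat_lit 1, nat_lit 0, nat_lit 1, nat_lit 0, nat_lit 1, nat_lit 0, nat_lit 1, nat_lit 0, nat_lit 1, nat_lit 0, nat_lit 1, nat_lit 0, nat_lit 1, nat_lit 0])) (.node (nat_lit 1924) (.leaf (nat_lit 936) (nat_lit 0) [nat_lit 1, nat_lit 0, nat_lit 1, nat_lit 0, nat_lit 1, nat_lit 0, nat_lit 1, nat_lit 0, nat_lit 1, nat_lit 0, nat_lit 1, nat_lit 0, nat_lit 1, nat_lit 0, nat_lit 1, nat_lit 0, nat_lit 1]) (.leaf (nat_lit 937) (nat_lit 1) [nat_lit 0, nat_lit 1, nat_lit 0, nat_lit 1, nat_lit 0, nat_lit 1, nat_lit 0, nat_lit 1, nat_lit 0, nat_lit 1, nat_lit 0, nat_lit 1, nat_lit 0, nat_lit 1, nat_lit 0, nat_lit 1, nat_lit 0]))) (.node (nat_lit 1927) (.node (nat_lit 1926) (.leaf (nat_lit 936) (nat_lit 0) [nat_lit 1, nat_lit 0, nat_lit 1, nat_lit 0, nat_lit 1, nat_lit 0, nat_lit 1, nat_lit 0, nat_lit 1, nat_lit 0, nat_lit 1, nat_lit 0, nat_lit 1, nat_lit 0, nat_lit 1, nat_lit 0, nat_lit 1]) (.leaf (nat_lit 936) (nat_lit 0) [nat_lit 1, nat_lit 0, nat_lit 1, nat_lit 0, nat_lit 1, nat_lit 0, nat_lit 1, nat_lit 0, nat_lit 1, nat_lit 0, nat_lit 1, nat_lit 0, nat_lit 1, nat_lit 0, nat_lit 1, nat_lit 0, nat_lit 1])) (.node (nat_lit 1928) (.leaf (nat_lit 937) (nat_lit 1) [nat_lit 0, nat_lit 1, nat_lit 0, nat_lit 1, nat_lit 0, nat_lit 1, nat_lit 0, nat_lit 1, nat_lit 0, nat_lit 1, nat_lit 0, nat_lit 1, nat_lit 0, nat_lit 1, nat_lit 0, nat_lit 1, nat_lit 0]) (.node (nat_lit 1929) (.leaf (nat_lit 936) (nat_lit 0) [nat_lit 1, nat_lit 0, nat_lit 1, nat_lit 0, nat_lit 1, nat_lit 0, nat_lit 1, nat_lit 0, nat_lit 1, nat_lit 0, nat_lit 1, nat_lit 0, nat_lit 1, nat_lit 0, nat_lit 1, nat_lit 0, nat_lit 1]) (.leaf (nat_lit 937) (nat_lit 1) [nat_lit 0, nat_lit 1, nat_lit 0, nat_lit 1, nat_lit 0, nat_lit 1, nat_lit 0, nat_lit 1, nat_lit 0, nat_lit 1, nat_lit 0, nat_lit 1, nat_lit 0, nat_lit 1, nat_lit 0, nat_lit 1, nat_lit 0]))))) (.node (nat_lit 1935) (.node (nat_lit 1932) (.node (nat_lit 1931) (.leaf (nat_lit 936) (nat_lit 0) [nat_lit 1, nat_lit 0, nat_lit 1, nat_lit 0, nat_lit 1, nat_lit 0, nat_lit 1, nat_lit 0, nat_lit 1, nat_lit 0, nat_lit 1, nat_lit 0, nat_lit 1, nat_lit 0, nat_lit 1, nat_lit 0, nat_lit 1]) (.leaf (nat_lit 937) (nat_lit 1) [nat_lit 0, nat_lit 1, nat_lit 0, nat_lit 1, nat_lit 0, nat_lit 1, nat_lit 0, nat_lit 1, nat_lit 0, nat_lit 1, nat_lit 0, nat_lit 1, nat_lit 0, nat_lit 1, nat_lit 0, nat_lit 1, nat_lit 0])) (.node (nat_lit 1933) (.leaf (nat_lit 936) (nat_lit 0) [nat_lit 1, nat_lit 0, nat_lit 1, nat_lit 0, nat_lit 1, nat_lit 0, nat_lit 1, nat_lit 0, nat_lit 1, nat_lit 0, nat_lit 1, nat_lit 0, nat_lit 1, nat_lit 0, nat_lit 1, nat_lit 0, nat_lit 1]) (.node (nat_lit 1934) (.leaf (nat_lit 937) (nat_lit 1) [nat_lit 0, nat_lit 1, nat_lit 0, nat_lit 1, nat_lit 0, nat_lit 1, nat_lit 0, nat_lit 1, nat_lit 0, nat_lit 1, nat_lit 0, nat_lit 1, nat_lit 0, nat_lit 1, nat_lit 0, nat_lit 1, nat_lit 0]) (.leaf (nat_lit 936) (nat_lit 0) [nat_lit 1, nat_lit 0, nat_lit 1, nat_lit 0, nat_lit 1, nat_lit 0, nat_lit 1, nat_lit 0, nat_lit 1, nat_lit 0, nat_lit 1, nat_lit 0, nat_lit 1, nat_lit 0, nat_lit 1, nat_lit 0, nat_lit 1])))) (.node (nat_lit 1937) (.node (nat_lit 1936) (.leaf (nat_lit 937) (nat_lit 1) [nat_lit 0, nat_lit 1, nat_lit 0, nat_lit 1, nat_lit 0, nat_lit 1, nat_lit 0, nat_lit 1, nat_lit 0, nat_lit 1, nat_lit 0, nat_lit 1, nat_lit 0, nat_lit 1, nat_lit 0, nat_lit 1, nat_lit 0]) (.leaf (nat_lit 936) (nat_lit 0) [nat_lit 1, nat_lit 0, nat_lit 1, nat_lit 0, nat_lit 1, nat_lit 0, nat_lit 1, nat_lit 0, nat_lit 1, nat_lit 0, nat_lit 1, nat_lit 0, nat_lit 1, nat_lit 0, nat_lit 1, nat_lit 0, nat_lit 1])) (.node (nat_lit 1938) (.leaf (nat_lit 937) (nat_lit 1) [nat_lit 0, nat_lit 1, nat_lit 0, nat_lit 1, nat_lit 0, nat_lit 1, nat_lit 0, nat_lit 1, nat_lit 0, nat_lit 1, nat_lit 0, nat_lit 1, nat_lit 0, nat_lit 1, nat_lit 0, nat_lit 1, nat_lit 0]) (.node (nat_lit 1939) (.leaf (nat_lit 936) (nat_lit 0) [nat_lit 1, nat_lit 0, nat_lit 1, nat_lit 0, nat_lit 1, nat_lit 0, nat_lit 1, nat_lit 0, nat_lit 1, nat_lit 0, nat_lit 1, nat_lit 0, nat_lit 1, nat_lit 0, nat_lit 1, nat_lit 0, nat_lit 1]) (.leaf (nat_lit 937) (nat_lit 1) [nat_lit 0, nat_lit 1, nat_lit 0, nat_lit 1, nat_lit 0, nat_lit 1, nat_lit 0, nat_lit 1, nat_lit 0, nat_lit 1, nat_lit 0, nat_lit 1, nat_lit 0, nat_lit 1, nat_lit 0, nat_lit 1, nat_lit 0])))))) (.node (nat_lit 1949) (.node (nat_lit 1944) (.node (nat_lit 1942) (.node (nat_lit 1941) (.leaf (nat_lit 936) (nat_lit 0) [nat_lit 1, nat_lit 0, nat_lit 1, nat_lit 0, nat_lit 1, nat_lit 0, nat_lit 1, nat_lit 0, nat_lit 1, nat_lit 0, nat_lit 1, nat_lit 0, nat_lit 1, nat_lit 0, nat_lit 1, nat_lit 0, nat_lit 1]) (.leaf (nat_lit 937) (nat_lit 1) [nat_lit 0, nat_lit 1, nat_lit 0, nat_lit 1, nat_lit 0, nat_lit 1, nat_lit 0, nat_lit 1, nat_lit 0, nat_lit 1, nat_lit 0, nat_lit 1, nat_lit 0, nat_lit 1, nat_lit 0, nat_lit 1, nat_lit 0])) (.node (nat_lit 1943) (.leaf (nat_lit 936) (nat_lit 0) [nat_lit 1, nat_lit 0, nat_lit 1, nat_lit 0, nat_lit 1, nat_lit 0, nat_lit 1, nat_lit 0, nat_lit 1, nat_lit 0, nat_lit 1, nat_lit 0, nat_lit 1, nat_lit 0, nat_lit 1, nat_lit 0, nat_lit 1]) (.leaf (nat_lit 937) (nat_lit 1) [nat_lit 0, nat_lit 1, nat_lit 0, nat_lit 1, nat_lit 0, nat_lit 1, nat_lit 0, nat_lit 1, nat_lit 0, nat_lit 1, nat_lit 0, nat_lit 1, nat_lit 0, nat_lit 1, nat_lit 0, nat_lit 1, nat_lit 0]))) (.node (nat_lit 1946) (.node (nat_lit 1945) (.leaf (nat_lit 1047) (nat_lit 1) [nat_lit 0, nat_lit 1, nat_lit 0, nat_lit 2, nat_lit 0, nat_lit 1, nat_lit 0, nat_lit 1, nat_lit 0, nat_lit 2, nat_lit 0, nat_lit 1, nat_lit 0, nat_lit 1, nat_lit 0, nat_lit 2, nat_lit 0]) (.leaf (nat_lit 1048) (nat_lit 0) [nat_lit 1, nat_lit 0, nat_lit 1, nat_lit 0, nat_lit 2, nat_lit 0, nat_lit 1, nat_lit 0, nat_lit 1, nat_lit 0, nat_lit 2, nat_lit 0, nat_lit 1, nat_lit 0, nat_lit 1, nat_lit 0, nat_lit 2])) (.node (nat_lit 1947) (.leaf (nat_lit 1049) (nat_lit 2) [nat_lit 0, nat_lit 1, nat_lit 0, nat_lit 1, nat_lit 0, nat_lit 2, nat_lit 0, nat_lit 1, nat_lit 0, nat_lit 1, nat_lit 0, nat_lit 2, nat_lit 0, nat_lit 1, nat_lit 0, nat_lit 1, nat_lit 0]) (.node (nat_lit 1948) (.leaf (nat_lit 1044) (nat_lit 0) [nat_lit 2, nat_lit 0, nat_lit 1, nat_lit 0, nat_lit 1, nat_lit 0, nat_lit 2, nat_lit 0, nat_lit 1, nat_lit 0, nat_lit 1, nat_lit 0, nat_lit 2, nat_lit 0, nat_lit 1, nat_lit 0, nat_lit 1]) (.leaf (nat_lit 1045) (nat_lit 1) [nat_lit 0, nat_lit 2, nat_lit 0, nat_lit 1, nat_lit 0, nat_lit 1, nat_lit 0, nat_lit 2, nat_lit 0, nat_lit 1, nat_lit 0, nat_lit 1, nat_lit 0, nat_lit 2, nat_lit 0, nat_lit 1, nat_lit 0]))))) (.node (nat_lit 1954) (.node (nat_lit 1951) (.node (nat_lit 1950) (.leaf (nat_lit 1046) (nat_lit 0) [nat_lit 1, nat_lit 0, nat_lit 2, nat_lit 0, nat_lit 1, nat_lit 0, nat_lit 1, nat_lit 0, nat_lit 2, nat_lit 0, nat_lit 1, nat_lit 0, nat_lit 1, nat_lit 0, nat_lit 2, nat_lit 0, nat_lit 1]) (.leaf (nat_lit 1047) (nat_lit 1) [nat_lit 0, nat_lit 1, nat_lit 0, nat_lit 2, nat_lit 0, nat_lit 1, nat_lit 0, nat_lit 1, nat_lit 0, nat_lit 2, nat_lit 0, nat_lit 1, nat_lit 0, nat_lit 1, nat_lit 0, nat_lit 2, nat_lit 0])) (.node (nat_lit 1952) (.leaf (nat_lit 1048) (nat_lit 0) [nat_lit 1, nat_lit 0, nat_lit 1, nat_lit 0, nat_lit 2, nat_lit 0, nat_lit 1, nat_lit 0, nat_lit 1, nat_lit 0, nat_lit 2, nat_lit 0, nat_lit 1, nat_lit 0, nat_lit 1, nat_lit 0, nat_lit 2]) (.node (nat_lit 1953) (.leaf (nat_lit 1049) (nat_lit 2) [nat_lit 0, nat_lit 1, nat_lit 0, nat_lit 1, nat_lit 0, nat_lit 2, nat_lit 0, nat_lit 1, nat_lit 0, nat_lit 1, nat_lit 0, nat_lit 2, nat_lit 0, nat_lit 1, nat_lit 0, nat_lit 1, nat_lit 0]) (.leaf (nat_lit 1044) (nat_lit 0) [nat_lit 2, nat_lit 0, nat_lit 1, nat_lit 0, nat_lit 1, nat_lit 0, nat_lit 2, nat_lit 0, nat_lit 1, nat_lit 0, nat_lit 1, nat_lit 0, nat_lit 2, nat_lit 0, nat_lit 1, nat_lit 0, nat_lit 1])))) (.node (nat_lit 1956) (.node (nat_lit 1955) (.leaf (nat_lit 1045) (nat_lit 1) [nat_lit 0, nat_lit 2, nat_lit 0, nat_lit 1, nat_lit 0, nat_lit 1, nat_lit 0, nat_lit 2, nat_lit 0, nat_lit 1, nat_lit 0, nat_lit 1, nat_lit 0, nat_lit 2, nat_lit 0, nat_lit 1, nat_lit 0]) (.leaf (nat_lit 1046) (nat_lit 0) [nat_lit 1, nat_lit 0, nat_lit 2, nat_lit 0, nat_lit 1, nat_lit 0, nat_lit 1, nat_lit 0, nat_lit 2, nat_lit 0, nat_lit 1, nat_lit 0, nat_lit 1, nat_lit 0, nat_lit 2, nat_lit 0, nat_lit 1])) (.node (nat_lit 1957) (.leaf (nat_lit 1047) (nat_lit 1) [nat_lit 0, nat_lit 1, nat_lit 0, nat_lit 2, nat_lit 0, nat_lit 1, nat_lit 0, nat_lit 1, nat_lit 0, nat_lit 2, nat_lit 0, nat_lit 1, nat_lit 0, nat_lit 1, nat_lit 0, nat_lit 2, nat_lit 0]) (.node (nat_lit 1958) (.leaf (nat_lit 1048) (nat_lit 0) [nat_lit 1, nat_lit 0, nat_lit 1, nat_lit 0, nat_lit 2, nat_lit 0, nat_lit 1, nat_lit 0, nat_lit 1, nat_lit 0, nat_lit 2, nat_lit 0, nat_lit 1, nat_lit 0, nat_lit 1, nat_lit 0, nat_lit 2]) (.leaf (nat_lit 1049) (nat_lit 2) [nat_lit 0, nat_lit 1, nat_lit 0, nat_lit 1, nat_lit 0, nat_lit 2, nat_lit 0, nat_lit 1, nat_lit 0, nat_lit 1, nat_lit 0, nat_lit 2, nat_lit 0, nat_lit 1, nat_lit 0, nat_lit 1, nat_lit 0]))))))))) (.node (nat_lit 2034) (.node (nat_lit 1996) (.node (nat_lit 1977) (.node (nat_lit 1968) (.node (nat_lit 1963) (.node (nat_lit 1961) (.node (nat_lit 1960) (.leaf (nat_lit 1044) (nat_lit 0) [nat_lit 2, nat_lit 0, nat_lit 1, nat_lit 0, nat_lit 1, nat_lit 0, nat_lit 2, nat_lit 0, nat_lit 1, nat_lit 0, nat_lit 1, nat_lit 0, nat_lit 2, nat_lit 0, nat_lit 1, nat_lit 0, nat_lit 1]) (.leaf (nat_lit 1045) (nat_lit 1) [nat_lit 0, nat_lit 2, nat_lit 0, nat_lit 1, nat_lit 0, nat_lit 1, nat_lit 0, nat_lit 2, nat_lit 0, nat_lit 1, nat_lit 0, nat_lit 1, nat_lit 0, nat_lit 2, nat_lit 0, nat_lit 1, nat_lit 0])) (.node (nat_lit 1962) (.leaf (nat_lit 1046) (nat_lit 0) [nat_lit 1, nat_lit 0, nat_lit 2, nat_lit 0, nat_lit 1, nat_lit 0, nat_lit 1, nat_lit 0, nat_lit 2, nat_lit 0, nat_lit 1, nat_lit 0, nat_lit 1, nat_lit 0, nat_lit 2, nat_lit 0, nat_lit 1]) (.leaf (nat_lit 1046) (nat_lit 0) [nat_lit 1, nat_lit 0, nat_lit 2, nat_lit 0, nat_lit 1, nat_lit 0, nat_lit 1, nat_lit 0, nat_lit 2, nat_lit 0, nat_lit 1, nat_lit 0, nat_lit 1, nat_lit 0, nat_lit 2, nat_lit 0, nat_lit 1]))) (.node (nat_lit 1965) (.node (nat_lit 1964) (.leaf (nat_lit 1047) (nat_lit 1) [nat_lit 0, nat_lit 1, nat_lit 0, nat_lit 2, nat_lit 0, nat_lit 1, nat_lit 0, nat_lit 1, nat_lit 0, nat_lit 2, nat_lit 0, nat_lit 1, nat_lit 0, nat_lit 1, nat_lit 0, nat_lit 2, nat_lit 0]) (.leaf (nat_lit 1048) (nat_lit 0) [nat_lit 1, nat_lit 0, nat_lit 1, nat_lit 0, nat_lit 2, nat_lit 0, nat_lit 1, nat_lit 0, nat_lit 1, nat_lit 0, nat_lit 2, nat_lit 0, nat_lit 1, nat_lit 0, nat_lit 1, nat_lit 0, nat_lit 2])) (.node (nat_lit 1966) (.leaf (nat_lit 1049) (nat_lit 2) [nat_lit 0, nat_lit 1, nat_lit 0, nat_lit 1, nat_lit 0, nat_lit 2, nat_lit 0, nat_lit 1, nat_lit 0, nat_lit 1, nat_lit 0, nat_lit 2, nat_lit 0, nat_lit 1, nat_lit 0, nat_lit 1, nat_lit 0]) (.node (nat_lit 1967) (.leaf (nat_lit 1044) (nat_lit 0) [nat_lit 2, nat_lit 0, nat_lit 1, nat_lit 0, nat_lit 1, nat_lit 0, nat_lit 2, nat_lit 0, nat_lit 1, nat_lit 0, nat_lit 1, nat_lit 0, nat_lit 2, nat_lit 0, nat_lit 1, nat_lit 0, nat_lit 1]) (.leaf (nat_lit 1045) (nat_lit 1) [nat_lit 0, nat_lit 2, nat_lit 0, nat_lit 1, nat_lit 0, nat_lit 1, nat_lit 0, nat_lit 2, nat_lit 0, nat_lit 1, nat_lit 0, nat_lit 1, nat_lit 0, nat_lit 2, nat_lit 0, nat_lit 1, nat_lit 0]))))) (.node (nat_lit 1972) (.node (nat_lit 1970) (.node (nat_lit 1969) (.leaf (nat_lit 1046) (nat_lit 0) [nat_lit 1, nat_lit 0, nat_lit 2, nat_lit 0, nat_lit 1, nat_lit 0, nat_lit 1, nat_lit 0, nat_lit 2, nat_lit 0, nat_lit 1, nat_lit 0, nat_lit 1, nat_lit 0, nat_lit 2, nat_lit 0, nat_lit 1]) (.leaf (nat_lit 1047) (nat_lit 1) [nat_lit 0, nat_lit 1, nat_lit 0, nat_lit 2, nat_lit 0, nat_lit 1, nat_lit 0, nat_lit 1, nat_lit 0, nat_lit 2, nat_lit 0, nat_lit 1, nat_lit 0, nat_lit 1, nat_lit 0, nat_lit 2, nat_lit 0])) (.node (nat_lit 1971) (.leaf (nat_lit 1048) (nat_lit 0) [nat_lit 1, nat_lit 0, nat_lit 1, nat_lit 0, nat_lit 2, nat_lit 0, nat_lit 1, nat_lit 0, nat_lit 1, nat_lit 0, nat_lit 2, nat_lit 0, nat_lit 1, nat_lit 0, nat_lit 1, nat_lit 0, nat_lit 2]) (.leaf (nat_lit 1049) (nat_lit 2) [nat_lit 0, nat_lit 1, nat_lit 0, nat_lit 1, nat_lit 0, nat_lit 2, nat_lit 0, nat_lit 1, nat_lit 0, nat_lit 1, nat_lit 0, nat_lit 2, nat_lit 0, nat_lit 1, nat_lit 0, nat_lit 1, nat_lit 0]))) (.node (nat_lit 1974) (.node (nat_lit 1973) (.leaf (nat_lit 1044) (nat_lit 0) [nat_lit 2, nat_lit 0, nat_lit 1, nat_lit 0, nat_lit 1, nat_lit 0, nat_lit 2, nat_lit 0, nat_lit 1, nat_lit 0, nat_lit 1, nat_lit 0, nat_lit 2, nat_lit 0, nat_lit 1, nat_lit 0, nat_lit 1]) (.leaf (nat_lit 1045) (nat_lit 1) [nat_lit 0, nat_lit 2, nat_lit 0, nat_lit 1, nat_lit 0, nat_lit 1, nat_lit 0, nat_lit 2, nat_lit 0, nat_lit 1, nat_lit 0, nat_lit 1, nat_lit 0, nat_lit 2, nat_lit 0, nat_lit 1, nat_lit 0])) (.node (nat_lit 1975) (.leaf (nat_lit 1046) (nat_lit 0) [nat_lit 1, nat_lit 0, nat_lit 2, nat_lit 0, nat_lit 1, nat_lit 0, nat_lit 1, nat_lit 0, nat_lit 2, nat_lit 0, nat_lit 1, nat_lit 0, nat_lit 1, nat_lit 0, nat_lit 2, nat_lit 0, nat_lit 1]) (.node (nat_lit 1976) (.leaf (nat_lit 1047) (nat_lit 1) [nat_lit 0, nat_lit 1, nat_lit 0, nat_lit 2, nat_lit 0, nat_lit 1, nat_lit 0, nat_lit 1, nat_lit 0, nat_lit 2, nat_lit 0, nat_lit 1, nat_lit 0, nat_lit 1, nat_lit 0, nat_lit 2, nat_lit 0]) (.leaf (nat_lit 1048) (nat_lit 0) [nat_lit 1, nat_lit 0, nat_lit 1, nat_lit 0, nat_lit 2, nat_lit 0, nat_lit 1, nat_lit 0, nat_lit 1, nat_lit 0, nat_lit 2, nat_lit 0, nat_lit 1, nat_lit 0, nat_lit 1, nat_lit 0, nat_lit 2])))))) (.node (nat_lit 1986) (.node (nat_lit 1981) (.node (nat_lit 1979) (.node (nat_lit 1978) (.leaf (nat_lit 1049) (nat_lit 2) [nat_lit 0, nat_lit 1, nat_lit 0, nat_lit 1, nat_lit 0, nat_lit 2, nat_lit 0, nat_lit 1, nat_lit 0, nat_lit 1, nat_lit 0, nat_lit 2, nat_lit 0, nat_lit 1, nat_lit 0, nat_lit 1, nat_lit 0]) (.leaf (nat_lit 1044) (nat_lit 0) [nat_lit 2, nat_lit 0, nat_lit 1, nat_lit 0, nat_lit 1, nat_lit 0, nat_lit 2, nat_lit 0, nat_lit 1, nat_lit 0, nat_lit 1, nat_lit 0, nat_lit 2, nat_lit 0, nat_lit 1, nat_lit 0, nat_lit 1])) (.node (nat_lit 1980) (.leaf (nat_lit 1045) (nat_lit 1) [nat_lit 0, nat_lit 2, nat_lit 0, nat_lit 1, nat_lit 0, nat_lit 1, nat_lit 0, nat_lit 2, nat_lit 0, nat_lit 1, nat_lit 0, nat_lit 1, nat_lit 0, nat_lit 2, nat_lit 0, nat_lit 1, nat_lit 0]) (.leaf (nat_lit 1155) (nat_lit 1) [nat_lit 0, nat_lit 1, nat_lit 0, nat_lit 3, nat_lit 0, nat_lit 1, nat_lit 0, nat_lit 1, nat_lit 0, nat_lit 3, nat_lit 0, nat_lit 1, nat_lit 0, nat_lit 1, nat_lit 0, nat_lit 3, nat_lit 0]))) (.node (nat_lit 1983) (.node (nat_lit 1982) (.leaf (nat_lit 1156) (nat_lit 0) [nat_lit 1, nat_lit 0, nat_lit 1, nat_lit 0, nat_lit 3, nat_lit 0, nat_lit 1, nat_lit 0, nat_lit 1, nat_lit 0, nat_lit 3, nat_lit 0, nat_lit 1, nat_lit 0, nat_lit 1, nat_lit 0, nat_lit 3]) (.leaf (nat_lit 1157) (nat_lit 3) [nat_lit 0, nat_lit 1, nat_lit 0, nat_lit 1, nat_lit 0, nat_lit 3, nat_lit 0, nat_lit 1, nat_lit 0, nat_lit 1, nat_lit 0, nat_lit 3, nat_lit 0, nat_lit 1, nat_lit 0, nat_lit 1, nat_lit 0])) (.node (nat_lit 1984) (.leaf (nat_lit 1152) (nat_lit 0) [nat_lit 3, nat_lit 0, nat_lit 1, nat_lit 0, nat_lit 1, nat_lit 0, nat_lit 3, nat_lit 0, nat_lit 1, nat_lit 0, nat_lit 1, nat_lit 0, nat_lit 3, nat_lit 0, nat_lit 1, nat_lit 0, nat_lit 1]) (.node (nat_lit 1985) (.leaf (nat_lit 1153) (nat_lit 1) [nat_lit 0, nat_lit 3, nat_lit 0, nat_lit 1, nat_lit 0, nat_lit 1, nat_lit 0, nat_lit 3, nat_lit 0, nat_lit 1, nat_lit 0, nat_lit 1, nat_lit 0, nat_lit 3, nat_lit 0, nat_lit 1, nat_lit 0]) (.leaf (nat_lit 1154) (nat_lit 0) [nat_lit 1, nat_lit 0, nat_lit 3, nat_lit 0, nat_lit 1, nat_lit 0, nat_lit 1, nat_lit 0, nat_lit 3, nat_lit 0, nat_lit 1, nat_lit 0, nat_lit 1, nat_lit 0, nat_lit 3, nat_lit 0, nat_lit 1]))))) (.node (nat_lit 1991) (.node (nat_lit 1988) (.node (nat_lit 1987) (.leaf (nat_lit 1155) (nat_lit 1) [nat_lit 0, nat_lit 1, nat_lit 0, nat_lit 3, nat_lit 0, nat_lit 1, nat_lit 0, nat_lit 1, nat_lit 0, nat_lit 3, nat_lit 0, nat_lit 1, nat_lit 0, nat_lit 1, nat_lit 0, nat_lit 3, nat_lit 0]) (.leaf (nat_lit 1156) (nat_lit 0) [nat_lit 1, nat_lit 0, nat_lit 1, nat_lit 0, nat_lit 3, nat_lit 0, nat_lit 1, nat_lit 0, nat_lit 1, nat_lit 0, nat_lit 3, nat_lit 0, nat_lit 1, nat_lit 0, nat_lit 1, nat_lit 0, nat_lit 3])) (.node (nat_lit 1989) (.leaf (nat_lit 1157) (nat_lit 3) [nat_lit 0, nat_lit 1, nat_lit 0, nat_lit 1, nat_lit 0, nat_lit 3, nat_lit 0, nat_lit 1, nat_lit 0, nat_lit 1, nat_lit 0, nat_lit 3, nat_lit 0, nat_lit 1, nat_lit 0, nat_lit 1, nat_lit 0]) (.node (nat_lit 1990) (.leaf (nat_lit 1152) (nat_lit 0) [nat_lit 3, nat_lit 0, nat_lit 1, nat_lit 0, nat_lit 1, nat_lit 0, nat_lit 3, nat_lit 0, nat_lit 1, nat_lit 0, nat_lit 1, nat_lit 0, nat_lit 3, nat_lit 0, nat_lit 1, nat_lit 0, nat_lit 1]) (.leaf (nat_lit 1153) (nat_lit 1) [nat_lit 0, nat_lit 3, nat_lit 0, nat_lit 1, nat_lit 0, nat_lit 1, nat_lit 0, nat_lit 3, nat_lit 0, nat_lit 1, nat_lit 0, nat_lit 1, nat_lit 0, nat_lit 3, nat_lit 0, nat_lit 1, nat_lit 0])))) (.node (nat_lit 1993) (.node (nat_lit 1992) (.leaf (nat_lit 1154) (nat_lit 0) [nat_lit 1, nat_lit 0, nat_lit 3, nat_lit 0, nat_lit 1, nat_lit 0, nat_lit 1, nat_lit 0, nat_lit 3, nat_lit 0, nat_lit 1, nat_lit 0, nat_lit 1, nat_lit 0, nat_lit 3, nat_lit 0, nat_lit 1]) (.leaf (nat_lit 1155) (nat_lit 1) [nat_lit 0, nat_lit 1, nat_lit 0, nat_lit 3, nat_lit 0, nat_lit 1, nat_lit 0, nat_lit 1, nat_lit 0, nat_lit 3, nat_lit 0, nat_lit 1, nat_lit 0, nat_lit 1, nat_lit 0, nat_lit 3, nat_lit 0])) (.node (nat_lit 1994) (.leaf (nat_lit 1156) (nat_lit 0) [nat_lit 1, nat_lit 0, nat_lit 1, nat_lit 0, nat_lit 3, nat_lit 0, nat_lit 1, nat_lit 0, nat_lit 1, nat_lit 0, nat_lit 3, nat_lit 0, nat_lit 1, nat_lit 0, nat_lit 1, nat_lit 0, nat_lit 3]) (.node (nat_lit 1995) (.leaf (nat_lit 1157) (nat_lit 3) [nat_lit 0, nat_lit 1, nat_lit 0, nat_lit 1, nat_lit 0, nat_lit 3, nat_lit 0, nat_lit 1, nat_lit 0, nat_lit 1, nat_lit 0, nat_lit 3, nat_lit 0, nat_lit 1, nat_lit 0, nat_lit 1, nat_lit 0]) (.leaf (nat_lit 1152) (nat_lit 0) [nat_lit 3, nat_lit 0, nat_lit 1, nat_lit 0, nat_lit 1, nat_lit 0, nat_lit 3, nat_lit 0, nat_lit 1, nat_lit 0, nat_lit 1, nat_lit 0, nat_lit 3, nat_lit 0, nat_lit 1, nat_lit 0, nat_lit 1]))))))) (.node (nat_lit 2015) (.node (nat_lit 2005) (.node (nat_lit 2000) (.node (nat_lit 1998) (.node (nat_lit 1997) (.leaf (nat_lit 1153) (nat_lit 1) [nat_lit 0, nat_lit 3, nat_lit 0, nat_lit 1, nat_lit 0, nat_lit 1, nat_lit 0, nat_lit 3, nat_lit 0, nat_lit 1, nat_lit 0, nat_lit 1, nat_lit 0, nat_lit 3, nat_lit 0, nat_lit 1, nat_lit 0]) (.leaf (nat_lit 1154) (nat_lit 0) [nat_lit 1, nat_lit 0, nat_lit 3, nat_lit 0, nat_lit 1, nat_lit 0, nat_lit 1, nat_lit 0, nat_lit 3, nat_lit 0, nat_lit 1, nat_lit 0, nat_lit 1, nat_lit 0, nat_lit 3, nat_lit 0, nat_lit 1])) (.node (nat_lit 1999) (.leaf (nat_lit 1154) (nat_lit 0) [nat_lit 1, nat_lit 0, nat_lit 3, nat_lit 0, nat_lit 1, nat_lit 0, nat_lit 1, nat_lit 0, nat_lit 3, nat_lit 0, nat_lit 1, nat_lit 0, nat_lit 1, nat_lit 0, nat_lit 3, nat_lit 0, nat_lit 1]) (.leaf (nat_lit 1155) (nat_lit 1) [nat_lit 0, nat_lit 1, nat_lit 0, nat_lit 3, nat_lit 0, nat_lit 1, nat_lit 0, nat_lit 1, nat_lit 0, nat_lit 3, nat_lit 0, nat_lit 1, nat_lit 0, nat_lit 1, nat_lit 0, nat_lit 3, nat_lit 0]))) (.node (nat_lit 2002) (.node (nat_lit 2001) (.leaf (nat_lit 1156) (nat_lit 0) [nat_lit 1, nat_lit 0, nat_lit 1, nat_lit 0, nat_lit 3, nat_lit 0, nat_lit 1, nat_lit 0, nat_lit 1, nat_lit 0, nat_lit 3, nat_lit 0, nat_lit 1, nat_lit 0, nat_lit 1, nat_lit 0, nat_lit 3]) (.leaf (nat_lit 1157) (nat_lit 3) [nat_lit 0, nat_lit 1, nat_lit 0, nat_lit 1, nat_lit 0, nat_lit 3, nat_lit 0, nat_lit 1, nat_lit 0, nat_lit 1, nat_lit 0, nat_lit 3, nat_lit 0, nat_lit 1, nat_lit 0, nat_lit 1, nat_lit 0])) (.node (nat_lit 2003) (.leaf (nat_lit 1152) (nat_lit 0) [nat_lit 3, nat_lit 0, nat_lit 1, nat_lit 0, nat_lit 1, nat_lit 0, nat_lit 3, nat_lit 0, nat_lit 1, nat_lit 0, nat_lit 1, nat_lit 0, nat_lit 3, nat_lit 0, nat_lit 1, nat_lit 0, nat_lit 1]) (.node (nat_lit 2004) (.leaf (nat_lit 1153) (nat_lit 1) [nat_lit 0, nat_lit 3, nat_lit 0, nat_lit 1, nat_lit 0, nat_lit 1, nat_lit 0, nat_lit 3, nat_lit 0, nat_lit 1, nat_lit 0, nat_lit 1, nat_lit 0, nat_lit 3, nat_lit 0, nat_lit 1, nat_lit 0]) (.leaf (nat_lit 1154) (nat_lit 0) [nat_lit 1, nat_lit 0, nat_lit 3, nat_lit 0, nat_lit 1, nat_lit 0, nat_lit 1, nat_lit 0, nat_lit 3, nat_lit 0, nat_lit 1, nat_lit 0, nat_lit 1, nat_lit 0, nat_lit 3, nat_lit 0, nat_lit 1]))))) (.node (nat_lit 2010) (.node (nat_lit 2007) (.node (nat_lit 2006) (.leaf (nat_lit 1155) (nat_lit 1) [nat_lit 0, nat_lit 1, nat_lit 0, nat_lit 3, nat_lit 0, nat_lit 1, nat_lit 0, nat_lit 1, nat_lit 0, nat_lit 3, nat_lit 0, nat_lit 1, nat_lit 0, nat_lit 1, nat_lit 0, nat_lit 3, nat_lit 0]) (.leaf (nat_lit 1156) (nat_lit 0) [nat_lit 1, nat_lit 0, nat_lit 1, nat_lit 0, nat_lit 3, nat_lit 0, nat_lit 1, nat_lit 0, nat_lit 1, nat_lit 0, nat_lit 3, nat_lit 0, nat_lit 1, nat_lit 0, nat_lit 1, nat_lit 0, nat_lit 3])) (.node (nat_lit 2008) (.leaf (nat_lit 1157) (nat_lit 3) [nat_lit 0, nat_lit 1, nat_lit 0, nat_lit 1, nat_lit 0, nat_lit 3, nat_lit 0, nat_lit 1, nat_lit 0, nat_lit 1, nat_lit 0, nat_lit 3, nat_lit 0, nat_lit 1, nat_lit 0, nat_lit 1, nat_lit 0]) (.node (nat_lit 2009) (.leaf (nat_lit 1152) (nat_lit 0) [nat_lit 3, nat_lit 0, nat_lit 1, nat_lit 0, nat_lit 1, nat_lit 0, nat_lit 3, nat_lit 0, nat_lit 1, nat_lit 0, nat_lit 1, nat_lit 0, nat_lit 3, nat_lit 0, nat_lit 1, nat_lit 0, nat_lit 1]) (.leaf (nat_lit 1153) (nat_lit 1) [nat_lit 0, nat_lit 3, nat_lit 0, nat_lit 1, nat_lit 0, nat_lit 1, nat_lit 0, nat_lit 3, nat_lit 0, nat_lit 1, nat_lit 0, nat_lit 1, nat_lit 0, nat_lit 3, nat_lit 0, nat_lit 1, nat_lit 0])))) (.node (nat_lit 2012) (.node (nat_lit 2011) (.leaf (nat_lit 1154) (nat_lit 0) [nat_lit 1, nat_lit 0, nat_lit 3, nat_lit 0, nat_lit 1, nat_lit 0, nat_lit 1, nat_lit 0, nat_lit 3, nat_lit 0, nat_lit 1, nat_lit 0, nat_lit 1, nat_lit 0, nat_lit 3, nat_lit 0, nat_lit 1]) (.leaf (nat_lit 1155) (nat_lit 1) [nat_lit 0, nat_lit 1, nat_lit 0, nat_lit 3, nat_lit 0, nat_lit 1, nat_lit 0, nat_lit 1, nat_lit 0, nat_lit 3, nat_lit 0, nat_lit 1, nat_lit 0, nat_lit 1, nat_lit 0, nat_lit 3, nat_lit 0])) (.node (nat_lit 2013) (.leaf (nat_lit 1156) (nat_lit 0) [nat_lit 1, nat_lit 0, nat_lit 1, nat_lit 0, nat_lit 3, nat_lit 0, nat_lit 1, nat_lit 0, nat_lit 1, nat_lit 0, nat_lit 3, nat_lit 0, nat_lit 1, nat_lit 0, nat_lit 1, nat_lit 0, nat_lit 3]) (.node (nat_lit 2014) (.leaf (nat_lit 1157) (nat_lit 3) [nat_lit 0, nat_lit 1, nat_lit 0, nat_lit 1, nat_lit 0, nat_lit 3, nat_lit 0, nat_lit 1, nat_lit 0, nat_lit 1, nat_lit 0, nat_lit 3, nat_lit 0, nat_lit 1, nat_lit 0, nat_lit 1, nat_lit 0]) (.leaf (nat_lit 1152) (nat_lit 0) [nat_lit 3, nat_lit 0, nat_lit 1, nat_lit 0, nat_lit 1, nat_lit 0, nat_lit 3, nat_lit 0, nat_lit 1, nat_lit 0, nat_lit 1, nat_lit 0, nat_lit 3, nat_lit 0, nat_lit 1, nat_lit 0, nat_lit 1])))))) (.node (nat_lit 2024) (.node (nat_lit 2019) (.node (nat_lit 2017) (.node (nat_lit 2016) (.leaf (nat_lit 1153) (nat_lit 1) [nat_lit 0, nat_lit 3, nat_lit 0, nat_lit 1, nat_lit 0, nat_lit 1, nat_lit 0, nat_lit 3, nat_lit 0, nat_lit 1, nat_lit 0, nat_lit 1, nat_lit 0, nat_lit 3, nat_lit 0, nat_lit 1, nat_lit 0]) (.leaf (nat_lit 975) (nat_lit 1) [nat_lit 2, nat_lit 1, nat_lit 0, nat_lit 1, nat_lit 0, nat_lit 1, nat_lit 2, nat_lit 1, nat_lit 0, nat_lit 1, nat_lit 0, nat_lit 1, nat_lit 2, nat_lit 1, nat_lit 0, nat_lit 1, nat_lit 0])) (.node (nat_lit 2018) (.leaf (nat_lit 976) (nat_lit 0) [nat_lit 1, nat_lit 2, nat_lit 1, nat_lit 0, nat_lit 1, nat_lit 0, nat_lit 1, nat_lit 2, nat_lit 1, nat_lit 0, nat_lit 1, nat_lit 0, nat_lit 1, nat_lit 2, nat_lit 1, nat_lit 0, nat_lit 1]) (.leaf (nat_lit 977) (nat_lit 1) [nat_lit 0, nat_lit 1, nat_lit 2, nat_lit 1, nat_lit 0, nat_lit 1, nat_lit 0, nat_lit 1, nat_lit 2, nat_lit 1, nat_lit 0, nat_lit 1, nat_lit 0, nat_lit 1, nat_lit 2, nat_lit 1, nat_lit 0]))) (.node (nat_lit 2021) (.node (nat_lit 2020) (.leaf (nat_lit 972) (nat_lit 0) [nat_lit 1, nat_lit 0, nat_lit 1, nat_lit 2, nat_lit 1, nat_lit 0, nat_lit 1, nat_lit 0, nat_lit 1, nat_lit 2, nat_lit 1, nat_lit 0, nat_lit 1, nat_lit 0, nat_lit 1, nat_lit 2, nat_lit 1]) (.leaf (nat_lit 973) (nat_lit 1) [nat_lit 0, nat_lit 1, nat_lit 0, nat_lit 1, nat_lit 2, nat_lit 1, nat_lit 0, nat_lit 1, nat_lit 0, nat_lit 1, nat_lit 2, nat_lit 1, nat_lit 0, nat_lit 1, nat_lit 0, nat_lit 1, nat_lit 2])) (.node (nat_lit 2022) (.leaf (nat_lit 974) (nat_lit 2) [nat_lit 1, nat_lit 0, nat_lit 1, nat_lit 0, nat_lit 1, nat_lit 2, nat_lit 1, nat_lit 0, nat_lit 1, nat_lit 0, nat_lit 1, nat_lit 2, nat_lit 1, nat_lit 0, nat_lit 1, nat_lit 0, nat_lit 1]) (.node (nat_lit 2023) (.leaf (nat_lit 975) (nat_lit 1) [nat_lit 2, nat_lit 1, nat_lit 0, nat_lit 1, nat_lit 0, nat_lit 1, nat_lit 2, nat_lit 1, nat_lit 0, nat_lit 1, nat_lit 0, nat_lit 1, nat_lit 2, nat_lit 1, nat_lit 0, nat_lit 1, nat_lit 0]) (.leaf (nat_lit 976) (nat_lit 0) [nat_lit 1, nat_lit 2, nat_lit 1, nat_lit 0, nat_lit 1, nat_lit 0, nat_lit 1, nat_lit 2, nat_lit 1, nat_lit 0, nat_lit 1, nat_lit 0, nat_lit 1, nat_lit 2, nat_lit 1, nat_lit 0, nat_lit 1]))))) (.node (nat_lit 2029) (.node (nat_lit 2026) (.node (nat_lit 2025) (.leaf (nat_lit 977) (nat_lit 1) [nat_lit 0, nat_lit 1, nat_lit 2, nat_lit 1, nat_lit 0, nat_lit 1, nat_lit 0, nat_lit 1, nat_lit 2, nat_lit 1, nat_lit 0, nat_lit 1, nat_lit 0, nat_lit 1, nat_lit 2, nat_lit 1, nat_lit 0]) (.leaf (nat_lit 972) (nat_lit 0) [nat_lit 1, nat_lit 0, nat_lit 1, nat_lit 2, nat_lit 1, nat_lit 0, nat_lit 1, nat_lit 0, nat_lit 1, nat_lit 2, nat_lit 1, nat_lit 0, nat_lit 1, nat_lit 0, nat_lit 1, nat_lit 2, nat_lit 1])) (.node (nat_lit 2027) (.leaf (nat_lit 973) (nat_lit 1) [nat_lit 0, nat_lit 1, nat_lit 0, nat_lit 1, nat_lit 2, nat_lit 1, nat_lit 0, nat_lit 1, nat_lit 0, nat_lit 1, nat_lit 2, nat_lit 1, nat_lit 0, nat_lit 1, nat_lit 0, nat_lit 1, nat_lit 2]) (.node (nat_lit 2028) (.leaf (nat_lit 974) (nat_lit 2) [nat_lit 1, nat_lit 0, nat_lit 1, nat_lit 0, nat_lit 1, nat_lit 2, nat_lit 1, nat_lit 0, nat_lit 1, nat_lit 0, nat_lit 1, nat_lit 2, nat_lit 1, nat_lit 0, nat_lit 1, nat_lit 0, nat_lit 1]) (.leaf (nat_lit 975) (nat_lit 1) [nat_lit 2, nat_lit 1, nat_lit 0, nat_lit 1, nat_lit 0, nat_lit 1, nat_lit 2, nat_lit 1, nat_lit 0, nat_lit 1, nat_lit 0, nat_lit 1, nat_lit 2, nat_lit 1, nat_lit 0, nat_lit 1, nat_lit 0])))) (.node (nat_lit 2031) (.node (nat_lit 2030) (.leaf (nat_lit 976) (nat_lit 0) [nat_lit 1, nat_lit 2, nat_lit 1, nat_lit 0, nat_lit 1, nat_lit 0, nat_lit 1, nat_lit 2, nat_lit 1, nat_lit 0, nat_lit 1, nat_lit 0, nat_lit 1, nat_lit 2, nat_lit 1, nat_lit 0, nat_lit 1]) (.leaf (nat_lit 977) (nat_lit 1) [nat_lit 0, nat_lit 1, nat_lit 2, nat_lit 1, nat_lit 0, nat_lit 1, nat_lit 0, nat_lit 1, nat_lit 2, nat_lit 1, nat_lit 0, nat_lit 1, nat_lit 0, nat_lit 1, nat_lit 2, nat_lit 1, nat_lit 0])) (.node (nat_lit 2032) (.leaf (nat_lit 972) (nat_lit 0) [nat_lit 1, nat_lit 0, nat_lit 1, nat_lit 2, nat_lit 1, nat_lit 0, nat_lit 1, nat_lit 0, nat_lit 1, nat_lit 2, nat_lit 1, nat_lit 0, nat_lit 1, nat_lit 0, nat_lit 1, nat_lit 2, nat_lit 1]) (.node (nat_lit 2033) (.leaf (nat_lit 973) (nat_lit 1) [nat_lit 0, nat_lit 1, nat_lit 0, nat_lit 1, nat_lit 2, nat_lit 1, nat_lit 0, nat_lit 1, nat_lit 0, nat_lit 1, nat_lit 2, nat_lit 1, nat_lit 0, nat_lit 1, nat_lit 0, nat_lit 1, nat_lit 2]) (.leaf (nat_lit 974) (nat_lit 2) [nat_lit 1, nat_lit 0, nat_lit 1, nat_lit 0, nat_lit 1, nat_lit 2, nat_lit 1, nat_lit 0, nat_lit 1, nat_lit 0, nat_lit 1, nat_lit 2, nat_lit 1, nat_lit 0, nat_lit 1, nat_lit 0, nat_lit 1])))))))) (.node (nat_lit 2072) (.node (nat_lit 2053) (.node (nat_lit 2043) (.node (nat_lit 2038) (.node (nat_lit 2036) (.node (nat_lit 2035) (.leaf (nat_lit 974) (nat_lit 2) [nat_lit 1, nat_lit 0, nat_lit 1, nat_lit 0, nat_lit 1, nat_lit 2, nat_lit 1, nat_lit 0, nat_lit 1, nat_lit 0, nat_lit 1, nat_lit 2, nat_lit 1, nat_lit 0, nat_lit 1, nat_lit 0, nat_lit 1]) (.leaf (nat_lit 975) (nat_lit 1) [nat_lit 2, nat_lit 1, nat_lit 0, nat_lit 1, nat_lit 0, nat_lit 1, nat_lit 2, nat_lit 1, nat_lit 0, nat_lit 1, nat_lit 0, nat_lit 1, nat_lit 2, nat_lit 1, nat_lit 0, nat_lit 1, nat_lit 0])) (.node (nat_lit 2037) (.leaf (nat_lit 976) (nat_lit 0) [nat_lit 1, nat_lit 2, nat_lit 1, nat_lit 0, nat_lit 1, nat_lit 0, nat_lit 1, nat_lit 2, nat_lit 1, nat_lit 0, nat_lit 1, nat_lit 0, nat_lit 1, nat_lit 2, nat_lit 1, nat_lit 0, nat_lit 1]) (.leaf (nat_lit 977) (nat_lit 1) [nat_lit 0, nat_lit 1, nat_lit 2, nat_lit 1, nat_lit 0, nat_lit 1, nat_lit 0, nat_lit 1, nat_lit 2, nat_lit 1, nat_lit 0, nat_lit 1, nat_lit 0, nat_lit 1, nat_lit 2, nat_lit 1, nat_lit 0]))) (.node (nat_lit 2040) (.node (nat_lit 2039) (.leaf (nat_lit 972) (nat_lit 0) [nat_lit 1, nat_lit 0, nat_lit 1, nat_lit 2, nat_lit 1, nat_lit 0, nat_lit 1, nat_lit 0, nat_lit 1, nat_lit 2, nat_lit 1, nat_lit 0, nat_lit 1, nat_lit 0, nat_lit 1, nat_lit 2, nat_lit 1]) (.leaf (nat_lit 973) (nat_lit 1) [nat_lit 0, nat_lit 1, nat_lit 0, nat_lit 1, nat_lit 2, nat_lit 1, nat_lit 0, nat_lit 1, nat_lit 0, nat_lit 1, nat_lit 2, nat_lit 1, nat_lit 0, nat_lit 1, nat_lit 0, nat_lit 1, nat_lit 2])) (.node (nat_lit 2041) (.leaf (nat_lit 974) (nat_lit 2) [nat_lit 1, nat_lit 0, nat_lit 1, nat_lit 0, nat_lit 1, nat_lit 2, nat_lit 1, nat_lit 0, nat_lit 1, nat_lit 0, nat_lit 1, nat_lit 2, nat_lit 1, nat_lit 0, nat_lit 1, nat_lit 0, nat_lit 1]) (.node (nat_lit 2042) (.leaf (nat_lit 975) (nat_lit 1) [nat_lit 2, nat_lit 1, nat_lit 0, nat_lit 1, nat_lit 0, nat_lit 1, nat_lit 2, nat_lit 1, nat_lit 0, nat_lit 1, nat_lit 0, nat_lit 1, nat_lit 2, nat_lit 1, nat_lit 0, nat_lit 1, nat_lit 0]) (.leaf (nat_lit 976) (nat_lit 0) [nat_lit 1, nat_lit 2, nat_lit 1, nat_lit 0, nat_lit 1, nat_lit 0, nat_lit 1, nat_lit 2, nat_lit 1, nat_lit 0, nat_lit 1, nat_lit 0, nat_lit 1, nat_lit 2, nat_lit 1, nat_lit 0, nat_lit 1]))))) (.node (nat_lit 2048) (.node (nat_lit 2045) (.node (nat_lit 2044) (.leaf (nat_lit 977) (nat_lit 1) [nat_lit 0, nat_lit 1, nat_lit 2, nat_lit 1, nat_lit 0, nat_lit 1, nat_lit 0, nat_lit 1, nat_lit 2, nat_lit 1, nat_lit 0, nat_lit 1, nat_lit 0, nat_lit 1, nat_lit 2, nat_lit 1, nat_lit 0]) (.leaf (nat_lit 972) (nat_lit 0) [nat_lit 1, nat_lit 0, nat_lit 1, nat_lit 2, nat_lit 1, nat_lit 0, nat_lit 1, nat_lit 0, nat_lit 1, nat_lit 2, nat_lit 1, nat_lit 0, nat_lit 1, nat_lit 0, nat_lit 1, nat_lit 2, nat_lit 1])) (.node (nat_lit 2046) (.leaf (nat_lit 973) (nat_lit 1) [nat_lit 0, nat_lit 1, nat_lit 0, nat_lit 1, nat_lit 2, nat_lit 1, nat_lit 0, nat_lit 1, nat_lit 0, nat_lit 1, nat_lit 2, nat_lit 1, nat_lit 0, nat_lit 1, nat_lit 0, nat_lit 1, nat_lit 2]) (.node (nat_lit 2047) (.leaf (nat_lit 974) (nat_lit 2) [nat_lit 1, nat_lit 0, nat_lit 1, nat_lit 0, nat_lit 1, nat_lit 2, nat_lit 1, nat_lit 0, nat_lit 1, nat_lit 0, nat_lit 1, nat_lit 2, nat_lit 1, nat_lit 0, nat_lit 1, nat_lit 0, nat_lit 1]) (.leaf (nat_lit 975) (nat_lit 1) [nat_lit 2, nat_lit 1, nat_lit 0, nat_lit 1, nat_lit 0, nat_lit 1, nat_lit 2, nat_lit 1, nat_lit 0, nat_lit 1, nat_lit 0, nat_lit 1, nat_lit 2, nat_lit 1, nat_lit 0, nat_lit 1, nat_lit 0])))) (.node (nat_lit 2050) (.node (nat_lit 2049) (.leaf (nat_lit 976) (nat_lit 0) [nat_lit 1, nat_lit 2, nat_lit 1, nat_lit 0, nat_lit 1, nat_lit 0, nat_lit 1, nat_lit 2, nat_lit 1, nat_lit 0, nat_lit 1, nat_lit 0, nat_lit 1, nat_lit 2, nat_lit 1, nat_lit 0, nat_lit 1]) (.leaf (nat_lit 977) (nat_lit 1) [nat_lit 0, nat_lit 1, nat_lit 2, nat_lit 1, nat_lit 0, nat_lit 1, nat_lit 0, nat_lit 1, nat_lit 2, nat_lit 1, nat_lit 0, nat_lit 1, nat_lit 0, nat_lit 1, nat_lit 2, nat_lit 1, nat_lit 0])) (.node (nat_lit 2051) (.leaf (nat_lit 972) (nat_lit 0) [nat_lit 1, nat_lit 0, nat_lit 1, nat_lit 2, nat_lit 1, nat_lit 0, nat_lit 1, nat_lit 0, nat_lit 1, nat_lit 2, nat_lit 1, nat_lit 0, nat_lit 1, nat_lit 0, nat_lit 1, nat_lit 2, nat_lit 1]) (.node (nat_lit 2052) (.leaf (nat_lit 973) (nat_lit 1) [nat_lit 0, nat_lit 1, nat_lit 0, nat_lit 1, nat_lit 2, nat_lit 1, nat_lit 0, nat_lit 1, nat_lit 0, nat_lit 1, nat_lit 2, nat_lit 1, nat_lit 0, nat_lit 1, nat_lit 0, nat_lit 1, nat_lit 2]) (.leaf (nat_lit 1083) (nat_lit 1) [nat_lit 2, nat_lit 1, nat_lit 0, nat_lit 2, nat_lit 0, nat_lit 1, nat_lit 2, nat_lit 1, nat_lit 0, nat_lit 2, nat_lit 0, nat_lit 1, nat_lit 2, nat_lit 1, nat_lit 0, nat_lit 2, nat_lit 0])))))) (.node (nat_lit 2062) (.node (nat_lit 2057) (.node (nat_lit 2055) (.node (nat_lit 2054) (.leaf (nat_lit 1084) (nat_lit 0) [nat_lit 1, nat_lit 2, nat_lit 1, nat_lit 0, nat_lit 2, nat_lit 0, nat_lit 1, nat_lit 2, nat_lit 1, nat_lit 0, nat_lit 2, nat_lit 0, nat_lit 1, nat_lit 2, nat_lit 1, nat_lit 0, nat_lit 2]) (.leaf (nat_lit 1085) (nat_lit 2) [nat_lit 0, nat_lit 1, nat_lit 2, nat_lit 1, nat_lit 0, nat_lit 2, nat_lit 0, nat_lit 1, nat_lit 2, nat_lit 1, nat_lit 0, nat_lit 2, nat_lit 0, nat_lit 1, nat_lit 2, nat_lit 1, nat_lit 0])) (.node (nat_lit 2056) (.leaf (nat_lit 1080) (nat_lit 0) [nat_lit 2, nat_lit 0, nat_lit 1, nat_lit 2, nat_lit 1, nat_lit 0, nat_lit 2, nat_lit 0, nat_lit 1, nat_lit 2, nat_lit 1, nat_lit 0, nat_lit 2, nat_lit 0, nat_lit 1, nat_lit 2, nat_lit 1]) (.leaf (nat_lit 1081) (nat_lit 1) [nat_lit 0, nat_lit 2, nat_lit 0, nat_lit 1, nat_lit 2, nat_lit 1, nat_lit 0, nat_lit 2, nat_lit 0, nat_lit 1, nat_lit 2, nat_lit 1, nat_lit 0, nat_lit 2, nat_lit 0, nat_lit 1, nat_lit 2]))) (.node (nat_lit 2059) (.node (nat_lit 2058) (.leaf (nat_lit 1082) (nat_lit 2) [nat_lit 1, nat_lit 0, nat_lit 2, nat_lit 0, nat_lit 1, nat_lit 2, nat_lit 1, nat_lit 0, nat_lit 2, nat_lit 0, nat_lit 1, nat_lit 2, nat_lit 1, nat_lit 0, nat_lit 2, nat_lit 0, nat_lit 1]) (.leaf (nat_lit 1083) (nat_lit 1) [nat_lit 2, nat_lit 1, nat_lit 0, nat_lit 2, nat_lit 0, nat_lit 1, nat_lit 2, nat_lit 1, nat_lit 0, nat_lit 2, nat_lit 0, nat_lit 1, nat_lit 2, nat_lit 1, nat_lit 0, nat_lit 2, nat_lit 0])) (.node (nat_lit 2060) (.leaf (nat_lit 1084) (nat_lit 0) [nat_lit 1, nat_lit 2, nat_lit 1, nat_lit 0, nat_lit 2, nat_lit 0, nat_lit 1, nat_lit 2, nat_lit 1, nat_lit 0, nat_lit 2, nat_lit 0, nat_lit 1, nat_lit 2, nat_lit 1, nat_lit 0, nat_lit 2]) (.node (nat_lit 2061) (.leaf (nat_lit 1085) (nat_lit 2) [nat_lit 0, nat_lit 1, nat_lit 2, nat_lit 1, nat_lit 0, nat_lit 2, nat_lit 0, nat_lit 1, nat_lit 2, nat_lit 1, nat_lit 0, nat_lit 2, nat_lit 0, nat_lit 1, nat_lit 2, nat_lit 1, nat_lit 0]) (.leaf (nat_lit 1080) (nat_lit 0) [nat_lit 2, nat_lit 0, nat_lit 1, nat_lit 2, nat_lit 1, nat_lit 0, nat_lit 2, nat_lit 0, nat_lit 1, nat_lit 2, nat_lit 1, nat_lit 0, nat_lit 2, nat_lit 0, nat_lit 1, nat_lit 2, nat_lit 1]))))) (.node (nat_lit 2067) (.node (nat_lit 2064) (.node (nat_lit 2063) (.leaf (nat_lit 1081) (nat_lit 1) [nat_lit 0, nat_lit 2, nat_lit 0, nat_lit 1, nat_lit 2, nat_lit 1, nat_lit 0, nat_lit 2, nat_lit 0, nat_lit 1, nat_lit 2, nat_lit 1, nat_lit 0, nat_lit 2, nat_lit 0, nat_lit 1, nat_lit 2]) (.leaf (nat_lit 1082) (nat_lit 2) [nat_lit 1, nat_lit 0, nat_lit 2, nat_lit 0, nat_lit 1, nat_lit 2, nat_lit 1, nat_lit 0, nat_lit 2, nat_lit 0, nat_lit 1, nat_lit 2, nat_lit 1, nat_lit 0, nat_lit 2, nat_lit 0, nat_lit 1])) (.node (nat_lit 2065) (.leaf (nat_lit 1083) (nat_lit 1) [nat_lit 2, nat_lit 1, nat_lit 0, nat_lit 2, nat_lit 0, nat_lit 1, nat_lit 2, nat_lit 1, nat_lit 0, nat_lit 2, nat_lit 0, nat_lit 1, nat_lit 2, nat_lit 1, nat_lit 0, nat_lit 2, nat_lit 0]) (.node (nat_lit 2066) (.leaf (nat_lit 1084) (nat_lit 0) [nat_lit 1, nat_lit 2, nat_lit 1, nat_lit 0, nat_lit 2, nat_lit 0, nat_lit 1, nat_lit 2, nat_lit 1, nat_lit 0, nat_lit 2, nat_lit 0, nat_lit 1, nat_lit 2, nat_lit 1, nat_lit 0, nat_lit 2]) (.leaf (nat_lit 1085) (nat_lit 2) [nat_lit 0, nat_lit 1, nat_lit 2, nat_lit 1, nat_lit 0, nat_lit 2, nat_lit 0, nat_lit 1, nat_lit 2, nat_lit 1, nat_lit 0, nat_lit 2, nat_lit 0, nat_lit 1, nat_lit 2, nat_lit 1, nat_lit 0])))) (.node (nat_lit 2069) (.node (nat_lit 2068) (.leaf (nat_lit 1080) (nat_lit 0) [nat_lit 2, nat_lit 0, nat_lit 1, nat_lit 2, nat_lit 1, nat_lit 0, nat_lit 2, nat_lit 0, nat_lit 1, nat_lit 2, nat_lit 1, nat_lit 0, nat_lit 2, nat_lit 0, nat_lit 1, nat_lit 2, nat_lit 1]) (.leaf (nat_lit 1081) (nat_lit 1) [nat_lit 0, nat_lit 2, nat_lit 0, nat_lit 1, nat_lit 2, nat_lit 1, nat_lit 0, nat_lit 2, nat_lit 0, nat_lit 1, nat_lit 2, nat_lit 1, nat_lit 0, nat_lit 2, nat_lit 0, nat_lit 1, nat_lit 2])) (.node (nat_lit 2070) (.leaf (nat_lit 1082) (nat_lit 2) [nat_lit 1, nat_lit 0, nat_lit 2, nat_lit 0, nat_lit 1, nat_lit 2, nat_lit 1, nat_lit 0, nat_lit 2, nat_lit 0, nat_lit 1, nat_lit 2, nat_lit 1, nat_lit 0, nat_lit 2, nat_lit 0, nat_lit 1]) (.node (nat_lit 2071) (.leaf (nat_lit 1082) (nat_lit 2) [nat_lit 1, nat_lit 0, nat_lit 2, nat_lit 0, nat_lit 1, nat_lit 2, nat_lit 1, nat_lit 0, nat_lit 2, nat_lit 0, nat_lit 1, nat_lit 2, nat_lit 1, nat_lit 0, nat_lit 2, nat_lit 0, nat_lit 1]) (.leaf (nat_lit 1083) (nat_lit 1) [nat_lit 2, nat_lit 1, nat_lit 0, nat_lit 2, nat_lit 0, nat_lit 1, nat_lit 2, nat_lit 1, nat_lit 0, nat_lit 2, nat_lit 0, nat_lit 1, nat_lit 2, nat_lit 1, nat_lit 0, nat_lit 2, nat_lit 0]))))))) (.node (nat_lit 2091) (.node (nat_lit 2081) (.node (nat_lit 2076) (.node (nat_lit 2074) (.node (nat_lit 2073) (.leaf (nat_lit 1084) (nat_lit 0) [nat_lit 1, nat_lit 2, nat_lit 1, nat_lit 0, nat_lit 2, nat_lit 0, nat_lit 1, nat_lit 2, nat_lit 1, nat_lit 0, nat_lit 2, nat_lit 0, nat_lit 1, nat_lit 2, nat_lit 1, nat_lit 0, nat_lit 2]) (.leaf (nat_lit 1085) (nat_lit 2) [nat_lit 0, nat_lit 1, nat_lit 2, nat_lit 1, nat_lit 0, nat_lit 2, nat_lit 0, nat_lit 1, nat_lit 2, nat_lit 1, nat_lit 0, nat_lit 2, nat_lit 0, nat_lit 1, nat_lit 2, nat_lit 1, nat_lit 0])) (.node (nat_lit 2075) (.leaf (nat_lit 1080) (nat_lit 0) [nat_lit 2, nat_lit 0, nat_lit 1, nat_lit 2, nat_lit 1, nat_lit 0, nat_lit 2, nat_lit 0, nat_lit 1, nat_lit 2, nat_lit 1, nat_lit 0, nat_lit 2, nat_lit 0, nat_lit 1, nat_lit 2, nat_lit 1]) (.leaf (nat_lit 1081) (nat_lit 1) [nat_lit 0, nat_lit 2, nat_lit 0, nat_lit 1, nat_lit 2, nat_lit 1, nat_lit 0, nat_lit 2, nat_lit 0, nat_lit 1, nat_lit 2, nat_lit 1, nat_lit 0, nat_lit 2, nat_lit 0, nat_lit 1, nat_lit 2]))) (.node (nat_lit 2078) (.node (nat_lit 2077) (.leaf (nat_lit 1082) (nat_lit 2) [nat_lit 1, nat_lit 0, nat_lit 2, nat_lit 0, nat_lit 1, nat_lit 2, nat_lit 1, nat_lit 0, nat_lit 2, nat_lit 0, nat_lit 1, nat_lit 2, nat_lit 1, nat_lit 0, nat_lit 2, nat_lit 0, nat_lit 1]) (.leaf (nat_lit 1083) (nat_lit 1) [nat_lit 2, nat_lit 1, nat_lit 0, nat_lit 2, nat_lit 0, nat_lit 1, nat_lit 2, nat_lit 1, nat_lit 0, nat_lit 2, nat_lit 0, nat_lit 1, nat_lit 2, nat_lit 1, nat_lit 0, nat_lit 2, nat_lit 0])) (.node (nat_lit 2079) (.leaf (nat_lit 1084) (nat_lit 0) [nat_lit 1, nat_lit 2, nat_lit 1, nat_lit 0, nat_lit 2, nat_lit 0, nat_lit 1, nat_lit 2, nat_lit 1, nat_lit 0, nat_lit 2, nat_lit 0, nat_lit 1, nat_lit 2, nat_lit 1, nat_lit 0, nat_lit 2]) (.node (nat_lit 2080) (.leaf (nat_lit 1085) (nat_lit 2) [nat_lit 0, nat_lit 1, nat_lit 2, nat_lit 1, nat_lit 0, nat_lit 2, nat_lit 0, nat_lit 1, nat_lit 2, nat_lit 1, nat_lit 0, nat_lit 2, nat_lit 0, nat_lit 1, nat_lit 2, nat_lit 1, nat_lit 0]) (.leaf (nat_lit 1080) (nat_lit 0) [nat_lit 2, nat_lit 0, nat_lit 1, nat_lit 2, nat_lit 1, nat_lit 0, nat_lit 2, nat_lit 0, nat_lit 1, nat_lit 2, nat_lit 1, nat_lit 0, nat_lit 2, nat_lit 0, nat_lit 1, nat_lit 2, nat_lit 1]))))) (.node (nat_lit 2086) (.node (nat_lit 2083) (.node (nat_lit 2082) (.leaf (nat_lit 1081) (nat_lit 1) [nat_lit 0, nat_lit 2, nat_lit 0, nat_lit 1, nat_lit 2, nat_lit 1, nat_lit 0, nat_lit 2, nat_lit 0, nat_lit 1, nat_lit 2, nat_lit 1, nat_lit 0, nat_lit 2, nat_lit 0, nat_lit 1, nat_lit 2]) (.leaf (nat_lit 1082) (nat_lit 2) [nat_lit 1, nat_lit 0, nat_lit 2, nat_lit 0, nat_lit 1, nat_lit 2, nat_lit 1, nat_lit 0, nat_lit 2, nat_lit 0, nat_lit 1, nat_lit 2, nat_lit 1, nat_lit 0, nat_lit 2, nat_lit 0, nat_lit 1])) (.node (nat_lit 2084) (.leaf (nat_lit 1083) (nat_lit 1) [nat_lit 2, nat_lit 1, nat_lit 0, nat_lit 2, nat_lit 0, nat_lit 1, nat_lit 2, nat_lit 1, nat_lit 0, nat_lit 2, nat_lit 0, nat_lit 1, nat_lit 2, nat_lit 1, nat_lit 0, nat_lit 2, nat_lit 0]) (.node (nat_lit 2085) (.leaf (nat_lit 1084) (nat_lit 0) [nat_lit 1, nat_lit 2, nat_lit 1, nat_lit 0, nat_lit 2, nat_lit 0, nat_lit 1, nat_lit 2, nat_lit 1, nat_lit 0, nat_lit 2, nat_lit 0, nat_lit 1, nat_lit 2, nat_lit 1, nat_lit 0, nat_lit 2]) (.leaf (nat_lit 1085) (nat_lit 2) [nat_lit 0, nat_lit 1, nat_lit 2, nat_lit 1, nat_lit 0, nat_lit 2, nat_lit 0, nat_lit 1, nat_lit 2, nat_lit 1, nat_lit 0, nat_lit 2, nat_lit 0, nat_lit 1, nat_lit 2, nat_lit 1, nat_lit 0])))) (.node (nat_lit 2088) (.node (nat_lit 2087) (.leaf (nat_lit 1080) (nat_lit 0) [nat_lit 2, nat_lit 0, nat_lit 1, nat_lit 2, nat_lit 1, nat_lit 0, nat_lit 2, nat_lit 0, nat_lit 1, nat_lit 2, nat_lit 1, nat_lit 0, nat_lit 2, nat_lit 0, nat_lit 1, nat_lit 2, nat_lit 1]) (.leaf (nat_lit 1081) (nat_lit 1) [nat_lit 0, nat_lit 2, nat_lit 0, nat_lit 1, nat_lit 2, nat_lit 1, nat_lit 0, nat_lit 2, nat_lit 0, nat_lit 1, nat_lit 2, nat_lit 1, nat_lit 0, nat_lit 2, nat_lit 0, nat_lit 1, nat_lit 2])) (.node (nat_lit 2089) (.leaf (nat_lit 1191) (nat_lit 1) [nat_lit 2, nat_lit 1, nat_lit 0, nat_lit 3, nat_lit 0, nat_lit 1, nat_lit 2, nat_lit 1, nat_lit 0, nat_lit 3, nat_lit 0, nat_lit 1, nat_lit 2, nat_lit 1, nat_lit 0, nat_lit 3, nat_lit 0]) (.node (nat_lit 2090) (.leaf (nat_lit 1192) (nat_lit 0) [nat_lit 1, nat_lit 2, nat_lit 1, nat_lit 0, nat_lit 3, nat_lit 0, nat_lit 1, nat_lit 2, nat_lit 1, nat_lit 0, nat_lit 3, nat_lit 0, nat_lit 1, nat_lit 2, nat_lit 1, nat_lit 0, nat_lit 3]) (.leaf (nat_lit 1193) (nat_lit 3) [nat_lit 0, nat_lit 1, nat_lit 2, nat_lit 1, nat_lit 0, nat_lit 3, nat_lit 0, nat_lit 1, nat_lit 2, nat_lit 1, nat_lit 0, nat_lit 3, nat_lit 0, nat_lit 1, nat_lit 2, nat_lit 1, nat_lit 0])))))) (.node (nat_lit 2100) (.node (nat_lit 2095) (.node (nat_lit 2093) (.node (nat_lit 2092) (.leaf (nat_lit 1188) (nat_lit 0) [nat_lit 3, nat_lit 0, nat_lit 1, nat_lit 2, nat_lit 1, nat_lit 0, nat_lit 3, nat_lit 0, nat_lit 1, nat_lit 2, nat_lit 1, nat_lit 0, nat_lit 3, nat_lit 0, nat_lit 1, nat_lit 2, nat_lit 1]) (.leaf (nat_lit 1189) (nat_lit 1) [nat_lit 0, nat_lit 3, nat_lit 0, nat_lit 1, nat_lit 2, nat_lit 1, nat_lit 0, nat_lit 3, nat_lit 0, nat_lit 1, nat_lit 2, nat_lit 1, nat_lit 0, nat_lit 3, nat_lit 0, nat_lit 1, nat_lit 2])) (.node (nat_lit 2094) (.leaf (nat_lit 1190) (nat_lit 2) [nat_lit 1, nat_lit 0, nat_lit 3, nat_lit 0, nat_lit 1, nat_lit 2, nat_lit 1, nat_lit 0, nat_lit 3, nat_lit 0, nat_lit 1, nat_lit 2, nat_lit 1, nat_lit 0, nat_lit 3, nat_lit 0, nat_lit 1]) (.leaf (nat_lit 1191) (nat_lit 1) [nat_lit 2, nat_lit 1, nat_lit 0, nat_lit 3, nat_lit 0, nat_lit 1, nat_lit 2, nat_lit 1, nat_lit 0, nat_lit 3, nat_lit 0, nat_lit 1, nat_lit 2, nat_lit 1, nat_lit 0, nat_lit 3, nat_lit 0]))) (.node (nat_lit 2097) (.node (nat_lit 2096) (.leaf (nat_lit 1192) (nat_lit 0) [nat_lit 1, nat_lit 2, nat_lit 1, nat_lit 0, nat_lit 3, nat_lit 0, nat_lit 1, nat_lit 2, nat_lit 1, nat_lit 0, nat_lit 3, nat_lit 0, nat_lit 1, nat_lit 2, nat_lit 1, nat_lit 0, nat_lit 3]) (.leaf (nat_lit 1193) (nat_lit 3) [nat_lit 0, nat_lit 1, nat_lit 2, nat_lit 1, nat_lit 0, nat_lit 3, nat_lit 0, nat_lit 1, nat_lit 2, nat_lit 1, nat_lit 0, nat_lit 3, nat_lit 0, nat_lit 1, nat_lit 2, nat_lit 1, nat_lit 0])) (.node (nat_lit 2098) (.leaf (nat_lit 1188) (nat_lit 0) [nat_lit 3, nat_lit 0, nat_lit 1, nat_lit 2, nat_lit 1, nat_lit 0, nat_lit 3, nat_lit 0, nat_lit 1, nat_lit 2, nat_lit 1, nat_lit 0, nat_lit 3, nat_lit 0, nat_lit 1, nat_lit 2, nat_lit 1]) (.node (nat_lit 2099) (.leaf (nat_lit 1189) (nat_lit 1) [nat_lit 0, nat_lit 3, nat_lit 0, nat_lit 1, nat_lit 2, nat_lit 1, nat_lit 0, nat_lit 3, nat_lit 0, nat_lit 1, nat_lit 2, nat_lit 1, nat_lit 0, nat_lit 3, nat_lit 0, nat_lit 1, nat_lit 2]) (.leaf (nat_lit 1190) (nat_lit 2) [nat_lit 1, nat_lit 0, nat_lit 3, nat_lit 0, nat_lit 1, nat_lit 2, nat_lit 1, nat_lit 0, nat_lit 3, nat_lit 0, nat_lit 1, nat_lit 2, nat_lit 1, nat_lit 0, nat_lit 3, nat_lit 0, nat_lit 1]))))) (.node (nat_lit 2105) (.node (nat_lit 2102) (.node (nat_lit 2101) (.leaf (nat_lit 1191) (nat_lit 1) [nat_lit 2, nat_lit 1, nat_lit 0, nat_lit 3, nat_lit 0, nat_lit 1, nat_lit 2, nat_lit 1, nat_lit 0, nat_lit 3, nat_lit 0, nat_lit 1, nat_lit 2, nat_lit 1, nat_lit 0, nat_lit 3, nat_lit 0]) (.leaf (nat_lit 1192) (nat_lit 0) [nat_lit 1, nat_lit 2, nat_lit 1, nat_lit 0, nat_lit 3, nat_lit 0, nat_lit 1, nat_lit 2, nat_lit 1, nat_lit 0, nat_lit 3, nat_lit 0, nat_lit 1, nat_lit 2, nat_lit 1, nat_lit 0, nat_lit 3])) (.node (nat_lit 2103) (.leaf (nat_lit 1193) (nat_lit 3) [nat_lit 0, nat_lit 1, nat_lit 2, nat_lit 1, nat_lit 0, nat_lit 3, nat_lit 0, nat_lit 1, nat_lit 2, nat_lit 1, nat_lit 0, nat_lit 3, nat_lit 0, nat_lit 1, nat_lit 2, nat_lit 1, nat_lit 0]) (.node (nat_lit 2104) (.leaf (nat_lit 1188) (nat_lit 0) [nat_lit 3, nat_lit 0, nat_lit 1, nat_lit 2, nat_lit 1, nat_lit 0, nat_lit 3, nat_lit 0, nat_lit 1, nat_lit 2, nat_lit 1, nat_lit 0, nat_lit 3, nat_lit 0, nat_lit 1, nat_lit 2, nat_lit 1]) (.leaf (nat_lit 1189) (nat_lit 1) [nat_lit 0, nat_lit 3, nat_lit 0, nat_lit 1, nat_lit 2, nat_lit 1, nat_lit 0, nat_lit 3, nat_lit 0, nat_lit 1, nat_lit 2, nat_lit 1, nat_lit 0, nat_lit 3, nat_lit 0, nat_lit 1, nat_lit 2])))) (.node (nat_lit 2107) (.node (nat_lit 2106) (.leaf (nat_lit 1190) (nat_lit 2) [nat_lit 1, nat_lit 0, nat_lit 3, nat_lit 0, nat_lit 1, nat_lit 2, nat_lit 1, nat_lit 0, nat_lit 3, nat_lit 0, nat_lit 1, nat_lit 2, nat_lit 1, nat_lit 0, nat_lit 3, nat_lit 0, nat_lit 1]) (.leaf (nat_lit 1190) (nat_lit 2) [nat_lit 1, nat_lit 0, nat_lit 3, nat_lit 0, nat_lit 1, nat_lit 2, nat_lit 1, nat_lit 0, nat_lit 3, nat_lit 0, nat_lit 1, nat_lit 2, nat_lit 1, nat_lit 0, nat_lit 3, nat_lit 0, nat_lit 1])) (.node (nat_lit 2108) (.leaf (nat_lit 1191) (nat_lit 1) [nat_lit 2, nat_lit 1, nat_lit 0, nat_lit 3, nat_lit 0, nat_lit 1, nat_lit 2, nat_lit 1, nat_lit 0, nat_lit 3, nat_lit 0, nat_lit 1, nat_lit 2, nat_lit 1, nat_lit 0, nat_lit 3, nat_lit 0]) (.node (nat_lit 2109) (.leaf (nat_lit 1192) (nat_lit 0) [nat_lit 1, nat_lit 2, nat_lit 1, nat_lit 0, nat_lit 3, nat_lit 0, nat_lit 1, nat_lit 2, nat_lit 1, nat_lit 0, nat_lit 3, nat_lit 0, nat_lit 1, nat_lit 2, nat_lit 1, nat_lit 0, nat_lit 3]) (.leaf (nat_lit 1193) (nat_lit 3) [nat_lit 0, nat_lit 1, nat_lit 2, nat_lit 1, nat_lit 0, nat_lit 3, nat_lit 0, nat_lit 1, nat_lit 2, nat_lit 1, nat_lit 0, nat_lit 3, nat_lit 0, nat_lit 1, nat_lit 2, nat_lit 1, nat_lit 0])))))))))) (.node (nat_lit 2261) (.node (nat_lit 2185) (.node (nat_lit 2147) (.node (nat_lit 2128) (.node (nat_lit 2119) (.node (nat_lit 2114) (.node (nat_lit 2112) (.node (nat_lit 2111) (.leaf (nat_lit 1188) (nat_lit 0) [nat_lit 3, nat_lit 0, nat_lit 1, nat_lit 2, nat_lit 1, nat_lit 0, nat_lit 3, nat_lit 0, nat_lit 1, nat_lit 2, nat_lit 1, nat_lit 0, nat_lit 3, nat_lit 0, nat_lit 1, nat_lit 2, nat_lit 1]) (.leaf (nat_lit 1189) (nat_lit 1) [nat_lit 0, nat_lit 3, nat_lit 0, nat_lit 1, nat_lit 2, nat_lit 1, nat_lit 0, nat_lit 3, nat_lit 0, nat_lit 1, nat_lit 2, nat_lit 1, nat_lit 0, nat_lit 3, nat_lit 0, nat_lit 1, nat_lit 2])) (.node (nat_lit 2113) (.leaf (nat_lit 1190) (nat_lit 2) [nat_lit 1, nat_lit 0, nat_lit 3, nat_lit 0, nat_lit 1, nat_lit 2, nat_lit 1, nat_lit 0, nat_lit 3, nat_lit 0, nat_lit 1, nat_lit 2, nat_lit 1, nat_lit 0, nat_lit 3, nat_lit 0, nat_lit 1]) (.leaf (nat_lit 1191) (nat_lit 1) [nat_lit 2, nat_lit 1, nat_lit 0, nat_lit 3, nat_lit 0, nat_lit 1, nat_lit 2, nat_lit 1, nat_lit 0, nat_lit 3, nat_lit 0, nat_lit 1, nat_lit 2, nat_lit 1, nat_lit 0, nat_lit 3, nat_lit 0]))) (.node (nat_lit 2116) (.node (nat_lit 2115) (.leaf (nat_lit 1192) (nat_lit 0) [nat_lit 1, nat_lit 2, nat_lit 1, nat_lit 0, nat_lit 3, nat_lit 0, nat_lit 1, nat_lit 2, nat_lit 1, nat_lit 0, nat_lit 3, nat_lit 0, nat_lit 1, nat_lit 2, nat_lit 1, nat_lit 0, nat_lit 3]) (.leaf (nat_lit 1193) (nat_lit 3) [nat_lit 0, nat_lit 1, nat_lit 2, nat_lit 1, nat_lit 0, nat_lit 3, nat_lit 0, nat_lit 1, nat_lit 2, nat_lit 1, nat_lit 0, nat_lit 3, nat_lit 0, nat_lit 1, nat_lit 2, nat_lit 1, nat_lit 0])) (.node (nat_lit 2117) (.leaf (nat_lit 1188) (nat_lit 0) [nat_lit 3, nat_lit 0, nat_lit 1, nat_lit 2, nat_lit 1, nat_lit 0, nat_lit 3, nat_lit 0, nat_lit 1, nat_lit 2, nat_lit 1, nat_lit 0, nat_lit 3, nat_lit 0, nat_lit 1, nat_lit 2, nat_lit 1]) (.node (nat_lit 2118) (.leaf (nat_lit 1189) (nat_lit 1) [nat_lit 0, nat_lit 3, nat_lit 0, nat_lit 1, nat_lit 2, nat_lit 1, nat_lit 0, nat_lit 3, nat_lit 0, nat_lit 1, nat_lit 2, nat_lit 1, nat_lit 0, nat_lit 3, nat_lit 0, nat_lit 1, nat_lit 2]) (.leaf (nat_lit 1190) (nat_lit 2) [nat_lit 1, nat_lit 0, nat_lit 3, nat_lit 0, nat_lit 1, nat_lit 2, nat_lit 1, nat_lit 0, nat_lit 3, nat_lit 0, nat_lit 1, nat_lit 2, nat_lit 1, nat_lit 0, nat_lit 3, nat_lit 0, nat_lit 1]))))) (.node (nat_lit 2123) (.node (nat_lit 2121) (.node (nat_lit 2120) (.leaf (nat_lit 1191) (nat_lit 1) [nat_lit 2, nat_lit 1, nat_lit 0, nat_lit 3, nat_lit 0, nat_lit 1, nat_lit 2, nat_lit 1, nat_lit 0, nat_lit 3, nat_lit 0, nat_lit 1, nat_lit 2, nat_lit 1, nat_lit 0, nat_lit 3, nat_lit 0]) (.leaf (nat_lit 1192) (nat_lit 0) [nat_lit 1, nat_lit 2, nat_lit 1, nat_lit 0, nat_lit 3, nat_lit 0, nat_lit 1, nat_lit 2, nat_lit 1, nat_lit 0, nat_lit 3, nat_lit 0, nat_lit 1, nat_lit 2, nat_lit 1, nat_lit 0, nat_lit 3])) (.node (nat_lit 2122) (.leaf (nat_lit 1193) (nat_lit 3) [nat_lit 0, nat_lit 1, nat_lit 2, nat_lit 1, nat_lit 0, nat_lit 3, nat_lit 0, nat_lit 1, nat_lit 2, nat_lit 1, nat_lit 0, nat_lit 3, nat_lit 0, nat_lit 1, nat_lit 2, nat_lit 1, nat_lit 0]) (.leaf (nat_lit 1188) (nat_lit 0) [nat_lit 3, nat_lit 0, nat_lit 1, nat_lit 2, nat_lit 1, nat_lit 0, nat_lit 3, nat_lit 0, nat_lit 1, nat_lit 2, nat_lit 1, nat_lit 0, nat_lit 3, nat_lit 0, nat_lit 1, nat_lit 2, nat_lit 1]))) (.node (nat_lit 2125) (.node (nat_lit 2124) (.leaf (nat_lit 1189) (nat_lit 1) [nat_lit 0, nat_lit 3, nat_lit 0, nat_lit 1, nat_lit 2, nat_lit 1, nat_lit 0, nat_lit 3, nat_lit 0, nat_lit 1, nat_lit 2, nat_lit 1, nat_lit 0, nat_lit 3, nat_lit 0, nat_lit 1, nat_lit 2]) (.leaf (nat_lit 1011) (nat_lit 1) [nat_lit 3, nat_lit 1, nat_lit 0, nat_lit 1, nat_lit 0, nat_lit 1, nat_lit 3, nat_lit 1, nat_lit 0, nat_lit 1, nat_lit 0, nat_lit 1, nat_lit 3, nat_lit 1, nat_lit 0, nat_lit 1, nat_lit 0])) (.node (nat_lit 2126) (.leaf (nat_lit 1012) (nat_lit 0) [nat_lit 1, nat_lit 3, nat_lit 1, nat_lit 0, nat_lit 1, nat_lit 0, nat_lit 1, nat_lit 3, nat_lit 1, nat_lit 0, nat_lit 1, nat_lit 0, nat_lit 1, nat_lit 3, nat_lit 1, nat_lit 0, nat_lit 1]) (.node (nat_lit 2127) (.leaf (nat_lit 1013) (nat_lit 1) [nat_lit 0, nat_lit 1, nat_lit 3, nat_lit 1, nat_lit 0, nat_lit 1, nat_lit 0, nat_lit 1, nat_lit 3, nat_lit 1, nat_lit 0, nat_lit 1, nat_lit 0, nat_lit 1, nat_lit 3, nat_lit 1, nat_lit 0]) (.leaf (nat_lit 1008) (nat_lit 0) [nat_lit 1, nat_lit 0, nat_lit 1, nat_lit 3, nat_lit 1, nat_lit 0, nat_lit 1, nat_lit 0, nat_lit 1, nat_lit 3, nat_lit 1, nat_lit 0, nat_lit 1, nat_lit 0, nat_lit 1, nat_lit 3, nat_lit 1])))))) (.node (nat_lit 2137) (.node (nat_lit 2132) (.node (nat_lit 2130) (.node (nat_lit 2129) (.leaf (nat_lit 1009) (nat_lit 1) [nat_lit 0, nat_lit 1, nat_lit 0, nat_lit 1, nat_lit 3, nat_lit 1, nat_lit 0, nat_lit 1, nat_lit 0, nat_lit 1, nat_lit 3, nat_lit 1, nat_lit 0, nat_lit 1, nat_lit 0, nat_lit 1, nat_lit 3]) (.leaf (nat_lit 1010) (nat_lit 3) [nat_lit 1, nat_lit 0, nat_lit 1, nat_lit 0, nat_lit 1, nat_lit 3, nat_lit 1, nat_lit 0, nat_lit 1, nat_lit 0, nat_lit 1, nat_lit 3, nat_lit 1, nat_lit 0, nat_lit 1, nat_lit 0, nat_lit 1])) (.node (nat_lit 2131) (.leaf (nat_lit 1011) (nat_lit 1) [nat_lit 3, nat_lit 1, nat_lit 0, nat_lit 1, nat_lit 0, nat_lit 1, nat_lit 3, nat_lit 1, nat_lit 0, nat_lit 1, nat_lit 0, nat_lit 1, nat_lit 3, nat_lit 1, nat_lit 0, nat_lit 1, nat_lit 0]) (.leaf (nat_lit 1012) (nat_lit 0) [nat_lit 1, nat_lit 3, nat_lit 1, nat_lit 0, nat_lit 1, nat_lit 0, nat_lit 1, nat_lit 3, nat_lit 1, nat_lit 0, nat_lit 1, nat_lit 0, nat_lit 1, nat_lit 3, nat_lit 1, nat_lit 0, nat_lit 1]))) (.node (nat_lit 2134) (.node (nat_lit 2133) (.leaf (nat_lit 1013) (nat_lit 1) [nat_lit 0, nat_lit 1, nat_lit 3, nat_lit 1, nat_lit 0, nat_lit 1, nat_lit 0, nat_lit 1, nat_lit 3, nat_lit 1, nat_lit 0, nat_lit 1, nat_lit 0, nat_lit 1, nat_lit 3, nat_lit 1, nat_lit 0]) (.leaf (nat_lit 1008) (nat_lit 0) [nat_lit 1, nat_lit 0, nat_lit 1, nat_lit 3, nat_lit 1, nat_lit 0, nat_lit 1, nat_lit 0, nat_lit 1, nat_lit 3, nat_lit 1, nat_lit 0, nat_lit 1, nat_lit 0, nat_lit 1, nat_lit 3, nat_lit 1])) (.node (nat_lit 2135) (.leaf (nat_lit 1009) (nat_lit 1) [nat_lit 0, nat_lit 1, nat_lit 0, nat_lit 1, nat_lit 3, nat_lit 1, nat_lit 0, nat_lit 1, nat_lit 0, nat_lit 1, nat_lit 3, nat_lit 1, nat_lit 0, nat_lit 1, nat_lit 0, nat_lit 1, nat_lit 3]) (.node (nat_lit 2136) (.leaf (nat_lit 1010) (nat_lit 3) [nat_lit 1, nat_lit 0, nat_lit 1, nat_lit 0, nat_lit 1, nat_lit 3, nat_lit 1, nat_lit 0, nat_lit 1, nat_lit 0, nat_lit 1, nat_lit 3, nat_lit 1, nat_lit 0, nat_lit 1, nat_lit 0, nat_lit 1]) (.leaf (nat_lit 1011) (nat_lit 1) [nat_lit 3, nat_lit 1, nat_lit 0, nat_lit 1, nat_lit 0, nat_lit 1, nat_lit 3, nat_lit 1, nat_lit 0, nat_lit 1, nat_lit 0, nat_lit 1, nat_lit 3, nat_lit 1, nat_lit 0, nat_lit 1, nat_lit 0]))))) (.node (nat_lit 2142) (.node (nat_lit 2139) (.node (nat_lit 2138) (.leaf (nat_lit 1012) (nat_lit 0) [nat_lit 1, nat_lit 3, nat_lit 1, nat_lit 0, nat_lit 1, nat_lit 0, nat_lit 1, nat_lit 3, nat_lit 1, nat_lit 0, nat_lit 1, nat_lit 0, nat_lit 1, nat_lit 3, nat_lit 1, nat_lit 0, nat_lit 1]) (.leaf (nat_lit 1013) (nat_lit 1) [nat_lit 0, nat_lit 1, nat_lit 3, nat_lit 1, nat_lit 0, nat_lit 1, nat_lit 0, nat_lit 1, nat_lit 3, nat_lit 1, nat_lit 0, nat_lit 1, nat_lit 0, nat_lit 1, nat_lit 3, nat_lit 1, nat_lit 0])) (.node (nat_lit 2140) (.leaf (nat_lit 1008) (nat_lit 0) [nat_lit 1, nat_lit 0, nat_lit 1, nat_lit 3, nat_lit 1, nat_lit 0, nat_lit 1, nat_lit 0, nat_lit 1, nat_lit 3, nat_lit 1, nat_lit 0, nat_lit 1, nat_lit 0, nat_lit 1, nat_lit 3, nat_lit 1]) (.node (nat_lit 2141) (.leaf (nat_lit 1009) (nat_lit 1) [nat_lit 0, nat_lit 1, nat_lit 0, nat_lit 1, nat_lit 3, nat_lit 1, nat_lit 0, nat_lit 1, nat_lit 0, nat_lit 1, nat_lit 3, nat_lit 1, nat_lit 0, nat_lit 1, nat_lit 0, nat_lit 1, nat_lit 3]) (.leaf (nat_lit 1010) (nat_lit 3) [nat_lit 1, nat_lit 0, nat_lit 1, nat_lit 0, nat_lit 1, nat_lit 3, nat_lit 1, nat_lit 0, nat_lit 1, nat_lit 0, nat_lit 1, nat_lit 3, nat_lit 1, nat_lit 0, nat_lit 1, nat_lit 0, nat_lit 1])))) (.node (nat_lit 2144) (.node (nat_lit 2143) (.leaf (nat_lit 1010) (nat_lit 3) [nat_lit 1, nat_lit 0, nat_lit 1, nat_lit 0, nat_lit 1, nat_lit 3, nat_lit 1, nat_lit 0, nat_lit 1, nat_lit 0, nat_lit 1, nat_lit 3, nat_lit 1, nat_lit 0, nat_lit 1, nat_lit 0, nat_lit 1]) (.leaf (nat_lit 1011) (nat_lit 1) [nat_lit 3, nat_lit 1, nat_lit 0, nat_lit 1, nat_lit 0, nat_lit 1, nat_lit 3, nat_lit 1, nat_lit 0, nat_lit 1, nat_lit 0, nat_lit 1, nat_lit 3, nat_lit 1, nat_lit 0, nat_lit 1, nat_lit 0])) (.node (nat_lit 2145) (.leaf (nat_lit 1012) (nat_lit 0) [nat_lit 1, nat_lit 3, nat_lit 1, nat_lit 0, nat_lit 1, nat_lit 0, nat_lit 1, nat_lit 3, nat_lit 1, nat_lit 0, nat_lit 1, nat_lit 0, nat_lit 1, nat_lit 3, nat_lit 1, nat_lit 0, nat_lit 1]) (.node (nat_lit 2146) (.leaf (nat_lit 1013) (nat_lit 1) [nat_lit 0, nat_lit 1, nat_lit 3, nat_lit 1, nat_lit 0, nat_lit 1, nat_lit 0, nat_lit 1, nat_lit 3, nat_lit 1, nat_lit 0, nat_lit 1, nat_lit 0, nat_lit 1, nat_lit 3, nat_lit 1, nat_lit 0]) (.leaf (nat_lit 1008) (nat_lit 0) [nat_lit 1, nat_lit 0, nat_lit 1, nat_lit 3, nat_lit 1, nat_lit 0, nat_lit 1, nat_lit 0, nat_lit 1, nat_lit 3, nat_lit 1, nat_lit 0, nat_lit 1, nat_lit 0, nat_lit 1, nat_lit 3, nat_lit 1]))))))) (.node (nat_lit 2166) (.node (nat_lit 2156) (.node (nat_lit 2151) (.node (nat_lit 2149) (.node (nat_lit 2148) (.leaf (nat_lit 1009) (nat_lit 1) [nat_lit 0, nat_lit 1, nat_lit 0, nat_lit 1, nat_lit 3, nat_lit 1, nat_lit 0, nat_lit 1, nat_lit 0, nat_lit 1, nat_lit 3, nat_lit 1, nat_lit 0, nat_lit 1, nat_lit 0, nat_lit 1, nat_lit 3]) (.leaf (nat_lit 1010) (nat_lit 3) [nat_lit 1, nat_lit 0, nat_lit 1, nat_lit 0, nat_lit 1, nat_lit 3, nat_lit 1, nat_lit 0, nat_lit 1, nat_lit 0, nat_lit 1, nat_lit 3, nat_lit 1, nat_lit 0, nat_lit 1, nat_lit 0, nat_lit 1])) (.node (nat_lit 2150) (.leaf (nat_lit 1011) (nat_lit 1) [nat_lit 3, nat_lit 1, nat_lit 0, nat_lit 1, nat_lit 0, nat_lit 1, nat_lit 3, nat_lit 1, nat_lit 0, nat_lit 1, nat_lit 0, nat_lit 1, nat_lit 3, nat_lit 1, nat_lit 0, nat_lit 1, nat_lit 0]) (.leaf (nat_lit 1012) (nat_lit 0) [nat_lit 1, nat_lit 3, nat_lit 1, nat_lit 0, nat_lit 1, nat_lit 0, nat_lit 1, nat_lit 3, nat_lit 1, nat_lit 0, nat_lit 1, nat_lit 0, nat_lit 1, nat_lit 3, nat_lit 1, nat_lit 0, nat_lit 1]))) (.node (nat_lit 2153) (.node (nat_lit 2152) (.leaf (nat_lit 1013) (nat_lit 1) [nat_lit 0, nat_lit 1, nat_lit 3, nat_lit 1, nat_lit 0, nat_lit 1, nat_lit 0, nat_lit 1, nat_lit 3, nat_lit 1, nat_lit 0, nat_lit 1, nat_lit 0, nat_lit 1, nat_lit 3, nat_lit 1, nat_lit 0]) (.leaf (nat_lit 1008) (nat_lit 0) [nat_lit 1, nat_lit 0, nat_lit 1, nat_lit 3, nat_lit 1, nat_lit 0, nat_lit 1, nat_lit 0, nat_lit 1, nat_lit 3, nat_lit 1, nat_lit 0, nat_lit 1, nat_lit 0, nat_lit 1, nat_lit 3, nat_lit 1])) (.node (nat_lit 2154) (.leaf (nat_lit 1009) (nat_lit 1) [nat_lit 0, nat_lit 1, nat_lit 0, nat_lit 1, nat_lit 3, nat_lit 1, nat_lit 0, nat_lit 1, nat_lit 0, nat_lit 1, nat_lit 3, nat_lit 1, nat_lit 0, nat_lit 1, nat_lit 0, nat_lit 1, nat_lit 3]) (.node (nat_lit 2155) (.leaf (nat_lit 1010) (nat_lit 3) [nat_lit 1, nat_lit 0, nat_lit 1, nat_lit 0, nat_lit 1, nat_lit 3, nat_lit 1, nat_lit 0, nat_lit 1, nat_lit 0, nat_lit 1, nat_lit 3, nat_lit 1, nat_lit 0, nat_lit 1, nat_lit 0, nat_lit 1]) (.leaf (nat_lit 1011) (nat_lit 1) [nat_lit 3, nat_lit 1, nat_lit 0, nat_lit 1, nat_lit 0, nat_lit 1, nat_lit 3, nat_lit 1, nat_lit 0, nat_lit 1, nat_lit 0, nat_lit 1, nat_lit 3, nat_lit 1, nat_lit 0, nat_lit 1, nat_lit 0]))))) (.node (nat_lit 2161) (.node (nat_lit 2158) (.node (nat_lit 2157) (.leaf (nat_lit 1012) (nat_lit 0) [nat_lit 1, nat_lit 3, nat_lit 1, nat_lit 0, nat_lit 1, nat_lit 0, nat_lit 1, nat_lit 3, nat_lit 1, nat_lit 0, nat_lit 1, nat_lit 0, nat_lit 1, nat_lit 3, nat_lit 1, nat_lit 0, nat_lit 1]) (.leaf (nat_lit 1013) (nat_lit 1) [nat_lit 0, nat_lit 1, nat_lit 3, nat_lit 1, nat_lit 0, nat_lit 1, nat_lit 0, nat_lit 1, nat_lit 3, nat_lit 1, nat_lit 0, nat_lit 1, nat_lit 0, nat_lit 1, nat_lit 3, nat_lit 1, nat_lit 0])) (.node (nat_lit 2159) (.leaf (nat_lit 1008) (nat_lit 0) [nat_lit 1, nat_lit 0, nat_lit 1, nat_lit 3, nat_lit 1, nat_lit 0, nat_lit 1, nat_lit 0, nat_lit 1, nat_lit 3, nat_lit 1, nat_lit 0, nat_lit 1, nat_lit 0, nat_lit 1, nat_lit 3, nat_lit 1]) (.node (nat_lit 2160) (.leaf (nat_lit 1009) (nat_lit 1) [nat_lit 0, nat_lit 1, nat_lit 0, nat_lit 1, nat_lit 3, nat_lit 1, nat_lit 0, nat_lit 1, nat_lit 0, nat_lit 1, nat_lit 3, nat_lit 1, nat_lit 0, nat_lit 1, nat_lit 0, nat_lit 1, nat_lit 3]) (.leaf (nat_lit 1119) (nat_lit 1) [nat_lit 3, nat_lit 1, nat_lit 0, nat_lit 2, nat_lit 0, nat_lit 1, nat_lit 3, nat_lit 1, nat_lit 0, nat_lit 2, nat_lit 0, nat_lit 1, nat_lit 3, nat_lit 1, nat_lit 0, nat_lit 2, nat_lit 0])))) (.node (nat_lit 2163) (.node (nat_lit 2162) (.leaf (nat_lit 1120) (nat_lit 0) [nat_lit 1, nat_lit 3, nat_lit 1, nat_lit 0, nat_lit 2, nat_lit 0, nat_lit 1, nat_lit 3, nat_lit 1, nat_lit 0, nat_lit 2, nat_lit 0, nat_lit 1, nat_lit 3, nat_lit 1, nat_lit 0, nat_lit 2]) (.leaf (nat_lit 1121) (nat_lit 2) [nat_lit 0, nat_lit 1, nat_lit 3, nat_lit 1, nat_lit 0, nat_lit 2, nat_lit 0, nat_lit 1, nat_lit 3, nat_lit 1, nat_lit 0, nat_lit 2, nat_lit 0, nat_lit 1, nat_lit 3, nat_lit 1, nat_lit 0])) (.node (nat_lit 2164) (.leaf (nat_lit 1116) (nat_lit 0) [nat_lit 2, nat_lit 0, nat_lit 1, nat_lit 3, nat_lit 1, nat_lit 0, nat_lit 2, nat_lit 0, nat_lit 1, nat_lit 3, nat_lit 1, nat_lit 0, nat_lit 2, nat_lit 0, nat_lit 1, nat_lit 3, nat_lit 1]) (.node (nat_lit 2165) (.leaf (nat_lit 1117) (nat_lit 1) [nat_lit 0, nat_lit 2, nat_lit 0, nat_lit 1, nat_lit 3, nat_lit 1, nat_lit 0, nat_lit 2, nat_lit 0, nat_lit 1, nat_lit 3, nat_lit 1, nat_lit 0, nat_lit 2, nat_lit 0, nat_lit 1, nat_lit 3]) (.leaf (nat_lit 1118) (nat_lit 3) [nat_lit 1, nat_lit 0, nat_lit 2, nat_lit 0, nat_lit 1, nat_lit 3, nat_lit 1, nat_lit 0, nat_lit 2, nat_lit 0, nat_lit 1, nat_lit 3, nat_lit 1, nat_lit 0, nat_lit 2, nat_lit 0, nat_lit 1])))))) (.node (nat_lit 2175) (.node (nat_lit 2170) (.node (nat_lit 2168) (.node (nat_lit 2167) (.leaf (nat_lit 1119) (nat_lit 1) [nat_lit 3, nat_lit 1, nat_lit 0, nat_lit 2, nat_lit 0, nat_lit 1, nat_lit 3, nat_lit 1, nat_lit 0, nat_lit 2, nat_lit 0, nat_lit 1, nat_lit 3, nat_lit 1, nat_lit 0, nat_lit 2, nat_lit 0]) (.leaf (nat_lit 1120) (nat_lit 0) [nat_lit 1, nat_lit 3, nat_lit 1, nat_lit 0, nat_lit 2, nat_lit 0, nat_lit 1, nat_lit 3, nat_lit 1, nat_lit 0, nat_lit 2, nat_lit 0, nat_lit 1, nat_lit 3, nat_lit 1, nat_lit 0, nat_lit 2])) (.node (nat_lit 2169) (.leaf (nat_lit 1121) (nat_lit 2) [nat_lit 0, nat_lit 1, nat_lit 3, nat_lit 1, nat_lit 0, nat_lit 2, nat_lit 0, nat_lit 1, nat_lit 3, nat_lit 1, nat_lit 0, nat_lit 2, nat_lit 0, nat_lit 1, nat_lit 3, nat_lit 1, nat_lit 0]) (.leaf (nat_lit 1116) (nat_lit 0) [nat_lit 2, nat_lit 0, nat_lit 1, nat_lit 3, nat_lit 1, nat_lit 0, nat_lit 2, nat_lit 0, nat_lit 1, nat_lit 3, nat_lit 1, nat_lit 0, nat_lit 2, nat_lit 0, nat_lit 1, nat_lit 3, nat_lit 1]))) (.node (nat_lit 2172) (.node (nat_lit 2171) (.leaf (nat_lit 1117) (nat_lit 1) [nat_lit 0, nat_lit 2, nat_lit 0, nat_lit 1, nat_lit 3, nat_lit 1, nat_lit 0, nat_lit 2, nat_lit 0, nat_lit 1, nat_lit 3, nat_lit 1, nat_lit 0, nat_lit 2, nat_lit 0, nat_lit 1, nat_lit 3]) (.leaf (nat_lit 1118) (nat_lit 3) [nat_lit 1, nat_lit 0, nat_lit 2, nat_lit 0, nat_lit 1, nat_lit 3, nat_lit 1, nat_lit 0, nat_lit 2, nat_lit 0, nat_lit 1, nat_lit 3, nat_lit 1, nat_lit 0, nat_lit 2, nat_lit 0, nat_lit 1])) (.node (nat_lit 2173) (.leaf (nat_lit 1119) (nat_lit 1) [nat_lit 3, nat_lit 1, nat_lit 0, nat_lit 2, nat_lit 0, nat_lit 1, nat_lit 3, nat_lit 1, nat_lit 0, nat_lit 2, nat_lit 0, nat_lit 1, nat_lit 3, nat_lit 1, nat_lit 0, nat_lit 2, nat_lit 0]) (.node (nat_lit 2174) (.leaf (nat_lit 1120) (nat_lit 0) [nat_lit 1, nat_lit 3, nat_lit 1, nat_lit 0, nat_lit 2, nat_lit 0, nat_lit 1, nat_lit 3, nat_lit 1, nat_lit 0, nat_lit 2, nat_lit 0, nat_lit 1, nat_lit 3, nat_lit 1, nat_lit 0, nat_lit 2]) (.leaf (nat_lit 1121) (nat_lit 2) [nat_lit 0, nat_lit 1, nat_lit 3, nat_lit 1, nat_lit 0, nat_lit 2, nat_lit 0, nat_lit 1, nat_lit 3, nat_lit 1, nat_lit 0, nat_lit 2, nat_lit 0, nat_lit 1, nat_lit 3, nat_lit 1, nat_lit 0]))))) (.node (nat_lit 2180) (.node (nat_lit 2177) (.node (nat_lit 2176) (.leaf (nat_lit 1116) (nat_lit 0) [nat_lit 2, nat_lit 0, nat_lit 1, nat_lit 3, nat_lit 1, nat_lit 0, nat_lit 2, nat_lit 0, nat_lit 1, nat_lit 3, nat_lit 1, nat_lit 0, nat_lit 2, nat_lit 0, nat_lit 1, nat_lit 3, nat_lit 1]) (.leaf (nat_lit 1117) (nat_lit 1) [nat_lit 0, nat_lit 2, nat_lit 0, nat_lit 1, nat_lit 3, nat_lit 1, nat_lit 0, nat_lit 2, nat_lit 0, nat_lit 1, nat_lit 3, nat_lit 1, nat_lit 0, nat_lit 2, nat_lit 0, nat_lit 1, nat_lit 3])) (.node (nat_lit 2178) (.leaf (nat_lit 1118) (nat_lit 3) [nat_lit 1, nat_lit 0, nat_lit 2, nat_lit 0, nat_lit 1, nat_lit 3, nat_lit 1, nat_lit 0, nat_lit 2, nat_lit 0, nat_lit 1, nat_lit 3, nat_lit 1, nat_lit 0, nat_lit 2, nat_lit 0, nat_lit 1]) (.node (nat_lit 2179) (.leaf (nat_lit 1118) (nat_lit 3) [nat_lit 1, nat_lit 0, nat_lit 2, nat_lit 0, nat_lit 1, nat_lit 3, nat_lit 1, nat_lit 0, nat_lit 2, nat_lit 0, nat_lit 1, nat_lit 3, nat_lit 1, nat_lit 0, nat_lit 2, nat_lit 0, nat_lit 1]) (.leaf (nat_lit 1119) (nat_lit 1) [nat_lit 3, nat_lit 1, nat_lit 0, nat_lit 2, nat_lit 0, nat_lit 1, nat_lit 3, nat_lit 1, nat_lit 0, nat_lit 2, nat_lit 0, nat_lit 1, nat_lit 3, nat_lit 1, nat_lit 0, nat_lit 2, nat_lit 0])))) (.node (nat_lit 2182) (.node (nat_lit 2181) (.leaf (nat_lit 1120) (nat_lit 0) [nat_lit 1, nat_lit 3, nat_lit 1, nat_lit 0, nat_lit 2, nat_lit 0, nat_lit 1, nat_lit 3, nat_lit 1, nat_lit 0, nat_lit 2, nat_lit 0, nat_lit 1, nat_lit 3, nat_lit 1, nat_lit 0, nat_lit 2]) (.leaf (nat_lit 1121) (nat_lit 2) [nat_lit 0, nat_lit 1, nat_lit 3, nat_lit 1, nat_lit 0, nat_lit 2, nat_lit 0, nat_lit 1, nat_lit 3, nat_lit 1, nat_lit 0, nat_lit 2, nat_lit 0, nat_lit 1, nat_lit 3, nat_lit 1, nat_lit 0])) (.node (nat_lit 2183) (.leaf (nat_lit 1116) (nat_lit 0) [nat_lit 2, nat_lit 0, nat_lit 1, nat_lit 3, nat_lit 1, nat_lit 0, nat_lit 2, nat_lit 0, nat_lit 1, nat_lit 3, nat_lit 1, nat_lit 0, nat_lit 2, nat_lit 0, nat_lit 1, nat_lit 3, nat_lit 1]) (.node (nat_lit 2184) (.leaf (nat_lit 1117) (nat_lit 1) [nat_lit 0, nat_lit 2, nat_lit 0, nat_lit 1, nat_lit 3, nat_lit 1, nat_lit 0, nat_lit 2, nat_lit 0, nat_lit 1, nat_lit 3, nat_lit 1, nat_lit 0, nat_lit 2, nat_lit 0, nat_lit 1, nat_lit 3]) (.leaf (nat_lit 1118) (nat_lit 3) [nat_lit 1, nat_lit 0, nat_lit 2, nat_lit 0, nat_lit 1, nat_lit 3, nat_lit 1, nat_lit 0, nat_lit 2, nat_lit 0, nat_lit 1, nat_lit 3, nat_lit 1, nat_lit 0, nat_lit 2, nat_lit 0, nat_lit 1])))))))) (.node (nat_lit 2223) (.node (nat_lit 2204) (.node (nat_lit 2194) (.node (nat_lit 2189) (.node (nat_lit 2187) (.node (nat_lit 2186) (.leaf (nat_lit 1119) (nat_lit 1) [nat_lit 3, nat_lit 1, nat_lit 0, nat_lit 2, nat_lit 0, nat_lit 1, nat_lit 3, nat_lit 1, nat_lit 0, nat_lit 2, nat_lit 0, nat_lit 1, nat_lit 3, nat_lit 1, nat_lit 0, nat_lit 2, nat_lit 0]) (.leaf (nat_lit 1120) (nat_lit 0) [nat_lit 1, nat_lit 3, nat_lit 1, nat_lit 0, nat_lit 2, nat_lit 0, nat_lit 1, nat_lit 3, nat_lit 1, nat_lit 0, nat_lit 2, nat_lit 0, nat_lit 1, nat_lit 3, nat_lit 1, nat_lit 0, nat_lit 2])) (.node (nat_lit 2188) (.leaf (nat_lit 1121) (nat_lit 2) [nat_lit 0, nat_lit 1, nat_lit 3, nat_lit 1, nat_lit 0, nat_lit 2, nat_lit 0, nat_lit 1, nat_lit 3, nat_lit 1, nat_lit 0, nat_lit 2, nat_lit 0, nat_lit 1, nat_lit 3, nat_lit 1, nat_lit 0]) (.leaf (nat_lit 1116) (nat_lit 0) [nat_lit 2, nat_lit 0, nat_lit 1, nat_lit 3, nat_lit 1, nat_lit 0, nat_lit 2, nat_lit 0, nat_lit 1, nat_lit 3, nat_lit 1, nat_lit 0, nat_lit 2, nat_lit 0, nat_lit 1, nat_lit 3, nat_lit 1]))) (.node (nat_lit 2191) (.node (nat_lit 2190) (.leaf (nat_lit 1117) (nat_lit 1) [nat_lit 0, nat_lit 2, nat_lit 0, nat_lit 1, nat_lit 3, nat_lit 1, nat_lit 0, nat_lit 2, nat_lit 0, nat_lit 1, nat_lit 3, nat_lit 1, nat_lit 0, nat_lit 2, nat_lit 0, nat_lit 1, nat_lit 3]) (.leaf (nat_lit 1118) (nat_lit 3) [nat_lit 1, nat_lit 0, nat_lit 2, nat_lit 0, nat_lit 1, nat_lit 3, nat_lit 1, nat_lit 0, nat_lit 2, nat_lit 0, nat_lit 1, nat_lit 3, nat_lit 1, nat_lit 0, nat_lit 2, nat_lit 0, nat_lit 1])) (.node (nat_lit 2192) (.leaf (nat_lit 1119) (nat_lit 1) [nat_lit 3, nat_lit 1, nat_lit 0, nat_lit 2, nat_lit 0, nat_lit 1, nat_lit 3, nat_lit 1, nat_lit 0, nat_lit 2, nat_lit 0, nat_lit 1, nat_lit 3, nat_lit 1, nat_lit 0, nat_lit 2, nat_lit 0]) (.node (nat_lit 2193) (.leaf (nat_lit 1120) (nat_lit 0) [nat_lit 1, nat_lit 3, nat_lit 1, nat_lit 0, nat_lit 2, nat_lit 0, nat_lit 1, nat_lit 3, nat_lit 1, nat_lit 0, nat_lit 2, nat_lit 0, nat_lit 1, nat_lit 3, nat_lit 1, nat_lit 0, nat_lit 2]) (.leaf (nat_lit 1121) (nat_lit 2) [nat_lit 0, nat_lit 1, nat_lit 3, nat_lit 1, nat_lit 0, nat_lit 2, nat_lit 0, nat_lit 1, nat_lit 3, nat_lit 1, nat_lit 0, nat_lit 2, nat_lit 0, nat_lit 1, nat_lit 3, nat_lit 1, nat_lit 0]))))) (.node (nat_lit 2199) (.node (nat_lit 2196) (.node (nat_lit 2195) (.leaf (nat_lit 1116) (nat_lit 0) [nat_lit 2, nat_lit 0, nat_lit 1, nat_lit 3, nat_lit 1, nat_lit 0, nat_lit 2, nat_lit 0, nat_lit 1, nat_lit 3, nat_lit 1, nat_lit 0, nat_lit 2, nat_lit 0, nat_lit 1, nat_lit 3, nat_lit 1]) (.leaf (nat_lit 1117) (nat_lit 1) [nat_lit 0, nat_lit 2, nat_lit 0, nat_lit 1, nat_lit 3, nat_lit 1, nat_lit 0, nat_lit 2, nat_lit 0, nat_lit 1, nat_lit 3, nat_lit 1, nat_lit 0, nat_lit 2, nat_lit 0, nat_lit 1, nat_lit 3])) (.node (nat_lit 2197) (.leaf (nat_lit 1227) (nat_lit 1) [nat_lit 3, nat_lit 1, nat_lit 0, nat_lit 3, nat_lit 0, nat_lit 1, nat_lit 3, nat_lit 1, nat_lit 0, nat_lit 3, nat_lit 0, nat_lit 1, nat_lit 3, nat_lit 1, nat_lit 0, nat_lit 3, nat_lit 0]) (.node (nat_lit 2198) (.leaf (nat_lit 1228) (nat_lit 0) [nat_lit 1, nat_lit 3, nat_lit 1, nat_lit 0, nat_lit 3, nat_lit 0, nat_lit 1, nat_lit 3, nat_lit 1, nat_lit 0, nat_lit 3, nat_lit 0, nat_lit 1, nat_lit 3, nat_lit 1, nat_lit 0, nat_lit 3]) (.leaf (nat_lit 1229) (nat_lit 3) [nat_lit 0, nat_lit 1, nat_lit 3, nat_lit 1, nat_lit 0, nat_lit 3, nat_lit 0, nat_lit 1, nat_lit 3, nat_lit 1, nat_lit 0, nat_lit 3, nat_lit 0, nat_lit 1, nat_lit 3, nat_lit 1, nat_lit 0])))) (.node (nat_lit 2201) (.node (nat_lit 2200) (.leaf (nat_lit 1224) (nat_lit 0) [nat_lit 3, nat_lit 0, nat_lit 1, nat_lit 3, nat_lit 1, nat_lit 0, nat_lit 3, nat_lit 0, nat_lit 1, nat_lit 3, nat_lit 1, nat_lit 0, nat_lit 3, nat_lit 0, nat_lit 1, nat_lit 3, nat_lit 1]) (.leaf (nat_lit 1225) (nat_lit 1) [nat_lit 0, nat_lit 3, nat_lit 0, nat_lit 1, nat_lit 3, nat_lit 1, nat_lit 0, nat_lit 3, nat_lit 0, nat_lit 1, nat_lit 3, nat_lit 1, nat_lit 0, nat_lit 3, nat_lit 0, nat_lit 1, nat_lit 3])) (.node (nat_lit 2202) (.leaf (nat_lit 1226) (nat_lit 3) [nat_lit 1, nat_lit 0, nat_lit 3, nat_lit 0, nat_lit 1, nat_lit 3, nat_lit 1, nat_lit 0, nat_lit 3, nat_lit 0, nat_lit 1, nat_lit 3, nat_lit 1, nat_lit 0, nat_lit 3, nat_lit 0, nat_lit 1]) (.node (nat_lit 2203) (.leaf (nat_lit 1227) (nat_lit 1) [nat_lit 3, nat_lit 1, nat_lit 0, nat_lit 3, nat_lit 0, nat_lit 1, nat_lit 3, nat_lit 1, nat_lit 0, nat_lit 3, nat_lit 0, nat_lit 1, nat_lit 3, nat_lit 1, nat_lit 0, nat_lit 3, nat_lit 0]) (.leaf (nat_lit 1228) (nat_lit 0) [nat_lit 1, nat_lit 3, nat_lit 1, nat_lit 0, nat_lit 3, nat_lit 0, nat_lit 1, nat_lit 3, nat_lit 1, nat_lit 0, nat_lit 3, nat_lit 0, nat_lit 1, nat_lit 3, nat_lit 1, nat_lit 0, nat_lit 3])))))) (.node (nat_lit 2213) (.node (nat_lit 2208) (.node (nat_lit 2206) (.node (nat_lit 2205) (.leaf (nat_lit 1229) (nat_lit 3) [nat_lit 0, nat_lit 1, nat_lit 3, nat_lit 1, nat_lit 0, nat_lit 3, nat_lit 0, nat_lit 1, nat_lit 3, nat_lit 1, nat_lit 0, nat_lit 3, nat_lit 0, nat_lit 1, nat_lit 3, nat_lit 1, nat_lit 0]) (.leaf (nat_lit 1224) (nat_lit 0) [nat_lit 3, nat_lit 0, nat_lit 1, nat_lit 3, nat_lit 1, nat_lit 0, nat_lit 3, nat_lit 0, nat_lit 1, nat_lit 3, nat_lit 1, nat_lit 0, nat_lit 3, nat_lit 0, nat_lit 1, nat_lit 3, nat_lit 1])) (.node (nat_lit 2207) (.leaf (nat_lit 1225) (nat_lit 1) [nat_lit 0, nat_lit 3, nat_lit 0, nat_lit 1, nat_lit 3, nat_lit 1, nat_lit 0, nat_lit 3, nat_lit 0, nat_lit 1, nat_lit 3, nat_lit 1, nat_lit 0, nat_lit 3, nat_lit 0, nat_lit 1, nat_lit 3]) (.leaf (nat_lit 1226) (nat_lit 3) [nat_lit 1, nat_lit 0, nat_lit 3, nat_lit 0, nat_lit 1, nat_lit 3, nat_lit 1, nat_lit 0, nat_lit 3, nat_lit 0, nat_lit 1, nat_lit 3, nat_lit 1, nat_lit 0, nat_lit 3, nat_lit 0, nat_lit 1]))) (.node (nat_lit 2210) (.node (nat_lit 2209) (.leaf (nat_lit 1227) (nat_lit 1) [nat_lit 3, nat_lit 1, nat_lit 0, nat_lit 3, nat_lit 0, nat_lit 1, nat_lit 3, nat_lit 1, nat_lit 0, nat_lit 3, nat_lit 0, nat_lit 1, nat_lit 3, nat_lit 1, nat_lit 0, nat_lit 3, nat_lit 0]) (.leaf (nat_lit 1228) (nat_lit 0) [nat_lit 1, nat_lit 3, nat_lit 1, nat_lit 0, nat_lit 3, nat_lit 0, nat_lit 1, nat_lit 3, nat_lit 1, nat_lit 0, nat_lit 3, nat_lit 0, nat_lit 1, nat_lit 3, nat_lit 1, nat_lit 0, nat_lit 3])) (.node (nat_lit 2211) (.leaf (nat_lit 1229) (nat_lit 3) [nat_lit 0, nat_lit 1, nat_lit 3, nat_lit 1, nat_lit 0, nat_lit 3, nat_lit 0, nat_lit 1, nat_lit 3, nat_lit 1, nat_lit 0, nat_lit 3, nat_lit 0, nat_lit 1, nat_lit 3, nat_lit 1, nat_lit 0]) (.node (nat_lit 2212) (.leaf (nat_lit 1224) (nat_lit 0) [nat_lit 3, nat_lit 0, nat_lit 1, nat_lit 3, nat_lit 1, nat_lit 0, nat_lit 3, nat_lit 0, nat_lit 1, nat_lit 3, nat_lit 1, nat_lit 0, nat_lit 3, nat_lit 0, nat_lit 1, nat_lit 3, nat_lit 1]) (.leaf (nat_lit 1225) (nat_lit 1) [nat_lit 0, nat_lit 3, nat_lit 0, nat_lit 1, nat_lit 3, nat_lit 1, nat_lit 0, nat_lit 3, nat_lit 0, nat_lit 1, nat_lit 3, nat_lit 1, nat_lit 0, nat_lit 3, nat_lit 0, nat_lit 1, nat_lit 3]))))) (.node (nat_lit 2218) (.node (nat_lit 2215) (.node (nat_lit 2214) (.leaf (nat_lit 1226) (nat_lit 3) [nat_lit 1, nat_lit 0, nat_lit 3, nat_lit 0, nat_lit 1, nat_lit 3, nat_lit 1, nat_lit 0, nat_lit 3, nat_lit 0, nat_lit 1, nat_lit 3, nat_lit 1, nat_lit 0, nat_lit 3, nat_lit 0, nat_lit 1]) (.leaf (nat_lit 1226) (nat_lit 3) [nat_lit 1, nat_lit 0, nat_lit 3, nat_lit 0, nat_lit 1, nat_lit 3, nat_lit 1, nat_lit 0, nat_lit 3, nat_lit 0, nat_lit 1, nat_lit 3, nat_lit 1, nat_lit 0, nat_lit 3, nat_lit 0, nat_lit 1])) (.node (nat_lit 2216) (.leaf (nat_lit 1227) (nat_lit 1) [nat_lit 3, nat_lit 1, nat_lit 0, nat_lit 3, nat_lit 0, nat_lit 1, nat_lit 3, nat_lit 1, nat_lit 0, nat_lit 3, nat_lit 0, nat_lit 1, nat_lit 3, nat_lit 1, nat_lit 0, nat_lit 3, nat_lit 0]) (.node (nat_lit 2217) (.leaf (nat_lit 1228) (nat_lit 0) [nat_lit 1, nat_lit 3, nat_lit 1, nat_lit 0, nat_lit 3, nat_lit 0, nat_lit 1, nat_lit 3, nat_lit 1, nat_lit 0, nat_lit 3, nat_lit 0, nat_lit 1, nat_lit 3, nat_lit 1, nat_lit 0, nat_lit 3]) (.leaf (nat_lit 1229) (nat_lit 3) [nat_lit 0, nat_lit 1, nat_lit 3, nat_lit 1, nat_lit 0, nat_lit 3, nat_lit 0, nat_lit 1, nat_lit 3, nat_lit 1, nat_lit 0, nat_lit 3, nat_lit 0, nat_lit 1, nat_lit 3, nat_lit 1, nat_lit 0])))) (.node (nat_lit 2220) (.node (nat_lit 2219) (.leaf (nat_lit 1224) (nat_lit 0) [nat_lit 3, nat_lit 0, nat_lit 1, nat_lit 3, nat_lit 1, nat_lit 0, nat_lit 3, nat_lit 0, nat_lit 1, nat_lit 3, nat_lit 1, nat_lit 0, nat_lit 3, nat_lit 0, nat_lit 1, nat_lit 3, nat_lit 1]) (.leaf (nat_lit 1225) (nat_lit 1) [nat_lit 0, nat_lit 3, nat_lit 0, nat_lit 1, nat_lit 3, nat_lit 1, nat_lit 0, nat_lit 3, nat_lit 0, nat_lit 1, nat_lit 3, nat_lit 1, nat_lit 0, nat_lit 3, nat_lit 0, nat_lit 1, nat_lit 3])) (.node (nat_lit 2221) (.leaf (nat_lit 1226) (nat_lit 3) [nat_lit 1, nat_lit 0, nat_lit 3, nat_lit 0, nat_lit 1, nat_lit 3, nat_lit 1, nat_lit 0, nat_lit 3, nat_lit 0, nat_lit 1, nat_lit 3, nat_lit 1, nat_lit 0, nat_lit 3, nat_lit 0, nat_lit 1]) (.node (nat_lit 2222) (.leaf (nat_lit 1227) (nat_lit 1) [nat_lit 3, nat_lit 1, nat_lit 0, nat_lit 3, nat_lit 0, nat_lit 1, nat_lit 3, nat_lit 1, nat_lit 0, nat_lit 3, nat_lit 0, nat_lit 1, nat_lit 3, nat_lit 1, nat_lit 0, nat_lit 3, nat_lit 0]) (.leaf (nat_lit 1228) (nat_lit 0) [nat_lit 1, nat_lit 3, nat_lit 1, nat_lit 0, nat_lit 3, nat_lit 0, nat_lit 1, nat_lit 3, nat_lit 1, nat_lit 0, nat_lit 3, nat_lit 0, nat_lit 1, nat_lit 3, nat_lit 1, nat_lit 0, nat_lit 3]))))))) (.node (nat_lit 2242) (.node (nat_lit 2232) (.node (nat_lit 2227) (.node (nat_lit 2225) (.node (nat_lit 2224) (.leaf (nat_lit 1229) (nat_lit 3) [nat_lit 0, nat_lit 1, nat_lit 3, nat_lit 1, nat_lit 0, nat_lit 3, nat_lit 0, nat_lit 1, nat_lit 3, nat_lit 1, nat_lit 0, nat_lit 3, nat_lit 0, nat_lit 1, nat_lit 3, nat_lit 1, nat_lit 0]) (.leaf (nat_lit 1224) (nat_lit 0) [nat_lit 3, nat_lit 0, nat_lit 1, nat_lit 3, nat_lit 1, nat_lit 0, nat_lit 3, nat_lit 0, nat_lit 1, nat_lit 3, nat_lit 1, nat_lit 0, nat_lit 3, nat_lit 0, nat_lit 1, nat_lit 3, nat_lit 1])) (.node (nat_lit 2226) (.leaf (nat_lit 1225) (nat_lit 1) [nat_lit 0, nat_lit 3, nat_lit 0, nat_lit 1, nat_lit 3, nat_lit 1, nat_lit 0, nat_lit 3, nat_lit 0, nat_lit 1, nat_lit 3, nat_lit 1, nat_lit 0, nat_lit 3, nat_lit 0, nat_lit 1, nat_lit 3]) (.leaf (nat_lit 1226) (nat_lit 3) [nat_lit 1, nat_lit 0, nat_lit 3, nat_lit 0, nat_lit 1, nat_lit 3, nat_lit 1, nat_lit 0, nat_lit 3, nat_lit 0, nat_lit 1, nat_lit 3, nat_lit 1, nat_lit 0, nat_lit 3, nat_lit 0, nat_lit 1]))) (.node (nat_lit 2229) (.node (nat_lit 2228) (.leaf (nat_lit 1227) (nat_lit 1) [nat_lit 3, nat_lit 1, nat_lit 0, nat_lit 3, nat_lit 0, nat_lit 1, nat_lit 3, nat_lit 1, nat_lit 0, nat_lit 3, nat_lit 0, nat_lit 1, nat_lit 3, nat_lit 1, nat_lit 0, nat_lit 3, nat_lit 0]) (.leaf (nat_lit 1228) (nat_lit 0) [nat_lit 1, nat_lit 3, nat_lit 1, nat_lit 0, nat_lit 3, nat_lit 0, nat_lit 1, nat_lit 3, nat_lit 1, nat_lit 0, nat_lit 3, nat_lit 0, nat_lit 1, nat_lit 3, nat_lit 1, nat_lit 0, nat_lit 3])) (.node (nat_lit 2230) (.leaf (nat_lit 1229) (nat_lit 3) [nat_lit 0, nat_lit 1, nat_lit 3, nat_lit 1, nat_lit 0, nat_lit 3, nat_lit 0, nat_lit 1, nat_lit 3, nat_lit 1, nat_lit 0, nat_lit 3, nat_lit 0, nat_lit 1, nat_lit 3, nat_lit 1, nat_lit 0]) (.node (nat_lit 2231) (.leaf (nat_lit 1224) (nat_lit 0) [nat_lit 3, nat_lit 0, nat_lit 1, nat_lit 3, nat_lit 1, nat_lit 0, nat_lit 3, nat_lit 0, nat_lit 1, nat_lit 3, nat_lit 1, nat_lit 0, nat_lit 3, nat_lit 0, nat_lit 1, nat_lit 3, nat_lit 1]) (.leaf (nat_lit 1225) (nat_lit 1) [nat_lit 0, nat_lit 3, nat_lit 0, nat_lit 1, nat_lit 3, nat_lit 1, nat_lit 0, nat_lit 3, nat_lit 0, nat_lit 1, nat_lit 3, nat_lit 1, nat_lit 0, nat_lit 3, nat_lit 0, nat_lit 1, nat_lit 3]))))) (.node (nat_lit 2237) (.node (nat_lit 2234) (.node (nat_lit 2233) (.leaf (nat_lit 2232) (nat_lit 1) [nat_lit 0, nat_lit 1, nat_lit 2, nat_lit 0, nat_lit 2, nat_lit 1, nat_lit 0, nat_lit 1, nat_lit 2, nat_lit 0, nat_lit 2, nat_lit 1, nat_lit 0, nat_lit 1, nat_lit 2, nat_lit 0, nat_lit 2]) (.leaf (nat_lit 2233) (nat_lit 2) [nat_lit 1, nat_lit 0, nat_lit 1, nat_lit 2, nat_lit 0, nat_lit 2, nat_lit 1, nat_lit 0, nat_lit 1, nat_lit 2, nat_lit 0, nat_lit 2, nat_lit 1, nat_lit 0, nat_lit 1, nat_lit 2, nat_lit 0])) (.node (nat_lit 2235) (.leaf (nat_lit 2234) (nat_lit 0) [nat_lit 2, nat_lit 1, nat_lit 0, nat_lit 1, nat_lit 2, nat_lit 0, nat_lit 2, nat_lit 1, nat_lit 0, nat_lit 1, nat_lit 2, nat_lit 0, nat_lit 2, nat_lit 1, nat_lit 0, nat_lit 1, nat_lit 2]) (.node (nat_lit 2236) (.leaf (nat_lit 2235) (nat_lit 2) [nat_lit 0, nat_lit 2, nat_lit 1, nat_lit 0, nat_lit 1, nat_lit 2, nat_lit 0, nat_lit 2, nat_lit 1, nat_lit 0, nat_lit 1, nat_lit 2, nat_lit 0, nat_lit 2, nat_lit 1, nat_lit 0, nat_lit 1]) (.leaf (nat_lit 2236) (nat_lit 1) [nat_lit 2, nat_lit 0, nat_lit 2, nat_lit 1, nat_lit 0, nat_lit 1, nat_lit 2, nat_lit 0, nat_lit 2, nat_lit 1, nat_lit 0, nat_lit 1, nat_lit 2, nat_lit 0, nat_lit 2, nat_lit 1, nat_lit 0])))) (.node (nat_lit 2239) (.node (nat_lit 2238) (.leaf (nat_lit 2237) (nat_lit 0) [nat_lit 1, nat_lit 2, nat_lit 0, nat_lit 2, nat_lit 1, nat_lit 0, nat_lit 1, nat_lit 2, nat_lit 0, nat_lit 2, nat_lit 1, nat_lit 0, nat_lit 1, nat_lit 2, nat_lit 0, nat_lit 2, nat_lit 1]) (.leaf (nat_lit 2232) (nat_lit 1) [nat_lit 0, nat_lit 1, nat_lit 2, nat_lit 0, nat_lit 2, nat_lit 1, nat_lit 0, nat_lit 1, nat_lit 2, nat_lit 0, nat_lit 2, nat_lit 1, nat_lit 0, nat_lit 1, nat_lit 2, nat_lit 0, nat_lit 2])) (.node (nat_lit 2240) (.leaf (nat_lit 2233) (nat_lit 2) [nat_lit 1, nat_lit 0, nat_lit 1, nat_lit 2, nat_lit 0, nat_lit 2, nat_lit 1, nat_lit 0, nat_lit 1, nat_lit 2, nat_lit 0, nat_lit 2, nat_lit 1, nat_lit 0, nat_lit 1, nat_lit 2, nat_lit 0]) (.node (nat_lit 2241) (.leaf (nat_lit 2234) (nat_lit 0) [nat_lit 2, nat_lit 1, nat_lit 0, nat_lit 1, nat_lit 2, nat_lit 0, nat_lit 2, nat_lit 1, nat_lit 0, nat_lit 1, nat_lit 2, nat_lit 0, nat_lit 2, nat_lit 1, nat_lit 0, nat_lit 1, nat_lit 2]) (.leaf (nat_lit 2235) (nat_lit 2) [nat_lit 0, nat_lit 2, nat_lit 1, nat_lit 0, nat_lit 1, nat_lit 2, nat_lit 0, nat_lit 2, nat_lit 1, nat_lit 0, nat_lit 1, nat_lit 2, nat_lit 0, nat_lit 2, nat_lit 1, nat_lit 0, nat_lit 1])))))) (.node (nat_lit 2251) (.node (nat_lit 2246) (.node (nat_lit 2244) (.node (nat_lit 2243) (.leaf (nat_lit 2236) (nat_lit 1) [nat_lit 2, nat_lit 0, nat_lit 2, nat_lit 1, nat_lit 0, nat_lit 1, nat_lit 2, nat_lit 0, nat_lit 2, nat_lit 1, nat_lit 0, nat_lit 1, nat_lit 2, nat_lit 0, nat_lit 2, nat_lit 1, nat_lit 0]) (.leaf (nat_lit 2237) (nat_lit 0) [nat_lit 1, nat_lit 2, nat_lit 0, nat_lit 2, nat_lit 1, nat_lit 0, nat_lit 1, nat_lit 2, nat_lit 0, nat_lit 2, nat_lit 1, nat_lit 0, nat_lit 1, nat_lit 2, nat_lit 0, nat_lit 2, nat_lit 1])) (.node (nat_lit 2245) (.leaf (nat_lit 2232) (nat_lit 1) [nat_lit 0, nat_lit 1, nat_lit 2, nat_lit 0, nat_lit 2, nat_lit 1, nat_lit 0, nat_lit 1, nat_lit 2, nat_lit 0, nat_lit 2, nat_lit 1, nat_lit 0, nat_lit 1, nat_lit 2, nat_lit 0, nat_lit 2]) (.leaf (nat_lit 2233) (nat_lit 2) [nat_lit 1, nat_lit 0, nat_lit 1, nat_lit 2, nat_lit 0, nat_lit 2, nat_lit 1, nat_lit 0, nat_lit 1, nat_lit 2, nat_lit 0, nat_lit 2, nat_lit 1, nat_lit 0, nat_lit 1, nat_lit 2, nat_lit 0]))) (.node (nat_lit 2248) (.node (nat_lit 2247) (.leaf (nat_lit 2234) (nat_lit 0) [nat_lit 2, nat_lit 1, nat_lit 0, nat_lit 1, nat_lit 2, nat_lit 0, nat_lit 2, nat_lit 1, nat_lit 0, nat_lit 1, nat_lit 2, nat_lit 0, nat_lit 2, nat_lit 1, nat_lit 0, nat_lit 1, nat_lit 2]) (.leaf (nat_lit 2235) (nat_lit 2) [nat_lit 0, nat_lit 2, nat_lit 1, nat_lit 0, nat_lit 1, nat_lit 2, nat_lit 0, nat_lit 2, nat_lit 1, nat_lit 0, nat_lit 1, nat_lit 2, nat_lit 0, nat_lit 2, nat_lit 1, nat_lit 0, nat_lit 1])) (.node (nat_lit 2249) (.leaf (nat_lit 2236) (nat_lit 1) [nat_lit 2, nat_lit 0, nat_lit 2, nat_lit 1, nat_lit 0, nat_lit 1, nat_lit 2, nat_lit 0, nat_lit 2, nat_lit 1, nat_lit 0, nat_lit 1, nat_lit 2, nat_lit 0, nat_lit 2, nat_lit 1, nat_lit 0]) (.node (nat_lit 2250) (.leaf (nat_lit 2237) (nat_lit 0) [nat_lit 1, nat_lit 2, nat_lit 0, nat_lit 2, nat_lit 1, nat_lit 0, nat_lit 1, nat_lit 2, nat_lit 0, nat_lit 2, nat_lit 1, nat_lit 0, nat_lit 1, nat_lit 2, nat_lit 0, nat_lit 2, nat_lit 1]) (.leaf (nat_lit 2237) (nat_lit 0) [nat_lit 1, nat_lit 2, nat_lit 0, nat_lit 2, nat_lit 1, nat_lit 0, nat_lit 1, nat_lit 2, nat_lit 0, nat_lit 2, nat_lit 1, nat_lit 0, nat_lit 1, nat_lit 2, nat_lit 0, nat_lit 2, nat_lit 1]))))) (.node (nat_lit 2256) (.node (nat_lit 2253) (.node (nat_lit 2252) (.leaf (nat_lit 2232) (nat_lit 1) [nat_lit 0, nat_lit 1, nat_lit 2, nat_lit 0, nat_lit 2, nat_lit 1, nat_lit 0, nat_lit 1, nat_lit 2, nat_lit 0, nat_lit 2, nat_lit 1, nat_lit 0, nat_lit 1, nat_lit 2, nat_lit 0, nat_lit 2]) (.leaf (nat_lit 2233) (nat_lit 2) [nat_lit 1, nat_lit 0, nat_lit 1, nat_lit 2, nat_lit 0, nat_lit 2, nat_lit 1, nat_lit 0, nat_lit 1, nat_lit 2, nat_lit 0, nat_lit 2, nat_lit 1, nat_lit 0, nat_lit 1, nat_lit 2, nat_lit 0])) (.node (nat_lit 2254) (.leaf (nat_lit 2234) (nat_lit 0) [nat_lit 2, nat_lit 1, nat_lit 0, nat_lit 1, nat_lit 2, nat_lit 0, nat_lit 2, nat_lit 1, nat_lit 0, nat_lit 1, nat_lit 2, nat_lit 0, nat_lit 2, nat_lit 1, nat_lit 0, nat_lit 1, nat_lit 2]) (.node (nat_lit 2255) (.leaf (nat_lit 2235) (nat_lit 2) [nat_lit 0, nat_lit 2, nat_lit 1, nat_lit 0, nat_lit 1, nat_lit 2, nat_lit 0, nat_lit 2, nat_lit 1, nat_lit 0, nat_lit 1, nat_lit 2, nat_lit 0, nat_lit 2, nat_lit 1, nat_lit 0, nat_lit 1]) (.leaf (nat_lit 2236) (nat_lit 1) [nat_lit 2, nat_lit 0, nat_lit 2, nat_lit 1, nat_lit 0, nat_lit 1, nat_lit 2, nat_lit 0, nat_lit 2, nat_lit 1, nat_lit 0, nat_lit 1, nat_lit 2, nat_lit 0, nat_lit 2, nat_lit 1, nat_lit 0])))) (.node (nat_lit 2258) (.node (nat_lit 2257) (.leaf (nat_lit 2237) (nat_lit 0) [nat_lit 1, nat_lit 2, nat_lit 0, nat_lit 2, nat_lit 1, nat_lit 0, nat_lit 1, nat_lit 2, nat_lit 0, nat_lit 2, nat_lit 1, nat_lit 0, nat_lit 1, nat_lit 2, nat_lit 0, nat_lit 2, nat_lit 1]) (.leaf (nat_lit 2232) (nat_lit 1) [nat_lit 0, nat_lit 1, nat_lit 2, nat_lit 0, nat_lit 2, nat_lit 1, nat_lit 0, nat_lit 1, nat_lit 2, nat_lit 0, nat_lit 2, nat_lit 1, nat_lit 0, nat_lit 1, nat_lit 2, nat_lit 0, nat_lit 2])) (.node (nat_lit 2259) (.leaf (nat_lit 2233) (nat_lit 2) [nat_lit 1, nat_lit 0, nat_lit 1, nat_lit 2, nat_lit 0, nat_lit 2, nat_lit 1, nat_lit 0, nat_lit 1, nat_lit 2, nat_lit 0, nat_lit 2, nat_lit 1, nat_lit 0, nat_lit 1, nat_lit 2, nat_lit 0]) (.node (nat_lit 2260) (.leaf (nat_lit 2234) (nat_lit 0) [nat_lit 2, nat_lit 1, nat_lit 0, nat_lit 1, nat_lit 2, nat_lit 0, nat_lit 2, nat_lit 1, nat_lit 0, nat_lit 1, nat_lit 2, nat_lit 0, nat_lit 2, nat_lit 1, nat_lit 0, nat_lit 1, nat_lit 2]) (.leaf (nat_lit 2235) (nat_lit 2) [nat_lit 0, nat_lit 2, nat_lit 1, nat_lit 0, nat_lit 1, nat_lit 2, nat_lit 0, nat_lit 2, nat_lit 1, nat_lit 0, nat_lit 1, nat_lit 2, nat_lit 0, nat_lit 2, nat_lit 1, nat_lit 0, nat_lit 1]))))))))) (.node (nat_lit 2336) (.node (nat_lit 2298) (.node (nat_lit 2279) (.node (nat_lit 2270) (.node (nat_lit 2265) (.node (nat_lit 2263) (.node (nat_lit 2262) (.leaf (nat_lit 2236) (nat_lit 1) [nat_lit 2, nat_lit 0, nat_lit 2, nat_lit 1, nat_lit 0, nat_lit 1, nat_lit 2, nat_lit 0, nat_lit 2, nat_lit 1, nat_lit 0, nat_lit 1, nat_lit 2, nat_lit 0, nat_lit 2, nat_lit 1, nat_lit 0]) (.leaf (nat_lit 2237) (nat_lit 0) [nat_lit 1, nat_lit 2, nat_lit 0, nat_lit 2, nat_lit 1, nat_lit 0, nat_lit 1, nat_lit 2, nat_lit 0, nat_lit 2, nat_lit 1, nat_lit 0, nat_lit 1, nat_lit 2, nat_lit 0, nat_lit 2, nat_lit 1])) (.node (nat_lit 2264) (.leaf (nat_lit 2232) (nat_lit 1) [nat_lit 0, nat_lit 1, nat_lit 2, nat_lit 0, nat_lit 2, nat_lit 1, nat_lit 0, nat_lit 1, nat_lit 2, nat_lit 0, nat_lit 2, nat_lit 1, nat_lit 0, nat_lit 1, nat_lit 2, nat_lit 0, nat_lit 2]) (.leaf (nat_lit 2233) (nat_lit 2) [nat_lit 1, nat_lit 0, nat_lit 1, nat_lit 2, nat_lit 0, nat_lit 2, nat_lit 1, nat_lit 0, nat_lit 1, nat_lit 2, nat_lit 0, nat_lit 2, nat_lit 1, nat_lit 0, nat_lit 1, nat_lit 2, nat_lit 0]))) (.node (nat_lit 2267) (.node (nat_lit 2266) (.leaf (nat_lit 2234) (nat_lit 0) [nat_lit 2, nat_lit 1, nat_lit 0, nat_lit 1, nat_lit 2, nat_lit 0, nat_lit 2, nat_lit 1, nat_lit 0, nat_lit 1, nat_lit 2, nat_lit 0, nat_lit 2, nat_lit 1, nat_lit 0, nat_lit 1, nat_lit 2]) (.leaf (nat_lit 2235) (nat_lit 2) [nat_lit 0, nat_lit 2, nat_lit 1, nat_lit 0, nat_lit 1, nat_lit 2, nat_lit 0, nat_lit 2, nat_lit 1, nat_lit 0, nat_lit 1, nat_lit 2, nat_lit 0, nat_lit 2, nat_lit 1, nat_lit 0, nat_lit 1])) (.node (nat_lit 2268) (.leaf (nat_lit 2236) (nat_lit 1) [nat_lit 2, nat_lit 0, nat_lit 2, nat_lit 1, nat_lit 0, nat_lit 1, nat_lit 2, nat_lit 0, nat_lit 2, nat_lit 1, nat_lit 0, nat_lit 1, nat_lit 2, nat_lit 0, nat_lit 2, nat_lit 1, nat_lit 0]) (.node (nat_lit 2269) (.leaf (nat_lit 2268) (nat_lit 1) [nat_lit 0, nat_lit 1, nat_lit 2, nat_lit 1, nat_lit 2, nat_lit 1, nat_lit 0, nat_lit 1, nat_lit 2, nat_lit 1, nat_lit 2, nat_lit 1, nat_lit 0, nat_lit 1, nat_lit 2, nat_lit 1, nat_lit 2]) (.leaf (nat_lit 2269) (nat_lit 2) [nat_lit 1, nat_lit 0, nat_lit 1, nat_lit 2, nat_lit 1, nat_lit 2, nat_lit 1, nat_lit 0, nat_lit 1, nat_lit 2, nat_lit 1, nat_lit 2, nat_lit 1, nat_lit 0, nat_lit 1, nat_lit 2, nat_lit 1]))))) (.node (nat_lit 2274) (.node (nat_lit 2272) (.node (nat_lit 2271) (.leaf (nat_lit 2270) (nat_lit 1) [nat_lit 2, nat_lit 1, nat_lit 0, nat_lit 1, nat_lit 2, nat_lit 1, nat_lit 2, nat_lit 1, nat_lit 0, nat_lit 1, nat_lit 2, nat_lit 1, nat_lit 2, nat_lit 1, nat_lit 0, nat_lit 1, nat_lit 2]) (.leaf (nat_lit 2271) (nat_lit 2) [nat_lit 1, nat_lit 2, nat_lit 1, nat_lit 0, nat_lit 1, nat_lit 2, nat_lit 1, nat_lit 2, nat_lit 1, nat_lit 0, nat_lit 1, nat_lit 2, nat_lit 1, nat_lit 2, nat_lit 1, nat_lit 0, nat_lit 1])) (.node (nat_lit 2273) (.leaf (nat_lit 2272) (nat_lit 1) [nat_lit 2, nat_lit 1, nat_lit 2, nat_lit 1, nat_lit 0, nat_lit 1, nat_lit 2, nat_lit 1, nat_lit 2, nat_lit 1, nat_lit 0, nat_lit 1, nat_lit 2, nat_lit 1, nat_lit 2, nat_lit 1, nat_lit 0]) (.leaf (nat_lit 2273) (nat_lit 0) [nat_lit 1, nat_lit 2, nat_lit 1, nat_lit 2, nat_lit 1, nat_lit 0, nat_lit 1, nat_lit 2, nat_lit 1, nat_lit 2, nat_lit 1, nat_lit 0, nat_lit 1, nat_lit 2, nat_lit 1, nat_lit 2, nat_lit 1]))) (.node (nat_lit 2276) (.node (nat_lit 2275) (.leaf (nat_lit 2268) (nat_lit 1) [nat_lit 0, nat_lit 1, nat_lit 2, nat_lit 1, nat_lit 2, nat_lit 1, nat_lit 0, nat_lit 1, nat_lit 2, nat_lit 1, nat_lit 2, nat_lit 1, nat_lit 0, nat_lit 1, nat_lit 2, nat_lit 1, nat_lit 2]) (.leaf (nat_lit 2269) (nat_lit 2) [nat_lit 1, nat_lit 0, nat_lit 1, nat_lit 2, nat_lit 1, nat_lit 2, nat_lit 1, nat_lit 0, nat_lit 1, nat_lit 2, nat_lit 1, nat_lit 2, nat_lit 1, nat_lit 0, nat_lit 1, nat_lit 2, nat_lit 1])) (.node (nat_lit 2277) (.leaf (nat_lit 2270) (nat_lit 1) [nat_lit 2, nat_lit 1, nat_lit 0, nat_lit 1, nat_lit 2, nat_lit 1, nat_lit 2, nat_lit 1, nat_lit 0, nat_lit 1, nat_lit 2, nat_lit 1, nat_lit 2, nat_lit 1, nat_lit 0, nat_lit 1, nat_lit 2]) (.node (nat_lit 2278) (.leaf (nat_lit 2271) (nat_lit 2) [nat_lit 1, nat_lit 2, nat_lit 1, nat_lit 0, nat_lit 1, nat_lit 2, nat_lit 1, nat_lit 2, nat_lit 1, nat_lit 0, nat_lit 1, nat_lit 2, nat_lit 1, nat_lit 2, nat_lit 1, nat_lit 0, nat_lit 1]) (.leaf (nat_lit 2272) (nat_lit 1) [nat_lit 2, nat_lit 1, nat_lit 2, nat_lit 1, nat_lit 0, nat_lit 1, nat_lit 2, nat_lit 1, nat_lit 2, nat_lit 1, nat_lit 0, nat_lit 1, nat_lit 2, nat_lit 1, nat_lit 2, nat_lit 1, nat_lit 0])))))) (.node (nat_lit 2288) (.node (nat_lit 2283) (.node (nat_lit 2281) (.node (nat_lit 2280) (.leaf (nat_lit 2273) (nat_lit 0) [nat_lit 1, nat_lit 2, nat_lit 1, nat_lit 2, nat_lit 1, nat_lit 0, nat_lit 1, nat_lit 2, nat_lit 1, nat_lit 2, nat_lit 1, nat_lit 0, nat_lit 1, nat_lit 2, nat_lit 1, nat_lit 2, nat_lit 1]) (.leaf (nat_lit 2268) (nat_lit 1) [nat_lit 0, nat_lit 1, nat_lit 2, nat_lit 1, nat_lit 2, nat_lit 1, nat_lit 0, nat_lit 1, nat_lit 2, nat_lit 1, nat_lit 2, nat_lit 1, nat_lit 0, nat_lit 1, nat_lit 2, nat_lit 1, nat_lit 2])) (.node (nat_lit 2282) (.leaf (nat_lit 2269) (nat_lit 2) [nat_lit 1, nat_lit 0, nat_lit 1, nat_lit 2, nat_lit 1, nat_lit 2, nat_lit 1, nat_lit 0, nat_lit 1, nat_lit 2, nat_lit 1, nat_lit 2, nat_lit 1, nat_lit 0, nat_lit 1, nat_lit 2, nat_lit 1]) (.leaf (nat_lit 2270) (nat_lit 1) [nat_lit 2, nat_lit 1, nat_lit 0, nat_lit 1, nat_lit 2, nat_lit 1, nat_lit 2, nat_lit 1, nat_lit 0, nat_lit 1, nat_lit 2, nat_lit 1, nat_lit 2, nat_lit 1, nat_lit 0, nat_lit 1, nat_lit 2]))) (.node (nat_lit 2285) (.node (nat_lit 2284) (.leaf (nat_lit 2271) (nat_lit 2) [nat_lit 1, nat_lit 2, nat_lit 1, nat_lit 0, nat_lit 1, nat_lit 2, nat_lit 1, nat_lit 2, nat_lit 1, nat_lit 0, nat_lit 1, nat_lit 2, nat_lit 1, nat_lit 2, nat_lit 1, nat_lit 0, nat_lit 1]) (.leaf (nat_lit 2272) (nat_lit 1) [nat_lit 2, nat_lit 1, nat_lit 2, nat_lit 1, nat_lit 0, nat_lit 1, nat_lit 2, nat_lit 1, nat_lit 2, nat_lit 1, nat_lit 0, nat_lit 1, nat_lit 2, nat_lit 1, nat_lit 2, nat_lit 1, nat_lit 0])) (.node (nat_lit 2286) (.leaf (nat_lit 2273) (nat_lit 0) [nat_lit 1, nat_lit 2, nat_lit 1, nat_lit 2, nat_lit 1, nat_lit 0, nat_lit 1, nat_lit 2, nat_lit 1, nat_lit 2, nat_lit 1, nat_lit 0, nat_lit 1, nat_lit 2, nat_lit 1, nat_lit 2, nat_lit 1]) (.node (nat_lit 2287) (.leaf (nat_lit 2273) (nat_lit 0) [nat_lit 1, nat_lit 2, nat_lit 1, nat_lit 2, nat_lit 1, nat_lit 0, nat_lit 1, nat_lit 2, nat_lit 1, nat_lit 2, nat_lit 1, nat_lit 0, nat_lit 1, nat_lit 2, nat_lit 1, nat_lit 2, nat_lit 1]) (.leaf (nat_lit 2268) (nat_lit 1) [nat_lit 0, nat_lit 1, nat_lit 2, nat_lit 1, nat_lit 2, nat_lit 1, nat_lit 0, nat_lit 1, nat_lit 2, nat_lit 1, nat_lit 2, nat_lit 1, nat_lit 0, nat_lit 1, nat_lit 2, nat_lit 1, nat_lit 2]))))) (.node (nat_lit 2293) (.node (nat_lit 2290) (.node (nat_lit 2289) (.leaf (nat_lit 2269) (nat_lit 2) [nat_lit 1, nat_lit 0, nat_lit 1, nat_lit 2, nat_lit 1, nat_lit 2, nat_lit 1, nat_lit 0, nat_lit 1, nat_lit 2, nat_lit 1, nat_lit 2, nat_lit 1, nat_lit 0, nat_lit 1, nat_lit 2, nat_lit 1]) (.leaf (nat_lit 2270) (nat_lit 1) [nat_lit 2, nat_lit 1, nat_lit 0, nat_lit 1, nat_lit 2, nat_lit 1, nat_lit 2, nat_lit 1, nat_lit 0, nat_lit 1, nat_lit 2, nat_lit 1, nat_lit 2, nat_lit 1, nat_lit 0, nat_lit 1, nat_lit 2])) (.node (nat_lit 2291) (.leaf (nat_lit 2271) (nat_lit 2) [nat_lit 1, nat_lit 2, nat_lit 1, nat_lit 0, nat_lit 1, nat_lit 2, nat_lit 1, nat_lit 2, nat_lit 1, nat_lit 0, nat_lit 1, nat_lit 2, nat_lit 1, nat_lit 2, nat_lit 1, nat_lit 0, nat_lit 1]) (.node (nat_lit 2292) (.leaf (nat_lit 2272) (nat_lit 1) [nat_lit 2, nat_lit 1, nat_lit 2, nat_lit 1, nat_lit 0, nat_lit 1, nat_lit 2, nat_lit 1, nat_lit 2, nat_lit 1, nat_lit 0, nat_lit 1, nat_lit 2, nat_lit 1, nat_lit 2, nat_lit 1, nat_lit 0]) (.leaf (nat_lit 2273) (nat_lit 0) [nat_lit 1, nat_lit 2, nat_lit 1, nat_lit 2, nat_lit 1, nat_lit 0, nat_lit 1, nat_lit 2, nat_lit 1, nat_lit 2, nat_lit 1, nat_lit 0, nat_lit 1, nat_lit 2, nat_lit 1, nat_lit 2, nat_lit 1])))) (.node (nat_lit 2295) (.node (nat_lit 2294) (.leaf (nat_lit 2268) (nat_lit 1) [nat_lit 0, nat_lit 1, nat_lit 2, nat_lit 1, nat_lit 2, nat_lit 1, nat_lit 0, nat_lit 1, nat_lit 2, nat_lit 1, nat_lit 2, nat_lit 1, nat_lit 0, nat_lit 1, nat_lit 2, nat_lit 1, nat_lit 2]) (.leaf (nat_lit 2269) (nat_lit 2) [nat_lit 1, nat_lit 0, nat_lit 1, nat_lit 2, nat_lit 1, nat_lit 2, nat_lit 1, nat_lit 0, nat_lit 1, nat_lit 2, nat_lit 1, nat_lit 2, nat_lit 1, nat_lit 0, nat_lit 1, nat_lit 2, nat_lit 1])) (.node (nat_lit 2296) (.leaf (nat_lit 2270) (nat_lit 1) [nat_lit 2, nat_lit 1, nat_lit 0, nat_lit 1, nat_lit 2, nat_lit 1, nat_lit 2, nat_lit 1, nat_lit 0, nat_lit 1, nat_lit 2, nat_lit 1, nat_lit 2, nat_lit 1, nat_lit 0, nat_lit 1, nat_lit 2]) (.node (nat_lit 2297) (.leaf (nat_lit 2271) (nat_lit 2) [nat_lit 1, nat_lit 2, nat_lit 1, nat_lit 0, nat_lit 1, nat_lit 2, nat_lit 1, nat_lit 2, nat_lit 1, nat_lit 0, nat_lit 1, nat_lit 2, nat_lit 1, nat_lit 2, nat_lit 1, nat_lit 0, nat_lit 1]) (.leaf (nat_lit 2272) (nat_lit 1) [nat_lit 2, nat_lit 1, nat_lit 2, nat_lit 1, nat_lit 0, nat_lit 1, nat_lit 2, nat_lit 1, nat_lit 2, nat_lit 1, nat_lit 0, nat_lit 1, nat_lit 2, nat_lit 1, nat_lit 2, nat_lit 1, nat_lit 0]))))))) (.node (nat_lit 2317) (.node (nat_lit 2307) (.node (nat_lit 2302) (.node (nat_lit 2300) (.node (nat_lit 2299) (.leaf (nat_lit 2273) (nat_lit 0) [nat_lit 1, nat_lit 2, nat_lit 1, nat_lit 2, nat_lit 1, nat_lit 0, nat_lit 1, nat_lit 2, nat_lit 1, nat_lit 2, nat_lit 1, nat_lit 0, nat_lit 1, nat_lit 2, nat_lit 1, nat_lit 2, nat_lit 1]) (.leaf (nat_lit 2268) (nat_lit 1) [nat_lit 0, nat_lit 1, nat_lit 2, nat_lit 1, nat_lit 2, nat_lit 1, nat_lit 0, nat_lit 1, nat_lit 2, nat_lit 1, nat_lit 2, nat_lit 1, nat_lit 0, nat_lit 1, nat_lit 2, nat_lit 1, nat_lit 2])) (.node (nat_lit 2301) (.leaf (nat_lit 2269) (nat_lit 2) [nat_lit 1, nat_lit 0, nat_lit 1, nat_lit 2, nat_lit 1, nat_lit 2, nat_lit 1, nat_lit 0, nat_lit 1, nat_lit 2, nat_lit 1, nat_lit 2, nat_lit 1, nat_lit 0, nat_lit 1, nat_lit 2, nat_lit 1]) (.leaf (nat_lit 2270) (nat_lit 1) [nat_lit 2, nat_lit 1, nat_lit 0, nat_lit 1, nat_lit 2, nat_lit 1, nat_lit 2, nat_lit 1, nat_lit 0, nat_lit 1, nat_lit 2, nat_lit 1, nat_lit 2, nat_lit 1, nat_lit 0, nat_lit 1, nat_lit 2]))) (.node (nat_lit 2304) (.node (nat_lit 2303) (.leaf (nat_lit 2271) (nat_lit 2) [nat_lit 1, nat_lit 2, nat_lit 1, nat_lit 0, nat_lit 1, nat_lit 2, nat_lit 1, nat_lit 2, nat_lit 1, nat_lit 0, nat_lit 1, nat_lit 2, nat_lit 1, nat_lit 2, nat_lit 1, nat_lit 0, nat_lit 1]) (.leaf (nat_lit 2272) (nat_lit 1) [nat_lit 2, nat_lit 1, nat_lit 2, nat_lit 1, nat_lit 0, nat_lit 1, nat_lit 2, nat_lit 1, nat_lit 2, nat_lit 1, nat_lit 0, nat_lit 1, nat_lit 2, nat_lit 1, nat_lit 2, nat_lit 1, nat_lit 0])) (.node (nat_lit 2305) (.leaf (nat_lit 2304) (nat_lit 1) [nat_lit 0, nat_lit 1, nat_lit 2, nat_lit 3, nat_lit 2, nat_lit 1, nat_lit 0, nat_lit 1, nat_lit 2, nat_lit 3, nat_lit 2, nat_lit 1, nat_lit 0, nat_lit 1, nat_lit 2, nat_lit 3, nat_lit 2]) (.node (nat_lit 2306) (.leaf (nat_lit 2305) (nat_lit 2) [nat_lit 1, nat_lit 0, nat_lit 1, nat_lit 2, nat_lit 3, nat_lit 2, nat_lit 1, nat_lit 0, nat_lit 1, nat_lit 2, nat_lit 3, nat_lit 2, nat_lit 1, nat_lit 0, nat_lit 1, nat_lit 2, nat_lit 3]) (.leaf (nat_lit 2306) (nat_lit 3) [nat_lit 2, nat_lit 1, nat_lit 0, nat_lit 1, nat_lit 2, nat_lit 3, nat_lit 2, nat_lit 1, nat_lit 0, nat_lit 1, nat_lit 2, nat_lit 3, nat_lit 2, nat_lit 1, nat_lit 0, nat_lit 1, nat_lit 2]))))) (.node (nat_lit 2312) (.node (nat_lit 2309) (.node (nat_lit 2308) (.leaf (nat_lit 2307) (nat_lit 2) [nat_lit 3, nat_lit 2, nat_lit 1, nat_lit 0, nat_lit 1, nat_lit 2, nat_lit 3, nat_lit 2, nat_lit 1, nat_lit 0, nat_lit 1, nat_lit 2, nat_lit 3, nat_lit 2, nat_lit 1, nat_lit 0, nat_lit 1]) (.leaf (nat_lit 2308) (nat_lit 1) [nat_lit 2, nat_lit 3, nat_lit 2, nat_lit 1, nat_lit 0, nat_lit 1, nat_lit 2, nat_lit 3, nat_lit 2, nat_lit 1, nat_lit 0, nat_lit 1, nat_lit 2, nat_lit 3, nat_lit 2, nat_lit 1, nat_lit 0])) (.node (nat_lit 2310) (.leaf (nat_lit 2309) (nat_lit 0) [nat_lit 1, nat_lit 2, nat_lit 3, nat_lit 2, nat_lit 1, nat_lit 0, nat_lit 1, nat_lit 2, nat_lit 3, nat_lit 2, nat_lit 1, nat_lit 0, nat_lit 1, nat_lit 2, nat_lit 3, nat_lit 2, nat_lit 1]) (.node (nat_lit 2311) (.leaf (nat_lit 2304) (nat_lit 1) [nat_lit 0, nat_lit 1, nat_lit 2, nat_lit 3, nat_lit 2, nat_lit 1, nat_lit 0, nat_lit 1, nat_lit 2, nat_lit 3, nat_lit 2, nat_lit 1, nat_lit 0, nat_lit 1, nat_lit 2, nat_lit 3, nat_lit 2]) (.leaf (nat_lit 2305) (nat_lit 2) [nat_lit 1, nat_lit 0, nat_lit 1, nat_lit 2, nat_lit 3, nat_lit 2, nat_lit 1, nat_lit 0, nat_lit 1, nat_lit 2, nat_lit 3, nat_lit 2, nat_lit 1, nat_lit 0, nat_lit 1, nat_lit 2, nat_lit 3])))) (.node (nat_lit 2314) (.node (nat_lit 2313) (.leaf (nat_lit 2306) (nat_lit 3) [nat_lit 2, nat_lit 1, nat_lit 0, nat_lit 1, nat_lit 2, nat_lit 3, nat_lit 2, nat_lit 1, nat_lit 0, nat_lit 1, nat_lit 2, nat_lit 3, nat_lit 2, nat_lit 1, nat_lit 0, nat_lit 1, nat_lit 2]) (.leaf (nat_lit 2307) (nat_lit 2) [nat_lit 3, nat_lit 2, nat_lit 1, nat_lit 0, nat_lit 1, nat_lit 2, nat_lit 3, nat_lit 2, nat_lit 1, nat_lit 0, nat_lit 1, nat_lit 2, nat_lit 3, nat_lit 2, nat_lit 1, nat_lit 0, nat_lit 1])) (.node (nat_lit 2315) (.leaf (nat_lit 2308) (nat_lit 1) [nat_lit 2, nat_lit 3, nat_lit 2, nat_lit 1, nat_lit 0, nat_lit 1, nat_lit 2, nat_lit 3, nat_lit 2, nat_lit 1, nat_lit 0, nat_lit 1, nat_lit 2, nat_lit 3, nat_lit 2, nat_lit 1, nat_lit 0]) (.node (nat_lit 2316) (.leaf (nat_lit 2309) (nat_lit 0) [nat_lit 1, nat_lit 2, nat_lit 3, nat_lit 2, nat_lit 1, nat_lit 0, nat_lit 1, nat_lit 2, nat_lit 3, nat_lit 2, nat_lit 1, nat_lit 0, nat_lit 1, nat_lit 2, nat_lit 3, nat_lit 2, nat_lit 1]) (.leaf (nat_lit 2304) (nat_lit 1) [nat_lit 0, nat_lit 1, nat_lit 2, nat_lit 3, nat_lit 2, nat_lit 1, nat_lit 0, nat_lit 1, nat_lit 2, nat_lit 3, nat_lit 2, nat_lit 1, nat_lit 0, nat_lit 1, nat_lit 2, nat_lit 3, nat_lit 2])))))) (.node (nat_lit 2326) (.node (nat_lit 2321) (.node (nat_lit 2319) (.node (nat_lit 2318) (.leaf (nat_lit 2305) (nat_lit 2) [nat_lit 1, nat_lit 0, nat_lit 1, nat_lit 2, nat_lit 3, nat_lit 2, nat_lit 1, nat_lit 0, nat_lit 1, nat_lit 2, nat_lit 3, nat_lit 2, nat_lit 1, nat_lit 0, nat_lit 1, nat_lit 2, nat_lit 3]) (.leaf (nat_lit 2306) (nat_lit 3) [nat_lit 2, nat_lit 1, nat_lit 0, nat_lit 1, nat_lit 2, nat_lit 3, nat_lit 2, nat_lit 1, nat_lit 0, nat_lit 1, nat_lit 2, nat_lit 3, nat_lit 2, nat_lit 1, nat_lit 0, nat_lit 1, nat_lit 2])) (.node (nat_lit 2320) (.leaf (nat_lit 2307) (nat_lit 2) [nat_lit 3, nat_lit 2, nat_lit 1, nat_lit 0, nat_lit 1, nat_lit 2, nat_lit 3, nat_lit 2, nat_lit 1, nat_lit 0, nat_lit 1, nat_lit 2, nat_lit 3, nat_lit 2, nat_lit 1, nat_lit 0, nat_lit 1]) (.leaf (nat_lit 2308) (nat_lit 1) [nat_lit 2, nat_lit 3, nat_lit 2, nat_lit 1, nat_lit 0, nat_lit 1, nat_lit 2, nat_lit 3, nat_lit 2, nat_lit 1, nat_lit 0, nat_lit 1, nat_lit 2, nat_lit 3, nat_lit 2, nat_lit 1, nat_lit 0]))) (.node (nat_lit 2323) (.node (nat_lit 2322) (.leaf (nat_lit 2309) (nat_lit 0) [nat_lit 1, nat_lit 2, nat_lit 3, nat_lit 2, nat_lit 1, nat_lit 0, nat_lit 1, nat_lit 2, nat_lit 3, nat_lit 2, nat_lit 1, nat_lit 0, nat_lit 1, nat_lit 2, nat_lit 3, nat_lit 2, nat_lit 1]) (.leaf (nat_lit 2309) (nat_lit 0) [nat_lit 1, nat_lit 2, nat_lit 3, nat_lit 2, nat_lit 1, nat_lit 0, nat_lit 1, nat_lit 2, nat_lit 3, nat_lit 2, nat_lit 1, nat_lit 0, nat_lit 1, nat_lit 2, nat_lit 3, nat_lit 2, nat_lit 1])) (.node (nat_lit 2324) (.leaf (nat_lit 2304) (nat_lit 1) [nat_lit 0, nat_lit 1, nat_lit 2, nat_lit 3, nat_lit 2, nat_lit 1, nat_lit 0, nat_lit 1, nat_lit 2, nat_lit 3, nat_lit 2, nat_lit 1, nat_lit 0, nat_lit 1, nat_lit 2, nat_lit 3, nat_lit 2]) (.node (nat_lit 2325) (.leaf (nat_lit 2305) (nat_lit 2) [nat_lit 1, nat_lit 0, nat_lit 1, nat_lit 2, nat_lit 3, nat_lit 2, nat_lit 1, nat_lit 0, nat_lit 1, nat_lit 2, nat_lit 3, nat_lit 2, nat_lit 1, nat_lit 0, nat_lit 1, nat_lit 2, nat_lit 3]) (.leaf (nat_lit 2306) (nat_lit 3) [nat_lit 2, nat_lit 1, nat_lit 0, nat_lit 1, nat_lit 2, nat_lit 3, nat_lit 2, nat_lit 1, nat_lit 0, nat_lit 1, nat_lit 2, nat_lit 3, nat_lit 2, nat_lit 1, nat_lit 0, nat_lit 1, nat_lit 2]))))) (.node (nat_lit 2331) (.node (nat_lit 2328) (.node (nat_lit 2327) (.leaf (nat_lit 2307) (nat_lit 2) [nat_lit 3, nat_lit 2, nat_lit 1, nat_lit 0, nat_lit 1, nat_lit 2, nat_lit 3, nat_lit 2, nat_lit 1, nat_lit 0, nat_lit 1, nat_lit 2, nat_lit 3, nat_lit 2, nat_lit 1, nat_lit 0, nat_lit 1]) (.leaf (nat_lit 2308) (nat_lit 1) [nat_lit 2, nat_lit 3, nat_lit 2, nat_lit 1, nat_lit 0, nat_lit 1, nat_lit 2, nat_lit 3, nat_lit 2, nat_lit 1, nat_lit 0, nat_lit 1, nat_lit 2, nat_lit 3, nat_lit 2, nat_lit 1, nat_lit 0])) (.node (nat_lit 2329) (.leaf (nat_lit 2309) (nat_lit 0) [nat_lit 1, nat_lit 2, nat_lit 3, nat_lit 2, nat_lit 1, nat_lit 0, nat_lit 1, nat_lit 2, nat_lit 3, nat_lit 2, nat_lit 1, nat_lit 0, nat_lit 1, nat_lit 2, nat_lit 3, nat_lit 2, nat_lit 1]) (.node (nat_lit 2330) (.leaf (nat_lit 2304) (nat_lit 1) [nat_lit 0, nat_lit 1, nat_lit 2, nat_lit 3, nat_lit 2, nat_lit 1, nat_lit 0, nat_lit 1, nat_lit 2, nat_lit 3, nat_lit 2, nat_lit 1, nat_lit 0, nat_lit 1, nat_lit 2, nat_lit 3, nat_lit 2]) (.leaf (nat_lit 2305) (nat_lit 2) [nat_lit 1, nat_lit 0, nat_lit 1, nat_lit 2, nat_lit 3, nat_lit 2, nat_lit 1, nat_lit 0, nat_lit 1, nat_lit 2, nat_lit 3, nat_lit 2, nat_lit 1, nat_lit 0, nat_lit 1, nat_lit 2, nat_lit 3])))) (.node (nat_lit 2333) (.node (nat_lit 2332) (.leaf (nat_lit 2306) (nat_lit 3) [nat_lit 2, nat_lit 1, nat_lit 0, nat_lit 1, nat_lit 2, nat_lit 3, nat_lit 2, nat_lit 1, nat_lit 0, nat_lit 1, nat_lit 2, nat_lit 3, nat_lit 2, nat_lit 1, nat_lit 0, nat_lit 1, nat_lit 2]) (.leaf (nat_lit 2307) (nat_lit 2) [nat_lit 3, nat_lit 2, nat_lit 1, nat_lit 0, nat_lit 1, nat_lit 2, nat_lit 3, nat_lit 2, nat_lit 1, nat_lit 0, nat_lit 1, nat_lit 2, nat_lit 3, nat_lit 2, nat_lit 1, nat_lit 0, nat_lit 1])) (.node (nat_lit 2334) (.leaf (nat_lit 2308) (nat_lit 1) [nat_lit 2, nat_lit 3, nat_lit 2, nat_lit 1, nat_lit 0, nat_lit 1, nat_lit 2, nat_lit 3, nat_lit 2, nat_lit 1, nat_lit 0, nat_lit 1, nat_lit 2, nat_lit 3, nat_lit 2, nat_lit 1, nat_lit 0]) (.node (nat_lit 2335) (.leaf (nat_lit 2309) (nat_lit 0) [nat_lit 1, nat_lit 2, nat_lit 3, nat_lit 2, nat_lit 1, nat_lit 0, nat_lit 1, nat_lit 2, nat_lit 3, nat_lit 2, nat_lit 1, nat_lit 0, nat_lit 1, nat_lit 2, nat_lit 3, nat_lit 2, nat_lit 1]) (.leaf (nat_lit 2304) (nat_lit 1) [nat_lit 0, nat_lit 1, nat_lit 2, nat_lit 3, nat_lit 2, nat_lit 1, nat_lit 0, nat_lit 1, nat_lit 2, nat_lit 3, nat_lit 2, nat_lit 1, nat_lit 0, nat_lit 1, nat_lit 2, nat_lit 3, nat_lit 2])))))))) (.node (nat_lit 2374) (.node (nat_lit 2355) (.node (nat_lit 2345) (.node (nat_lit 2340) (.node (nat_lit 2338) (.node (nat_lit 2337) (.leaf (nat_lit 2305) (nat_lit 2) [nat_lit 1, nat_lit 0, nat_lit 1, nat_lit 2, nat_lit 3, nat_lit 2, nat_lit 1, nat_lit 0, nat_lit 1, nat_lit 2, nat_lit 3, nat_lit 2, nat_lit 1, nat_lit 0, nat_lit 1, nat_lit 2, nat_lit 3]) (.leaf (nat_lit 2306) (nat_lit 3) [nat_lit 2, nat_lit 1, nat_lit 0, nat_lit 1, nat_lit 2, nat_lit 3, nat_lit 2, nat_lit 1, nat_lit 0, nat_lit 1, nat_lit 2, nat_lit 3, nat_lit 2, nat_lit 1, nat_lit 0, nat_lit 1, nat_lit 2])) (.node (nat_lit 2339) (.leaf (nat_lit 2307) (nat_lit 2) [nat_lit 3, nat_lit 2, nat_lit 1, nat_lit 0, nat_lit 1, nat_lit 2, nat_lit 3, nat_lit 2, nat_lit 1, nat_lit 0, nat_lit 1, nat_lit 2, nat_lit 3, nat_lit 2, nat_lit 1, nat_lit 0, nat_lit 1]) (.leaf (nat_lit 2308) (nat_lit 1) [nat_lit 2, nat_lit 3, nat_lit 2, nat_lit 1, nat_lit 0, nat_lit 1, nat_lit 2, nat_lit 3, nat_lit 2, nat_lit 1, nat_lit 0, nat_lit 1, nat_lit 2, nat_lit 3, nat_lit 2, nat_lit 1, nat_lit 0]))) (.node (nat_lit 2342) (.node (nat_lit 2341) (.leaf (nat_lit 2340) (nat_lit 1) [nat_lit 2, nat_lit 1, nat_lit 2, nat_lit 0, nat_lit 2, nat_lit 1, nat_lit 2, nat_lit 1, nat_lit 2, nat_lit 0, nat_lit 2, nat_lit 1, nat_lit 2, nat_lit 1, nat_lit 2, nat_lit 0, nat_lit 2]) (.leaf (nat_lit 2341) (nat_lit 2) [nat_lit 1, nat_lit 2, nat_lit 1, nat_lit 2, nat_lit 0, nat_lit 2, nat_lit 1, nat_lit 2, nat_lit 1, nat_lit 2, nat_lit 0, nat_lit 2, nat_lit 1, nat_lit 2, nat_lit 1, nat_lit 2, nat_lit 0])) (.node (nat_lit 2343) (.leaf (nat_lit 2342) (nat_lit 0) [nat_lit 2, nat_lit 1, nat_lit 2, nat_lit 1, nat_lit 2, nat_lit 0, nat_lit 2, nat_lit 1, nat_lit 2, nat_lit 1, nat_lit 2, nat_lit 0, nat_lit 2, nat_lit 1, nat_lit 2, nat_lit 1, nat_lit 2]) (.node (nat_lit 2344) (.leaf (nat_lit 2343) (nat_lit 2) [nat_lit 0, nat_lit 2, nat_lit 1, nat_lit 2, nat_lit 1, nat_lit 2, nat_lit 0, nat_lit 2, nat_lit 1, nat_lit 2, nat_lit 1, nat_lit 2, nat_lit 0, nat_lit 2, nat_lit 1, nat_lit 2, nat_lit 1]) (.leaf (nat_lit 2344) (nat_lit 1) [nat_lit 2, nat_lit 0, nat_lit 2, nat_lit 1, nat_lit 2, nat_lit 1, nat_lit 2, nat_lit 0, nat_lit 2, nat_lit 1, nat_lit 2, nat_lit 1, nat_lit 2, nat_lit 0, nat_lit 2, nat_lit 1, nat_lit 2]))))) (.node (nat_lit 2350) (.node (nat_lit 2347) (.node (nat_lit 2346) (.leaf (nat_lit 2345) (nat_lit 2) [nat_lit 1, nat_lit 2, nat_lit 0, nat_lit 2, nat_lit 1, nat_lit 2, nat_lit 1, nat_lit 2, nat_lit 0, nat_lit 2, nat_lit 1, nat_lit 2, nat_lit 1, nat_lit 2, nat_lit 0, nat_lit 2, nat_lit 1]) (.leaf (nat_lit 2340) (nat_lit 1) [nat_lit 2, nat_lit 1, nat_lit 2, nat_lit 0, nat_lit 2, nat_lit 1, nat_lit 2, nat_lit 1, nat_lit 2, nat_lit 0, nat_lit 2, nat_lit 1, nat_lit 2, nat_lit 1, nat_lit 2, nat_lit 0, nat_lit 2])) (.node (nat_lit 2348) (.leaf (nat_lit 2341) (nat_lit 2) [nat_lit 1, nat_lit 2, nat_lit 1, nat_lit 2, nat_lit 0, nat_lit 2, nat_lit 1, nat_lit 2, nat_lit 1, nat_lit 2, nat_lit 0, nat_lit 2, nat_lit 1, nat_lit 2, nat_lit 1, nat_lit 2, nat_lit 0]) (.node (nat_lit 2349) (.leaf (nat_lit 2342) (nat_lit 0) [nat_lit 2, nat_lit 1, nat_lit 2, nat_lit 1, nat_lit 2, nat_lit 0, nat_lit 2, nat_lit 1, nat_lit 2, nat_lit 1, nat_lit 2, nat_lit 0, nat_lit 2, nat_lit 1, nat_lit 2, nat_lit 1, nat_lit 2]) (.leaf (nat_lit 2343) (nat_lit 2) [nat_lit 0, nat_lit 2, nat_lit 1, nat_lit 2, nat_lit 1, nat_lit 2, nat_lit 0, nat_lit 2, nat_lit 1, nat_lit 2, nat_lit 1, nat_lit 2, nat_lit 0, nat_lit 2, nat_lit 1, nat_lit 2, nat_lit 1])))) (.node (nat_lit 2352) (.node (nat_lit 2351) (.leaf (nat_lit 2344) (nat_lit 1) [nat_lit 2, nat_lit 0, nat_lit 2, nat_lit 1, nat_lit 2, nat_lit 1, nat_lit 2, nat_lit 0, nat_lit 2, nat_lit 1, nat_lit 2, nat_lit 1, nat_lit 2, nat_lit 0, nat_lit 2, nat_lit 1, nat_lit 2]) (.leaf (nat_lit 2345) (nat_lit 2) [nat_lit 1, nat_lit 2, nat_lit 0, nat_lit 2, nat_lit 1, nat_lit 2, nat_lit 1, nat_lit 2, nat_lit 0, nat_lit 2, nat_lit 1, nat_lit 2, nat_lit 1, nat_lit 2, nat_lit 0, nat_lit 2, nat_lit 1])) (.node (nat_lit 2353) (.leaf (nat_lit 2340) (nat_lit 1) [nat_lit 2, nat_lit 1, nat_lit 2, nat_lit 0, nat_lit 2, nat_lit 1, nat_lit 2, nat_lit 1, nat_lit 2, nat_lit 0, nat_lit 2, nat_lit 1, nat_lit 2, nat_lit 1, nat_lit 2, nat_lit 0, nat_lit 2]) (.node (nat_lit 2354) (.leaf (nat_lit 2341) (nat_lit 2) [nat_lit 1, nat_lit 2, nat_lit 1, nat_lit 2, nat_lit 0, nat_lit 2, nat_lit 1, nat_lit 2, nat_lit 1, nat_lit 2, nat_lit 0, nat_lit 2, nat_lit 1, nat_lit 2, nat_lit 1, nat_lit 2, nat_lit 0]) (.leaf (nat_lit 2342) (nat_lit 0) [nat_lit 2, nat_lit 1, nat_lit 2, nat_lit 1, nat_lit 2, nat_lit 0, nat_lit 2, nat_lit 1, nat_lit 2, nat_lit 1, nat_lit 2, nat_lit 0, nat_lit 2, nat_lit 1, nat_lit 2, nat_lit 1, nat_lit 2])))))) (.node (nat_lit 2364) (.node (nat_lit 2359) (.node (nat_lit 2357) (.node (nat_lit 2356) (.leaf (nat_lit 2343) (nat_lit 2) [nat_lit 0, nat_lit 2, nat_lit 1, nat_lit 2, nat_lit 1, nat_lit 2, nat_lit 0, nat_lit 2, nat_lit 1, nat_lit 2, nat_lit 1, nat_lit 2, nat_lit 0, nat_lit 2, nat_lit 1, nat_lit 2, nat_lit 1]) (.leaf (nat_lit 2344) (nat_lit 1) [nat_lit 2, nat_lit 0, nat_lit 2, nat_lit 1, nat_lit 2, nat_lit 1, nat_lit 2, nat_lit 0, nat_lit 2, nat_lit 1, nat_lit 2, nat_lit 1, nat_lit 2, nat_lit 0, nat_lit 2, nat_lit 1, nat_lit 2])) (.node (nat_lit 2358) (.leaf (nat_lit 2345) (nat_lit 2) [nat_lit 1, nat_lit 2, nat_lit 0, nat_lit 2, nat_lit 1, nat_lit 2, nat_lit 1, nat_lit 2, nat_lit 0, nat_lit 2, nat_lit 1, nat_lit 2, nat_lit 1, nat_lit 2, nat_lit 0, nat_lit 2, nat_lit 1]) (.leaf (nat_lit 2345) (nat_lit 2) [nat_lit 1, nat_lit 2, nat_lit 0, nat_lit 2, nat_lit 1, nat_lit 2, nat_lit 1, nat_lit 2, nat_lit 0, nat_lit 2, nat_lit 1, nat_lit 2, nat_lit 1, nat_lit 2, nat_lit 0, nat_lit 2, nat_lit 1]))) (.node (nat_lit 2361) (.node (nat_lit 2360) (.leaf (nat_lit 2340) (nat_lit 1) [nat_lit 2, nat_lit 1, nat_lit 2, nat_lit 0, nat_lit 2, nat_lit 1, nat_lit 2, nat_lit 1, nat_lit 2, nat_lit 0, nat_lit 2, nat_lit 1, nat_lit 2, nat_lit 1, nat_lit 2, nat_lit 0, nat_lit 2]) (.leaf (nat_lit 2341) (nat_lit 2) [nat_lit 1, nat_lit 2, nat_lit 1, nat_lit 2, nat_lit 0, nat_lit 2, nat_lit 1, nat_lit 2, nat_lit 1, nat_lit 2, nat_lit 0, nat_lit 2, nat_lit 1, nat_lit 2, nat_lit 1, nat_lit 2, nat_lit 0])) (.node (nat_lit 2362) (.leaf (nat_lit 2342) (nat_lit 0) [nat_lit 2, nat_lit 1, nat_lit 2, nat_lit 1, nat_lit 2, nat_lit 0, nat_lit 2, nat_lit 1, nat_lit 2, nat_lit 1, nat_lit 2, nat_lit 0, nat_lit 2, nat_lit 1, nat_lit 2, nat_lit 1, nat_lit 2]) (.node (nat_lit 2363) (.leaf (nat_lit 2343) (nat_lit 2) [nat_lit 0, nat_lit 2, nat_lit 1, nat_lit 2, nat_lit 1, nat_lit 2, nat_lit 0, nat_lit 2, nat_lit 1, nat_lit 2, nat_lit 1, nat_lit 2, nat_lit 0, nat_lit 2, nat_lit 1, nat_lit 2, nat_lit 1]) (.leaf (nat_lit 2344) (nat_lit 1) [nat_lit 2, nat_lit 0, nat_lit 2, nat_lit 1, nat_lit 2, nat_lit 1, nat_lit 2, nat_lit 0, nat_lit 2, nat_lit 1, nat_lit 2, nat_lit 1, nat_lit 2, nat_lit 0, nat_lit 2, nat_lit 1, nat_lit 2]))))) (.node (nat_lit 2369) (.node (nat_lit 2366) (.node (nat_lit 2365) (.leaf (nat_lit 2345) (nat_lit 2) [nat_lit 1, nat_lit 2, nat_lit 0, nat_lit 2, nat_lit 1, nat_lit 2, nat_lit 1, nat_lit 2, nat_lit 0, nat_lit 2, nat_lit 1, nat_lit 2, nat_lit 1, nat_lit 2, nat_lit 0, nat_lit 2, nat_lit 1]) (.leaf (nat_lit 2340) (nat_lit 1) [nat_lit 2, nat_lit 1, nat_lit 2, nat_lit 0, nat_lit 2, nat_lit 1, nat_lit 2, nat_lit 1, nat_lit 2, nat_lit 0, nat_lit 2, nat_lit 1, nat_lit 2, nat_lit 1, nat_lit 2, nat_lit 0, nat_lit 2])) (.node (nat_lit 2367) (.leaf (nat_lit 2341) (nat_lit 2) [nat_lit 1, nat_lit 2, nat_lit 1, nat_lit 2, nat_lit 0, nat_lit 2, nat_lit 1, nat_lit 2, nat_lit 1, nat_lit 2, nat_lit 0, nat_lit 2, nat_lit 1, nat_lit 2, nat_lit 1, nat_lit 2, nat_lit 0]) (.node (nat_lit 2368) (.leaf (nat_lit 2342) (nat_lit 0) [nat_lit 2, nat_lit 1, nat_lit 2, nat_lit 1, nat_lit 2, nat_lit 0, nat_lit 2, nat_lit 1, nat_lit 2, nat_lit 1, nat_lit 2, nat_lit 0, nat_lit 2, nat_lit 1, nat_lit 2, nat_lit 1, nat_lit 2]) (.leaf (nat_lit 2343) (nat_lit 2) [nat_lit 0, nat_lit 2, nat_lit 1, nat_lit 2, nat_lit 1, nat_lit 2, nat_lit 0, nat_lit 2, nat_lit 1, nat_lit 2, nat_lit 1, nat_lit 2, nat_lit 0, nat_lit 2, nat_lit 1, nat_lit 2, nat_lit 1])))) (.node (nat_lit 2371) (.node (nat_lit 2370) (.leaf (nat_lit 2344) (nat_lit 1) [nat_lit 2, nat_lit 0, nat_lit 2, nat_lit 1, nat_lit 2, nat_lit 1, nat_lit 2, nat_lit 0, nat_lit 2, nat_lit 1, nat_lit 2, nat_lit 1, nat_lit 2, nat_lit 0, nat_lit 2, nat_lit 1, nat_lit 2]) (.leaf (nat_lit 2345) (nat_lit 2) [nat_lit 1, nat_lit 2, nat_lit 0, nat_lit 2, nat_lit 1, nat_lit 2, nat_lit 1, nat_lit 2, nat_lit 0, nat_lit 2, nat_lit 1, nat_lit 2, nat_lit 1, nat_lit 2, nat_lit 0, nat_lit 2, nat_lit 1])) (.node (nat_lit 2372) (.leaf (nat_lit 2340) (nat_lit 1) [nat_lit 2, nat_lit 1, nat_lit 2, nat_lit 0, nat_lit 2, nat_lit 1, nat_lit 2, nat_lit 1, nat_lit 2, nat_lit 0, nat_lit 2, nat_lit 1, nat_lit 2, nat_lit 1, nat_lit 2, nat_lit 0, nat_lit 2]) (.node (nat_lit 2373) (.leaf (nat_lit 2341) (nat_lit 2) [nat_lit 1, nat_lit 2, nat_lit 1, nat_lit 2, nat_lit 0, nat_lit 2, nat_lit 1, nat_lit 2, nat_lit 1, nat_lit 2, nat_lit 0, nat_lit 2, nat_lit 1, nat_lit 2, nat_lit 1, nat_lit 2, nat_lit 0]) (.leaf (nat_lit 2342) (nat_lit 0) [nat_lit 2, nat_lit 1, nat_lit 2, nat_lit 1, nat_lit 2, nat_lit 0, nat_lit 2, nat_lit 1, nat_lit 2, nat_lit 1, nat_lit 2, nat_lit 0, nat_lit 2, nat_lit 1, nat_lit 2, nat_lit 1, nat_lit 2]))))))) (.node (nat_lit 2393) (.node (nat_lit 2383) (.node (nat_lit 2378) (.node (nat_lit 2376) (.node (nat_lit 2375) (.leaf (nat_lit 2343) (nat_lit 2) [nat_lit 0, nat_lit 2, nat_lit 1, nat_lit 2, nat_lit 1, nat_lit 2, nat_lit 0, nat_lit 2, nat_lit 1, nat_lit 2, nat_lit 1, nat_lit 2, nat_lit 0, nat_lit 2, nat_lit 1, nat_lit 2, nat_lit 1]) (.leaf (nat_lit 2344) (nat_lit 1) [nat_lit 2, nat_lit 0, nat_lit 2, nat_lit 1, nat_lit 2, nat_lit 1, nat_lit 2, nat_lit 0, nat_lit 2, nat_lit 1, nat_lit 2, nat_lit 1, nat_lit 2, nat_lit 0, nat_lit 2, nat_lit 1, nat_lit 2])) (.node (nat_lit 2377) (.leaf (nat_lit 2376) (nat_lit 1) [nat_lit 2, nat_lit 1, nat_lit 2, nat_lit 1, nat_lit 2, nat_lit 1, nat_lit 2, nat_lit 1, nat_lit 2, nat_lit 1, nat_lit 2, nat_lit 1, nat_lit 2, nat_lit 1, nat_lit 2, nat_lit 1, nat_lit 2]) (.leaf (nat_lit 2377) (nat_lit 2) [nat_lit 1, nat_lit 2, nat_lit 1, nat_lit 2, nat_lit 1, nat_lit 2, nat_lit 1, nat_lit 2, nat_lit 1, nat_lit 2, nat_lit 1, nat_lit 2, nat_lit 1, nat_lit 2, nat_lit 1, nat_lit 2, nat_lit 1]))) (.node (nat_lit 2380) (.node (nat_lit 2379) (.leaf (nat_lit 2376) (nat_lit 1) [nat_lit 2, nat_lit 1, nat_lit 2, nat_lit 1, nat_lit 2, nat_lit 1, nat_lit 2, nat_lit 1, nat_lit 2, nat_lit 1, nat_lit 2, nat_lit 1, nat_lit 2, nat_lit 1, nat_lit 2, nat_lit 1, nat_lit 2]) (.leaf (nat_lit 2377) (nat_lit 2) [nat_lit 1, nat_lit 2, nat_lit 1, nat_lit 2, nat_lit 1, nat_lit 2, nat_lit 1, nat_lit 2, nat_lit 1, nat_lit 2, nat_lit 1, nat_lit 2, nat_lit 1, nat_lit 2, nat_lit 1, nat_lit 2, nat_lit 1])) (.node (nat_lit 2381) (.leaf (nat_lit 2376) (nat_lit 1) [nat_lit 2, nat_lit 1, nat_lit 2, nat_lit 1, nat_lit 2, nat_lit 1, nat_lit 2, nat_lit 1, nat_lit 2, nat_lit 1, nat_lit 2, nat_lit 1, nat_lit 2, nat_lit 1, nat_lit 2, nat_lit 1, nat_lit 2]) (.node (nat_lit 2382) (.leaf (nat_lit 2377) (nat_lit 2) [nat_lit 1, nat_lit 2, nat_lit 1, nat_lit 2, nat_lit 1, nat_lit 2, nat_lit 1, nat_lit 2, nat_lit 1, nat_lit 2, nat_lit 1, nat_lit 2, nat_lit 1, nat_lit 2, nat_lit 1, nat_lit 2, nat_lit 1]) (.leaf (nat_lit 2376) (nat_lit 1) [nat_lit 2, nat_lit 1, nat_lit 2, nat_lit 1, nat_lit 2, nat_lit 1, nat_lit 2, nat_lit 1, nat_lit 2, nat_lit 1, nat_lit 2, nat_lit 1, nat_lit 2, nat_lit 1, nat_lit 2, nat_lit 1, nat_lit 2]))))) (.node (nat_lit 2388) (.node (nat_lit 2385) (.node (nat_lit 2384) (.leaf (nat_lit 2377) (nat_lit 2) [nat_lit 1, nat_lit 2, nat_lit 1, nat_lit 2, nat_lit 1, nat_lit 2, nat_lit 1, nat_lit 2, nat_lit 1, nat_lit 2, nat_lit 1, nat_lit 2, nat_lit 1, nat_lit 2, nat_lit 1, nat_lit 2, nat_lit 1]) (.leaf (nat_lit 2376) (nat_lit 1) [nat_lit 2, nat_lit 1, nat_lit 2, nat_lit 1, nat_lit 2, nat_lit 1, nat_lit 2, nat_lit 1, nat_lit 2, nat_lit 1, nat_lit 2, nat_lit 1, nat_lit 2, nat_lit 1, nat_lit 2, nat_lit 1, nat_lit 2])) (.node (nat_lit 2386) (.leaf (nat_lit 2377) (nat_lit 2) [nat_lit 1, nat_lit 2, nat_lit 1, nat_lit 2, nat_lit 1, nat_lit 2, nat_lit 1, nat_lit 2, nat_lit 1, nat_lit 2, nat_lit 1, nat_lit 2, nat_lit 1, nat_lit 2, nat_lit 1, nat_lit 2, nat_lit 1]) (.node (nat_lit 2387) (.leaf (nat_lit 2376) (nat_lit 1) [nat_lit 2, nat_lit 1, nat_lit 2, nat_lit 1, nat_lit 2, nat_lit 1, nat_lit 2, nat_lit 1, nat_lit 2, nat_lit 1, nat_lit 2, nat_lit 1, nat_lit 2, nat_lit 1, nat_lit 2, nat_lit 1, nat_lit 2]) (.leaf (nat_lit 2377) (nat_lit 2) [nat_lit 1, nat_lit 2, nat_lit 1, nat_lit 2, nat_lit 1, nat_lit 2, nat_lit 1, nat_lit 2, nat_lit 1, nat_lit 2, nat_lit 1, nat_lit 2, nat_lit 1, nat_lit 2, nat_lit 1, nat_lit 2, nat_lit 1])))) (.node (nat_lit 2390) (.node (nat_lit 2389) (.leaf (nat_lit 2376) (nat_lit 1) [nat_lit 2, nat_lit 1, nat_lit 2, nat_lit 1, nat_lit 2, nat_lit 1, nat_lit 2, nat_lit 1, nat_lit 2, nat_lit 1, nat_lit 2, nat_lit 1, nat_lit 2, nat_lit 1, nat_lit 2, nat_lit 1, nat_lit 2]) (.leaf (nat_lit 2377) (nat_lit 2) [nat_lit 1, nat_lit 2, nat_lit 1, nat_lit 2, nat_lit 1, nat_lit 2, nat_lit 1, nat_lit 2, nat_lit 1, nat_lit 2, nat_lit 1, nat_lit 2, nat_lit 1, nat_lit 2, nat_lit 1, nat_lit 2, nat_lit 1])) (.node (nat_lit 2391) (.leaf (nat_lit 2376) (nat_lit 1) [nat_lit 2, nat_lit 1, nat_lit 2, nat_lit 1, nat_lit 2, nat_lit 1, nat_lit 2, nat_lit 1, nat_lit 2, nat_lit 1, nat_lit 2, nat_lit 1, nat_lit 2, nat_lit 1, nat_lit 2, nat_lit 1, nat_lit 2]) (.node (nat_lit 2392) (.leaf (nat_lit 2377) (nat_lit 2) [nat_lit 1, nat_lit 2, nat_lit 1, nat_lit 2, nat_lit 1, nat_lit 2, nat_lit 1, nat_lit 2, nat_lit 1, nat_lit 2, nat_lit 1, nat_lit 2, nat_lit 1, nat_lit 2, nat_lit 1, nat_lit 2, nat_lit 1]) (.leaf (nat_lit 2376) (nat_lit 1) [nat_lit 2, nat_lit 1, nat_lit 2, nat_lit 1, nat_lit 2, nat_lit 1, nat_lit 2, nat_lit 1, nat_lit 2, nat_lit 1, nat_lit 2, nat_lit 1, nat_lit 2, nat_lit 1, nat_lit 2, nat_lit 1, nat_lit 2])))))) (.node (nat_lit 2402) (.node (nat_lit 2397) (.node (nat_lit 2395) (.node (nat_lit 2394) (.leaf (nat_lit 2377) (nat_lit 2) [nat_lit 1, nat_lit 2, nat_lit 1, nat_lit 2, nat_lit 1, nat_lit 2, nat_lit 1, nat_lit 2, nat_lit 1, nat_lit 2, nat_lit 1, nat_lit 2, nat_lit 1, nat_lit 2, nat_lit 1, nat_lit 2, nat_lit 1]) (.leaf (nat_lit 2377) (nat_lit 2) [nat_lit 1, nat_lit 2, nat_lit 1, nat_lit 2, nat_lit 1, nat_lit 2, nat_lit 1, nat_lit 2, nat_lit 1, nat_lit 2, nat_lit 1, nat_lit 2, nat_lit 1, nat_lit 2, nat_lit 1, nat_lit 2, nat_lit 1])) (.node (nat_lit 2396) (.leaf (nat_lit 2376) (nat_lit 1) [nat_lit 2, nat_lit 1, nat_lit 2, nat_lit 1, nat_lit 2, nat_lit 1, nat_lit 2, nat_lit 1, nat_lit 2, nat_lit 1, nat_lit 2, nat_lit 1, nat_lit 2, nat_lit 1, nat_lit 2, nat_lit 1, nat_lit 2]) (.leaf (nat_lit 2377) (nat_lit 2) [nat_lit 1, nat_lit 2, nat_lit 1, nat_lit 2, nat_lit 1, nat_lit 2, nat_lit 1, nat_lit 2, nat_lit 1, nat_lit 2, nat_lit 1, nat_lit 2, nat_lit 1, nat_lit 2, nat_lit 1, nat_lit 2, nat_lit 1]))) (.node (nat_lit 2399) (.node (nat_lit 2398) (.leaf (nat_lit 2376) (nat_lit 1) [nat_lit 2, nat_lit 1, nat_lit 2, nat_lit 1, nat_lit 2, nat_lit 1, nat_lit 2, nat_lit 1, nat_lit 2, nat_lit 1, nat_lit 2, nat_lit 1, nat_lit 2, nat_lit 1, nat_lit 2, nat_lit 1, nat_lit 2]) (.leaf (nat_lit 2377) (nat_lit 2) [nat_lit 1, nat_lit 2, nat_lit 1, nat_lit 2, nat_lit 1, nat_lit 2, nat_lit 1, nat_lit 2, nat_lit 1, nat_lit 2, nat_lit 1, nat_lit 2, nat_lit 1, nat_lit 2, nat_lit 1, nat_lit 2, nat_lit 1])) (.node (nat_lit 2400) (.leaf (nat_lit 2376) (nat_lit 1) [nat_lit 2, nat_lit 1, nat_lit 2, nat_lit 1, nat_lit 2, nat_lit 1, nat_lit 2, nat_lit 1, nat_lit 2, nat_lit 1, nat_lit 2, nat_lit 1, nat_lit 2, nat_lit 1, nat_lit 2, nat_lit 1, nat_lit 2]) (.node (nat_lit 2401) (.leaf (nat_lit 2377) (nat_lit 2) [nat_lit 1, nat_lit 2, nat_lit 1, nat_lit 2, nat_lit 1, nat_lit 2, nat_lit 1, nat_lit 2, nat_lit 1, nat_lit 2, nat_lit 1, nat_lit 2, nat_lit 1, nat_lit 2, nat_lit 1, nat_lit 2, nat_lit 1]) (.leaf (nat_lit 2376) (nat_lit 1) [nat_lit 2, nat_lit 1, nat_lit 2, nat_lit 1, nat_lit 2, nat_lit 1, nat_lit 2, nat_lit 1, nat_lit 2, nat_lit 1, nat_lit 2, nat_lit 1, nat_lit 2, nat_lit 1, nat_lit 2, nat_lit 1, nat_lit 2]))))) (.node (nat_lit 2407) (.node (nat_lit 2404) (.node (nat_lit 2403) (.leaf (nat_lit 2377) (nat_lit 2) [nat_lit 1, nat_lit 2, nat_lit 1, nat_lit 2, nat_lit 1, nat_lit 2, nat_lit 1, nat_lit 2, nat_lit 1, nat_lit 2, nat_lit 1, nat_lit 2, nat_lit 1, nat_lit 2, nat_lit 1, nat_lit 2, nat_lit 1]) (.leaf (nat_lit 2376) (nat_lit 1) [nat_lit 2, nat_lit 1, nat_lit 2, nat_lit 1, nat_lit 2, nat_lit 1, nat_lit 2, nat_lit 1, nat_lit 2, nat_lit 1, nat_lit 2, nat_lit 1, nat_lit 2, nat_lit 1, nat_lit 2, nat_lit 1, nat_lit 2])) (.node (nat_lit 2405) (.leaf (nat_lit 2377) (nat_lit 2) [nat_lit 1, nat_lit 2, nat_lit 1, nat_lit 2, nat_lit 1, nat_lit 2, nat_lit 1, nat_lit 2, nat_lit 1, nat_lit 2, nat_lit 1, nat_lit 2, nat_lit 1, nat_lit 2, nat_lit 1, nat_lit 2, nat_lit 1]) (.node (nat_lit 2406) (.leaf (nat_lit 2376) (nat_lit 1) [nat_lit 2, nat_lit 1, nat_lit 2, nat_lit 1, nat_lit 2, nat_lit 1, nat_lit 2, nat_lit 1, nat_lit 2, nat_lit 1, nat_lit 2, nat_lit 1, nat_lit 2, nat_lit 1, nat_lit 2, nat_lit 1, nat_lit 2]) (.leaf (nat_lit 2377) (nat_lit 2) [nat_lit 1, nat_lit 2, nat_lit 1, nat_lit 2, nat_lit 1, nat_lit 2, nat_lit 1, nat_lit 2, nat_lit 1, nat_lit 2, nat_lit 1, nat_lit 2, nat_lit 1, nat_lit 2, nat_lit 1, nat_lit 2, nat_lit 1])))) (.node (nat_lit 2409) (.node (nat_lit 2408) (.leaf (nat_lit 2376) (nat_lit 1) [nat_lit 2, nat_lit 1, nat_lit 2, nat_lit 1, nat_lit 2, nat_lit 1, nat_lit 2, nat_lit 1, nat_lit 2, nat_lit 1, nat_lit 2, nat_lit 1, nat_lit 2, nat_lit 1, nat_lit 2, nat_lit 1, nat_lit 2]) (.leaf (nat_lit 2377) (nat_lit 2) [nat_lit 1, nat_lit 2, nat_lit 1, nat_lit 2, nat_lit 1, nat_lit 2, nat_lit 1, nat_lit 2, nat_lit 1, nat_lit 2, nat_lit 1, nat_lit 2, nat_lit 1, nat_lit 2, nat_lit 1, nat_lit 2, nat_lit 1])) (.node (nat_lit 2410) (.leaf (nat_lit 2376) (nat_lit 1) [nat_lit 2, nat_lit 1, nat_lit 2, nat_lit 1, nat_lit 2, nat_lit 1, nat_lit 2, nat_lit 1, nat_lit 2, nat_lit 1, nat_lit 2, nat_lit 1, nat_lit 2, nat_lit 1, nat_lit 2, nat_lit 1, nat_lit 2]) (.node (nat_lit 2411) (.leaf (nat_lit 2377) (nat_lit 2) [nat_lit 1, nat_lit 2, nat_lit 1, nat_lit 2, nat_lit 1, nat_lit 2, nat_lit 1, nat_lit 2, nat_lit 1, nat_lit 2, nat_lit 1, nat_lit 2, nat_lit 1, nat_lit 2, nat_lit 1, nat_lit 2, nat_lit 1]) (.leaf (nat_lit 2376) (nat_lit 1) [nat_lit 2, nat_lit 1, nat_lit 2, nat_lit 1, nat_lit 2, nat_lit 1, nat_lit 2, nat_lit 1, nat_lit 2, nat_lit 1, nat_lit 2, nat_lit 1, nat_lit 2, nat_lit 1, nat_lit 2, nat_lit 1, nat_lit 2]))))))))))))) (.node (nat_lit 3618) (.node (nat_lit 3015) (.node (nat_lit 2713) (.node (nat_lit 2562) (.node (nat_lit 2487) (.node (nat_lit 2449) (.node (nat_lit 2430) (.node (nat_lit 2421) (.node (nat_lit 2416) (.node (nat_lit 2414) (.node (nat_lit 2413) (.leaf (nat_lit 2412) (nat_lit 1) [nat_lit 2, nat_lit 1, nat_lit 2, nat_lit 3, nat_lit 2, nat_lit 1, nat_lit 2, nat_lit 1, nat_lit 2, nat_lit 3, nat_lit 2, nat_lit 1, nat_lit 2, nat_lit 1, nat_lit 2, nat_lit 3, nat_lit 2]) (.leaf (nat_lit 2413) (nat_lit 2) [nat_lit 1, nat_lit 2, nat_lit 1, nat_lit 2, nat_lit 3, nat_lit 2, nat_lit 1, nat_lit 2, nat_lit 1, nat_lit 2, nat_lit 3, nat_lit 2, nat_lit 1, nat_lit 2, nat_lit 1, nat_lit 2, nat_lit 3])) (.node (nat_lit 2415) (.leaf (nat_lit 2414) (nat_lit 3) [nat_lit 2, nat_lit 1, nat_lit 2, nat_lit 1, nat_lit 2, nat_lit 3, nat_lit 2, nat_lit 1, nat_lit 2, nat_lit 1, nat_lit 2, nat_lit 3, nat_lit 2, nat_lit 1, nat_lit 2, nat_lit 1, nat_lit 2]) (.leaf (nat_lit 2415) (nat_lit 2) [nat_lit 3, nat_lit 2, nat_lit 1, nat_lit 2, nat_lit 1, nat_lit 2, nat_lit 3, nat_lit 2, nat_lit 1, nat_lit 2, nat_lit 1, nat_lit 2, nat_lit 3, nat_lit 2, nat_lit 1, nat_lit 2, nat_lit 1]))) (.node (nat_lit 2418) (.node (nat_lit 2417) (.leaf (nat_lit 2416) (nat_lit 1) [nat_lit 2, nat_lit 3, nat_lit 2, nat_lit 1, nat_lit 2, nat_lit 1, nat_lit 2, nat_lit 3, nat_lit 2, nat_lit 1, nat_lit 2, nat_lit 1, nat_lit 2, nat_lit 3, nat_lit 2, nat_lit 1, nat_lit 2]) (.leaf (nat_lit 2417) (nat_lit 2) [nat_lit 1, nat_lit 2, nat_lit 3, nat_lit 2, nat_lit 1, nat_lit 2, nat_lit 1, nat_lit 2, nat_lit 3, nat_lit 2, nat_lit 1, nat_lit 2, nat_lit 1, nat_lit 2, nat_lit 3, nat_lit 2, nat_lit 1])) (.node (nat_lit 2419) (.leaf (nat_lit 2412) (nat_lit 1) [nat_lit 2, nat_lit 1, nat_lit 2, nat_lit 3, nat_lit 2, nat_lit 1, nat_lit 2, nat_lit 1, nat_lit 2, nat_lit 3, nat_lit 2, nat_lit 1, nat_lit 2, nat_lit 1, nat_lit 2, nat_lit 3, nat_lit 2]) (.node (nat_lit 2420) (.leaf (nat_lit 2413) (nat_lit 2) [nat_lit 1, nat_lit 2, nat_lit 1, nat_lit 2, nat_lit 3, nat_lit 2, nat_lit 1, nat_lit 2, nat_lit 1, nat_lit 2, nat_lit 3, nat_lit 2, nat_lit 1, nat_lit 2, nat_lit 1, nat_lit 2, nat_lit 3]) (.leaf (nat_lit 2414) (nat_lit 3) [nat_lit 2, nat_lit 1, nat_lit 2, nat_lit 1, nat_lit 2, nat_lit 3, nat_lit 2, nat_lit 1, nat_lit 2, nat_lit 1, nat_lit 2, nat_lit 3, nat_lit 2, nat_lit 1, nat_lit 2, nat_lit 1, nat_lit 2]))))) (.node (nat_lit 2425) (.node (nat_lit 2423) (.node (nat_lit 2422) (.leaf (nat_lit 2415) (nat_lit 2) [nat_lit 3, nat_lit 2, nat_lit 1, nat_lit 2, nat_lit 1, nat_lit 2, nat_lit 3, nat_lit 2, nat_lit 1, nat_lit 2, nat_lit 1, nat_lit 2, nat_lit 3, nat_lit 2, nat_lit 1, nat_lit 2, nat_lit 1]) (.leaf (nat_lit 2416) (nat_lit 1) [nat_lit 2, nat_lit 3, nat_lit 2, nat_lit 1, nat_lit 2, nat_lit 1, nat_lit 2, nat_lit 3, nat_lit 2, nat_lit 1, nat_lit 2, nat_lit 1, nat_lit 2, nat_lit 3, nat_lit 2, nat_lit 1, nat_lit 2])) (.node (nat_lit 2424) (.leaf (nat_lit 2417) (nat_lit 2) [nat_lit 1, nat_lit 2, nat_lit 3, nat_lit 2, nat_lit 1, nat_lit 2, nat_lit 1, nat_lit 2, nat_lit 3, nat_lit 2, nat_lit 1, nat_lit 2, nat_lit 1, nat_lit 2, nat_lit 3, nat_lit 2, nat_lit 1]) (.leaf (nat_lit 2412) (nat_lit 1) [nat_lit 2, nat_lit 1, nat_lit 2, nat_lit 3, nat_lit 2, nat_lit 1, nat_lit 2, nat_lit 1, nat_lit 2, nat_lit 3, nat_lit 2, nat_lit 1, nat_lit 2, nat_lit 1, nat_lit 2, nat_lit 3, nat_lit 2]))) (.node (nat_lit 2427) (.node (nat_lit 2426) (.leaf (nat_lit 2413) (nat_lit 2) [nat_lit 1, nat_lit 2, nat_lit 1, nat_lit 2, nat_lit 3, nat_lit 2, nat_lit 1, nat_lit 2, nat_lit 1, nat_lit 2, nat_lit 3, nat_lit 2, nat_lit 1, nat_lit 2, nat_lit 1, nat_lit 2, nat_lit 3]) (.leaf (nat_lit 2414) (nat_lit 3) [nat_lit 2, nat_lit 1, nat_lit 2, nat_lit 1, nat_lit 2, nat_lit 3, nat_lit 2, nat_lit 1, nat_lit 2, nat_lit 1, nat_lit 2, nat_lit 3, nat_lit 2, nat_lit 1, nat_lit 2, nat_lit 1, nat_lit 2])) (.node (nat_lit 2428) (.leaf (nat_lit 2415) (nat_lit 2) [nat_lit 3, nat_lit 2, nat_lit 1, nat_lit 2, nat_lit 1, nat_lit 2, nat_lit 3, nat_lit 2, nat_lit 1, nat_lit 2, nat_lit 1, nat_lit 2, nat_lit 3, nat_lit 2, nat_lit 1, nat_lit 2, nat_lit 1]) (.node (nat_lit 2429) (.leaf (nat_lit 2416) (nat_lit 1) [nat_lit 2, nat_lit 3, nat_lit 2, nat_lit 1, nat_lit 2, nat_lit 1, nat_lit 2, nat_lit 3, nat_lit 2, nat_lit 1, nat_lit 2, nat_lit 1, nat_lit 2, nat_lit 3, nat_lit 2, nat_lit 1, nat_lit 2]) (.leaf (nat_lit 2417) (nat_lit 2) [nat_lit 1, nat_lit 2, nat_lit 3, nat_lit 2, nat_lit 1, nat_lit 2, nat_lit 1, nat_lit 2, nat_lit 3, nat_lit 2, nat_lit 1, nat_lit 2, nat_lit 1, nat_lit 2, nat_lit 3, nat_lit 2, nat_lit 1])))))) (.node (nat_lit 2439) (.node (nat_lit 2434) (.node (nat_lit 2432) (.node (nat_lit 2431) (.leaf (nat_lit 2417) (nat_lit 2) [nat_lit 1, nat_lit 2, nat_lit 3, nat_lit 2, nat_lit 1, nat_lit 2, nat_lit 1, nat_lit 2, nat_lit 3, nat_lit 2, nat_lit 1, nat_lit 2, nat_lit 1, nat_lit 2, nat_lit 3, nat_lit 2, nat_lit 1]) (.leaf (nat_lit 2412) (nat_lit 1) [nat_lit 2, nat_lit 1, nat_lit 2, nat_lit 3, nat_lit 2, nat_lit 1, nat_lit 2, nat_lit 1, nat_lit 2, nat_lit 3, nat_lit 2, nat_lit 1, nat_lit 2, nat_lit 1, nat_lit 2, nat_lit 3, nat_lit 2])) (.node (nat_lit 2433) (.leaf (nat_lit 2413) (nat_lit 2) [nat_lit 1, nat_lit 2, nat_lit 1, nat_lit 2, nat_lit 3, nat_lit 2, nat_lit 1, nat_lit 2, nat_lit 1, nat_lit 2, nat_lit 3, nat_lit 2, nat_lit 1, nat_lit 2, nat_lit 1, nat_lit 2, nat_lit 3]) (.leaf (nat_lit 2414) (nat_lit 3) [nat_lit 2, nat_lit 1, nat_lit 2, nat_lit 1, nat_lit 2, nat_lit 3, nat_lit 2, nat_lit 1, nat_lit 2, nat_lit 1, nat_lit 2, nat_lit 3, nat_lit 2, nat_lit 1, nat_lit 2, nat_lit 1, nat_lit 2]))) (.node (nat_lit 2436) (.node (nat_lit 2435) (.leaf (nat_lit 2415) (nat_lit 2) [nat_lit 3, nat_lit 2, nat_lit 1, nat_lit 2, nat_lit 1, nat_lit 2, nat_lit 3, nat_lit 2, nat_lit 1, nat_lit 2, nat_lit 1, nat_lit 2, nat_lit 3, nat_lit 2, nat_lit 1, nat_lit 2, nat_lit 1]) (.leaf (nat_lit 2416) (nat_lit 1) [nat_lit 2, nat_lit 3, nat_lit 2, nat_lit 1, nat_lit 2, nat_lit 1, nat_lit 2, nat_lit 3, nat_lit 2, nat_lit 1, nat_lit 2, nat_lit 1, nat_lit 2, nat_lit 3, nat_lit 2, nat_lit 1, nat_lit 2])) (.node (nat_lit 2437) (.leaf (nat_lit 2417) (nat_lit 2) [nat_lit 1, nat_lit 2, nat_lit 3, nat_lit 2, nat_lit 1, nat_lit 2, nat_lit 1, nat_lit 2, nat_lit 3, nat_lit 2, nat_lit 1, nat_lit 2, nat_lit 1, nat_lit 2, nat_lit 3, nat_lit 2, nat_lit 1]) (.node (nat_lit 2438) (.leaf (nat_lit 2412) (nat_lit 1) [nat_lit 2, nat_lit 1, nat_lit 2, nat_lit 3, nat_lit 2, nat_lit 1, nat_lit 2, nat_lit 1, nat_lit 2, nat_lit 3, nat_lit 2, nat_lit 1, nat_lit 2, nat_lit 1, nat_lit 2, nat_lit 3, nat_lit 2]) (.leaf (nat_lit 2413) (nat_lit 2) [nat_lit 1, nat_lit 2, nat_lit 1, nat_lit 2, nat_lit 3, nat_lit 2, nat_lit 1, nat_lit 2, nat_lit 1, nat_lit 2, nat_lit 3, nat_lit 2, nat_lit 1, nat_lit 2, nat_lit 1, nat_lit 2, nat_lit 3]))))) (.node (nat_lit 2444) (.node (nat_lit 2441) (.node (nat_lit 2440) (.leaf (nat_lit 2414) (nat_lit 3) [nat_lit 2, nat_lit 1, nat_lit 2, nat_lit 1, nat_lit 2, nat_lit 3, nat_lit 2, nat_lit 1, nat_lit 2, nat_lit 1, nat_lit 2, nat_lit 3, nat_lit 2, nat_lit 1, nat_lit 2, nat_lit 1, nat_lit 2]) (.leaf (nat_lit 2415) (nat_lit 2) [nat_lit 3, nat_lit 2, nat_lit 1, nat_lit 2, nat_lit 1, nat_lit 2, nat_lit 3, nat_lit 2, nat_lit 1, nat_lit 2, nat_lit 1, nat_lit 2, nat_lit 3, nat_lit 2, nat_lit 1, nat_lit 2, nat_lit 1])) (.node (nat_lit 2442) (.leaf (nat_lit 2416) (nat_lit 1) [nat_lit 2, nat_lit 3, nat_lit 2, nat_lit 1, nat_lit 2, nat_lit 1, nat_lit 2, nat_lit 3, nat_lit 2, nat_lit 1, nat_lit 2, nat_lit 1, nat_lit 2, nat_lit 3, nat_lit 2, nat_lit 1, nat_lit 2]) (.node (nat_lit 2443) (.leaf (nat_lit 2417) (nat_lit 2) [nat_lit 1, nat_lit 2, nat_lit 3, nat_lit 2, nat_lit 1, nat_lit 2, nat_lit 1, nat_lit 2, nat_lit 3, nat_lit 2, nat_lit 1, nat_lit 2, nat_lit 1, nat_lit 2, nat_lit 3, nat_lit 2, nat_lit 1]) (.leaf (nat_lit 2412) (nat_lit 1) [nat_lit 2, nat_lit 1, nat_lit 2, nat_lit 3, nat_lit 2, nat_lit 1, nat_lit 2, nat_lit 1, nat_lit 2, nat_lit 3, nat_lit 2, nat_lit 1, nat_lit 2, nat_lit 1, nat_lit 2, nat_lit 3, nat_lit 2])))) (.node (nat_lit 2446) (.node (nat_lit 2445) (.leaf (nat_lit 2413) (nat_lit 2) [nat_lit 1, nat_lit 2, nat_lit 1, nat_lit 2, nat_lit 3, nat_lit 2, nat_lit 1, nat_lit 2, nat_lit 1, nat_lit 2, nat_lit 3, nat_lit 2, nat_lit 1, nat_lit 2, nat_lit 1, nat_lit 2, nat_lit 3]) (.leaf (nat_lit 2414) (nat_lit 3) [nat_lit 2, nat_lit 1, nat_lit 2, nat_lit 1, nat_lit 2, nat_lit 3, nat_lit 2, nat_lit 1, nat_lit 2, nat_lit 1, nat_lit 2, nat_lit 3, nat_lit 2, nat_lit 1, nat_lit 2, nat_lit 1, nat_lit 2])) (.node (nat_lit 2447) (.leaf (nat_lit 2415) (nat_lit 2) [nat_lit 3, nat_lit 2, nat_lit 1, nat_lit 2, nat_lit 1, nat_lit 2, nat_lit 3, nat_lit 2, nat_lit 1, nat_lit 2, nat_lit 1, nat_lit 2, nat_lit 3, nat_lit 2, nat_lit 1, nat_lit 2, nat_lit 1]) (.node (nat_lit 2448) (.leaf (nat_lit 2416) (nat_lit 1) [nat_lit 2, nat_lit 3, nat_lit 2, nat_lit 1, nat_lit 2, nat_lit 1, nat_lit 2, nat_lit 3, nat_lit 2, nat_lit 1, nat_lit 2, nat_lit 1, nat_lit 2, nat_lit 3, nat_lit 2, nat_lit 1, nat_lit 2]) (.leaf (nat_lit 2448) (nat_lit 1) [nat_lit 3, nat_lit 1, nat_lit 2, nat_lit 0, nat_lit 2, nat_lit 1, nat_lit 3, nat_lit 1, nat_lit 2, nat_lit 0, nat_lit 2, nat_lit 1, nat_lit 3, nat_lit 1, nat_lit 2, nat_lit 0, nat_lit 2]))))))) (.node (nat_lit 2468) (.node (nat_lit 2458) (.node (nat_lit 2453) (.node (nat_lit 2451) (.node (nat_lit 2450) (.leaf (nat_lit 2449) (nat_lit 2) [nat_lit 1, nat_lit 3, nat_lit 1, nat_lit 2, nat_lit 0, nat_lit 2, nat_lit 1, nat_lit 3, nat_lit 1, nat_lit 2, nat_lit 0, nat_lit 2, nat_lit 1, nat_lit 3, nat_lit 1, nat_lit 2, nat_lit 0]) (.leaf (nat_lit 2450) (nat_lit 0) [nat_lit 2, nat_lit 1, nat_lit 3, nat_lit 1, nat_lit 2, nat_lit 0, nat_lit 2, nat_lit 1, nat_lit 3, nat_lit 1, nat_lit 2, nat_lit 0, nat_lit 2, nat_lit 1, nat_lit 3, nat_lit 1, nat_lit 2])) (.node (nat_lit 2452) (.leaf (nat_lit 2451) (nat_lit 2) [nat_lit 0, nat_lit 2, nat_lit 1, nat_lit 3, nat_lit 1, nat_lit 2, nat_lit 0, nat_lit 2, nat_lit 1, nat_lit 3, nat_lit 1, nat_lit 2, nat_lit 0, nat_lit 2, nat_lit 1, nat_lit 3, nat_lit 1]) (.leaf (nat_lit 2452) (nat_lit 1) [nat_lit 2, nat_lit 0, nat_lit 2, nat_lit 1, nat_lit 3, nat_lit 1, nat_lit 2, nat_lit 0, nat_lit 2, nat_lit 1, nat_lit 3, nat_lit 1, nat_lit 2, nat_lit 0, nat_lit 2, nat_lit 1, nat_lit 3]))) (.node (nat_lit 2455) (.node (nat_lit 2454) (.leaf (nat_lit 2453) (nat_lit 3) [nat_lit 1, nat_lit 2, nat_lit 0, nat_lit 2, nat_lit 1, nat_lit 3, nat_lit 1, nat_lit 2, nat_lit 0, nat_lit 2, nat_lit 1, nat_lit 3, nat_lit 1, nat_lit 2, nat_lit 0, nat_lit 2, nat_lit 1]) (.leaf (nat_lit 2448) (nat_lit 1) [nat_lit 3, nat_lit 1, nat_lit 2, nat_lit 0, nat_lit 2, nat_lit 1, nat_lit 3, nat_lit 1, nat_lit 2, nat_lit 0, nat_lit 2, nat_lit 1, nat_lit 3, nat_lit 1, nat_lit 2, nat_lit 0, nat_lit 2])) (.node (nat_lit 2456) (.leaf (nat_lit 2449) (nat_lit 2) [nat_lit 1, nat_lit 3, nat_lit 1, nat_lit 2, nat_lit 0, nat_lit 2, nat_lit 1, nat_lit 3, nat_lit 1, nat_lit 2, nat_lit 0, nat_lit 2, nat_lit 1, nat_lit 3, nat_lit 1, nat_lit 2, nat_lit 0]) (.node (nat_lit 2457) (.leaf (nat_lit 2450) (nat_lit 0) [nat_lit 2, nat_lit 1, nat_lit 3, nat_lit 1, nat_lit 2, nat_lit 0, nat_lit 2, nat_lit 1, nat_lit 3, nat_lit 1, nat_lit 2, nat_lit 0, nat_lit 2, nat_lit 1, nat_lit 3, nat_lit 1, nat_lit 2]) (.leaf (nat_lit 2451) (nat_lit 2) [nat_lit 0, nat_lit 2, nat_lit 1, nat_lit 3, nat_lit 1, nat_lit 2, nat_lit 0, nat_lit 2, nat_lit 1, nat_lit 3, nat_lit 1, nat_lit 2, nat_lit 0, nat_lit 2, nat_lit 1, nat_lit 3, nat_lit 1]))))) (.node (nat_lit 2463) (.node (nat_lit 2460) (.node (nat_lit 2459) (.leaf (nat_lit 2452) (nat_lit 1) [nat_lit 2, nat_lit 0, nat_lit 2, nat_lit 1, nat_lit 3, nat_lit 1, nat_lit 2, nat_lit 0, nat_lit 2, nat_lit 1, nat_lit 3, nat_lit 1, nat_lit 2, nat_lit 0, nat_lit 2, nat_lit 1, nat_lit 3]) (.leaf (nat_lit 2453) (nat_lit 3) [nat_lit 1, nat_lit 2, nat_lit 0, nat_lit 2, nat_lit 1, nat_lit 3, nat_lit 1, nat_lit 2, nat_lit 0, nat_lit 2, nat_lit 1, nat_lit 3, nat_lit 1, nat_lit 2, nat_lit 0, nat_lit 2, nat_lit 1])) (.node (nat_lit 2461) (.leaf (nat_lit 2448) (nat_lit 1) [nat_lit 3, nat_lit 1, nat_lit 2, nat_lit 0, nat_lit 2, nat_lit 1, nat_lit 3, nat_lit 1, nat_lit 2, nat_lit 0, nat_lit 2, nat_lit 1, nat_lit 3, nat_lit 1, nat_lit 2, nat_lit 0, nat_lit 2]) (.node (nat_lit 2462) (.leaf (nat_lit 2449) (nat_lit 2) [nat_lit 1, nat_lit 3, nat_lit 1, nat_lit 2, nat_lit 0, nat_lit 2, nat_lit 1, nat_lit 3, nat_lit 1, nat_lit 2, nat_lit 0, nat_lit 2, nat_lit 1, nat_lit 3, nat_lit 1, nat_lit 2, nat_lit 0]) (.leaf (nat_lit 2450) (nat_lit 0) [nat_lit 2, nat_lit 1, nat_lit 3, nat_lit 1, nat_lit 2, nat_lit 0, nat_lit 2, nat_lit 1, nat_lit 3, nat_lit 1, nat_lit 2, nat_lit 0, nat_lit 2, nat_lit 1, nat_lit 3, nat_lit 1, nat_lit 2])))) (.node (nat_lit 2465) (.node (nat_lit 2464) (.leaf (nat_lit 2451) (nat_lit 2) [nat_lit 0, nat_lit 2, nat_lit 1, nat_lit 3, nat_lit 1, nat_lit 2, nat_lit 0, nat_lit 2, nat_lit 1, nat_lit 3, nat_lit 1, nat_lit 2, nat_lit 0, nat_lit 2, nat_lit 1, nat_lit 3, nat_lit 1]) (.leaf (nat_lit 2452) (nat_lit 1) [nat_lit 2, nat_lit 0, nat_lit 2, nat_lit 1, nat_lit 3, nat_lit 1, nat_lit 2, nat_lit 0, nat_lit 2, nat_lit 1, nat_lit 3, nat_lit 1, nat_lit 2, nat_lit 0, nat_lit 2, nat_lit 1, nat_lit 3])) (.node (nat_lit 2466) (.leaf (nat_lit 2453) (nat_lit 3) [nat_lit 1, nat_lit 2, nat_lit 0, nat_lit 2, nat_lit 1, nat_lit 3, nat_lit 1, nat_lit 2, nat_lit 0, nat_lit 2, nat_lit 1, nat_lit 3, nat_lit 1, nat_lit 2, nat_lit 0, nat_lit 2, nat_lit 1]) (.node (nat_lit 2467) (.leaf (nat_lit 2453) (nat_lit 3) [nat_lit 1, nat_lit 2, nat_lit 0, nat_lit 2, nat_lit 1, nat_lit 3, nat_lit 1, nat_lit 2, nat_lit 0, nat_lit 2, nat_lit 1, nat_lit 3, nat_lit 1, nat_lit 2, nat_lit 0, nat_lit 2, nat_lit 1]) (.leaf (nat_lit 2448) (nat_lit 1) [nat_lit 3, nat_lit 1, nat_lit 2, nat_lit 0, nat_lit 2, nat_lit 1, nat_lit 3, nat_lit 1, nat_lit 2, nat_lit 0, nat_lit 2, nat_lit 1, nat_lit 3, nat_lit 1, nat_lit 2, nat_lit 0, nat_lit 2])))))) (.node (nat_lit 2477) (.node (nat_lit 2472) (.node (nat_lit 2470) (.node (nat_lit 2469) (.leaf (nat_lit 2449) (nat_lit 2) [nat_lit 1, nat_lit 3, nat_lit 1, nat_lit 2, nat_lit 0, nat_lit 2, nat_lit 1, nat_lit 3, nat_lit 1, nat_lit 2, nat_lit 0, nat_lit 2, nat_lit 1, nat_lit 3, nat_lit 1, nat_lit 2, nat_lit 0]) (.leaf (nat_lit 2450) (nat_lit 0) [nat_lit 2, nat_lit 1, nat_lit 3, nat_lit 1, nat_lit 2, nat_lit 0, nat_lit 2, nat_lit 1, nat_lit 3, nat_lit 1, nat_lit 2, nat_lit 0, nat_lit 2, nat_lit 1, nat_lit 3, nat_lit 1, nat_lit 2])) (.node (nat_lit 2471) (.leaf (nat_lit 2451) (nat_lit 2) [nat_lit 0, nat_lit 2, nat_lit 1, nat_lit 3, nat_lit 1, nat_lit 2, nat_lit 0, nat_lit 2, nat_lit 1, nat_lit 3, nat_lit 1, nat_lit 2, nat_lit 0, nat_lit 2, nat_lit 1, nat_lit 3, nat_lit 1]) (.leaf (nat_lit 2452) (nat_lit 1) [nat_lit 2, nat_lit 0, nat_lit 2, nat_lit 1, nat_lit 3, nat_lit 1, nat_lit 2, nat_lit 0, nat_lit 2, nat_lit 1, nat_lit 3, nat_lit 1, nat_lit 2, nat_lit 0, nat_lit 2, nat_lit 1, nat_lit 3]))) (.node (nat_lit 2474) (.node (nat_lit 2473) (.leaf (nat_lit 2453) (nat_lit 3) [nat_lit 1, nat_lit 2, nat_lit 0, nat_lit 2, nat_lit 1, nat_lit 3, nat_lit 1, nat_lit 2, nat_lit 0, nat_lit 2, nat_lit 1, nat_lit 3, nat_lit 1, nat_lit 2, nat_lit 0, nat_lit 2, nat_lit 1]) (.leaf (nat_lit 2448) (nat_lit 1) [nat_lit 3, nat_lit 1, nat_lit 2, nat_lit 0, nat_lit 2, nat_lit 1, nat_lit 3, nat_lit 1, nat_lit 2, nat_lit 0, nat_lit 2, nat_lit 1, nat_lit 3, nat_lit 1, nat_lit 2, nat_lit 0, nat_lit 2])) (.node (nat_lit 2475) (.leaf (nat_lit 2449) (nat_lit 2) [nat_lit 1, nat_lit 3, nat_lit 1, nat_lit 2, nat_lit 0, nat_lit 2, nat_lit 1, nat_lit 3, nat_lit 1, nat_lit 2, nat_lit 0, nat_lit 2, nat_lit 1, nat_lit 3, nat_lit 1, nat_lit 2, nat_lit 0]) (.node (nat_lit 2476) (.leaf (nat_lit 2450) (nat_lit 0) [nat_lit 2, nat_lit 1, nat_lit 3, nat_lit 1, nat_lit 2, nat_lit 0, nat_lit 2, nat_lit 1, nat_lit 3, nat_lit 1, nat_lit 2, nat_lit 0, nat_lit 2, nat_lit 1, nat_lit 3, nat_lit 1, nat_lit 2]) (.leaf (nat_lit 2451) (nat_lit 2) [nat_lit 0, nat_lit 2, nat_lit 1, nat_lit 3, nat_lit 1, nat_lit 2, nat_lit 0, nat_lit 2, nat_lit 1, nat_lit 3, nat_lit 1, nat_lit 2, nat_lit 0, nat_lit 2, nat_lit 1, nat_lit 3, nat_lit 1]))))) (.node (nat_lit 2482) (.node (nat_lit 2479) (.node (nat_lit 2478) (.leaf (nat_lit 2452) (nat_lit 1) [nat_lit 2, nat_lit 0, nat_lit 2, nat_lit 1, nat_lit 3, nat_lit 1, nat_lit 2, nat_lit 0, nat_lit 2, nat_lit 1, nat_lit 3, nat_lit 1, nat_lit 2, nat_lit 0, nat_lit 2, nat_lit 1, nat_lit 3]) (.leaf (nat_lit 2453) (nat_lit 3) [nat_lit 1, nat_lit 2, nat_lit 0, nat_lit 2, nat_lit 1, nat_lit 3, nat_lit 1, nat_lit 2, nat_lit 0, nat_lit 2, nat_lit 1, nat_lit 3, nat_lit 1, nat_lit 2, nat_lit 0, nat_lit 2, nat_lit 1])) (.node (nat_lit 2480) (.leaf (nat_lit 2448) (nat_lit 1) [nat_lit 3, nat_lit 1, nat_lit 2, nat_lit 0, nat_lit 2, nat_lit 1, nat_lit 3, nat_lit 1, nat_lit 2, nat_lit 0, nat_lit 2, nat_lit 1, nat_lit 3, nat_lit 1, nat_lit 2, nat_lit 0, nat_lit 2]) (.node (nat_lit 2481) (.leaf (nat_lit 2449) (nat_lit 2) [nat_lit 1, nat_lit 3, nat_lit 1, nat_lit 2, nat_lit 0, nat_lit 2, nat_lit 1, nat_lit 3, nat_lit 1, nat_lit 2, nat_lit 0, nat_lit 2, nat_lit 1, nat_lit 3, nat_lit 1, nat_lit 2, nat_lit 0]) (.leaf (nat_lit 2450) (nat_lit 0) [nat_lit 2, nat_lit 1, nat_lit 3, nat_lit 1, nat_lit 2, nat_lit 0, nat_lit 2, nat_lit 1, nat_lit 3, nat_lit 1, nat_lit 2, nat_lit 0, nat_lit 2, nat_lit 1, nat_lit 3, nat_lit 1, nat_lit 2])))) (.node (nat_lit 2484) (.node (nat_lit 2483) (.leaf (nat_lit 2451) (nat_lit 2) [nat_lit 0, nat_lit 2, nat_lit 1, nat_lit 3, nat_lit 1, nat_lit 2, nat_lit 0, nat_lit 2, nat_lit 1, nat_lit 3, nat_lit 1, nat_lit 2, nat_lit 0, nat_lit 2, nat_lit 1, nat_lit 3, nat_lit 1]) (.leaf (nat_lit 2452) (nat_lit 1) [nat_lit 2, nat_lit 0, nat_lit 2, nat_lit 1, nat_lit 3, nat_lit 1, nat_lit 2, nat_lit 0, nat_lit 2, nat_lit 1, nat_lit 3, nat_lit 1, nat_lit 2, nat_lit 0, nat_lit 2, nat_lit 1, nat_lit 3])) (.node (nat_lit 2485) (.leaf (nat_lit 2484) (nat_lit 1) [nat_lit 3, nat_lit 1, nat_lit 2, nat_lit 1, nat_lit 2, nat_lit 1, nat_lit 3, nat_lit 1, nat_lit 2, nat_lit 1, nat_lit 2, nat_lit 1, nat_lit 3, nat_lit 1, nat_lit 2, nat_lit 1, nat_lit 2]) (.node (nat_lit 2486) (.leaf (nat_lit 2485) (nat_lit 2) [nat_lit 1, nat_lit 3, nat_lit 1, nat_lit 2, nat_lit 1, nat_lit 2, nat_lit 1, nat_lit 3, nat_lit 1, nat_lit 2, nat_lit 1, nat_lit 2, nat_lit 1, nat_lit 3, nat_lit 1, nat_lit 2, nat_lit 1]) (.leaf (nat_lit 2486) (nat_lit 1) [nat_lit 2, nat_lit 1, nat_lit 3, nat_lit 1, nat_lit 2, nat_lit 1, nat_lit 2, nat_lit 1, nat_lit 3, nat_lit 1, nat_lit 2, nat_lit 1, nat_lit 2, nat_lit 1, nat_lit 3, nat_lit 1, nat_lit 2])))))))) (.node (nat_lit 2524) (.node (nat_lit 2505) (.node (nat_lit 2496) (.node (nat_lit 2491) (.node (nat_lit 2489) (.node (nat_lit 2488) (.leaf (nat_lit 2487) (nat_lit 2) [nat_lit 1, nat_lit 2, nat_lit 1, nat_lit 3, nat_lit 1, nat_lit 2, nat_lit 1, nat_lit 2, nat_lit 1, nat_lit 3, nat_lit 1, nat_lit 2, nat_lit 1, nat_lit 2, nat_lit 1, nat_lit 3, nat_lit 1]) (.leaf (nat_lit 2488) (nat_lit 1) [nat_lit 2, nat_lit 1, nat_lit 2, nat_lit 1, nat_lit 3, nat_lit 1, nat_lit 2, nat_lit 1, nat_lit 2, nat_lit 1, nat_lit 3, nat_lit 1, nat_lit 2, nat_lit 1, nat_lit 2, nat_lit 1, nat_lit 3])) (.node (nat_lit 2490) (.leaf (nat_lit 2489) (nat_lit 3) [nat_lit 1, nat_lit 2, nat_lit 1, nat_lit 2, nat_lit 1, nat_lit 3, nat_lit 1, nat_lit 2, nat_lit 1, nat_lit 2, nat_lit 1, nat_lit 3, nat_lit 1, nat_lit 2, nat_lit 1, nat_lit 2, nat_lit 1]) (.leaf (nat_lit 2484) (nat_lit 1) [nat_lit 3, nat_lit 1, nat_lit 2, nat_lit 1, nat_lit 2, nat_lit 1, nat_lit 3, nat_lit 1, nat_lit 2, nat_lit 1, nat_lit 2, nat_lit 1, nat_lit 3, nat_lit 1, nat_lit 2, nat_lit 1, nat_lit 2]))) (.node (nat_lit 2493) (.node (nat_lit 2492) (.leaf (nat_lit 2485) (nat_lit 2) [nat_lit 1, nat_lit 3, nat_lit 1, nat_lit 2, nat_lit 1, nat_lit 2, nat_lit 1, nat_lit 3, nat_lit 1, nat_lit 2, nat_lit 1, nat_lit 2, nat_lit 1, nat_lit 3, nat_lit 1, nat_lit 2, nat_lit 1]) (.leaf (nat_lit 2486) (nat_lit 1) [nat_lit 2, nat_lit 1, nat_lit 3, nat_lit 1, nat_lit 2, nat_lit 1, nat_lit 2, nat_lit 1, nat_lit 3, nat_lit 1, nat_lit 2, nat_lit 1, nat_lit 2, nat_lit 1, nat_lit 3, nat_lit 1, nat_lit 2])) (.node (nat_lit 2494) (.leaf (nat_lit 2487) (nat_lit 2) [nat_lit 1, nat_lit 2, nat_lit 1, nat_lit 3, nat_lit 1, nat_lit 2, nat_lit 1, nat_lit 2, nat_lit 1, nat_lit 3, nat_lit 1, nat_lit 2, nat_lit 1, nat_lit 2, nat_lit 1, nat_lit 3, nat_lit 1]) (.node (nat_lit 2495) (.leaf (nat_lit 2488) (nat_lit 1) [nat_lit 2, nat_lit 1, nat_lit 2, nat_lit 1, nat_lit 3, nat_lit 1, nat_lit 2, nat_lit 1, nat_lit 2, nat_lit 1, nat_lit 3, nat_lit 1, nat_lit 2, nat_lit 1, nat_lit 2, nat_lit 1, nat_lit 3]) (.leaf (nat_lit 2489) (nat_lit 3) [nat_lit 1, nat_lit 2, nat_lit 1, nat_lit 2, nat_lit 1, nat_lit 3, nat_lit 1, nat_lit 2, nat_lit 1, nat_lit 2, nat_lit 1, nat_lit 3, nat_lit 1, nat_lit 2, nat_lit 1, nat_lit 2, nat_lit 1]))))) (.node (nat_lit 2500) (.node (nat_lit 2498) (.node (nat_lit 2497) (.leaf (nat_lit 2484) (nat_lit 1) [nat_lit 3, nat_lit 1, nat_lit 2, nat_lit 1, nat_lit 2, nat_lit 1, nat_lit 3, nat_lit 1, nat_lit 2, nat_lit 1, nat_lit 2, nat_lit 1, nat_lit 3, nat_lit 1, nat_lit 2, nat_lit 1, nat_lit 2]) (.leaf (nat_lit 2485) (nat_lit 2) [nat_lit 1, nat_lit 3, nat_lit 1, nat_lit 2, nat_lit 1, nat_lit 2, nat_lit 1, nat_lit 3, nat_lit 1, nat_lit 2, nat_lit 1, nat_lit 2, nat_lit 1, nat_lit 3, nat_lit 1, nat_lit 2, nat_lit 1])) (.node (nat_lit 2499) (.leaf (nat_lit 2486) (nat_lit 1) [nat_lit 2, nat_lit 1, nat_lit 3, nat_lit 1, nat_lit 2, nat_lit 1, nat_lit 2, nat_lit 1, nat_lit 3, nat_lit 1, nat_lit 2, nat_lit 1, nat_lit 2, nat_lit 1, nat_lit 3, nat_lit 1, nat_lit 2]) (.leaf (nat_lit 2487) (nat_lit 2) [nat_lit 1, nat_lit 2, nat_lit 1, nat_lit 3, nat_lit 1, nat_lit 2, nat_lit 1, nat_lit 2, nat_lit 1, nat_lit 3, nat_lit 1, nat_lit 2, nat_lit 1, nat_lit 2, nat_lit 1, nat_lit 3, nat_lit 1]))) (.node (nat_lit 2502) (.node (nat_lit 2501) (.leaf (nat_lit 2488) (nat_lit 1) [nat_lit 2, nat_lit 1, nat_lit 2, nat_lit 1, nat_lit 3, nat_lit 1, nat_lit 2, nat_lit 1, nat_lit 2, nat_lit 1, nat_lit 3, nat_lit 1, nat_lit 2, nat_lit 1, nat_lit 2, nat_lit 1, nat_lit 3]) (.leaf (nat_lit 2489) (nat_lit 3) [nat_lit 1, nat_lit 2, nat_lit 1, nat_lit 2, nat_lit 1, nat_lit 3, nat_lit 1, nat_lit 2, nat_lit 1, nat_lit 2, nat_lit 1, nat_lit 3, nat_lit 1, nat_lit 2, nat_lit 1, nat_lit 2, nat_lit 1])) (.node (nat_lit 2503) (.leaf (nat_lit 2489) (nat_lit 3) [nat_lit 1, nat_lit 2, nat_lit 1, nat_lit 2, nat_lit 1, nat_lit 3, nat_lit 1, nat_lit 2, nat_lit 1, nat_lit 2, nat_lit 1, nat_lit 3, nat_lit 1, nat_lit 2, nat_lit 1, nat_lit 2, nat_lit 1]) (.node (nat_lit 2504) (.leaf (nat_lit 2484) (nat_lit 1) [nat_lit 3, nat_lit 1, nat_lit 2, nat_lit 1, nat_lit 2, nat_lit 1, nat_lit 3, nat_lit 1, nat_lit 2, nat_lit 1, nat_lit 2, nat_lit 1, nat_lit 3, nat_lit 1, nat_lit 2, nat_lit 1, nat_lit 2]) (.leaf (nat_lit 2485) (nat_lit 2) [nat_lit 1, nat_lit 3, nat_lit 1, nat_lit 2, nat_lit 1, nat_lit 2, nat_lit 1, nat_lit 3, nat_lit 1, nat_lit 2, nat_lit 1, nat_lit 2, nat_lit 1, nat_lit 3, nat_lit 1, nat_lit 2, nat_lit 1])))))) (.node (nat_lit 2514) (.node (nat_lit 2509) (.node (nat_lit 2507) (.node (nat_lit 2506) (.leaf (nat_lit 2486) (nat_lit 1) [nat_lit 2, nat_lit 1, nat_lit 3, nat_lit 1, nat_lit 2, nat_lit 1, nat_lit 2, nat_lit 1, nat_lit 3, nat_lit 1, nat_lit 2, nat_lit 1, nat_lit 2, nat_lit 1, nat_lit 3, nat_lit 1, nat_lit 2]) (.leaf (nat_lit 2487) (nat_lit 2) [nat_lit 1, nat_lit 2, nat_lit 1, nat_lit 3, nat_lit 1, nat_lit 2, nat_lit 1, nat_lit 2, nat_lit 1, nat_lit 3, nat_lit 1, nat_lit 2, nat_lit 1, nat_lit 2, nat_lit 1, nat_lit 3, nat_lit 1])) (.node (nat_lit 2508) (.leaf (nat_lit 2488) (nat_lit 1) [nat_lit 2, nat_lit 1, nat_lit 2, nat_lit 1, nat_lit 3, nat_lit 1, nat_lit 2, nat_lit 1, nat_lit 2, nat_lit 1, nat_lit 3, nat_lit 1, nat_lit 2, nat_lit 1, nat_lit 2, nat_lit 1, nat_lit 3]) (.leaf (nat_lit 2489) (nat_lit 3) [nat_lit 1, nat_lit 2, nat_lit 1, nat_lit 2, nat_lit 1, nat_lit 3, nat_lit 1, nat_lit 2, nat_lit 1, nat_lit 2, nat_lit 1, nat_lit 3, nat_lit 1, nat_lit 2, nat_lit 1, nat_lit 2, nat_lit 1]))) (.node (nat_lit 2511) (.node (nat_lit 2510) (.leaf (nat_lit 2484) (nat_lit 1) [nat_lit 3, nat_lit 1, nat_lit 2, nat_lit 1, nat_lit 2, nat_lit 1, nat_lit 3, nat_lit 1, nat_lit 2, nat_lit 1, nat_lit 2, nat_lit 1, nat_lit 3, nat_lit 1, nat_lit 2, nat_lit 1, nat_lit 2]) (.leaf (nat_lit 2485) (nat_lit 2) [nat_lit 1, nat_lit 3, nat_lit 1, nat_lit 2, nat_lit 1, nat_lit 2, nat_lit 1, nat_lit 3, nat_lit 1, nat_lit 2, nat_lit 1, nat_lit 2, nat_lit 1, nat_lit 3, nat_lit 1, nat_lit 2, nat_lit 1])) (.node (nat_lit 2512) (.leaf (nat_lit 2486) (nat_lit 1) [nat_lit 2, nat_lit 1, nat_lit 3, nat_lit 1, nat_lit 2, nat_lit 1, nat_lit 2, nat_lit 1, nat_lit 3, nat_lit 1, nat_lit 2, nat_lit 1, nat_lit 2, nat_lit 1, nat_lit 3, nat_lit 1, nat_lit 2]) (.node (nat_lit 2513) (.leaf (nat_lit 2487) (nat_lit 2) [nat_lit 1, nat_lit 2, nat_lit 1, nat_lit 3, nat_lit 1, nat_lit 2, nat_lit 1, nat_lit 2, nat_lit 1, nat_lit 3, nat_lit 1, nat_lit 2, nat_lit 1, nat_lit 2, nat_lit 1, nat_lit 3, nat_lit 1]) (.leaf (nat_lit 2488) (nat_lit 1) [nat_lit 2, nat_lit 1, nat_lit 2, nat_lit 1, nat_lit 3, nat_lit 1, nat_lit 2, nat_lit 1, nat_lit 2, nat_lit 1, nat_lit 3, nat_lit 1, nat_lit 2, nat_lit 1, nat_lit 2, nat_lit 1, nat_lit 3]))))) (.node (nat_lit 2519) (.node (nat_lit 2516) (.node (nat_lit 2515) (.leaf (nat_lit 2489) (nat_lit 3) [nat_lit 1, nat_lit 2, nat_lit 1, nat_lit 2, nat_lit 1, nat_lit 3, nat_lit 1, nat_lit 2, nat_lit 1, nat_lit 2, nat_lit 1, nat_lit 3, nat_lit 1, nat_lit 2, nat_lit 1, nat_lit 2, nat_lit 1]) (.leaf (nat_lit 2484) (nat_lit 1) [nat_lit 3, nat_lit 1, nat_lit 2, nat_lit 1, nat_lit 2, nat_lit 1, nat_lit 3, nat_lit 1, nat_lit 2, nat_lit 1, nat_lit 2, nat_lit 1, nat_lit 3, nat_lit 1, nat_lit 2, nat_lit 1, nat_lit 2])) (.node (nat_lit 2517) (.leaf (nat_lit 2485) (nat_lit 2) [nat_lit 1, nat_lit 3, nat_lit 1, nat_lit 2, nat_lit 1, nat_lit 2, nat_lit 1, nat_lit 3, nat_lit 1, nat_lit 2, nat_lit 1, nat_lit 2, nat_lit 1, nat_lit 3, nat_lit 1, nat_lit 2, nat_lit 1]) (.node (nat_lit 2518) (.leaf (nat_lit 2486) (nat_lit 1) [nat_lit 2, nat_lit 1, nat_lit 3, nat_lit 1, nat_lit 2, nat_lit 1, nat_lit 2, nat_lit 1, nat_lit 3, nat_lit 1, nat_lit 2, nat_lit 1, nat_lit 2, nat_lit 1, nat_lit 3, nat_lit 1, nat_lit 2]) (.leaf (nat_lit 2487) (nat_lit 2) [nat_lit 1, nat_lit 2, nat_lit 1, nat_lit 3, nat_lit 1, nat_lit 2, nat_lit 1, nat_lit 2, nat_lit 1, nat_lit 3, nat_lit 1, nat_lit 2, nat_lit 1, nat_lit 2, nat_lit 1, nat_lit 3, nat_lit 1])))) (.node (nat_lit 2521) (.node (nat_lit 2520) (.leaf (nat_lit 2488) (nat_lit 1) [nat_lit 2, nat_lit 1, nat_lit 2, nat_lit 1, nat_lit 3, nat_lit 1, nat_lit 2, nat_lit 1, nat_lit 2, nat_lit 1, nat_lit 3, nat_lit 1, nat_lit 2, nat_lit 1, nat_lit 2, nat_lit 1, nat_lit 3]) (.leaf (nat_lit 2520) (nat_lit 1) [nat_lit 3, nat_lit 1, nat_lit 2, nat_lit 3, nat_lit 2, nat_lit 1, nat_lit 3, nat_lit 1, nat_lit 2, nat_lit 3, nat_lit 2, nat_lit 1, nat_lit 3, nat_lit 1, nat_lit 2, nat_lit 3, nat_lit 2])) (.node (nat_lit 2522) (.leaf (nat_lit 2521) (nat_lit 2) [nat_lit 1, nat_lit 3, nat_lit 1, nat_lit 2, nat_lit 3, nat_lit 2, nat_lit 1, nat_lit 3, nat_lit 1, nat_lit 2, nat_lit 3, nat_lit 2, nat_lit 1, nat_lit 3, nat_lit 1, nat_lit 2, nat_lit 3]) (.node (nat_lit 2523) (.leaf (nat_lit 2522) (nat_lit 3) [nat_lit 2, nat_lit 1, nat_lit 3, nat_lit 1, nat_lit 2, nat_lit 3, nat_lit 2, nat_lit 1, nat_lit 3, nat_lit 1, nat_lit 2, nat_lit 3, nat_lit 2, nat_lit 1, nat_lit 3, nat_lit 1, nat_lit 2]) (.leaf (nat_lit 2523) (nat_lit 2) [nat_lit 3, nat_lit 2, nat_lit 1, nat_lit 3, nat_lit 1, nat_lit 2, nat_lit 3, nat_lit 2, nat_lit 1, nat_lit 3, nat_lit 1, nat_lit 2, nat_lit 3, nat_lit 2, nat_lit 1, nat_lit 3, nat_lit 1]))))))) (.node (nat_lit 2543) (.node (nat_lit 2533) (.node (nat_lit 2528) (.node (nat_lit 2526) (.node (nat_lit 2525) (.leaf (nat_lit 2524) (nat_lit 1) [nat_lit 2, nat_lit 3, nat_lit 2, nat_lit 1, nat_lit 3, nat_lit 1, nat_lit 2, nat_lit 3, nat_lit 2, nat_lit 1, nat_lit 3, nat_lit 1, nat_lit 2, nat_lit 3, nat_lit 2, nat_lit 1, nat_lit 3]) (.leaf (nat_lit 2525) (nat_lit 3) [nat_lit 1, nat_lit 2, nat_lit 3, nat_lit 2, nat_lit 1, nat_lit 3, nat_lit 1, nat_lit 2, nat_lit 3, nat_lit 2, nat_lit 1, nat_lit 3, nat_lit 1, nat_lit 2, nat_lit 3, nat_lit 2, nat_lit 1])) (.node (nat_lit 2527) (.leaf (nat_lit 2520) (nat_lit 1) [nat_lit 3, nat_lit 1, nat_lit 2, nat_lit 3, nat_lit 2, nat_lit 1, nat_lit 3, nat_lit 1, nat_lit 2, nat_lit 3, nat_lit 2, nat_lit 1, nat_lit 3, nat_lit 1, nat_lit 2, nat_lit 3, nat_lit 2]) (.leaf (nat_lit 2521) (nat_lit 2) [nat_lit 1, nat_lit 3, nat_lit 1, nat_lit 2, nat_lit 3, nat_lit 2, nat_lit 1, nat_lit 3, nat_lit 1, nat_lit 2, nat_lit 3, nat_lit 2, nat_lit 1, nat_lit 3, nat_lit 1, nat_lit 2, nat_lit 3]))) (.node (nat_lit 2530) (.node (nat_lit 2529) (.leaf (nat_lit 2522) (nat_lit 3) [nat_lit 2, nat_lit 1, nat_lit 3, nat_lit 1, nat_lit 2, nat_lit 3, nat_lit 2, nat_lit 1, nat_lit 3, nat_lit 1, nat_lit 2, nat_lit 3, nat_lit 2, nat_lit 1, nat_lit 3, nat_lit 1, nat_lit 2]) (.leaf (nat_lit 2523) (nat_lit 2) [nat_lit 3, nat_lit 2, nat_lit 1, nat_lit 3, nat_lit 1, nat_lit 2, nat_lit 3, nat_lit 2, nat_lit 1, nat_lit 3, nat_lit 1, nat_lit 2, nat_lit 3, nat_lit 2, nat_lit 1, nat_lit 3, nat_lit 1])) (.node (nat_lit 2531) (.leaf (nat_lit 2524) (nat_lit 1) [nat_lit 2, nat_lit 3, nat_lit 2, nat_lit 1, nat_lit 3, nat_lit 1, nat_lit 2, nat_lit 3, nat_lit 2, nat_lit 1, nat_lit 3, nat_lit 1, nat_lit 2, nat_lit 3, nat_lit 2, nat_lit 1, nat_lit 3]) (.node (nat_lit 2532) (.leaf (nat_lit 2525) (nat_lit 3) [nat_lit 1, nat_lit 2, nat_lit 3, nat_lit 2, nat_lit 1, nat_lit 3, nat_lit 1, nat_lit 2, nat_lit 3, nat_lit 2, nat_lit 1, nat_lit 3, nat_lit 1, nat_lit 2, nat_lit 3, nat_lit 2, nat_lit 1]) (.leaf (nat_lit 2520) (nat_lit 1) [nat_lit 3, nat_lit 1, nat_lit 2, nat_lit 3, nat_lit 2, nat_lit 1, nat_lit 3, nat_lit 1, nat_lit 2, nat_lit 3, nat_lit 2, nat_lit 1, nat_lit 3, nat_lit 1, nat_lit 2, nat_lit 3, nat_lit 2]))))) (.node (nat_lit 2538) (.node (nat_lit 2535) (.node (nat_lit 2534) (.leaf (nat_lit 2521) (nat_lit 2) [nat_lit 1, nat_lit 3, nat_lit 1, nat_lit 2, nat_lit 3, nat_lit 2, nat_lit 1, nat_lit 3, nat_lit 1, nat_lit 2, nat_lit 3, nat_lit 2, nat_lit 1, nat_lit 3, nat_lit 1, nat_lit 2, nat_lit 3]) (.leaf (nat_lit 2522) (nat_lit 3) [nat_lit 2, nat_lit 1, nat_lit 3, nat_lit 1, nat_lit 2, nat_lit 3, nat_lit 2, nat_lit 1, nat_lit 3, nat_lit 1, nat_lit 2, nat_lit 3, nat_lit 2, nat_lit 1, nat_lit 3, nat_lit 1, nat_lit 2])) (.node (nat_lit 2536) (.leaf (nat_lit 2523) (nat_lit 2) [nat_lit 3, nat_lit 2, nat_lit 1, nat_lit 3, nat_lit 1, nat_lit 2, nat_lit 3, nat_lit 2, nat_lit 1, nat_lit 3, nat_lit 1, nat_lit 2, nat_lit 3, nat_lit 2, nat_lit 1, nat_lit 3, nat_lit 1]) (.node (nat_lit 2537) (.leaf (nat_lit 2524) (nat_lit 1) [nat_lit 2, nat_lit 3, nat_lit 2, nat_lit 1, nat_lit 3, nat_lit 1, nat_lit 2, nat_lit 3, nat_lit 2, nat_lit 1, nat_lit 3, nat_lit 1, nat_lit 2, nat_lit 3, nat_lit 2, nat_lit 1, nat_lit 3]) (.leaf (nat_lit 2525) (nat_lit 3) [nat_lit 1, nat_lit 2, nat_lit 3, nat_lit 2, nat_lit 1, nat_lit 3, nat_lit 1, nat_lit 2, nat_lit 3, nat_lit 2, nat_lit 1, nat_lit 3, nat_lit 1, nat_lit 2, nat_lit 3, nat_lit 2, nat_lit 1])))) (.node (nat_lit 2540) (.node (nat_lit 2539) (.leaf (nat_lit 2525) (nat_lit 3) [nat_lit 1, nat_lit 2, nat_lit 3, nat_lit 2, nat_lit 1, nat_lit 3, nat_lit 1, nat_lit 2, nat_lit 3, nat_lit 2, nat_lit 1, nat_lit 3, nat_lit 1, nat_lit 2, nat_lit 3, nat_lit 2, nat_lit 1]) (.leaf (nat_lit 2520) (nat_lit 1) [nat_lit 3, nat_lit 1, nat_lit 2, nat_lit 3, nat_lit 2, nat_lit 1, nat_lit 3, nat_lit 1, nat_lit 2, nat_lit 3, nat_lit 2, nat_lit 1, nat_lit 3, nat_lit 1, nat_lit 2, nat_lit 3, nat_lit 2])) (.node (nat_lit 2541) (.leaf (nat_lit 2521) (nat_lit 2) [nat_lit 1, nat_lit 3, nat_lit 1, nat_lit 2, nat_lit 3, nat_lit 2, nat_lit 1, nat_lit 3, nat_lit 1, nat_lit 2, nat_lit 3, nat_lit 2, nat_lit 1, nat_lit 3, nat_lit 1, nat_lit 2, nat_lit 3]) (.node (nat_lit 2542) (.leaf (nat_lit 2522) (nat_lit 3) [nat_lit 2, nat_lit 1, nat_lit 3, nat_lit 1, nat_lit 2, nat_lit 3, nat_lit 2, nat_lit 1, nat_lit 3, nat_lit 1, nat_lit 2, nat_lit 3, nat_lit 2, nat_lit 1, nat_lit 3, nat_lit 1, nat_lit 2]) (.leaf (nat_lit 2523) (nat_lit 2) [nat_lit 3, nat_lit 2, nat_lit 1, nat_lit 3, nat_lit 1, nat_lit 2, nat_lit 3, nat_lit 2, nat_lit 1, nat_lit 3, nat_lit 1, nat_lit 2, nat_lit 3, nat_lit 2, nat_lit 1, nat_lit 3, nat_lit 1])))))) (.node (nat_lit 2552) (.node (nat_lit 2547) (.node (nat_lit 2545) (.node (nat_lit 2544) (.leaf (nat_lit 2524) (nat_lit 1) [nat_lit 2, nat_lit 3, nat_lit 2, nat_lit 1, nat_lit 3, nat_lit 1, nat_lit 2, nat_lit 3, nat_lit 2, nat_lit 1, nat_lit 3, nat_lit 1, nat_lit 2, nat_lit 3, nat_lit 2, nat_lit 1, nat_lit 3]) (.leaf (nat_lit 2525) (nat_lit 3) [nat_lit 1, nat_lit 2, nat_lit 3, nat_lit 2, nat_lit 1, nat_lit 3, nat_lit 1, nat_lit 2, nat_lit 3, nat_lit 2, nat_lit 1, nat_lit 3, nat_lit 1, nat_lit 2, nat_lit 3, nat_lit 2, nat_lit 1])) (.node (nat_lit 2546) (.leaf (nat_lit 2520) (nat_lit 1) [nat_lit 3, nat_lit 1, nat_lit 2, nat_lit 3, nat_lit 2, nat_lit 1, nat_lit 3, nat_lit 1, nat_lit 2, nat_lit 3, nat_lit 2, nat_lit 1, nat_lit 3, nat_lit 1, nat_lit 2, nat_lit 3, nat_lit 2]) (.leaf (nat_lit 2521) (nat_lit 2) [nat_lit 1, nat_lit 3, nat_lit 1, nat_lit 2, nat_lit 3, nat_lit 2, nat_lit 1, nat_lit 3, nat_lit 1, nat_lit 2, nat_lit 3, nat_lit 2, nat_lit 1, nat_lit 3, nat_lit 1, nat_lit 2, nat_lit 3]))) (.node (nat_lit 2549) (.node (nat_lit 2548) (.leaf (nat_lit 2522) (nat_lit 3) [nat_lit 2, nat_lit 1, nat_lit 3, nat_lit 1, nat_lit 2, nat_lit 3, nat_lit 2, nat_lit 1, nat_lit 3, nat_lit 1, nat_lit 2, nat_lit 3, nat_lit 2, nat_lit 1, nat_lit 3, nat_lit 1, nat_lit 2]) (.leaf (nat_lit 2523) (nat_lit 2) [nat_lit 3, nat_lit 2, nat_lit 1, nat_lit 3, nat_lit 1, nat_lit 2, nat_lit 3, nat_lit 2, nat_lit 1, nat_lit 3, nat_lit 1, nat_lit 2, nat_lit 3, nat_lit 2, nat_lit 1, nat_lit 3, nat_lit 1])) (.node (nat_lit 2550) (.leaf (nat_lit 2524) (nat_lit 1) [nat_lit 2, nat_lit 3, nat_lit 2, nat_lit 1, nat_lit 3, nat_lit 1, nat_lit 2, nat_lit 3, nat_lit 2, nat_lit 1, nat_lit 3, nat_lit 1, nat_lit 2, nat_lit 3, nat_lit 2, nat_lit 1, nat_lit 3]) (.node (nat_lit 2551) (.leaf (nat_lit 2525) (nat_lit 3) [nat_lit 1, nat_lit 2, nat_lit 3, nat_lit 2, nat_lit 1, nat_lit 3, nat_lit 1, nat_lit 2, nat_lit 3, nat_lit 2, nat_lit 1, nat_lit 3, nat_lit 1, nat_lit 2, nat_lit 3, nat_lit 2, nat_lit 1]) (.leaf (nat_lit 2520) (nat_lit 1) [nat_lit 3, nat_lit 1, nat_lit 2, nat_lit 3, nat_lit 2, nat_lit 1, nat_lit 3, nat_lit 1, nat_lit 2, nat_lit 3, nat_lit 2, nat_lit 1, nat_lit 3, nat_lit 1, nat_lit 2, nat_lit 3, nat_lit 2]))))) (.node (nat_lit 2557) (.node (nat_lit 2554) (.node (nat_lit 2553) (.leaf (nat_lit 2521) (nat_lit 2) [nat_lit 1, nat_lit 3, nat_lit 1, nat_lit 2, nat_lit 3, nat_lit 2, nat_lit 1, nat_lit 3, nat_lit 1, nat_lit 2, nat_lit 3, nat_lit 2, nat_lit 1, nat_lit 3, nat_lit 1, nat_lit 2, nat_lit 3]) (.leaf (nat_lit 2522) (nat_lit 3) [nat_lit 2, nat_lit 1, nat_lit 3, nat_lit 1, nat_lit 2, nat_lit 3, nat_lit 2, nat_lit 1, nat_lit 3, nat_lit 1, nat_lit 2, nat_lit 3, nat_lit 2, nat_lit 1, nat_lit 3, nat_lit 1, nat_lit 2])) (.node (nat_lit 2555) (.leaf (nat_lit 2523) (nat_lit 2) [nat_lit 3, nat_lit 2, nat_lit 1, nat_lit 3, nat_lit 1, nat_lit 2, nat_lit 3, nat_lit 2, nat_lit 1, nat_lit 3, nat_lit 1, nat_lit 2, nat_lit 3, nat_lit 2, nat_lit 1, nat_lit 3, nat_lit 1]) (.node (nat_lit 2556) (.leaf (nat_lit 2524) (nat_lit 1) [nat_lit 2, nat_lit 3, nat_lit 2, nat_lit 1, nat_lit 3, nat_lit 1, nat_lit 2, nat_lit 3, nat_lit 2, nat_lit 1, nat_lit 3, nat_lit 1, nat_lit 2, nat_lit 3, nat_lit 2, nat_lit 1, nat_lit 3]) (.leaf (nat_lit 2556) (nat_lit 1) [nat_lit 0, nat_lit 1, nat_lit 3, nat_lit 0, nat_lit 3, nat_lit 1, nat_lit 0, nat_lit 1, nat_lit 3, nat_lit 0, nat_lit 3, nat_lit 1, nat_lit 0, nat_lit 1, nat_lit 3, nat_lit 0, nat_lit 3])))) (.node (nat_lit 2559) (.node (nat_lit 2558) (.leaf (nat_lit 2557) (nat_lit 3) [nat_lit 1, nat_lit 0, nat_lit 1, nat_lit 3, nat_lit 0, nat_lit 3, nat_lit 1, nat_lit 0, nat_lit 1, nat_lit 3, nat_lit 0, nat_lit 3, nat_lit 1, nat_lit 0, nat_lit 1, nat_lit 3, nat_lit 0]) (.leaf (nat_lit 2558) (nat_lit 0) [nat_lit 3, nat_lit 1, nat_lit 0, nat_lit 1, nat_lit 3, nat_lit 0, nat_lit 3, nat_lit 1, nat_lit 0, nat_lit 1, nat_lit 3, nat_lit 0, nat_lit 3, nat_lit 1, nat_lit 0, nat_lit 1, nat_lit 3])) (.node (nat_lit 2560) (.leaf (nat_lit 2559) (nat_lit 3) [nat_lit 0, nat_lit 3, nat_lit 1, nat_lit 0, nat_lit 1, nat_lit 3, nat_lit 0, nat_lit 3, nat_lit 1, nat_lit 0, nat_lit 1, nat_lit 3, nat_lit 0, nat_lit 3, nat_lit 1, nat_lit 0, nat_lit 1]) (.node (nat_lit 2561) (.leaf (nat_lit 2560) (nat_lit 1) [nat_lit 3, nat_lit 0, nat_lit 3, nat_lit 1, nat_lit 0, nat_lit 1, nat_lit 3, nat_lit 0, nat_lit 3, nat_lit 1, nat_lit 0, nat_lit 1, nat_lit 3, nat_lit 0, nat_lit 3, nat_lit 1, nat_lit 0]) (.leaf (nat_lit 2561) (nat_lit 0) [nat_lit 1, nat_lit 3, nat_lit 0, nat_lit 3, nat_lit 1, nat_lit 0, nat_lit 1, nat_lit 3, nat_lit 0, nat_lit 3, nat_lit 1, nat_lit 0, nat_lit 1, nat_lit 3, nat_lit 0, nat_lit 3, nat_lit 1]))))))))) (.node (nat_lit 2637) (.node (nat_lit 2599) (.node (nat_lit 2580) (.node (nat_lit 2571) (.node (nat_lit 2566) (.node (nat_lit 2564) (.node (nat_lit 2563) (.leaf (nat_lit 2556) (nat_lit 1) [nat_lit 0, nat_lit 1, nat_lit 3, nat_lit 0, nat_lit 3, nat_lit 1, nat_lit 0, nat_lit 1, nat_lit 3, nat_lit 0, nat_lit 3, nat_lit 1, nat_lit 0, nat_lit 1, nat_lit 3, nat_lit 0, nat_lit 3]) (.leaf (nat_lit 2557) (nat_lit 3) [nat_lit 1, nat_lit 0, nat_lit 1, nat_lit 3, nat_lit 0, nat_lit 3, nat_lit 1, nat_lit 0, nat_lit 1, nat_lit 3, nat_lit 0, nat_lit 3, nat_lit 1, nat_lit 0, nat_lit 1, nat_lit 3, nat_lit 0])) (.node (nat_lit 2565) (.leaf (nat_lit 2558) (nat_lit 0) [nat_lit 3, nat_lit 1, nat_lit 0, nat_lit 1, nat_lit 3, nat_lit 0, nat_lit 3, nat_lit 1, nat_lit 0, nat_lit 1, nat_lit 3, nat_lit 0, nat_lit 3, nat_lit 1, nat_lit 0, nat_lit 1, nat_lit 3]) (.leaf (nat_lit 2559) (nat_lit 3) [nat_lit 0, nat_lit 3, nat_lit 1, nat_lit 0, nat_lit 1, nat_lit 3, nat_lit 0, nat_lit 3, nat_lit 1, nat_lit 0, nat_lit 1, nat_lit 3, nat_lit 0, nat_lit 3, nat_lit 1, nat_lit 0, nat_lit 1]))) (.node (nat_lit 2568) (.node (nat_lit 2567) (.leaf (nat_lit 2560) (nat_lit 1) [nat_lit 3, nat_lit 0, nat_lit 3, nat_lit 1, nat_lit 0, nat_lit 1, nat_lit 3, nat_lit 0, nat_lit 3, nat_lit 1, nat_lit 0, nat_lit 1, nat_lit 3, nat_lit 0, nat_lit 3, nat_lit 1, nat_lit 0]) (.leaf (nat_lit 2561) (nat_lit 0) [nat_lit 1, nat_lit 3, nat_lit 0, nat_lit 3, nat_lit 1, nat_lit 0, nat_lit 1, nat_lit 3, nat_lit 0, nat_lit 3, nat_lit 1, nat_lit 0, nat_lit 1, nat_lit 3, nat_lit 0, nat_lit 3, nat_lit 1])) (.node (nat_lit 2569) (.leaf (nat_lit 2556) (nat_lit 1) [nat_lit 0, nat_lit 1, nat_lit 3, nat_lit 0, nat_lit 3, nat_lit 1, nat_lit 0, nat_lit 1, nat_lit 3, nat_lit 0, nat_lit 3, nat_lit 1, nat_lit 0, nat_lit 1, nat_lit 3, nat_lit 0, nat_lit 3]) (.node (nat_lit 2570) (.leaf (nat_lit 2557) (nat_lit 3) [nat_lit 1, nat_lit 0, nat_lit 1, nat_lit 3, nat_lit 0, nat_lit 3, nat_lit 1, nat_lit 0, nat_lit 1, nat_lit 3, nat_lit 0, nat_lit 3, nat_lit 1, nat_lit 0, nat_lit 1, nat_lit 3, nat_lit 0]) (.leaf (nat_lit 2558) (nat_lit 0) [nat_lit 3, nat_lit 1, nat_lit 0, nat_lit 1, nat_lit 3, nat_lit 0, nat_lit 3, nat_lit 1, nat_lit 0, nat_lit 1, nat_lit 3, nat_lit 0, nat_lit 3, nat_lit 1, nat_lit 0, nat_lit 1, nat_lit 3]))))) (.node (nat_lit 2575) (.node (nat_lit 2573) (.node (nat_lit 2572) (.leaf (nat_lit 2559) (nat_lit 3) [nat_lit 0, nat_lit 3, nat_lit 1, nat_lit 0, nat_lit 1, nat_lit 3, nat_lit 0, nat_lit 3, nat_lit 1, nat_lit 0, nat_lit 1, nat_lit 3, nat_lit 0, nat_lit 3, nat_lit 1, nat_lit 0, nat_lit 1]) (.leaf (nat_lit 2560) (nat_lit 1) [nat_lit 3, nat_lit 0, nat_lit 3, nat_lit 1, nat_lit 0, nat_lit 1, nat_lit 3, nat_lit 0, nat_lit 3, nat_lit 1, nat_lit 0, nat_lit 1, nat_lit 3, nat_lit 0, nat_lit 3, nat_lit 1, nat_lit 0])) (.node (nat_lit 2574) (.leaf (nat_lit 2561) (nat_lit 0) [nat_lit 1, nat_lit 3, nat_lit 0, nat_lit 3, nat_lit 1, nat_lit 0, nat_lit 1, nat_lit 3, nat_lit 0, nat_lit 3, nat_lit 1, nat_lit 0, nat_lit 1, nat_lit 3, nat_lit 0, nat_lit 3, nat_lit 1]) (.leaf (nat_lit 2561) (nat_lit 0) [nat_lit 1, nat_lit 3, nat_lit 0, nat_lit 3, nat_lit 1, nat_lit 0, nat_lit 1, nat_lit 3, nat_lit 0, nat_lit 3, nat_lit 1, nat_lit 0, nat_lit 1, nat_lit 3, nat_lit 0, nat_lit 3, nat_lit 1]))) (.node (nat_lit 2577) (.node (nat_lit 2576) (.leaf (nat_lit 2556) (nat_lit 1) [nat_lit 0, nat_lit 1, nat_lit 3, nat_lit 0, nat_lit 3, nat_lit 1, nat_lit 0, nat_lit 1, nat_lit 3, nat_lit 0, nat_lit 3, nat_lit 1, nat_lit 0, nat_lit 1, nat_lit 3, nat_lit 0, nat_lit 3]) (.leaf (nat_lit 2557) (nat_lit 3) [nat_lit 1, nat_lit 0, nat_lit 1, nat_lit 3, nat_lit 0, nat_lit 3, nat_lit 1, nat_lit 0, nat_lit 1, nat_lit 3, nat_lit 0, nat_lit 3, nat_lit 1, nat_lit 0, nat_lit 1, nat_lit 3, nat_lit 0])) (.node (nat_lit 2578) (.leaf (nat_lit 2558) (nat_lit 0) [nat_lit 3, nat_lit 1, nat_lit 0, nat_lit 1, nat_lit 3, nat_lit 0, nat_lit 3, nat_lit 1, nat_lit 0, nat_lit 1, nat_lit 3, nat_lit 0, nat_lit 3, nat_lit 1, nat_lit 0, nat_lit 1, nat_lit 3]) (.node (nat_lit 2579) (.leaf (nat_lit 2559) (nat_lit 3) [nat_lit 0, nat_lit 3, nat_lit 1, nat_lit 0, nat_lit 1, nat_lit 3, nat_lit 0, nat_lit 3, nat_lit 1, nat_lit 0, nat_lit 1, nat_lit 3, nat_lit 0, nat_lit 3, nat_lit 1, nat_lit 0, nat_lit 1]) (.leaf (nat_lit 2560) (nat_lit 1) [nat_lit 3, nat_lit 0, nat_lit 3, nat_lit 1, nat_lit 0, nat_lit 1, nat_lit 3, nat_lit 0, nat_lit 3, nat_lit 1, nat_lit 0, nat_lit 1, nat_lit 3, nat_lit 0, nat_lit 3, nat_lit 1, nat_lit 0])))))) (.node (nat_lit 2589) (.node (nat_lit 2584) (.node (nat_lit 2582) (.node (nat_lit 2581) (.leaf (nat_lit 2561) (nat_lit 0) [nat_lit 1, nat_lit 3, nat_lit 0, nat_lit 3, nat_lit 1, nat_lit 0, nat_lit 1, nat_lit 3, nat_lit 0, nat_lit 3, nat_lit 1, nat_lit 0, nat_lit 1, nat_lit 3, nat_lit 0, nat_lit 3, nat_lit 1]) (.leaf (nat_lit 2556) (nat_lit 1) [nat_lit 0, nat_lit 1, nat_lit 3, nat_lit 0, nat_lit 3, nat_lit 1, nat_lit 0, nat_lit 1, nat_lit 3, nat_lit 0, nat_lit 3, nat_lit 1, nat_lit 0, nat_lit 1, nat_lit 3, nat_lit 0, nat_lit 3])) (.node (nat_lit 2583) (.leaf (nat_lit 2557) (nat_lit 3) [nat_lit 1, nat_lit 0, nat_lit 1, nat_lit 3, nat_lit 0, nat_lit 3, nat_lit 1, nat_lit 0, nat_lit 1, nat_lit 3, nat_lit 0, nat_lit 3, nat_lit 1, nat_lit 0, nat_lit 1, nat_lit 3, nat_lit 0]) (.leaf (nat_lit 2558) (nat_lit 0) [nat_lit 3, nat_lit 1, nat_lit 0, nat_lit 1, nat_lit 3, nat_lit 0, nat_lit 3, nat_lit 1, nat_lit 0, nat_lit 1, nat_lit 3, nat_lit 0, nat_lit 3, nat_lit 1, nat_lit 0, nat_lit 1, nat_lit 3]))) (.node (nat_lit 2586) (.node (nat_lit 2585) (.leaf (nat_lit 2559) (nat_lit 3) [nat_lit 0, nat_lit 3, nat_lit 1, nat_lit 0, nat_lit 1, nat_lit 3, nat_lit 0, nat_lit 3, nat_lit 1, nat_lit 0, nat_lit 1, nat_lit 3, nat_lit 0, nat_lit 3, nat_lit 1, nat_lit 0, nat_lit 1]) (.leaf (nat_lit 2560) (nat_lit 1) [nat_lit 3, nat_lit 0, nat_lit 3, nat_lit 1, nat_lit 0, nat_lit 1, nat_lit 3, nat_lit 0, nat_lit 3, nat_lit 1, nat_lit 0, nat_lit 1, nat_lit 3, nat_lit 0, nat_lit 3, nat_lit 1, nat_lit 0])) (.node (nat_lit 2587) (.leaf (nat_lit 2561) (nat_lit 0) [nat_lit 1, nat_lit 3, nat_lit 0, nat_lit 3, nat_lit 1, nat_lit 0, nat_lit 1, nat_lit 3, nat_lit 0, nat_lit 3, nat_lit 1, nat_lit 0, nat_lit 1, nat_lit 3, nat_lit 0, nat_lit 3, nat_lit 1]) (.node (nat_lit 2588) (.leaf (nat_lit 2556) (nat_lit 1) [nat_lit 0, nat_lit 1, nat_lit 3, nat_lit 0, nat_lit 3, nat_lit 1, nat_lit 0, nat_lit 1, nat_lit 3, nat_lit 0, nat_lit 3, nat_lit 1, nat_lit 0, nat_lit 1, nat_lit 3, nat_lit 0, nat_lit 3]) (.leaf (nat_lit 2557) (nat_lit 3) [nat_lit 1, nat_lit 0, nat_lit 1, nat_lit 3, nat_lit 0, nat_lit 3, nat_lit 1, nat_lit 0, nat_lit 1, nat_lit 3, nat_lit 0, nat_lit 3, nat_lit 1, nat_lit 0, nat_lit 1, nat_lit 3, nat_lit 0]))))) (.node (nat_lit 2594) (.node (nat_lit 2591) (.node (nat_lit 2590) (.leaf (nat_lit 2558) (nat_lit 0) [nat_lit 3, nat_lit 1, nat_lit 0, nat_lit 1, nat_lit 3, nat_lit 0, nat_lit 3, nat_lit 1, nat_lit 0, nat_lit 1, nat_lit 3, nat_lit 0, nat_lit 3, nat_lit 1, nat_lit 0, nat_lit 1, nat_lit 3]) (.leaf (nat_lit 2559) (nat_lit 3) [nat_lit 0, nat_lit 3, nat_lit 1, nat_lit 0, nat_lit 1, nat_lit 3, nat_lit 0, nat_lit 3, nat_lit 1, nat_lit 0, nat_lit 1, nat_lit 3, nat_lit 0, nat_lit 3, nat_lit 1, nat_lit 0, nat_lit 1])) (.node (nat_lit 2592) (.leaf (nat_lit 2560) (nat_lit 1) [nat_lit 3, nat_lit 0, nat_lit 3, nat_lit 1, nat_lit 0, nat_lit 1, nat_lit 3, nat_lit 0, nat_lit 3, nat_lit 1, nat_lit 0, nat_lit 1, nat_lit 3, nat_lit 0, nat_lit 3, nat_lit 1, nat_lit 0]) (.node (nat_lit 2593) (.leaf (nat_lit 2592) (nat_lit 1) [nat_lit 0, nat_lit 1, nat_lit 3, nat_lit 1, nat_lit 3, nat_lit 1, nat_lit 0, nat_lit 1, nat_lit 3, nat_lit 1, nat_lit 3, nat_lit 1, nat_lit 0, nat_lit 1, nat_lit 3, nat_lit 1, nat_lit 3]) (.leaf (nat_lit 2593) (nat_lit 3) [nat_lit 1, nat_lit 0, nat_lit 1, nat_lit 3, nat_lit 1, nat_lit 3, nat_lit 1, nat_lit 0, nat_lit 1, nat_lit 3, nat_lit 1, nat_lit 3, nat_lit 1, nat_lit 0, nat_lit 1, nat_lit 3, nat_lit 1])))) (.node (nat_lit 2596) (.node (nat_lit 2595) (.leaf (nat_lit 2594) (nat_lit 1) [nat_lit 3, nat_lit 1, nat_lit 0, nat_lit 1, nat_lit 3, nat_lit 1, nat_lit 3, nat_lit 1, nat_lit 0, nat_lit 1, nat_lit 3, nat_lit 1, nat_lit 3, nat_lit 1, nat_lit 0, nat_lit 1, nat_lit 3]) (.leaf (nat_lit 2595) (nat_lit 3) [nat_lit 1, nat_lit 3, nat_lit 1, nat_lit 0, nat_lit 1, nat_lit 3, nat_lit 1, nat_lit 3, nat_lit 1, nat_lit 0, nat_lit 1, nat_lit 3, nat_lit 1, nat_lit 3, nat_lit 1, nat_lit 0, nat_lit 1])) (.node (nat_lit 2597) (.leaf (nat_lit 2596) (nat_lit 1) [nat_lit 3, nat_lit 1, nat_lit 3, nat_lit 1, nat_lit 0, nat_lit 1, nat_lit 3, nat_lit 1, nat_lit 3, nat_lit 1, nat_lit 0, nat_lit 1, nat_lit 3, nat_lit 1, nat_lit 3, nat_lit 1, nat_lit 0]) (.node (nat_lit 2598) (.leaf (nat_lit 2597) (nat_lit 0) [nat_lit 1, nat_lit 3, nat_lit 1, nat_lit 3, nat_lit 1, nat_lit 0, nat_lit 1, nat_lit 3, nat_lit 1, nat_lit 3, nat_lit 1, nat_lit 0, nat_lit 1, nat_lit 3, nat_lit 1, nat_lit 3, nat_lit 1]) (.leaf (nat_lit 2592) (nat_lit 1) [nat_lit 0, nat_lit 1, nat_lit 3, nat_lit 1, nat_lit 3, nat_lit 1, nat_lit 0, nat_lit 1, nat_lit 3, nat_lit 1, nat_lit 3, nat_lit 1, nat_lit 0, nat_lit 1, nat_lit 3, nat_lit 1, nat_lit 3]))))))) (.node (nat_lit 2618) (.node (nat_lit 2608) (.node (nat_lit 2603) (.node (nat_lit 2601) (.node (nat_lit 2600) (.leaf (nat_lit 2593) (nat_lit 3) [nat_lit 1, nat_lit 0, nat_lit 1, nat_lit 3, nat_lit 1, nat_lit 3, nat_lit 1, nat_lit 0, nat_lit 1, nat_lit 3, nat_lit 1, nat_lit 3, nat_lit 1, nat_lit 0, nat_lit 1, nat_lit 3, nat_lit 1]) (.leaf (nat_lit 2594) (nat_lit 1) [nat_lit 3, nat_lit 1, nat_lit 0, nat_lit 1, nat_lit 3, nat_lit 1, nat_lit 3, nat_lit 1, nat_lit 0, nat_lit 1, nat_lit 3, nat_lit 1, nat_lit 3, nat_lit 1, nat_lit 0, nat_lit 1, nat_lit 3])) (.node (nat_lit 2602) (.leaf (nat_lit 2595) (nat_lit 3) [nat_lit 1, nat_lit 3, nat_lit 1, nat_lit 0, nat_lit 1, nat_lit 3, nat_lit 1, nat_lit 3, nat_lit 1, nat_lit 0, nat_lit 1, nat_lit 3, nat_lit 1, nat_lit 3, nat_lit 1, nat_lit 0, nat_lit 1]) (.leaf (nat_lit 2596) (nat_lit 1) [nat_lit 3, nat_lit 1, nat_lit 3, nat_lit 1, nat_lit 0, nat_lit 1, nat_lit 3, nat_lit 1, nat_lit 3, nat_lit 1, nat_lit 0, nat_lit 1, nat_lit 3, nat_lit 1, nat_lit 3, nat_lit 1, nat_lit 0]))) (.node (nat_lit 2605) (.node (nat_lit 2604) (.leaf (nat_lit 2597) (nat_lit 0) [nat_lit 1, nat_lit 3, nat_lit 1, nat_lit 3, nat_lit 1, nat_lit 0, nat_lit 1, nat_lit 3, nat_lit 1, nat_lit 3, nat_lit 1, nat_lit 0, nat_lit 1, nat_lit 3, nat_lit 1, nat_lit 3, nat_lit 1]) (.leaf (nat_lit 2592) (nat_lit 1) [nat_lit 0, nat_lit 1, nat_lit 3, nat_lit 1, nat_lit 3, nat_lit 1, nat_lit 0, nat_lit 1, nat_lit 3, nat_lit 1, nat_lit 3, nat_lit 1, nat_lit 0, nat_lit 1, nat_lit 3, nat_lit 1, nat_lit 3])) (.node (nat_lit 2606) (.leaf (nat_lit 2593) (nat_lit 3) [nat_lit 1, nat_lit 0, nat_lit 1, nat_lit 3, nat_lit 1, nat_lit 3, nat_lit 1, nat_lit 0, nat_lit 1, nat_lit 3, nat_lit 1, nat_lit 3, nat_lit 1, nat_lit 0, nat_lit 1, nat_lit 3, nat_lit 1]) (.node (nat_lit 2607) (.leaf (nat_lit 2594) (nat_lit 1) [nat_lit 3, nat_lit 1, nat_lit 0, nat_lit 1, nat_lit 3, nat_lit 1, nat_lit 3, nat_lit 1, nat_lit 0, nat_lit 1, nat_lit 3, nat_lit 1, nat_lit 3, nat_lit 1, nat_lit 0, nat_lit 1, nat_lit 3]) (.leaf (nat_lit 2595) (nat_lit 3) [nat_lit 1, nat_lit 3, nat_lit 1, nat_lit 0, nat_lit 1, nat_lit 3, nat_lit 1, nat_lit 3, nat_lit 1, nat_lit 0, nat_lit 1, nat_lit 3, nat_lit 1, nat_lit 3, nat_lit 1, nat_lit 0, nat_lit 1]))))) (.node (nat_lit 2613) (.node (nat_lit 2610) (.node (nat_lit 2609) (.leaf (nat_lit 2596) (nat_lit 1) [nat_lit 3, nat_lit 1, nat_lit 3, nat_lit 1, nat_lit 0, nat_lit 1, nat_lit 3, nat_lit 1, nat_lit 3, nat_lit 1, nat_lit 0, nat_lit 1, nat_lit 3, nat_lit 1, nat_lit 3, nat_lit 1, nat_lit 0]) (.leaf (nat_lit 2597) (nat_lit 0) [nat_lit 1, nat_lit 3, nat_lit 1, nat_lit 3, nat_lit 1, nat_lit 0, nat_lit 1, nat_lit 3, nat_lit 1, nat_lit 3, nat_lit 1, nat_lit 0, nat_lit 1, nat_lit 3, nat_lit 1, nat_lit 3, nat_lit 1])) (.node (nat_lit 2611) (.leaf (nat_lit 2597) (nat_lit 0) [nat_lit 1, nat_lit 3, nat_lit 1, nat_lit 3, nat_lit 1, nat_lit 0, nat_lit 1, nat_lit 3, nat_lit 1, nat_lit 3, nat_lit 1, nat_lit 0, nat_lit 1, nat_lit 3, nat_lit 1, nat_lit 3, nat_lit 1]) (.node (nat_lit 2612) (.leaf (nat_lit 2592) (nat_lit 1) [nat_lit 0, nat_lit 1, nat_lit 3, nat_lit 1, nat_lit 3, nat_lit 1, nat_lit 0, nat_lit 1, nat_lit 3, nat_lit 1, nat_lit 3, nat_lit 1, nat_lit 0, nat_lit 1, nat_lit 3, nat_lit 1, nat_lit 3]) (.leaf (nat_lit 2593) (nat_lit 3) [nat_lit 1, nat_lit 0, nat_lit 1, nat_lit 3, nat_lit 1, nat_lit 3, nat_lit 1, nat_lit 0, nat_lit 1, nat_lit 3, nat_lit 1, nat_lit 3, nat_lit 1, nat_lit 0, nat_lit 1, nat_lit 3, nat_lit 1])))) (.node (nat_lit 2615) (.node (nat_lit 2614) (.leaf (nat_lit 2594) (nat_lit 1) [nat_lit 3, nat_lit 1, nat_lit 0, nat_lit 1, nat_lit 3, nat_lit 1, nat_lit 3, nat_lit 1, nat_lit 0, nat_lit 1, nat_lit 3, nat_lit 1, nat_lit 3, nat_lit 1, nat_lit 0, nat_lit 1, nat_lit 3]) (.leaf (nat_lit 2595) (nat_lit 3) [nat_lit 1, nat_lit 3, nat_lit 1, nat_lit 0, nat_lit 1, nat_lit 3, nat_lit 1, nat_lit 3, nat_lit 1, nat_lit 0, nat_lit 1, nat_lit 3, nat_lit 1, nat_lit 3, nat_lit 1, nat_lit 0, nat_lit 1])) (.node (nat_lit 2616) (.leaf (nat_lit 2596) (nat_lit 1) [nat_lit 3, nat_lit 1, nat_lit 3, nat_lit 1, nat_lit 0, nat_lit 1, nat_lit 3, nat_lit 1, nat_lit 3, nat_lit 1, nat_lit 0, nat_lit 1, nat_lit 3, nat_lit 1, nat_lit 3, nat_lit 1, nat_lit 0]) (.node (nat_lit 2617) (.leaf (nat_lit 2597) (nat_lit 0) [nat_lit 1, nat_lit 3, nat_lit 1, nat_lit 3, nat_lit 1, nat_lit 0, nat_lit 1, nat_lit 3, nat_lit 1, nat_lit 3, nat_lit 1, nat_lit 0, nat_lit 1, nat_lit 3, nat_lit 1, nat_lit 3, nat_lit 1]) (.leaf (nat_lit 2592) (nat_lit 1) [nat_lit 0, nat_lit 1, nat_lit 3, nat_lit 1, nat_lit 3, nat_lit 1, nat_lit 0, nat_lit 1, nat_lit 3, nat_lit 1, nat_lit 3, nat_lit 1, nat_lit 0, nat_lit 1, nat_lit 3, nat_lit 1, nat_lit 3])))))) (.node (nat_lit 2627) (.node (nat_lit 2622) (.node (nat_lit 2620) (.node (nat_lit 2619) (.leaf (nat_lit 2593) (nat_lit 3) [nat_lit 1, nat_lit 0, nat_lit 1, nat_lit 3, nat_lit 1, nat_lit 3, nat_lit 1, nat_lit 0, nat_lit 1, nat_lit 3, nat_lit 1, nat_lit 3, nat_lit 1, nat_lit 0, nat_lit 1, nat_lit 3, nat_lit 1]) (.leaf (nat_lit 2594) (nat_lit 1) [nat_lit 3, nat_lit 1, nat_lit 0, nat_lit 1, nat_lit 3, nat_lit 1, nat_lit 3, nat_lit 1, nat_lit 0, nat_lit 1, nat_lit 3, nat_lit 1, nat_lit 3, nat_lit 1, nat_lit 0, nat_lit 1, nat_lit 3])) (.node (nat_lit 2621) (.leaf (nat_lit 2595) (nat_lit 3) [nat_lit 1, nat_lit 3, nat_lit 1, nat_lit 0, nat_lit 1, nat_lit 3, nat_lit 1, nat_lit 3, nat_lit 1, nat_lit 0, nat_lit 1, nat_lit 3, nat_lit 1, nat_lit 3, nat_lit 1, nat_lit 0, nat_lit 1]) (.leaf (nat_lit 2596) (nat_lit 1) [nat_lit 3, nat_lit 1, nat_lit 3, nat_lit 1, nat_lit 0, nat_lit 1, nat_lit 3, nat_lit 1, nat_lit 3, nat_lit 1, nat_lit 0, nat_lit 1, nat_lit 3, nat_lit 1, nat_lit 3, nat_lit 1, nat_lit 0]))) (.node (nat_lit 2624) (.node (nat_lit 2623) (.leaf (nat_lit 2597) (nat_lit 0) [nat_lit 1, nat_lit 3, nat_lit 1, nat_lit 3, nat_lit 1, nat_lit 0, nat_lit 1, nat_lit 3, nat_lit 1, nat_lit 3, nat_lit 1, nat_lit 0, nat_lit 1, nat_lit 3, nat_lit 1, nat_lit 3, nat_lit 1]) (.leaf (nat_lit 2592) (nat_lit 1) [nat_lit 0, nat_lit 1, nat_lit 3, nat_lit 1, nat_lit 3, nat_lit 1, nat_lit 0, nat_lit 1, nat_lit 3, nat_lit 1, nat_lit 3, nat_lit 1, nat_lit 0, nat_lit 1, nat_lit 3, nat_lit 1, nat_lit 3])) (.node (nat_lit 2625) (.leaf (nat_lit 2593) (nat_lit 3) [nat_lit 1, nat_lit 0, nat_lit 1, nat_lit 3, nat_lit 1, nat_lit 3, nat_lit 1, nat_lit 0, nat_lit 1, nat_lit 3, nat_lit 1, nat_lit 3, nat_lit 1, nat_lit 0, nat_lit 1, nat_lit 3, nat_lit 1]) (.node (nat_lit 2626) (.leaf (nat_lit 2594) (nat_lit 1) [nat_lit 3, nat_lit 1, nat_lit 0, nat_lit 1, nat_lit 3, nat_lit 1, nat_lit 3, nat_lit 1, nat_lit 0, nat_lit 1, nat_lit 3, nat_lit 1, nat_lit 3, nat_lit 1, nat_lit 0, nat_lit 1, nat_lit 3]) (.leaf (nat_lit 2595) (nat_lit 3) [nat_lit 1, nat_lit 3, nat_lit 1, nat_lit 0, nat_lit 1, nat_lit 3, nat_lit 1, nat_lit 3, nat_lit 1, nat_lit 0, nat_lit 1, nat_lit 3, nat_lit 1, nat_lit 3, nat_lit 1, nat_lit 0, nat_lit 1]))))) (.node (nat_lit 2632) (.node (nat_lit 2629) (.node (nat_lit 2628) (.leaf (nat_lit 2596) (nat_lit 1) [nat_lit 3, nat_lit 1, nat_lit 3, nat_lit 1, nat_lit 0, nat_lit 1, nat_lit 3, nat_lit 1, nat_lit 3, nat_lit 1, nat_lit 0, nat_lit 1, nat_lit 3, nat_lit 1, nat_lit 3, nat_lit 1, nat_lit 0]) (.leaf (nat_lit 2628) (nat_lit 1) [nat_lit 0, nat_lit 1, nat_lit 3, nat_lit 2, nat_lit 3, nat_lit 1, nat_lit 0, nat_lit 1, nat_lit 3, nat_lit 2, nat_lit 3, nat_lit 1, nat_lit 0, nat_lit 1, nat_lit 3, nat_lit 2, nat_lit 3])) (.node (nat_lit 2630) (.leaf (nat_lit 2629) (nat_lit 3) [nat_lit 1, nat_lit 0, nat_lit 1, nat_lit 3, nat_lit 2, nat_lit 3, nat_lit 1, nat_lit 0, nat_lit 1, nat_lit 3, nat_lit 2, nat_lit 3, nat_lit 1, nat_lit 0, nat_lit 1, nat_lit 3, nat_lit 2]) (.node (nat_lit 2631) (.leaf (nat_lit 2630) (nat_lit 2) [nat_lit 3, nat_lit 1, nat_lit 0, nat_lit 1, nat_lit 3, nat_lit 2, nat_lit 3, nat_lit 1, nat_lit 0, nat_lit 1, nat_lit 3, nat_lit 2, nat_lit 3, nat_lit 1, nat_lit 0, nat_lit 1, nat_lit 3]) (.leaf (nat_lit 2631) (nat_lit 3) [nat_lit 2, nat_lit 3, nat_lit 1, nat_lit 0, nat_lit 1, nat_lit 3, nat_lit 2, nat_lit 3, nat_lit 1, nat_lit 0, nat_lit 1, nat_lit 3, nat_lit 2, nat_lit 3, nat_lit 1, nat_lit 0, nat_lit 1])))) (.node (nat_lit 2634) (.node (nat_lit 2633) (.leaf (nat_lit 2632) (nat_lit 1) [nat_lit 3, nat_lit 2, nat_lit 3, nat_lit 1, nat_lit 0, nat_lit 1, nat_lit 3, nat_lit 2, nat_lit 3, nat_lit 1, nat_lit 0, nat_lit 1, nat_lit 3, nat_lit 2, nat_lit 3, nat_lit 1, nat_lit 0]) (.leaf (nat_lit 2633) (nat_lit 0) [nat_lit 1, nat_lit 3, nat_lit 2, nat_lit 3, nat_lit 1, nat_lit 0, nat_lit 1, nat_lit 3, nat_lit 2, nat_lit 3, nat_lit 1, nat_lit 0, nat_lit 1, nat_lit 3, nat_lit 2, nat_lit 3, nat_lit 1])) (.node (nat_lit 2635) (.leaf (nat_lit 2628) (nat_lit 1) [nat_lit 0, nat_lit 1, nat_lit 3, nat_lit 2, nat_lit 3, nat_lit 1, nat_lit 0, nat_lit 1, nat_lit 3, nat_lit 2, nat_lit 3, nat_lit 1, nat_lit 0, nat_lit 1, nat_lit 3, nat_lit 2, nat_lit 3]) (.node (nat_lit 2636) (.leaf (nat_lit 2629) (nat_lit 3) [nat_lit 1, nat_lit 0, nat_lit 1, nat_lit 3, nat_lit 2, nat_lit 3, nat_lit 1, nat_lit 0, nat_lit 1, nat_lit 3, nat_lit 2, nat_lit 3, nat_lit 1, nat_lit 0, nat_lit 1, nat_lit 3, nat_lit 2]) (.leaf (nat_lit 2630) (nat_lit 2) [nat_lit 3, nat_lit 1, nat_lit 0, nat_lit 1, nat_lit 3, nat_lit 2, nat_lit 3, nat_lit 1, nat_lit 0, nat_lit 1, nat_lit 3, nat_lit 2, nat_lit 3, nat_lit 1, nat_lit 0, nat_lit 1, nat_lit 3])))))))) (.node (nat_lit 2675) (.node (nat_lit 2656) (.node (nat_lit 2646) (.node (nat_lit 2641) (.node (nat_lit 2639) (.node (nat_lit 2638) (.leaf (nat_lit 2631) (nat_lit 3) [nat_lit 2, nat_lit 3, nat_lit 1, nat_lit 0, nat_lit 1, nat_lit 3, nat_lit 2, nat_lit 3, nat_lit 1, nat_lit 0, nat_lit 1, nat_lit 3, nat_lit 2, nat_lit 3, nat_lit 1, nat_lit 0, nat_lit 1]) (.leaf (nat_lit 2632) (nat_lit 1) [nat_lit 3, nat_lit 2, nat_lit 3, nat_lit 1, nat_lit 0, nat_lit 1, nat_lit 3, nat_lit 2, nat_lit 3, nat_lit 1, nat_lit 0, nat_lit 1, nat_lit 3, nat_lit 2, nat_lit 3, nat_lit 1, nat_lit 0])) (.node (nat_lit 2640) (.leaf (nat_lit 2633) (nat_lit 0) [nat_lit 1, nat_lit 3, nat_lit 2, nat_lit 3, nat_lit 1, nat_lit 0, nat_lit 1, nat_lit 3, nat_lit 2, nat_lit 3, nat_lit 1, nat_lit 0, nat_lit 1, nat_lit 3, nat_lit 2, nat_lit 3, nat_lit 1]) (.leaf (nat_lit 2628) (nat_lit 1) [nat_lit 0, nat_lit 1, nat_lit 3, nat_lit 2, nat_lit 3, nat_lit 1, nat_lit 0, nat_lit 1, nat_lit 3, nat_lit 2, nat_lit 3, nat_lit 1, nat_lit 0, nat_lit 1, nat_lit 3, nat_lit 2, nat_lit 3]))) (.node (nat_lit 2643) (.node (nat_lit 2642) (.leaf (nat_lit 2629) (nat_lit 3) [nat_lit 1, nat_lit 0, nat_lit 1, nat_lit 3, nat_lit 2, nat_lit 3, nat_lit 1, nat_lit 0, nat_lit 1, nat_lit 3, nat_lit 2, nat_lit 3, nat_lit 1, nat_lit 0, nat_lit 1, nat_lit 3, nat_lit 2]) (.leaf (nat_lit 2630) (nat_lit 2) [nat_lit 3, nat_lit 1, nat_lit 0, nat_lit 1, nat_lit 3, nat_lit 2, nat_lit 3, nat_lit 1, nat_lit 0, nat_lit 1, nat_lit 3, nat_lit 2, nat_lit 3, nat_lit 1, nat_lit 0, nat_lit 1, nat_lit 3])) (.node (nat_lit 2644) (.leaf (nat_lit 2631) (nat_lit 3) [nat_lit 2, nat_lit 3, nat_lit 1, nat_lit 0, nat_lit 1, nat_lit 3, nat_lit 2, nat_lit 3, nat_lit 1, nat_lit 0, nat_lit 1, nat_lit 3, nat_lit 2, nat_lit 3, nat_lit 1, nat_lit 0, nat_lit 1]) (.node (nat_lit 2645) (.leaf (nat_lit 2632) (nat_lit 1) [nat_lit 3, nat_lit 2, nat_lit 3, nat_lit 1, nat_lit 0, nat_lit 1, nat_lit 3, nat_lit 2, nat_lit 3, nat_lit 1, nat_lit 0, nat_lit 1, nat_lit 3, nat_lit 2, nat_lit 3, nat_lit 1, nat_lit 0]) (.leaf (nat_lit 2633) (nat_lit 0) [nat_lit 1, nat_lit 3, nat_lit 2, nat_lit 3, nat_lit 1, nat_lit 0, nat_lit 1, nat_lit 3, nat_lit 2, nat_lit 3, nat_lit 1, nat_lit 0, nat_lit 1, nat_lit 3, nat_lit 2, nat_lit 3, nat_lit 1]))))) (.node (nat_lit 2651) (.node (nat_lit 2648) (.node (nat_lit 2647) (.leaf (nat_lit 2633) (nat_lit 0) [nat_lit 1, nat_lit 3, nat_lit 2, nat_lit 3, nat_lit 1, nat_lit 0, nat_lit 1, nat_lit 3, nat_lit 2, nat_lit 3, nat_lit 1, nat_lit 0, nat_lit 1, nat_lit 3, nat_lit 2, nat_lit 3, nat_lit 1]) (.leaf (nat_lit 2628) (nat_lit 1) [nat_lit 0, nat_lit 1, nat_lit 3, nat_lit 2, nat_lit 3, nat_lit 1, nat_lit 0, nat_lit 1, nat_lit 3, nat_lit 2, nat_lit 3, nat_lit 1, nat_lit 0, nat_lit 1, nat_lit 3, nat_lit 2, nat_lit 3])) (.node (nat_lit 2649) (.leaf (nat_lit 2629) (nat_lit 3) [nat_lit 1, nat_lit 0, nat_lit 1, nat_lit 3, nat_lit 2, nat_lit 3, nat_lit 1, nat_lit 0, nat_lit 1, nat_lit 3, nat_lit 2, nat_lit 3, nat_lit 1, nat_lit 0, nat_lit 1, nat_lit 3, nat_lit 2]) (.node (nat_lit 2650) (.leaf (nat_lit 2630) (nat_lit 2) [nat_lit 3, nat_lit 1, nat_lit 0, nat_lit 1, nat_lit 3, nat_lit 2, nat_lit 3, nat_lit 1, nat_lit 0, nat_lit 1, nat_lit 3, nat_lit 2, nat_lit 3, nat_lit 1, nat_lit 0, nat_lit 1, nat_lit 3]) (.leaf (nat_lit 2631) (nat_lit 3) [nat_lit 2, nat_lit 3, nat_lit 1, nat_lit 0, nat_lit 1, nat_lit 3, nat_lit 2, nat_lit 3, nat_lit 1, nat_lit 0, nat_lit 1, nat_lit 3, nat_lit 2, nat_lit 3, nat_lit 1, nat_lit 0, nat_lit 1])))) (.node (nat_lit 2653) (.node (nat_lit 2652) (.leaf (nat_lit 2632) (nat_lit 1) [nat_lit 3, nat_lit 2, nat_lit 3, nat_lit 1, nat_lit 0, nat_lit 1, nat_lit 3, nat_lit 2, nat_lit 3, nat_lit 1, nat_lit 0, nat_lit 1, nat_lit 3, nat_lit 2, nat_lit 3, nat_lit 1, nat_lit 0]) (.leaf (nat_lit 2633) (nat_lit 0) [nat_lit 1, nat_lit 3, nat_lit 2, nat_lit 3, nat_lit 1, nat_lit 0, nat_lit 1, nat_lit 3, nat_lit 2, nat_lit 3, nat_lit 1, nat_lit 0, nat_lit 1, nat_lit 3, nat_lit 2, nat_lit 3, nat_lit 1])) (.node (nat_lit 2654) (.leaf (nat_lit 2628) (nat_lit 1) [nat_lit 0, nat_lit 1, nat_lit 3, nat_lit 2, nat_lit 3, nat_lit 1, nat_lit 0, nat_lit 1, nat_lit 3, nat_lit 2, nat_lit 3, nat_lit 1, nat_lit 0, nat_lit 1, nat_lit 3, nat_lit 2, nat_lit 3]) (.node (nat_lit 2655) (.leaf (nat_lit 2629) (nat_lit 3) [nat_lit 1, nat_lit 0, nat_lit 1, nat_lit 3, nat_lit 2, nat_lit 3, nat_lit 1, nat_lit 0, nat_lit 1, nat_lit 3, nat_lit 2, nat_lit 3, nat_lit 1, nat_lit 0, nat_lit 1, nat_lit 3, nat_lit 2]) (.leaf (nat_lit 2630) (nat_lit 2) [nat_lit 3, nat_lit 1, nat_lit 0, nat_lit 1, nat_lit 3, nat_lit 2, nat_lit 3, nat_lit 1, nat_lit 0, nat_lit 1, nat_lit 3, nat_lit 2, nat_lit 3, nat_lit 1, nat_lit 0, nat_lit 1, nat_lit 3])))))) (.node (nat_lit 2665) (.node (nat_lit 2660) (.node (nat_lit 2658) (.node (nat_lit 2657) (.leaf (nat_lit 2631) (nat_lit 3) [nat_lit 2, nat_lit 3, nat_lit 1, nat_lit 0, nat_lit 1, nat_lit 3, nat_lit 2, nat_lit 3, nat_lit 1, nat_lit 0, nat_lit 1, nat_lit 3, nat_lit 2, nat_lit 3, nat_lit 1, nat_lit 0, nat_lit 1]) (.leaf (nat_lit 2632) (nat_lit 1) [nat_lit 3, nat_lit 2, nat_lit 3, nat_lit 1, nat_lit 0, nat_lit 1, nat_lit 3, nat_lit 2, nat_lit 3, nat_lit 1, nat_lit 0, nat_lit 1, nat_lit 3, nat_lit 2, nat_lit 3, nat_lit 1, nat_lit 0])) (.node (nat_lit 2659) (.leaf (nat_lit 2633) (nat_lit 0) [nat_lit 1, nat_lit 3, nat_lit 2, nat_lit 3, nat_lit 1, nat_lit 0, nat_lit 1, nat_lit 3, nat_lit 2, nat_lit 3, nat_lit 1, nat_lit 0, nat_lit 1, nat_lit 3, nat_lit 2, nat_lit 3, nat_lit 1]) (.leaf (nat_lit 2628) (nat_lit 1) [nat_lit 0, nat_lit 1, nat_lit 3, nat_lit 2, nat_lit 3, nat_lit 1, nat_lit 0, nat_lit 1, nat_lit 3, nat_lit 2, nat_lit 3, nat_lit 1, nat_lit 0, nat_lit 1, nat_lit 3, nat_lit 2, nat_lit 3]))) (.node (nat_lit 2662) (.node (nat_lit 2661) (.leaf (nat_lit 2629) (nat_lit 3) [nat_lit 1, nat_lit 0, nat_lit 1, nat_lit 3, nat_lit 2, nat_lit 3, nat_lit 1, nat_lit 0, nat_lit 1, nat_lit 3, nat_lit 2, nat_lit 3, nat_lit 1, nat_lit 0, nat_lit 1, nat_lit 3, nat_lit 2]) (.leaf (nat_lit 2630) (nat_lit 2) [nat_lit 3, nat_lit 1, nat_lit 0, nat_lit 1, nat_lit 3, nat_lit 2, nat_lit 3, nat_lit 1, nat_lit 0, nat_lit 1, nat_lit 3, nat_lit 2, nat_lit 3, nat_lit 1, nat_lit 0, nat_lit 1, nat_lit 3])) (.node (nat_lit 2663) (.leaf (nat_lit 2631) (nat_lit 3) [nat_lit 2, nat_lit 3, nat_lit 1, nat_lit 0, nat_lit 1, nat_lit 3, nat_lit 2, nat_lit 3, nat_lit 1, nat_lit 0, nat_lit 1, nat_lit 3, nat_lit 2, nat_lit 3, nat_lit 1, nat_lit 0, nat_lit 1]) (.node (nat_lit 2664) (.leaf (nat_lit 2632) (nat_lit 1) [nat_lit 3, nat_lit 2, nat_lit 3, nat_lit 1, nat_lit 0, nat_lit 1, nat_lit 3, nat_lit 2, nat_lit 3, nat_lit 1, nat_lit 0, nat_lit 1, nat_lit 3, nat_lit 2, nat_lit 3, nat_lit 1, nat_lit 0]) (.leaf (nat_lit 2664) (nat_lit 1) [nat_lit 2, nat_lit 1, nat_lit 3, nat_lit 0, nat_lit 3, nat_lit 1, nat_lit 2, nat_lit 1, nat_lit 3, nat_lit 0, nat_lit 3, nat_lit 1, nat_lit 2, nat_lit 1, nat_lit 3, nat_lit 0, nat_lit 3]))))) (.node (nat_lit 2670) (.node (nat_lit 2667) (.node (nat_lit 2666) (.leaf (nat_lit 2665) (nat_lit 3) [nat_lit 1, nat_lit 2, nat_lit 1, nat_lit 3, nat_lit 0, nat_lit 3, nat_lit 1, nat_lit 2, nat_lit 1, nat_lit 3, nat_lit 0, nat_lit 3, nat_lit 1, nat_lit 2, nat_lit 1, nat_lit 3, nat_lit 0]) (.leaf (nat_lit 2666) (nat_lit 0) [nat_lit 3, nat_lit 1, nat_lit 2, nat_lit 1, nat_lit 3, nat_lit 0, nat_lit 3, nat_lit 1, nat_lit 2, nat_lit 1, nat_lit 3, nat_lit 0, nat_lit 3, nat_lit 1, nat_lit 2, nat_lit 1, nat_lit 3])) (.node (nat_lit 2668) (.leaf (nat_lit 2667) (nat_lit 3) [nat_lit 0, nat_lit 3, nat_lit 1, nat_lit 2, nat_lit 1, nat_lit 3, nat_lit 0, nat_lit 3, nat_lit 1, nat_lit 2, nat_lit 1, nat_lit 3, nat_lit 0, nat_lit 3, nat_lit 1, nat_lit 2, nat_lit 1]) (.node (nat_lit 2669) (.leaf (nat_lit 2668) (nat_lit 1) [nat_lit 3, nat_lit 0, nat_lit 3, nat_lit 1, nat_lit 2, nat_lit 1, nat_lit 3, nat_lit 0, nat_lit 3, nat_lit 1, nat_lit 2, nat_lit 1, nat_lit 3, nat_lit 0, nat_lit 3, nat_lit 1, nat_lit 2]) (.leaf (nat_lit 2669) (nat_lit 2) [nat_lit 1, nat_lit 3, nat_lit 0, nat_lit 3, nat_lit 1, nat_lit 2, nat_lit 1, nat_lit 3, nat_lit 0, nat_lit 3, nat_lit 1, nat_lit 2, nat_lit 1, nat_lit 3, nat_lit 0, nat_lit 3, nat_lit 1])))) (.node (nat_lit 2672) (.node (nat_lit 2671) (.leaf (nat_lit 2664) (nat_lit 1) [nat_lit 2, nat_lit 1, nat_lit 3, nat_lit 0, nat_lit 3, nat_lit 1, nat_lit 2, nat_lit 1, nat_lit 3, nat_lit 0, nat_lit 3, nat_lit 1, nat_lit 2, nat_lit 1, nat_lit 3, nat_lit 0, nat_lit 3]) (.leaf (nat_lit 2665) (nat_lit 3) [nat_lit 1, nat_lit 2, nat_lit 1, nat_lit 3, nat_lit 0, nat_lit 3, nat_lit 1, nat_lit 2, nat_lit 1, nat_lit 3, nat_lit 0, nat_lit 3, nat_lit 1, nat_lit 2, nat_lit 1, nat_lit 3, nat_lit 0])) (.node (nat_lit 2673) (.leaf (nat_lit 2666) (nat_lit 0) [nat_lit 3, nat_lit 1, nat_lit 2, nat_lit 1, nat_lit 3, nat_lit 0, nat_lit 3, nat_lit 1, nat_lit 2, nat_lit 1, nat_lit 3, nat_lit 0, nat_lit 3, nat_lit 1, nat_lit 2, nat_lit 1, nat_lit 3]) (.node (nat_lit 2674) (.leaf (nat_lit 2667) (nat_lit 3) [nat_lit 0, nat_lit 3, nat_lit 1, nat_lit 2, nat_lit 1, nat_lit 3, nat_lit 0, nat_lit 3, nat_lit 1, nat_lit 2, nat_lit 1, nat_lit 3, nat_lit 0, nat_lit 3, nat_lit 1, nat_lit 2, nat_lit 1]) (.leaf (nat_lit 2668) (nat_lit 1) [nat_lit 3, nat_lit 0, nat_lit 3, nat_lit 1, nat_lit 2, nat_lit 1, nat_lit 3, nat_lit 0, nat_lit 3, nat_lit 1, nat_lit 2, nat_lit 1, nat_lit 3, nat_lit 0, nat_lit 3, nat_lit 1, nat_lit 2]))))))) (.node (nat_lit 2694) (.node (nat_lit 2684) (.node (nat_lit 2679) (.node (nat_lit 2677) (.node (nat_lit 2676) (.leaf (nat_lit 2669) (nat_lit 2) [nat_lit 1, nat_lit 3, nat_lit 0, nat_lit 3, nat_lit 1, nat_lit 2, nat_lit 1, nat_lit 3, nat_lit 0, nat_lit 3, nat_lit 1, nat_lit 2, nat_lit 1, nat_lit 3, nat_lit 0, nat_lit 3, nat_lit 1]) (.leaf (nat_lit 2664) (nat_lit 1) [nat_lit 2, nat_lit 1, nat_lit 3, nat_lit 0, nat_lit 3, nat_lit 1, nat_lit 2, nat_lit 1, nat_lit 3, nat_lit 0, nat_lit 3, nat_lit 1, nat_lit 2, nat_lit 1, nat_lit 3, nat_lit 0, nat_lit 3])) (.node (nat_lit 2678) (.leaf (nat_lit 2665) (nat_lit 3) [nat_lit 1, nat_lit 2, nat_lit 1, nat_lit 3, nat_lit 0, nat_lit 3, nat_lit 1, nat_lit 2, nat_lit 1, nat_lit 3, nat_lit 0, nat_lit 3, nat_lit 1, nat_lit 2, nat_lit 1, nat_lit 3, nat_lit 0]) (.leaf (nat_lit 2666) (nat_lit 0) [nat_lit 3, nat_lit 1, nat_lit 2, nat_lit 1, nat_lit 3, nat_lit 0, nat_lit 3, nat_lit 1, nat_lit 2, nat_lit 1, nat_lit 3, nat_lit 0, nat_lit 3, nat_lit 1, nat_lit 2, nat_lit 1, nat_lit 3]))) (.node (nat_lit 2681) (.node (nat_lit 2680) (.leaf (nat_lit 2667) (nat_lit 3) [nat_lit 0, nat_lit 3, nat_lit 1, nat_lit 2, nat_lit 1, nat_lit 3, nat_lit 0, nat_lit 3, nat_lit 1, nat_lit 2, nat_lit 1, nat_lit 3, nat_lit 0, nat_lit 3, nat_lit 1, nat_lit 2, nat_lit 1]) (.leaf (nat_lit 2668) (nat_lit 1) [nat_lit 3, nat_lit 0, nat_lit 3, nat_lit 1, nat_lit 2, nat_lit 1, nat_lit 3, nat_lit 0, nat_lit 3, nat_lit 1, nat_lit 2, nat_lit 1, nat_lit 3, nat_lit 0, nat_lit 3, nat_lit 1, nat_lit 2])) (.node (nat_lit 2682) (.leaf (nat_lit 2669) (nat_lit 2) [nat_lit 1, nat_lit 3, nat_lit 0, nat_lit 3, nat_lit 1, nat_lit 2, nat_lit 1, nat_lit 3, nat_lit 0, nat_lit 3, nat_lit 1, nat_lit 2, nat_lit 1, nat_lit 3, nat_lit 0, nat_lit 3, nat_lit 1]) (.node (nat_lit 2683) (.leaf (nat_lit 2669) (nat_lit 2) [nat_lit 1, nat_lit 3, nat_lit 0, nat_lit 3, nat_lit 1, nat_lit 2, nat_lit 1, nat_lit 3, nat_lit 0, nat_lit 3, nat_lit 1, nat_lit 2, nat_lit 1, nat_lit 3, nat_lit 0, nat_lit 3, nat_lit 1]) (.leaf (nat_lit 2664) (nat_lit 1) [nat_lit 2, nat_lit 1, nat_lit 3, nat_lit 0, nat_lit 3, nat_lit 1, nat_lit 2, nat_lit 1, nat_lit 3, nat_lit 0, nat_lit 3, nat_lit 1, nat_lit 2, nat_lit 1, nat_lit 3, nat_lit 0, nat_lit 3]))))) (.node (nat_lit 2689) (.node (nat_lit 2686) (.node (nat_lit 2685) (.leaf (nat_lit 2665) (nat_lit 3) [nat_lit 1, nat_lit 2, nat_lit 1, nat_lit 3, nat_lit 0, nat_lit 3, nat_lit 1, nat_lit 2, nat_lit 1, nat_lit 3, nat_lit 0, nat_lit 3, nat_lit 1, nat_lit 2, nat_lit 1, nat_lit 3, nat_lit 0]) (.leaf (nat_lit 2666) (nat_lit 0) [nat_lit 3, nat_lit 1, nat_lit 2, nat_lit 1, nat_lit 3, nat_lit 0, nat_lit 3, nat_lit 1, nat_lit 2, nat_lit 1, nat_lit 3, nat_lit 0, nat_lit 3, nat_lit 1, nat_lit 2, nat_lit 1, nat_lit 3])) (.node (nat_lit 2687) (.leaf (nat_lit 2667) (nat_lit 3) [nat_lit 0, nat_lit 3, nat_lit 1, nat_lit 2, nat_lit 1, nat_lit 3, nat_lit 0, nat_lit 3, nat_lit 1, nat_lit 2, nat_lit 1, nat_lit 3, nat_lit 0, nat_lit 3, nat_lit 1, nat_lit 2, nat_lit 1]) (.node (nat_lit 2688) (.leaf (nat_lit 2668) (nat_lit 1) [nat_lit 3, nat_lit 0, nat_lit 3, nat_lit 1, nat_lit 2, nat_lit 1, nat_lit 3, nat_lit 0, nat_lit 3, nat_lit 1, nat_lit 2, nat_lit 1, nat_lit 3, nat_lit 0, nat_lit 3, nat_lit 1, nat_lit 2]) (.leaf (nat_lit 2669) (nat_lit 2) [nat_lit 1, nat_lit 3, nat_lit 0, nat_lit 3, nat_lit 1, nat_lit 2, nat_lit 1, nat_lit 3, nat_lit 0, nat_lit 3, nat_lit 1, nat_lit 2, nat_lit 1, nat_lit 3, nat_lit 0, nat_lit 3, nat_lit 1])))) (.node (nat_lit 2691) (.node (nat_lit 2690) (.leaf (nat_lit 2664) (nat_lit 1) [nat_lit 2, nat_lit 1, nat_lit 3, nat_lit 0, nat_lit 3, nat_lit 1, nat_lit 2, nat_lit 1, nat_lit 3, nat_lit 0, nat_lit 3, nat_lit 1, nat_lit 2, nat_lit 1, nat_lit 3, nat_lit 0, nat_lit 3]) (.leaf (nat_lit 2665) (nat_lit 3) [nat_lit 1, nat_lit 2, nat_lit 1, nat_lit 3, nat_lit 0, nat_lit 3, nat_lit 1, nat_lit 2, nat_lit 1, nat_lit 3, nat_lit 0, nat_lit 3, nat_lit 1, nat_lit 2, nat_lit 1, nat_lit 3, nat_lit 0])) (.node (nat_lit 2692) (.leaf (nat_lit 2666) (nat_lit 0) [nat_lit 3, nat_lit 1, nat_lit 2, nat_lit 1, nat_lit 3, nat_lit 0, nat_lit 3, nat_lit 1, nat_lit 2, nat_lit 1, nat_lit 3, nat_lit 0, nat_lit 3, nat_lit 1, nat_lit 2, nat_lit 1, nat_lit 3]) (.node (nat_lit 2693) (.leaf (nat_lit 2667) (nat_lit 3) [nat_lit 0, nat_lit 3, nat_lit 1, nat_lit 2, nat_lit 1, nat_lit 3, nat_lit 0, nat_lit 3, nat_lit 1, nat_lit 2, nat_lit 1, nat_lit 3, nat_lit 0, nat_lit 3, nat_lit 1, nat_lit 2, nat_lit 1]) (.leaf (nat_lit 2668) (nat_lit 1) [nat_lit 3, nat_lit 0, nat_lit 3, nat_lit 1, nat_lit 2, nat_lit 1, nat_lit 3, nat_lit 0, nat_lit 3, nat_lit 1, nat_lit 2, nat_lit 1, nat_lit 3, nat_lit 0, nat_lit 3, nat_lit 1, nat_lit 2])))))) (.node (nat_lit 2703) (.node (nat_lit 2698) (.node (nat_lit 2696) (.node (nat_lit 2695) (.leaf (nat_lit 2669) (nat_lit 2) [nat_lit 1, nat_lit 3, nat_lit 0, nat_lit 3, nat_lit 1, nat_lit 2, nat_lit 1, nat_lit 3, nat_lit 0, nat_lit 3, nat_lit 1, nat_lit 2, nat_lit 1, nat_lit 3, nat_lit 0, nat_lit 3, nat_lit 1]) (.leaf (nat_lit 2664) (nat_lit 1) [nat_lit 2, nat_lit 1, nat_lit 3, nat_lit 0, nat_lit 3, nat_lit 1, nat_lit 2, nat_lit 1, nat_lit 3, nat_lit 0, nat_lit 3, nat_lit 1, nat_lit 2, nat_lit 1, nat_lit 3, nat_lit 0, nat_lit 3])) (.node (nat_lit 2697) (.leaf (nat_lit 2665) (nat_lit 3) [nat_lit 1, nat_lit 2, nat_lit 1, nat_lit 3, nat_lit 0, nat_lit 3, nat_lit 1, nat_lit 2, nat_lit 1, nat_lit 3, nat_lit 0, nat_lit 3, nat_lit 1, nat_lit 2, nat_lit 1, nat_lit 3, nat_lit 0]) (.leaf (nat_lit 2666) (nat_lit 0) [nat_lit 3, nat_lit 1, nat_lit 2, nat_lit 1, nat_lit 3, nat_lit 0, nat_lit 3, nat_lit 1, nat_lit 2, nat_lit 1, nat_lit 3, nat_lit 0, nat_lit 3, nat_lit 1, nat_lit 2, nat_lit 1, nat_lit 3]))) (.node (nat_lit 2700) (.node (nat_lit 2699) (.leaf (nat_lit 2667) (nat_lit 3) [nat_lit 0, nat_lit 3, nat_lit 1, nat_lit 2, nat_lit 1, nat_lit 3, nat_lit 0, nat_lit 3, nat_lit 1, nat_lit 2, nat_lit 1, nat_lit 3, nat_lit 0, nat_lit 3, nat_lit 1, nat_lit 2, nat_lit 1]) (.leaf (nat_lit 2668) (nat_lit 1) [nat_lit 3, nat_lit 0, nat_lit 3, nat_lit 1, nat_lit 2, nat_lit 1, nat_lit 3, nat_lit 0, nat_lit 3, nat_lit 1, nat_lit 2, nat_lit 1, nat_lit 3, nat_lit 0, nat_lit 3, nat_lit 1, nat_lit 2])) (.node (nat_lit 2701) (.leaf (nat_lit 2700) (nat_lit 1) [nat_lit 2, nat_lit 1, nat_lit 3, nat_lit 1, nat_lit 3, nat_lit 1, nat_lit 2, nat_lit 1, nat_lit 3, nat_lit 1, nat_lit 3, nat_lit 1, nat_lit 2, nat_lit 1, nat_lit 3, nat_lit 1, nat_lit 3]) (.node (nat_lit 2702) (.leaf (nat_lit 2701) (nat_lit 3) [nat_lit 1, nat_lit 2, nat_lit 1, nat_lit 3, nat_lit 1, nat_lit 3, nat_lit 1, nat_lit 2, nat_lit 1, nat_lit 3, nat_lit 1, nat_lit 3, nat_lit 1, nat_lit 2, nat_lit 1, nat_lit 3, nat_lit 1]) (.leaf (nat_lit 2702) (nat_lit 1) [nat_lit 3, nat_lit 1, nat_lit 2, nat_lit 1, nat_lit 3, nat_lit 1, nat_lit 3, nat_lit 1, nat_lit 2, nat_lit 1, nat_lit 3, nat_lit 1, nat_lit 3, nat_lit 1, nat_lit 2, nat_lit 1, nat_lit 3]))))) (.node (nat_lit 2708) (.node (nat_lit 2705) (.node (nat_lit 2704) (.leaf (nat_lit 2703) (nat_lit 3) [nat_lit 1, nat_lit 3, nat_lit 1, nat_lit 2, nat_lit 1, nat_lit 3, nat_lit 1, nat_lit 3, nat_lit 1, nat_lit 2, nat_lit 1, nat_lit 3, nat_lit 1, nat_lit 3, nat_lit 1, nat_lit 2, nat_lit 1]) (.leaf (nat_lit 2704) (nat_lit 1) [nat_lit 3, nat_lit 1, nat_lit 3, nat_lit 1, nat_lit 2, nat_lit 1, nat_lit 3, nat_lit 1, nat_lit 3, nat_lit 1, nat_lit 2, nat_lit 1, nat_lit 3, nat_lit 1, nat_lit 3, nat_lit 1, nat_lit 2])) (.node (nat_lit 2706) (.leaf (nat_lit 2705) (nat_lit 2) [nat_lit 1, nat_lit 3, nat_lit 1, nat_lit 3, nat_lit 1, nat_lit 2, nat_lit 1, nat_lit 3, nat_lit 1, nat_lit 3, nat_lit 1, nat_lit 2, nat_lit 1, nat_lit 3, nat_lit 1, nat_lit 3, nat_lit 1]) (.node (nat_lit 2707) (.leaf (nat_lit 2700) (nat_lit 1) [nat_lit 2, nat_lit 1, nat_lit 3, nat_lit 1, nat_lit 3, nat_lit 1, nat_lit 2, nat_lit 1, nat_lit 3, nat_lit 1, nat_lit 3, nat_lit 1, nat_lit 2, nat_lit 1, nat_lit 3, nat_lit 1, nat_lit 3]) (.leaf (nat_lit 2701) (nat_lit 3) [nat_lit 1, nat_lit 2, nat_lit 1, nat_lit 3, nat_lit 1, nat_lit 3, nat_lit 1, nat_lit 2, nat_lit 1, nat_lit 3, nat_lit 1, nat_lit 3, nat_lit 1, nat_lit 2, nat_lit 1, nat_lit 3, nat_lit 1])))) (.node (nat_lit 2710) (.node (nat_lit 2709) (.leaf (nat_lit 2702) (nat_lit 1) [nat_lit 3, nat_lit 1, nat_lit 2, nat_lit 1, nat_lit 3, nat_lit 1, nat_lit 3, nat_lit 1, nat_lit 2, nat_lit 1, nat_lit 3, nat_lit 1, nat_lit 3, nat_lit 1, nat_lit 2, nat_lit 1, nat_lit 3]) (.leaf (nat_lit 2703) (nat_lit 3) [nat_lit 1, nat_lit 3, nat_lit 1, nat_lit 2, nat_lit 1, nat_lit 3, nat_lit 1, nat_lit 3, nat_lit 1, nat_lit 2, nat_lit 1, nat_lit 3, nat_lit 1, nat_lit 3, nat_lit 1, nat_lit 2, nat_lit 1])) (.node (nat_lit 2711) (.leaf (nat_lit 2704) (nat_lit 1) [nat_lit 3, nat_lit 1, nat_lit 3, nat_lit 1, nat_lit 2, nat_lit 1, nat_lit 3, nat_lit 1, nat_lit 3, nat_lit 1, nat_lit 2, nat_lit 1, nat_lit 3, nat_lit 1, nat_lit 3, nat_lit 1, nat_lit 2]) (.node (nat_lit 2712) (.leaf (nat_lit 2705) (nat_lit 2) [nat_lit 1, nat_lit 3, nat_lit 1, nat_lit 3, nat_lit 1, nat_lit 2, nat_lit 1, nat_lit 3, nat_lit 1, nat_lit 3, nat_lit 1, nat_lit 2, nat_lit 1, nat_lit 3, nat_lit 1, nat_lit 3, nat_lit 1]) (.leaf (nat_lit 2700) (nat_lit 1) [nat_lit 2, nat_lit 1, nat_lit 3, nat_lit 1, nat_lit 3, nat_lit 1, nat_lit 2, nat_lit 1, nat_lit 3, nat_lit 1, nat_lit 3, nat_lit 1, nat_lit 2, nat_lit 1, nat_lit 3, nat_lit 1, nat_lit 3])))))))))) (.node (nat_lit 2864) (.node (nat_lit 2788) (.node (nat_lit 2750) (.node (nat_lit 2731) (.node (nat_lit 2722) (.node (nat_lit 2717) (.node (nat_lit 2715) (.node (nat_lit 2714) (.leaf (nat_lit 2701) (nat_lit 3) [nat_lit 1, nat_lit 2, nat_lit 1, nat_lit 3, nat_lit 1, nat_lit 3, nat_lit 1, nat_lit 2, nat_lit 1, nat_lit 3, nat_lit 1, nat_lit 3, nat_lit 1, nat_lit 2, nat_lit 1, nat_lit 3, nat_lit 1]) (.leaf (nat_lit 2702) (nat_lit 1) [nat_lit 3, nat_lit 1, nat_lit 2, nat_lit 1, nat_lit 3, nat_lit 1, nat_lit 3, nat_lit 1, nat_lit 2, nat_lit 1, nat_lit 3, nat_lit 1, nat_lit 3, nat_lit 1, nat_lit 2, nat_lit 1, nat_lit 3])) (.node (nat_lit 2716) (.leaf (nat_lit 2703) (nat_lit 3) [nat_lit 1, nat_lit 3, nat_lit 1, nat_lit 2, nat_lit 1, nat_lit 3, nat_lit 1, nat_lit 3, nat_lit 1, nat_lit 2, nat_lit 1, nat_lit 3, nat_lit 1, nat_lit 3, nat_lit 1, nat_lit 2, nat_lit 1]) (.leaf (nat_lit 2704) (nat_lit 1) [nat_lit 3, nat_lit 1, nat_lit 3, nat_lit 1, nat_lit 2, nat_lit 1, nat_lit 3, nat_lit 1, nat_lit 3, nat_lit 1, nat_lit 2, nat_lit 1, nat_lit 3, nat_lit 1, nat_lit 3, nat_lit 1, nat_lit 2]))) (.node (nat_lit 2719) (.node (nat_lit 2718) (.leaf (nat_lit 2705) (nat_lit 2) [nat_lit 1, nat_lit 3, nat_lit 1, nat_lit 3, nat_lit 1, nat_lit 2, nat_lit 1, nat_lit 3, nat_lit 1, nat_lit 3, nat_lit 1, nat_lit 2, nat_lit 1, nat_lit 3, nat_lit 1, nat_lit 3, nat_lit 1]) (.leaf (nat_lit 2705) (nat_lit 2) [nat_lit 1, nat_lit 3, nat_lit 1, nat_lit 3, nat_lit 1, nat_lit 2, nat_lit 1, nat_lit 3, nat_lit 1, nat_lit 3, nat_lit 1, nat_lit 2, nat_lit 1, nat_lit 3, nat_lit 1, nat_lit 3, nat_lit 1])) (.node (nat_lit 2720) (.leaf (nat_lit 2700) (nat_lit 1) [nat_lit 2, nat_lit 1, nat_lit 3, nat_lit 1, nat_lit 3, nat_lit 1, nat_lit 2, nat_lit 1, nat_lit 3, nat_lit 1, nat_lit 3, nat_lit 1, nat_lit 2, nat_lit 1, nat_lit 3, nat_lit 1, nat_lit 3]) (.node (nat_lit 2721) (.leaf (nat_lit 2701) (nat_lit 3) [nat_lit 1, nat_lit 2, nat_lit 1, nat_lit 3, nat_lit 1, nat_lit 3, nat_lit 1, nat_lit 2, nat_lit 1, nat_lit 3, nat_lit 1, nat_lit 3, nat_lit 1, nat_lit 2, nat_lit 1, nat_lit 3, nat_lit 1]) (.leaf (nat_lit 2702) (nat_lit 1) [nat_lit 3, nat_lit 1, nat_lit 2, nat_lit 1, nat_lit 3, nat_lit 1, nat_lit 3, nat_lit 1, nat_lit 2, nat_lit 1, nat_lit 3, nat_lit 1, nat_lit 3, nat_lit 1, nat_lit 2, nat_lit 1, nat_lit 3]))))) (.node (nat_lit 2726) (.node (nat_lit 2724) (.node (nat_lit 2723) (.leaf (nat_lit 2703) (nat_lit 3) [nat_lit 1, nat_lit 3, nat_lit 1, nat_lit 2, nat_lit 1, nat_lit 3, nat_lit 1, nat_lit 3, nat_lit 1, nat_lit 2, nat_lit 1, nat_lit 3, nat_lit 1, nat_lit 3, nat_lit 1, nat_lit 2, nat_lit 1]) (.leaf (nat_lit 2704) (nat_lit 1) [nat_lit 3, nat_lit 1, nat_lit 3, nat_lit 1, nat_lit 2, nat_lit 1, nat_lit 3, nat_lit 1, nat_lit 3, nat_lit 1, nat_lit 2, nat_lit 1, nat_lit 3, nat_lit 1, nat_lit 3, nat_lit 1, nat_lit 2])) (.node (nat_lit 2725) (.leaf (nat_lit 2705) (nat_lit 2) [nat_lit 1, nat_lit 3, nat_lit 1, nat_lit 3, nat_lit 1, nat_lit 2, nat_lit 1, nat_lit 3, nat_lit 1, nat_lit 3, nat_lit 1, nat_lit 2, nat_lit 1, nat_lit 3, nat_lit 1, nat_lit 3, nat_lit 1]) (.leaf (nat_lit 2700) (nat_lit 1) [nat_lit 2, nat_lit 1, nat_lit 3, nat_lit 1, nat_lit 3, nat_lit 1, nat_lit 2, nat_lit 1, nat_lit 3, nat_lit 1, nat_lit 3, nat_lit 1, nat_lit 2, nat_lit 1, nat_lit 3, nat_lit 1, nat_lit 3]))) (.node (nat_lit 2728) (.node (nat_lit 2727) (.leaf (nat_lit 2701) (nat_lit 3) [nat_lit 1, nat_lit 2, nat_lit 1, nat_lit 3, nat_lit 1, nat_lit 3, nat_lit 1, nat_lit 2, nat_lit 1, nat_lit 3, nat_lit 1, nat_lit 3, nat_lit 1, nat_lit 2, nat_lit 1, nat_lit 3, nat_lit 1]) (.leaf (nat_lit 2702) (nat_lit 1) [nat_lit 3, nat_lit 1, nat_lit 2, nat_lit 1, nat_lit 3, nat_lit 1, nat_lit 3, nat_lit 1, nat_lit 2, nat_lit 1, nat_lit 3, nat_lit 1, nat_lit 3, nat_lit 1, nat_lit 2, nat_lit 1, nat_lit 3])) (.node (nat_lit 2729) (.leaf (nat_lit 2703) (nat_lit 3) [nat_lit 1, nat_lit 3, nat_lit 1, nat_lit 2, nat_lit 1, nat_lit 3, nat_lit 1, nat_lit 3, nat_lit 1, nat_lit 2, nat_lit 1, nat_lit 3, nat_lit 1, nat_lit 3, nat_lit 1, nat_lit 2, nat_lit 1]) (.node (nat_lit 2730) (.leaf (nat_lit 2704) (nat_lit 1) [nat_lit 3, nat_lit 1, nat_lit 3, nat_lit 1, nat_lit 2, nat_lit 1, nat_lit 3, nat_lit 1, nat_lit 3, nat_lit 1, nat_lit 2, nat_lit 1, nat_lit 3, nat_lit 1, nat_lit 3, nat_lit 1, nat_lit 2]) (.leaf (nat_lit 2705) (nat_lit 2) [nat_lit 1, nat_lit 3, nat_lit 1, nat_lit 3, nat_lit 1, nat_lit 2, nat_lit 1, nat_lit 3, nat_lit 1, nat_lit 3, nat_lit 1, nat_lit 2, nat_lit 1, nat_lit 3, nat_lit 1, nat_lit 3, nat_lit 1])))))) (.node (nat_lit 2740) (.node (nat_lit 2735) (.node (nat_lit 2733) (.node (nat_lit 2732) (.leaf (nat_lit 2700) (nat_lit 1) [nat_lit 2, nat_lit 1, nat_lit 3, nat_lit 1, nat_lit 3, nat_lit 1, nat_lit 2, nat_lit 1, nat_lit 3, nat_lit 1, nat_lit 3, nat_lit 1, nat_lit 2, nat_lit 1, nat_lit 3, nat_lit 1, nat_lit 3]) (.leaf (nat_lit 2701) (nat_lit 3) [nat_lit 1, nat_lit 2, nat_lit 1, nat_lit 3, nat_lit 1, nat_lit 3, nat_lit 1, nat_lit 2, nat_lit 1, nat_lit 3, nat_lit 1, nat_lit 3, nat_lit 1, nat_lit 2, nat_lit 1, nat_lit 3, nat_lit 1])) (.node (nat_lit 2734) (.leaf (nat_lit 2702) (nat_lit 1) [nat_lit 3, nat_lit 1, nat_lit 2, nat_lit 1, nat_lit 3, nat_lit 1, nat_lit 3, nat_lit 1, nat_lit 2, nat_lit 1, nat_lit 3, nat_lit 1, nat_lit 3, nat_lit 1, nat_lit 2, nat_lit 1, nat_lit 3]) (.leaf (nat_lit 2703) (nat_lit 3) [nat_lit 1, nat_lit 3, nat_lit 1, nat_lit 2, nat_lit 1, nat_lit 3, nat_lit 1, nat_lit 3, nat_lit 1, nat_lit 2, nat_lit 1, nat_lit 3, nat_lit 1, nat_lit 3, nat_lit 1, nat_lit 2, nat_lit 1]))) (.node (nat_lit 2737) (.node (nat_lit 2736) (.leaf (nat_lit 2704) (nat_lit 1) [nat_lit 3, nat_lit 1, nat_lit 3, nat_lit 1, nat_lit 2, nat_lit 1, nat_lit 3, nat_lit 1, nat_lit 3, nat_lit 1, nat_lit 2, nat_lit 1, nat_lit 3, nat_lit 1, nat_lit 3, nat_lit 1, nat_lit 2]) (.leaf (nat_lit 2736) (nat_lit 1) [nat_lit 2, nat_lit 1, nat_lit 3, nat_lit 2, nat_lit 3, nat_lit 1, nat_lit 2, nat_lit 1, nat_lit 3, nat_lit 2, nat_lit 3, nat_lit 1, nat_lit 2, nat_lit 1, nat_lit 3, nat_lit 2, nat_lit 3])) (.node (nat_lit 2738) (.leaf (nat_lit 2737) (nat_lit 3) [nat_lit 1, nat_lit 2, nat_lit 1, nat_lit 3, nat_lit 2, nat_lit 3, nat_lit 1, nat_lit 2, nat_lit 1, nat_lit 3, nat_lit 2, nat_lit 3, nat_lit 1, nat_lit 2, nat_lit 1, nat_lit 3, nat_lit 2]) (.node (nat_lit 2739) (.leaf (nat_lit 2738) (nat_lit 2) [nat_lit 3, nat_lit 1, nat_lit 2, nat_lit 1, nat_lit 3, nat_lit 2, nat_lit 3, nat_lit 1, nat_lit 2, nat_lit 1, nat_lit 3, nat_lit 2, nat_lit 3, nat_lit 1, nat_lit 2, nat_lit 1, nat_lit 3]) (.leaf (nat_lit 2739) (nat_lit 3) [nat_lit 2, nat_lit 3, nat_lit 1, nat_lit 2, nat_lit 1, nat_lit 3, nat_lit 2, nat_lit 3, nat_lit 1, nat_lit 2, nat_lit 1, nat_lit 3, nat_lit 2, nat_lit 3, nat_lit 1, nat_lit 2, nat_lit 1]))))) (.node (nat_lit 2745) (.node (nat_lit 2742) (.node (nat_lit 2741) (.leaf (nat_lit 2740) (nat_lit 1) [nat_lit 3, nat_lit 2, nat_lit 3, nat_lit 1, nat_lit 2, nat_lit 1, nat_lit 3, nat_lit 2, nat_lit 3, nat_lit 1, nat_lit 2, nat_lit 1, nat_lit 3, nat_lit 2, nat_lit 3, nat_lit 1, nat_lit 2]) (.leaf (nat_lit 2741) (nat_lit 2) [nat_lit 1, nat_lit 3, nat_lit 2, nat_lit 3, nat_lit 1, nat_lit 2, nat_lit 1, nat_lit 3, nat_lit 2, nat_lit 3, nat_lit 1, nat_lit 2, nat_lit 1, nat_lit 3, nat_lit 2, nat_lit 3, nat_lit 1])) (.node (nat_lit 2743) (.leaf (nat_lit 2736) (nat_lit 1) [nat_lit 2, nat_lit 1, nat_lit 3, nat_lit 2, nat_lit 3, nat_lit 1, nat_lit 2, nat_lit 1, nat_lit 3, nat_lit 2, nat_lit 3, nat_lit 1, nat_lit 2, nat_lit 1, nat_lit 3, nat_lit 2, nat_lit 3]) (.node (nat_lit 2744) (.leaf (nat_lit 2737) (nat_lit 3) [nat_lit 1, nat_lit 2, nat_lit 1, nat_lit 3, nat_lit 2, nat_lit 3, nat_lit 1, nat_lit 2, nat_lit 1, nat_lit 3, nat_lit 2, nat_lit 3, nat_lit 1, nat_lit 2, nat_lit 1, nat_lit 3, nat_lit 2]) (.leaf (nat_lit 2738) (nat_lit 2) [nat_lit 3, nat_lit 1, nat_lit 2, nat_lit 1, nat_lit 3, nat_lit 2, nat_lit 3, nat_lit 1, nat_lit 2, nat_lit 1, nat_lit 3, nat_lit 2, nat_lit 3, nat_lit 1, nat_lit 2, nat_lit 1, nat_lit 3])))) (.node (nat_lit 2747) (.node (nat_lit 2746) (.leaf (nat_lit 2739) (nat_lit 3) [nat_lit 2, nat_lit 3, nat_lit 1, nat_lit 2, nat_lit 1, nat_lit 3, nat_lit 2, nat_lit 3, nat_lit 1, nat_lit 2, nat_lit 1, nat_lit 3, nat_lit 2, nat_lit 3, nat_lit 1, nat_lit 2, nat_lit 1]) (.leaf (nat_lit 2740) (nat_lit 1) [nat_lit 3, nat_lit 2, nat_lit 3, nat_lit 1, nat_lit 2, nat_lit 1, nat_lit 3, nat_lit 2, nat_lit 3, nat_lit 1, nat_lit 2, nat_lit 1, nat_lit 3, nat_lit 2, nat_lit 3, nat_lit 1, nat_lit 2])) (.node (nat_lit 2748) (.leaf (nat_lit 2741) (nat_lit 2) [nat_lit 1, nat_lit 3, nat_lit 2, nat_lit 3, nat_lit 1, nat_lit 2, nat_lit 1, nat_lit 3, nat_lit 2, nat_lit 3, nat_lit 1, nat_lit 2, nat_lit 1, nat_lit 3, nat_lit 2, nat_lit 3, nat_lit 1]) (.node (nat_lit 2749) (.leaf (nat_lit 2736) (nat_lit 1) [nat_lit 2, nat_lit 1, nat_lit 3, nat_lit 2, nat_lit 3, nat_lit 1, nat_lit 2, nat_lit 1, nat_lit 3, nat_lit 2, nat_lit 3, nat_lit 1, nat_lit 2, nat_lit 1, nat_lit 3, nat_lit 2, nat_lit 3]) (.leaf (nat_lit 2737) (nat_lit 3) [nat_lit 1, nat_lit 2, nat_lit 1, nat_lit 3, nat_lit 2, nat_lit 3, nat_lit 1, nat_lit 2, nat_lit 1, nat_lit 3, nat_lit 2, nat_lit 3, nat_lit 1, nat_lit 2, nat_lit 1, nat_lit 3, nat_lit 2]))))))) (.node (nat_lit 2769) (.node (nat_lit 2759) (.node (nat_lit 2754) (.node (nat_lit 2752) (.node (nat_lit 2751) (.leaf (nat_lit 2738) (nat_lit 2) [nat_lit 3, nat_lit 1, nat_lit 2, nat_lit 1, nat_lit 3, nat_lit 2, nat_lit 3, nat_lit 1, nat_lit 2, nat_lit 1, nat_lit 3, nat_lit 2, nat_lit 3, nat_lit 1, nat_lit 2, nat_lit 1, nat_lit 3]) (.leaf (nat_lit 2739) (nat_lit 3) [nat_lit 2, nat_lit 3, nat_lit 1, nat_lit 2, nat_lit 1, nat_lit 3, nat_lit 2, nat_lit 3, nat_lit 1, nat_lit 2, nat_lit 1, nat_lit 3, nat_lit 2, nat_lit 3, nat_lit 1, nat_lit 2, nat_lit 1])) (.node (nat_lit 2753) (.leaf (nat_lit 2740) (nat_lit 1) [nat_lit 3, nat_lit 2, nat_lit 3, nat_lit 1, nat_lit 2, nat_lit 1, nat_lit 3, nat_lit 2, nat_lit 3, nat_lit 1, nat_lit 2, nat_lit 1, nat_lit 3, nat_lit 2, nat_lit 3, nat_lit 1, nat_lit 2]) (.leaf (nat_lit 2741) (nat_lit 2) [nat_lit 1, nat_lit 3, nat_lit 2, nat_lit 3, nat_lit 1, nat_lit 2, nat_lit 1, nat_lit 3, nat_lit 2, nat_lit 3, nat_lit 1, nat_lit 2, nat_lit 1, nat_lit 3, nat_lit 2, nat_lit 3, nat_lit 1]))) (.node (nat_lit 2756) (.node (nat_lit 2755) (.leaf (nat_lit 2741) (nat_lit 2) [nat_lit 1, nat_lit 3, nat_lit 2, nat_lit 3, nat_lit 1, nat_lit 2, nat_lit 1, nat_lit 3, nat_lit 2, nat_lit 3, nat_lit 1, nat_lit 2, nat_lit 1, nat_lit 3, nat_lit 2, nat_lit 3, nat_lit 1]) (.leaf (nat_lit 2736) (nat_lit 1) [nat_lit 2, nat_lit 1, nat_lit 3, nat_lit 2, nat_lit 3, nat_lit 1, nat_lit 2, nat_lit 1, nat_lit 3, nat_lit 2, nat_lit 3, nat_lit 1, nat_lit 2, nat_lit 1, nat_lit 3, nat_lit 2, nat_lit 3])) (.node (nat_lit 2757) (.leaf (nat_lit 2737) (nat_lit 3) [nat_lit 1, nat_lit 2, nat_lit 1, nat_lit 3, nat_lit 2, nat_lit 3, nat_lit 1, nat_lit 2, nat_lit 1, nat_lit 3, nat_lit 2, nat_lit 3, nat_lit 1, nat_lit 2, nat_lit 1, nat_lit 3, nat_lit 2]) (.node (nat_lit 2758) (.leaf (nat_lit 2738) (nat_lit 2) [nat_lit 3, nat_lit 1, nat_lit 2, nat_lit 1, nat_lit 3, nat_lit 2, nat_lit 3, nat_lit 1, nat_lit 2, nat_lit 1, nat_lit 3, nat_lit 2, nat_lit 3, nat_lit 1, nat_lit 2, nat_lit 1, nat_lit 3]) (.leaf (nat_lit 2739) (nat_lit 3) [nat_lit 2, nat_lit 3, nat_lit 1, nat_lit 2, nat_lit 1, nat_lit 3, nat_lit 2, nat_lit 3, nat_lit 1, nat_lit 2, nat_lit 1, nat_lit 3, nat_lit 2, nat_lit 3, nat_lit 1, nat_lit 2, nat_lit 1]))))) (.node (nat_lit 2764) (.node (nat_lit 2761) (.node (nat_lit 2760) (.leaf (nat_lit 2740) (nat_lit 1) [nat_lit 3, nat_lit 2, nat_lit 3, nat_lit 1, nat_lit 2, nat_lit 1, nat_lit 3, nat_lit 2, nat_lit 3, nat_lit 1, nat_lit 2, nat_lit 1, nat_lit 3, nat_lit 2, nat_lit 3, nat_lit 1, nat_lit 2]) (.leaf (nat_lit 2741) (nat_lit 2) [nat_lit 1, nat_lit 3, nat_lit 2, nat_lit 3, nat_lit 1, nat_lit 2, nat_lit 1, nat_lit 3, nat_lit 2, nat_lit 3, nat_lit 1, nat_lit 2, nat_lit 1, nat_lit 3, nat_lit 2, nat_lit 3, nat_lit 1])) (.node (nat_lit 2762) (.leaf (nat_lit 2736) (nat_lit 1) [nat_lit 2, nat_lit 1, nat_lit 3, nat_lit 2, nat_lit 3, nat_lit 1, nat_lit 2, nat_lit 1, nat_lit 3, nat_lit 2, nat_lit 3, nat_lit 1, nat_lit 2, nat_lit 1, nat_lit 3, nat_lit 2, nat_lit 3]) (.node (nat_lit 2763) (.leaf (nat_lit 2737) (nat_lit 3) [nat_lit 1, nat_lit 2, nat_lit 1, nat_lit 3, nat_lit 2, nat_lit 3, nat_lit 1, nat_lit 2, nat_lit 1, nat_lit 3, nat_lit 2, nat_lit 3, nat_lit 1, nat_lit 2, nat_lit 1, nat_lit 3, nat_lit 2]) (.leaf (nat_lit 2738) (nat_lit 2) [nat_lit 3, nat_lit 1, nat_lit 2, nat_lit 1, nat_lit 3, nat_lit 2, nat_lit 3, nat_lit 1, nat_lit 2, nat_lit 1, nat_lit 3, nat_lit 2, nat_lit 3, nat_lit 1, nat_lit 2, nat_lit 1, nat_lit 3])))) (.node (nat_lit 2766) (.node (nat_lit 2765) (.leaf (nat_lit 2739) (nat_lit 3) [nat_lit 2, nat_lit 3, nat_lit 1, nat_lit 2, nat_lit 1, nat_lit 3, nat_lit 2, nat_lit 3, nat_lit 1, nat_lit 2, nat_lit 1, nat_lit 3, nat_lit 2, nat_lit 3, nat_lit 1, nat_lit 2, nat_lit 1]) (.leaf (nat_lit 2740) (nat_lit 1) [nat_lit 3, nat_lit 2, nat_lit 3, nat_lit 1, nat_lit 2, nat_lit 1, nat_lit 3, nat_lit 2, nat_lit 3, nat_lit 1, nat_lit 2, nat_lit 1, nat_lit 3, nat_lit 2, nat_lit 3, nat_lit 1, nat_lit 2])) (.node (nat_lit 2767) (.leaf (nat_lit 2741) (nat_lit 2) [nat_lit 1, nat_lit 3, nat_lit 2, nat_lit 3, nat_lit 1, nat_lit 2, nat_lit 1, nat_lit 3, nat_lit 2, nat_lit 3, nat_lit 1, nat_lit 2, nat_lit 1, nat_lit 3, nat_lit 2, nat_lit 3, nat_lit 1]) (.node (nat_lit 2768) (.leaf (nat_lit 2736) (nat_lit 1) [nat_lit 2, nat_lit 1, nat_lit 3, nat_lit 2, nat_lit 3, nat_lit 1, nat_lit 2, nat_lit 1, nat_lit 3, nat_lit 2, nat_lit 3, nat_lit 1, nat_lit 2, nat_lit 1, nat_lit 3, nat_lit 2, nat_lit 3]) (.leaf (nat_lit 2737) (nat_lit 3) [nat_lit 1, nat_lit 2, nat_lit 1, nat_lit 3, nat_lit 2, nat_lit 3, nat_lit 1, nat_lit 2, nat_lit 1, nat_lit 3, nat_lit 2, nat_lit 3, nat_lit 1, nat_lit 2, nat_lit 1, nat_lit 3, nat_lit 2])))))) (.node (nat_lit 2778) (.node (nat_lit 2773) (.node (nat_lit 2771) (.node (nat_lit 2770) (.leaf (nat_lit 2738) (nat_lit 2) [nat_lit 3, nat_lit 1, nat_lit 2, nat_lit 1, nat_lit 3, nat_lit 2, nat_lit 3, nat_lit 1, nat_lit 2, nat_lit 1, nat_lit 3, nat_lit 2, nat_lit 3, nat_lit 1, nat_lit 2, nat_lit 1, nat_lit 3]) (.leaf (nat_lit 2739) (nat_lit 3) [nat_lit 2, nat_lit 3, nat_lit 1, nat_lit 2, nat_lit 1, nat_lit 3, nat_lit 2, nat_lit 3, nat_lit 1, nat_lit 2, nat_lit 1, nat_lit 3, nat_lit 2, nat_lit 3, nat_lit 1, nat_lit 2, nat_lit 1])) (.node (nat_lit 2772) (.leaf (nat_lit 2740) (nat_lit 1) [nat_lit 3, nat_lit 2, nat_lit 3, nat_lit 1, nat_lit 2, nat_lit 1, nat_lit 3, nat_lit 2, nat_lit 3, nat_lit 1, nat_lit 2, nat_lit 1, nat_lit 3, nat_lit 2, nat_lit 3, nat_lit 1, nat_lit 2]) (.leaf (nat_lit 2772) (nat_lit 1) [nat_lit 3, nat_lit 1, nat_lit 3, nat_lit 0, nat_lit 3, nat_lit 1, nat_lit 3, nat_lit 1, nat_lit 3, nat_lit 0, nat_lit 3, nat_lit 1, nat_lit 3, nat_lit 1, nat_lit 3, nat_lit 0, nat_lit 3]))) (.node (nat_lit 2775) (.node (nat_lit 2774) (.leaf (nat_lit 2773) (nat_lit 3) [nat_lit 1, nat_lit 3, nat_lit 1, nat_lit 3, nat_lit 0, nat_lit 3, nat_lit 1, nat_lit 3, nat_lit 1, nat_lit 3, nat_lit 0, nat_lit 3, nat_lit 1, nat_lit 3, nat_lit 1, nat_lit 3, nat_lit 0]) (.leaf (nat_lit 2774) (nat_lit 0) [nat_lit 3, nat_lit 1, nat_lit 3, nat_lit 1, nat_lit 3, nat_lit 0, nat_lit 3, nat_lit 1, nat_lit 3, nat_lit 1, nat_lit 3, nat_lit 0, nat_lit 3, nat_lit 1, nat_lit 3, nat_lit 1, nat_lit 3])) (.node (nat_lit 2776) (.leaf (nat_lit 2775) (nat_lit 3) [nat_lit 0, nat_lit 3, nat_lit 1, nat_lit 3, nat_lit 1, nat_lit 3, nat_lit 0, nat_lit 3, nat_lit 1, nat_lit 3, nat_lit 1, nat_lit 3, nat_lit 0, nat_lit 3, nat_lit 1, nat_lit 3, nat_lit 1]) (.node (nat_lit 2777) (.leaf (nat_lit 2776) (nat_lit 1) [nat_lit 3, nat_lit 0, nat_lit 3, nat_lit 1, nat_lit 3, nat_lit 1, nat_lit 3, nat_lit 0, nat_lit 3, nat_lit 1, nat_lit 3, nat_lit 1, nat_lit 3, nat_lit 0, nat_lit 3, nat_lit 1, nat_lit 3]) (.leaf (nat_lit 2777) (nat_lit 3) [nat_lit 1, nat_lit 3, nat_lit 0, nat_lit 3, nat_lit 1, nat_lit 3, nat_lit 1, nat_lit 3, nat_lit 0, nat_lit 3, nat_lit 1, nat_lit 3, nat_lit 1, nat_lit 3, nat_lit 0, nat_lit 3, nat_lit 1]))))) (.node (nat_lit 2783) (.node (nat_lit 2780) (.node (nat_lit 2779) (.leaf (nat_lit 2772) (nat_lit 1) [nat_lit 3, nat_lit 1, nat_lit 3, nat_lit 0, nat_lit 3, nat_lit 1, nat_lit 3, nat_lit 1, nat_lit 3, nat_lit 0, nat_lit 3, nat_lit 1, nat_lit 3, nat_lit 1, nat_lit 3, nat_lit 0, nat_lit 3]) (.leaf (nat_lit 2773) (nat_lit 3) [nat_lit 1, nat_lit 3, nat_lit 1, nat_lit 3, nat_lit 0, nat_lit 3, nat_lit 1, nat_lit 3, nat_lit 1, nat_lit 3, nat_lit 0, nat_lit 3, nat_lit 1, nat_lit 3, nat_lit 1, nat_lit 3, nat_lit 0])) (.node (nat_lit 2781) (.leaf (nat_lit 2774) (nat_lit 0) [nat_lit 3, nat_lit 1, nat_lit 3, nat_lit 1, nat_lit 3, nat_lit 0, nat_lit 3, nat_lit 1, nat_lit 3, nat_lit 1, nat_lit 3, nat_lit 0, nat_lit 3, nat_lit 1, nat_lit 3, nat_lit 1, nat_lit 3]) (.node (nat_lit 2782) (.leaf (nat_lit 2775) (nat_lit 3) [nat_lit 0, nat_lit 3, nat_lit 1, nat_lit 3, nat_lit 1, nat_lit 3, nat_lit 0, nat_lit 3, nat_lit 1, nat_lit 3, nat_lit 1, nat_lit 3, nat_lit 0, nat_lit 3, nat_lit 1, nat_lit 3, nat_lit 1]) (.leaf (nat_lit 2776) (nat_lit 1) [nat_lit 3, nat_lit 0, nat_lit 3, nat_lit 1, nat_lit 3, nat_lit 1, nat_lit 3, nat_lit 0, nat_lit 3, nat_lit 1, nat_lit 3, nat_lit 1, nat_lit 3, nat_lit 0, nat_lit 3, nat_lit 1, nat_lit 3])))) (.node (nat_lit 2785) (.node (nat_lit 2784) (.leaf (nat_lit 2777) (nat_lit 3) [nat_lit 1, nat_lit 3, nat_lit 0, nat_lit 3, nat_lit 1, nat_lit 3, nat_lit 1, nat_lit 3, nat_lit 0, nat_lit 3, nat_lit 1, nat_lit 3, nat_lit 1, nat_lit 3, nat_lit 0, nat_lit 3, nat_lit 1]) (.leaf (nat_lit 2772) (nat_lit 1) [nat_lit 3, nat_lit 1, nat_lit 3, nat_lit 0, nat_lit 3, nat_lit 1, nat_lit 3, nat_lit 1, nat_lit 3, nat_lit 0, nat_lit 3, nat_lit 1, nat_lit 3, nat_lit 1, nat_lit 3, nat_lit 0, nat_lit 3])) (.node (nat_lit 2786) (.leaf (nat_lit 2773) (nat_lit 3) [nat_lit 1, nat_lit 3, nat_lit 1, nat_lit 3, nat_lit 0, nat_lit 3, nat_lit 1, nat_lit 3, nat_lit 1, nat_lit 3, nat_lit 0, nat_lit 3, nat_lit 1, nat_lit 3, nat_lit 1, nat_lit 3, nat_lit 0]) (.node (nat_lit 2787) (.leaf (nat_lit 2774) (nat_lit 0) [nat_lit 3, nat_lit 1, nat_lit 3, nat_lit 1, nat_lit 3, nat_lit 0, nat_lit 3, nat_lit 1, nat_lit 3, nat_lit 1, nat_lit 3, nat_lit 0, nat_lit 3, nat_lit 1, nat_lit 3, nat_lit 1, nat_lit 3]) (.leaf (nat_lit 2775) (nat_lit 3) [nat_lit 0, nat_lit 3, nat_lit 1, nat_lit 3, nat_lit 1, nat_lit 3, nat_lit 0, nat_lit 3, nat_lit 1, nat_lit 3, nat_lit 1, nat_lit 3, nat_lit 0, nat_lit 3, nat_lit 1, nat_lit 3, nat_lit 1])))))))) (.node (nat_lit 2826) (.node (nat_lit 2807) (.node (nat_lit 2797) (.node (nat_lit 2792) (.node (nat_lit 2790) (.node (nat_lit 2789) (.leaf (nat_lit 2776) (nat_lit 1) [nat_lit 3, nat_lit 0, nat_lit 3, nat_lit 1, nat_lit 3, nat_lit 1, nat_lit 3, nat_lit 0, nat_lit 3, nat_lit 1, nat_lit 3, nat_lit 1, nat_lit 3, nat_lit 0, nat_lit 3, nat_lit 1, nat_lit 3]) (.leaf (nat_lit 2777) (nat_lit 3) [nat_lit 1, nat_lit 3, nat_lit 0, nat_lit 3, nat_lit 1, nat_lit 3, nat_lit 1, nat_lit 3, nat_lit 0, nat_lit 3, nat_lit 1, nat_lit 3, nat_lit 1, nat_lit 3, nat_lit 0, nat_lit 3, nat_lit 1])) (.node (nat_lit 2791) (.leaf (nat_lit 2777) (nat_lit 3) [nat_lit 1, nat_lit 3, nat_lit 0, nat_lit 3, nat_lit 1, nat_lit 3, nat_lit 1, nat_lit 3, nat_lit 0, nat_lit 3, nat_lit 1, nat_lit 3, nat_lit 1, nat_lit 3, nat_lit 0, nat_lit 3, nat_lit 1]) (.leaf (nat_lit 2772) (nat_lit 1) [nat_lit 3, nat_lit 1, nat_lit 3, nat_lit 0, nat_lit 3, nat_lit 1, nat_lit 3, nat_lit 1, nat_lit 3, nat_lit 0, nat_lit 3, nat_lit 1, nat_lit 3, nat_lit 1, nat_lit 3, nat_lit 0, nat_lit 3]))) (.node (nat_lit 2794) (.node (nat_lit 2793) (.leaf (nat_lit 2773) (nat_lit 3) [nat_lit 1, nat_lit 3, nat_lit 1, nat_lit 3, nat_lit 0, nat_lit 3, nat_lit 1, nat_lit 3, nat_lit 1, nat_lit 3, nat_lit 0, nat_lit 3, nat_lit 1, nat_lit 3, nat_lit 1, nat_lit 3, nat_lit 0]) (.leaf (nat_lit 2774) (nat_lit 0) [nat_lit 3, nat_lit 1, nat_lit 3, nat_lit 1, nat_lit 3, nat_lit 0, nat_lit 3, nat_lit 1, nat_lit 3, nat_lit 1, nat_lit 3, nat_lit 0, nat_lit 3, nat_lit 1, nat_lit 3, nat_lit 1, nat_lit 3])) (.node (nat_lit 2795) (.leaf (nat_lit 2775) (nat_lit 3) [nat_lit 0, nat_lit 3, nat_lit 1, nat_lit 3, nat_lit 1, nat_lit 3, nat_lit 0, nat_lit 3, nat_lit 1, nat_lit 3, nat_lit 1, nat_lit 3, nat_lit 0, nat_lit 3, nat_lit 1, nat_lit 3, nat_lit 1]) (.node (nat_lit 2796) (.leaf (nat_lit 2776) (nat_lit 1) [nat_lit 3, nat_lit 0, nat_lit 3, nat_lit 1, nat_lit 3, nat_lit 1, nat_lit 3, nat_lit 0, nat_lit 3, nat_lit 1, nat_lit 3, nat_lit 1, nat_lit 3, nat_lit 0, nat_lit 3, nat_lit 1, nat_lit 3]) (.leaf (nat_lit 2777) (nat_lit 3) [nat_lit 1, nat_lit 3, nat_lit 0, nat_lit 3, nat_lit 1, nat_lit 3, nat_lit 1, nat_lit 3, nat_lit 0, nat_lit 3, nat_lit 1, nat_lit 3, nat_lit 1, nat_lit 3, nat_lit 0, nat_lit 3, nat_lit 1]))))) (.node (nat_lit 2802) (.node (nat_lit 2799) (.node (nat_lit 2798) (.leaf (nat_lit 2772) (nat_lit 1) [nat_lit 3, nat_lit 1, nat_lit 3, nat_lit 0, nat_lit 3, nat_lit 1, nat_lit 3, nat_lit 1, nat_lit 3, nat_lit 0, nat_lit 3, nat_lit 1, nat_lit 3, nat_lit 1, nat_lit 3, nat_lit 0, nat_lit 3]) (.leaf (nat_lit 2773) (nat_lit 3) [nat_lit 1, nat_lit 3, nat_lit 1, nat_lit 3, nat_lit 0, nat_lit 3, nat_lit 1, nat_lit 3, nat_lit 1, nat_lit 3, nat_lit 0, nat_lit 3, nat_lit 1, nat_lit 3, nat_lit 1, nat_lit 3, nat_lit 0])) (.node (nat_lit 2800) (.leaf (nat_lit 2774) (nat_lit 0) [nat_lit 3, nat_lit 1, nat_lit 3, nat_lit 1, nat_lit 3, nat_lit 0, nat_lit 3, nat_lit 1, nat_lit 3, nat_lit 1, nat_lit 3, nat_lit 0, nat_lit 3, nat_lit 1, nat_lit 3, nat_lit 1, nat_lit 3]) (.node (nat_lit 2801) (.leaf (nat_lit 2775) (nat_lit 3) [nat_lit 0, nat_lit 3, nat_lit 1, nat_lit 3, nat_lit 1, nat_lit 3, nat_lit 0, nat_lit 3, nat_lit 1, nat_lit 3, nat_lit 1, nat_lit 3, nat_lit 0, nat_lit 3, nat_lit 1, nat_lit 3, nat_lit 1]) (.leaf (nat_lit 2776) (nat_lit 1) [nat_lit 3, nat_lit 0, nat_lit 3, nat_lit 1, nat_lit 3, nat_lit 1, nat_lit 3, nat_lit 0, nat_lit 3, nat_lit 1, nat_lit 3, nat_lit 1, nat_lit 3, nat_lit 0, nat_lit 3, nat_lit 1, nat_lit 3])))) (.node (nat_lit 2804) (.node (nat_lit 2803) (.leaf (nat_lit 2777) (nat_lit 3) [nat_lit 1, nat_lit 3, nat_lit 0, nat_lit 3, nat_lit 1, nat_lit 3, nat_lit 1, nat_lit 3, nat_lit 0, nat_lit 3, nat_lit 1, nat_lit 3, nat_lit 1, nat_lit 3, nat_lit 0, nat_lit 3, nat_lit 1]) (.leaf (nat_lit 2772) (nat_lit 1) [nat_lit 3, nat_lit 1, nat_lit 3, nat_lit 0, nat_lit 3, nat_lit 1, nat_lit 3, nat_lit 1, nat_lit 3, nat_lit 0, nat_lit 3, nat_lit 1, nat_lit 3, nat_lit 1, nat_lit 3, nat_lit 0, nat_lit 3])) (.node (nat_lit 2805) (.leaf (nat_lit 2773) (nat_lit 3) [nat_lit 1, nat_lit 3, nat_lit 1, nat_lit 3, nat_lit 0, nat_lit 3, nat_lit 1, nat_lit 3, nat_lit 1, nat_lit 3, nat_lit 0, nat_lit 3, nat_lit 1, nat_lit 3, nat_lit 1, nat_lit 3, nat_lit 0]) (.node (nat_lit 2806) (.leaf (nat_lit 2774) (nat_lit 0) [nat_lit 3, nat_lit 1, nat_lit 3, nat_lit 1, nat_lit 3, nat_lit 0, nat_lit 3, nat_lit 1, nat_lit 3, nat_lit 1, nat_lit 3, nat_lit 0, nat_lit 3, nat_lit 1, nat_lit 3, nat_lit 1, nat_lit 3]) (.leaf (nat_lit 2775) (nat_lit 3) [nat_lit 0, nat_lit 3, nat_lit 1, nat_lit 3, nat_lit 1, nat_lit 3, nat_lit 0, nat_lit 3, nat_lit 1, nat_lit 3, nat_lit 1, nat_lit 3, nat_lit 0, nat_lit 3, nat_lit 1, nat_lit 3, nat_lit 1])))))) (.node (nat_lit 2816) (.node (nat_lit 2811) (.node (nat_lit 2809) (.node (nat_lit 2808) (.leaf (nat_lit 2776) (nat_lit 1) [nat_lit 3, nat_lit 0, nat_lit 3, nat_lit 1, nat_lit 3, nat_lit 1, nat_lit 3, nat_lit 0, nat_lit 3, nat_lit 1, nat_lit 3, nat_lit 1, nat_lit 3, nat_lit 0, nat_lit 3, nat_lit 1, nat_lit 3]) (.leaf (nat_lit 2808) (nat_lit 1) [nat_lit 3, nat_lit 1, nat_lit 3, nat_lit 1, nat_lit 3, nat_lit 1, nat_lit 3, nat_lit 1, nat_lit 3, nat_lit 1, nat_lit 3, nat_lit 1, nat_lit 3, nat_lit 1, nat_lit 3, nat_lit 1, nat_lit 3])) (.node (nat_lit 2810) (.leaf (nat_lit 2809) (nat_lit 3) [nat_lit 1, nat_lit 3, nat_lit 1, nat_lit 3, nat_lit 1, nat_lit 3, nat_lit 1, nat_lit 3, nat_lit 1, nat_lit 3, nat_lit 1, nat_lit 3, nat_lit 1, nat_lit 3, nat_lit 1, nat_lit 3, nat_lit 1]) (.leaf (nat_lit 2808) (nat_lit 1) [nat_lit 3, nat_lit 1, nat_lit 3, nat_lit 1, nat_lit 3, nat_lit 1, nat_lit 3, nat_lit 1, nat_lit 3, nat_lit 1, nat_lit 3, nat_lit 1, nat_lit 3, nat_lit 1, nat_lit 3, nat_lit 1, nat_lit 3]))) (.node (nat_lit 2813) (.node (nat_lit 2812) (.leaf (nat_lit 2809) (nat_lit 3) [nat_lit 1, nat_lit 3, nat_lit 1, nat_lit 3, nat_lit 1, nat_lit 3, nat_lit 1, nat_lit 3, nat_lit 1, nat_lit 3, nat_lit 1, nat_lit 3, nat_lit 1, nat_lit 3, nat_lit 1, nat_lit 3, nat_lit 1]) (.leaf (nat_lit 2808) (nat_lit 1) [nat_lit 3, nat_lit 1, nat_lit 3, nat_lit 1, nat_lit 3, nat_lit 1, nat_lit 3, nat_lit 1, nat_lit 3, nat_lit 1, nat_lit 3, nat_lit 1, nat_lit 3, nat_lit 1, nat_lit 3, nat_lit 1, nat_lit 3])) (.node (nat_lit 2814) (.leaf (nat_lit 2809) (nat_lit 3) [nat_lit 1, nat_lit 3, nat_lit 1, nat_lit 3, nat_lit 1, nat_lit 3, nat_lit 1, nat_lit 3, nat_lit 1, nat_lit 3, nat_lit 1, nat_lit 3, nat_lit 1, nat_lit 3, nat_lit 1, nat_lit 3, nat_lit 1]) (.node (nat_lit 2815) (.leaf (nat_lit 2808) (nat_lit 1) [nat_lit 3, nat_lit 1, nat_lit 3, nat_lit 1, nat_lit 3, nat_lit 1, nat_lit 3, nat_lit 1, nat_lit 3, nat_lit 1, nat_lit 3, nat_lit 1, nat_lit 3, nat_lit 1, nat_lit 3, nat_lit 1, nat_lit 3]) (.leaf (nat_lit 2809) (nat_lit 3) [nat_lit 1, nat_lit 3, nat_lit 1, nat_lit 3, nat_lit 1, nat_lit 3, nat_lit 1, nat_lit 3, nat_lit 1, nat_lit 3, nat_lit 1, nat_lit 3, nat_lit 1, nat_lit 3, nat_lit 1, nat_lit 3, nat_lit 1]))))) (.node (nat_lit 2821) (.node (nat_lit 2818) (.node (nat_lit 2817) (.leaf (nat_lit 2808) (nat_lit 1) [nat_lit 3, nat_lit 1, nat_lit 3, nat_lit 1, nat_lit 3, nat_lit 1, nat_lit 3, nat_lit 1, nat_lit 3, nat_lit 1, nat_lit 3, nat_lit 1, nat_lit 3, nat_lit 1, nat_lit 3, nat_lit 1, nat_lit 3]) (.leaf (nat_lit 2809) (nat_lit 3) [nat_lit 1, nat_lit 3, nat_lit 1, nat_lit 3, nat_lit 1, nat_lit 3, nat_lit 1, nat_lit 3, nat_lit 1, nat_lit 3, nat_lit 1, nat_lit 3, nat_lit 1, nat_lit 3, nat_lit 1, nat_lit 3, nat_lit 1])) (.node (nat_lit 2819) (.leaf (nat_lit 2808) (nat_lit 1) [nat_lit 3, nat_lit 1, nat_lit 3, nat_lit 1, nat_lit 3, nat_lit 1, nat_lit 3, nat_lit 1, nat_lit 3, nat_lit 1, nat_lit 3, nat_lit 1, nat_lit 3, nat_lit 1, nat_lit 3, nat_lit 1, nat_lit 3]) (.node (nat_lit 2820) (.leaf (nat_lit 2809) (nat_lit 3) [nat_lit 1, nat_lit 3, nat_lit 1, nat_lit 3, nat_lit 1, nat_lit 3, nat_lit 1, nat_lit 3, nat_lit 1, nat_lit 3, nat_lit 1, nat_lit 3, nat_lit 1, nat_lit 3, nat_lit 1, nat_lit 3, nat_lit 1]) (.leaf (nat_lit 2808) (nat_lit 1) [nat_lit 3, nat_lit 1, nat_lit 3, nat_lit 1, nat_lit 3, nat_lit 1, nat_lit 3, nat_lit 1, nat_lit 3, nat_lit 1, nat_lit 3, nat_lit 1, nat_lit 3, nat_lit 1, nat_lit 3, nat_lit 1, nat_lit 3])))) (.node (nat_lit 2823) (.node (nat_lit 2822) (.leaf (nat_lit 2809) (nat_lit 3) [nat_lit 1, nat_lit 3, nat_lit 1, nat_lit 3, nat_lit 1, nat_lit 3, nat_lit 1, nat_lit 3, nat_lit 1, nat_lit 3, nat_lit 1, nat_lit 3, nat_lit 1, nat_lit 3, nat_lit 1, nat_lit 3, nat_lit 1]) (.leaf (nat_lit 2808) (nat_lit 1) [nat_lit 3, nat_lit 1, nat_lit 3, nat_lit 1, nat_lit 3, nat_lit 1, nat_lit 3, nat_lit 1, nat_lit 3, nat_lit 1, nat_lit 3, nat_lit 1, nat_lit 3, nat_lit 1, nat_lit 3, nat_lit 1, nat_lit 3])) (.node (nat_lit 2824) (.leaf (nat_lit 2809) (nat_lit 3) [nat_lit 1, nat_lit 3, nat_lit 1, nat_lit 3, nat_lit 1, nat_lit 3, nat_lit 1, nat_lit 3, nat_lit 1, nat_lit 3, nat_lit 1, nat_lit 3, nat_lit 1, nat_lit 3, nat_lit 1, nat_lit 3, nat_lit 1]) (.node (nat_lit 2825) (.leaf (nat_lit 2808) (nat_lit 1) [nat_lit 3, nat_lit 1, nat_lit 3, nat_lit 1, nat_lit 3, nat_lit 1, nat_lit 3, nat_lit 1, nat_lit 3, nat_lit 1, nat_lit 3, nat_lit 1, nat_lit 3, nat_lit 1, nat_lit 3, nat_lit 1, nat_lit 3]) (.leaf (nat_lit 2809) (nat_lit 3) [nat_lit 1, nat_lit 3, nat_lit 1, nat_lit 3, nat_lit 1, nat_lit 3, nat_lit 1, nat_lit 3, nat_lit 1, nat_lit 3, nat_lit 1, nat_lit 3, nat_lit 1, nat_lit 3, nat_lit 1, nat_lit 3, nat_lit 1]))))))) (.node (nat_lit 2845) (.node (nat_lit 2835) (.node (nat_lit 2830) (.node (nat_lit 2828) (.node (nat_lit 2827) (.leaf (nat_lit 2809) (nat_lit 3) [nat_lit 1, nat_lit 3, nat_lit 1, nat_lit 3, nat_lit 1, nat_lit 3, nat_lit 1, nat_lit 3, nat_lit 1, nat_lit 3, nat_lit 1, nat_lit 3, nat_lit 1, nat_lit 3, nat_lit 1, nat_lit 3, nat_lit 1]) (.leaf (nat_lit 2808) (nat_lit 1) [nat_lit 3, nat_lit 1, nat_lit 3, nat_lit 1, nat_lit 3, nat_lit 1, nat_lit 3, nat_lit 1, nat_lit 3, nat_lit 1, nat_lit 3, nat_lit 1, nat_lit 3, nat_lit 1, nat_lit 3, nat_lit 1, nat_lit 3])) (.node (nat_lit 2829) (.leaf (nat_lit 2809) (nat_lit 3) [nat_lit 1, nat_lit 3, nat_lit 1, nat_lit 3, nat_lit 1, nat_lit 3, nat_lit 1, nat_lit 3, nat_lit 1, nat_lit 3, nat_lit 1, nat_lit 3, nat_lit 1, nat_lit 3, nat_lit 1, nat_lit 3, nat_lit 1]) (.leaf (nat_lit 2808) (nat_lit 1) [nat_lit 3, nat_lit 1, nat_lit 3, nat_lit 1, nat_lit 3, nat_lit 1, nat_lit 3, nat_lit 1, nat_lit 3, nat_lit 1, nat_lit 3, nat_lit 1, nat_lit 3, nat_lit 1, nat_lit 3, nat_lit 1, nat_lit 3]))) (.node (nat_lit 2832) (.node (nat_lit 2831) (.leaf (nat_lit 2809) (nat_lit 3) [nat_lit 1, nat_lit 3, nat_lit 1, nat_lit 3, nat_lit 1, nat_lit 3, nat_lit 1, nat_lit 3, nat_lit 1, nat_lit 3, nat_lit 1, nat_lit 3, nat_lit 1, nat_lit 3, nat_lit 1, nat_lit 3, nat_lit 1]) (.leaf (nat_lit 2808) (nat_lit 1) [nat_lit 3, nat_lit 1, nat_lit 3, nat_lit 1, nat_lit 3, nat_lit 1, nat_lit 3, nat_lit 1, nat_lit 3, nat_lit 1, nat_lit 3, nat_lit 1, nat_lit 3, nat_lit 1, nat_lit 3, nat_lit 1, nat_lit 3])) (.node (nat_lit 2833) (.leaf (nat_lit 2809) (nat_lit 3) [nat_lit 1, nat_lit 3, nat_lit 1, nat_lit 3, nat_lit 1, nat_lit 3, nat_lit 1, nat_lit 3, nat_lit 1, nat_lit 3, nat_lit 1, nat_lit 3, nat_lit 1, nat_lit 3, nat_lit 1, nat_lit 3, nat_lit 1]) (.node (nat_lit 2834) (.leaf (nat_lit 2808) (nat_lit 1) [nat_lit 3, nat_lit 1, nat_lit 3, nat_lit 1, nat_lit 3, nat_lit 1, nat_lit 3, nat_lit 1, nat_lit 3, nat_lit 1, nat_lit 3, nat_lit 1, nat_lit 3, nat_lit 1, nat_lit 3, nat_lit 1, nat_lit 3]) (.leaf (nat_lit 2809) (nat_lit 3) [nat_lit 1, nat_lit 3, nat_lit 1, nat_lit 3, nat_lit 1, nat_lit 3, nat_lit 1, nat_lit 3, nat_lit 1, nat_lit 3, nat_lit 1, nat_lit 3, nat_lit 1, nat_lit 3, nat_lit 1, nat_lit 3, nat_lit 1]))))) (.node (nat_lit 2840) (.node (nat_lit 2837) (.node (nat_lit 2836) (.leaf (nat_lit 2808) (nat_lit 1) [nat_lit 3, nat_lit 1, nat_lit 3, nat_lit 1, nat_lit 3, nat_lit 1, nat_lit 3, nat_lit 1, nat_lit 3, nat_lit 1, nat_lit 3, nat_lit 1, nat_lit 3, nat_lit 1, nat_lit 3, nat_lit 1, nat_lit 3]) (.leaf (nat_lit 2809) (nat_lit 3) [nat_lit 1, nat_lit 3, nat_lit 1, nat_lit 3, nat_lit 1, nat_lit 3, nat_lit 1, nat_lit 3, nat_lit 1, nat_lit 3, nat_lit 1, nat_lit 3, nat_lit 1, nat_lit 3, nat_lit 1, nat_lit 3, nat_lit 1])) (.node (nat_lit 2838) (.leaf (nat_lit 2808) (nat_lit 1) [nat_lit 3, nat_lit 1, nat_lit 3, nat_lit 1, nat_lit 3, nat_lit 1, nat_lit 3, nat_lit 1, nat_lit 3, nat_lit 1, nat_lit 3, nat_lit 1, nat_lit 3, nat_lit 1, nat_lit 3, nat_lit 1, nat_lit 3]) (.node (nat_lit 2839) (.leaf (nat_lit 2809) (nat_lit 3) [nat_lit 1, nat_lit 3, nat_lit 1, nat_lit 3, nat_lit 1, nat_lit 3, nat_lit 1, nat_lit 3, nat_lit 1, nat_lit 3, nat_lit 1, nat_lit 3, nat_lit 1, nat_lit 3, nat_lit 1, nat_lit 3, nat_lit 1]) (.leaf (nat_lit 2808) (nat_lit 1) [nat_lit 3, nat_lit 1, nat_lit 3, nat_lit 1, nat_lit 3, nat_lit 1, nat_lit 3, nat_lit 1, nat_lit 3, nat_lit 1, nat_lit 3, nat_lit 1, nat_lit 3, nat_lit 1, nat_lit 3, nat_lit 1, nat_lit 3])))) (.node (nat_lit 2842) (.node (nat_lit 2841) (.leaf (nat_lit 2809) (nat_lit 3) [nat_lit 1, nat_lit 3, nat_lit 1, nat_lit 3, nat_lit 1, nat_lit 3, nat_lit 1, nat_lit 3, nat_lit 1, nat_lit 3, nat_lit 1, nat_lit 3, nat_lit 1, nat_lit 3, nat_lit 1, nat_lit 3, nat_lit 1]) (.leaf (nat_lit 2808) (nat_lit 1) [nat_lit 3, nat_lit 1, nat_lit 3, nat_lit 1, nat_lit 3, nat_lit 1, nat_lit 3, nat_lit 1, nat_lit 3, nat_lit 1, nat_lit 3, nat_lit 1, nat_lit 3, nat_lit 1, nat_lit 3, nat_lit 1, nat_lit 3])) (.node (nat_lit 2843) (.leaf (nat_lit 2809) (nat_lit 3) [nat_lit 1, nat_lit 3, nat_lit 1, nat_lit 3, nat_lit 1, nat_lit 3, nat_lit 1, nat_lit 3, nat_lit 1, nat_lit 3, nat_lit 1, nat_lit 3, nat_lit 1, nat_lit 3, nat_lit 1, nat_lit 3, nat_lit 1]) (.node (nat_lit 2844) (.leaf (nat_lit 2808) (nat_lit 1) [nat_lit 3, nat_lit 1, nat_lit 3, nat_lit 1, nat_lit 3, nat_lit 1, nat_lit 3, nat_lit 1, nat_lit 3, nat_lit 1, nat_lit 3, nat_lit 1, nat_lit 3, nat_lit 1, nat_lit 3, nat_lit 1, nat_lit 3]) (.leaf (nat_lit 2844) (nat_lit 1) [nat_lit 3, nat_lit 1, nat_lit 3, nat_lit 2, nat_lit 3, nat_lit 1, nat_lit 3, nat_lit 1, nat_lit 3, nat_lit 2, nat_lit 3, nat_lit 1, nat_lit 3, nat_lit 1, nat_lit 3, nat_lit 2, nat_lit 3])))))) (.node (nat_lit 2854) (.node (nat_lit 2849) (.node (nat_lit 2847) (.node (nat_lit 2846) (.leaf (nat_lit 2845) (nat_lit 3) [nat_lit 1, nat_lit 3, nat_lit 1, nat_lit 3, nat_lit 2, nat_lit 3, nat_lit 1, nat_lit 3, nat_lit 1, nat_lit 3, nat_lit 2, nat_lit 3, nat_lit 1, nat_lit 3, nat_lit 1, nat_lit 3, nat_lit 2]) (.leaf (nat_lit 2846) (nat_lit 2) [nat_lit 3, nat_lit 1, nat_lit 3, nat_lit 1, nat_lit 3, nat_lit 2, nat_lit 3, nat_lit 1, nat_lit 3, nat_lit 1, nat_lit 3, nat_lit 2, nat_lit 3, nat_lit 1, nat_lit 3, nat_lit 1, nat_lit 3])) (.node (nat_lit 2848) (.leaf (nat_lit 2847) (nat_lit 3) [nat_lit 2, nat_lit 3, nat_lit 1, nat_lit 3, nat_lit 1, nat_lit 3, nat_lit 2, nat_lit 3, nat_lit 1, nat_lit 3, nat_lit 1, nat_lit 3, nat_lit 2, nat_lit 3, nat_lit 1, nat_lit 3, nat_lit 1]) (.leaf (nat_lit 2848) (nat_lit 1) [nat_lit 3, nat_lit 2, nat_lit 3, nat_lit 1, nat_lit 3, nat_lit 1, nat_lit 3, nat_lit 2, nat_lit 3, nat_lit 1, nat_lit 3, nat_lit 1, nat_lit 3, nat_lit 2, nat_lit 3, nat_lit 1, nat_lit 3]))) (.node (nat_lit 2851) (.node (nat_lit 2850) (.leaf (nat_lit 2849) (nat_lit 3) [nat_lit 1, nat_lit 3, nat_lit 2, nat_lit 3, nat_lit 1, nat_lit 3, nat_lit 1, nat_lit 3, nat_lit 2, nat_lit 3, nat_lit 1, nat_lit 3, nat_lit 1, nat_lit 3, nat_lit 2, nat_lit 3, nat_lit 1]) (.leaf (nat_lit 2844) (nat_lit 1) [nat_lit 3, nat_lit 1, nat_lit 3, nat_lit 2, nat_lit 3, nat_lit 1, nat_lit 3, nat_lit 1, nat_lit 3, nat_lit 2, nat_lit 3, nat_lit 1, nat_lit 3, nat_lit 1, nat_lit 3, nat_lit 2, nat_lit 3])) (.node (nat_lit 2852) (.leaf (nat_lit 2845) (nat_lit 3) [nat_lit 1, nat_lit 3, nat_lit 1, nat_lit 3, nat_lit 2, nat_lit 3, nat_lit 1, nat_lit 3, nat_lit 1, nat_lit 3, nat_lit 2, nat_lit 3, nat_lit 1, nat_lit 3, nat_lit 1, nat_lit 3, nat_lit 2]) (.node (nat_lit 2853) (.leaf (nat_lit 2846) (nat_lit 2) [nat_lit 3, nat_lit 1, nat_lit 3, nat_lit 1, nat_lit 3, nat_lit 2, nat_lit 3, nat_lit 1, nat_lit 3, nat_lit 1, nat_lit 3, nat_lit 2, nat_lit 3, nat_lit 1, nat_lit 3, nat_lit 1, nat_lit 3]) (.leaf (nat_lit 2847) (nat_lit 3) [nat_lit 2, nat_lit 3, nat_lit 1, nat_lit 3, nat_lit 1, nat_lit 3, nat_lit 2, nat_lit 3, nat_lit 1, nat_lit 3, nat_lit 1, nat_lit 3, nat_lit 2, nat_lit 3, nat_lit 1, nat_lit 3, nat_lit 1]))))) (.node (nat_lit 2859) (.node (nat_lit 2856) (.node (nat_lit 2855) (.leaf (nat_lit 2848) (nat_lit 1) [nat_lit 3, nat_lit 2, nat_lit 3, nat_lit 1, nat_lit 3, nat_lit 1, nat_lit 3, nat_lit 2, nat_lit 3, nat_lit 1, nat_lit 3, nat_lit 1, nat_lit 3, nat_lit 2, nat_lit 3, nat_lit 1, nat_lit 3]) (.leaf (nat_lit 2849) (nat_lit 3) [nat_lit 1, nat_lit 3, nat_lit 2, nat_lit 3, nat_lit 1, nat_lit 3, nat_lit 1, nat_lit 3, nat_lit 2, nat_lit 3, nat_lit 1, nat_lit 3, nat_lit 1, nat_lit 3, nat_lit 2, nat_lit 3, nat_lit 1])) (.node (nat_lit 2857) (.leaf (nat_lit 2844) (nat_lit 1) [nat_lit 3, nat_lit 1, nat_lit 3, nat_lit 2, nat_lit 3, nat_lit 1, nat_lit 3, nat_lit 1, nat_lit 3, nat_lit 2, nat_lit 3, nat_lit 1, nat_lit 3, nat_lit 1, nat_lit 3, nat_lit 2, nat_lit 3]) (.node (nat_lit 2858) (.leaf (nat_lit 2845) (nat_lit 3) [nat_lit 1, nat_lit 3, nat_lit 1, nat_lit 3, nat_lit 2, nat_lit 3, nat_lit 1, nat_lit 3, nat_lit 1, nat_lit 3, nat_lit 2, nat_lit 3, nat_lit 1, nat_lit 3, nat_lit 1, nat_lit 3, nat_lit 2]) (.leaf (nat_lit 2846) (nat_lit 2) [nat_lit 3, nat_lit 1, nat_lit 3, nat_lit 1, nat_lit 3, nat_lit 2, nat_lit 3, nat_lit 1, nat_lit 3, nat_lit 1, nat_lit 3, nat_lit 2, nat_lit 3, nat_lit 1, nat_lit 3, nat_lit 1, nat_lit 3])))) (.node (nat_lit 2861) (.node (nat_lit 2860) (.leaf (nat_lit 2847) (nat_lit 3) [nat_lit 2, nat_lit 3, nat_lit 1, nat_lit 3, nat_lit 1, nat_lit 3, nat_lit 2, nat_lit 3, nat_lit 1, nat_lit 3, nat_lit 1, nat_lit 3, nat_lit 2, nat_lit 3, nat_lit 1, nat_lit 3, nat_lit 1]) (.leaf (nat_lit 2848) (nat_lit 1) [nat_lit 3, nat_lit 2, nat_lit 3, nat_lit 1, nat_lit 3, nat_lit 1, nat_lit 3, nat_lit 2, nat_lit 3, nat_lit 1, nat_lit 3, nat_lit 1, nat_lit 3, nat_lit 2, nat_lit 3, nat_lit 1, nat_lit 3])) (.node (nat_lit 2862) (.leaf (nat_lit 2849) (nat_lit 3) [nat_lit 1, nat_lit 3, nat_lit 2, nat_lit 3, nat_lit 1, nat_lit 3, nat_lit 1, nat_lit 3, nat_lit 2, nat_lit 3, nat_lit 1, nat_lit 3, nat_lit 1, nat_lit 3, nat_lit 2, nat_lit 3, nat_lit 1]) (.node (nat_lit 2863) (.leaf (nat_lit 2849) (nat_lit 3) [nat_lit 1, nat_lit 3, nat_lit 2, nat_lit 3, nat_lit 1, nat_lit 3, nat_lit 1, nat_lit 3, nat_lit 2, nat_lit 3, nat_lit 1, nat_lit 3, nat_lit 1, nat_lit 3, nat_lit 2, nat_lit 3, nat_lit 1]) (.leaf (nat_lit 2844) (nat_lit 1) [nat_lit 3, nat_lit 1, nat_lit 3, nat_lit 2, nat_lit 3, nat_lit 1, nat_lit 3, nat_lit 1, nat_lit 3, nat_lit 2, nat_lit 3, nat_lit 1, nat_lit 3, nat_lit 1, nat_lit 3, nat_lit 2, nat_lit 3]))))))))) (.node (nat_lit 2939) (.node (nat_lit 2901) (.node (nat_lit 2882) (.node (nat_lit 2873) (.node (nat_lit 2868) (.node (nat_lit 2866) (.node (nat_lit 2865) (.leaf (nat_lit 2845) (nat_lit 3) [nat_lit 1, nat_lit 3, nat_lit 1, nat_lit 3, nat_lit 2, nat_lit 3, nat_lit 1, nat_lit 3, nat_lit 1, nat_lit 3, nat_lit 2, nat_lit 3, nat_lit 1, nat_lit 3, nat_lit 1, nat_lit 3, nat_lit 2]) (.leaf (nat_lit 2846) (nat_lit 2) [nat_lit 3, nat_lit 1, nat_lit 3, nat_lit 1, nat_lit 3, nat_lit 2, nat_lit 3, nat_lit 1, nat_lit 3, nat_lit 1, nat_lit 3, nat_lit 2, nat_lit 3, nat_lit 1, nat_lit 3, nat_lit 1, nat_lit 3])) (.node (nat_lit 2867) (.leaf (nat_lit 2847) (nat_lit 3) [nat_lit 2, nat_lit 3, nat_lit 1, nat_lit 3, nat_lit 1, nat_lit 3, nat_lit 2, nat_lit 3, nat_lit 1, nat_lit 3, nat_lit 1, nat_lit 3, nat_lit 2, nat_lit 3, nat_lit 1, nat_lit 3, nat_lit 1]) (.leaf (nat_lit 2848) (nat_lit 1) [nat_lit 3, nat_lit 2, nat_lit 3, nat_lit 1, nat_lit 3, nat_lit 1, nat_lit 3, nat_lit 2, nat_lit 3, nat_lit 1, nat_lit 3, nat_lit 1, nat_lit 3, nat_lit 2, nat_lit 3, nat_lit 1, nat_lit 3]))) (.node (nat_lit 2870) (.node (nat_lit 2869) (.leaf (nat_lit 2849) (nat_lit 3) [nat_lit 1, nat_lit 3, nat_lit 2, nat_lit 3, nat_lit 1, nat_lit 3, nat_lit 1, nat_lit 3, nat_lit 2, nat_lit 3, nat_lit 1, nat_lit 3, nat_lit 1, nat_lit 3, nat_lit 2, nat_lit 3, nat_lit 1]) (.leaf (nat_lit 2844) (nat_lit 1) [nat_lit 3, nat_lit 1, nat_lit 3, nat_lit 2, nat_lit 3, nat_lit 1, nat_lit 3, nat_lit 1, nat_lit 3, nat_lit 2, nat_lit 3, nat_lit 1, nat_lit 3, nat_lit 1, nat_lit 3, nat_lit 2, nat_lit 3])) (.node (nat_lit 2871) (.leaf (nat_lit 2845) (nat_lit 3) [nat_lit 1, nat_lit 3, nat_lit 1, nat_lit 3, nat_lit 2, nat_lit 3, nat_lit 1, nat_lit 3, nat_lit 1, nat_lit 3, nat_lit 2, nat_lit 3, nat_lit 1, nat_lit 3, nat_lit 1, nat_lit 3, nat_lit 2]) (.node (nat_lit 2872) (.leaf (nat_lit 2846) (nat_lit 2) [nat_lit 3, nat_lit 1, nat_lit 3, nat_lit 1, nat_lit 3, nat_lit 2, nat_lit 3, nat_lit 1, nat_lit 3, nat_lit 1, nat_lit 3, nat_lit 2, nat_lit 3, nat_lit 1, nat_lit 3, nat_lit 1, nat_lit 3]) (.leaf (nat_lit 2847) (nat_lit 3) [nat_lit 2, nat_lit 3, nat_lit 1, nat_lit 3, nat_lit 1, nat_lit 3, nat_lit 2, nat_lit 3, nat_lit 1, nat_lit 3, nat_lit 1, nat_lit 3, nat_lit 2, nat_lit 3, nat_lit 1, nat_lit 3, nat_lit 1]))))) (.node (nat_lit 2877) (.node (nat_lit 2875) (.node (nat_lit 2874) (.leaf (nat_lit 2848) (nat_lit 1) [nat_lit 3, nat_lit 2, nat_lit 3, nat_lit 1, nat_lit 3, nat_lit 1, nat_lit 3, nat_lit 2, nat_lit 3, nat_lit 1, nat_lit 3, nat_lit 1, nat_lit 3, nat_lit 2, nat_lit 3, nat_lit 1, nat_lit 3]) (.leaf (nat_lit 2849) (nat_lit 3) [nat_lit 1, nat_lit 3, nat_lit 2, nat_lit 3, nat_lit 1, nat_lit 3, nat_lit 1, nat_lit 3, nat_lit 2, nat_lit 3, nat_lit 1, nat_lit 3, nat_lit 1, nat_lit 3, nat_lit 2, nat_lit 3, nat_lit 1])) (.node (nat_lit 2876) (.leaf (nat_lit 2844) (nat_lit 1) [nat_lit 3, nat_lit 1, nat_lit 3, nat_lit 2, nat_lit 3, nat_lit 1, nat_lit 3, nat_lit 1, nat_lit 3, nat_lit 2, nat_lit 3, nat_lit 1, nat_lit 3, nat_lit 1, nat_lit 3, nat_lit 2, nat_lit 3]) (.leaf (nat_lit 2845) (nat_lit 3) [nat_lit 1, nat_lit 3, nat_lit 1, nat_lit 3, nat_lit 2, nat_lit 3, nat_lit 1, nat_lit 3, nat_lit 1, nat_lit 3, nat_lit 2, nat_lit 3, nat_lit 1, nat_lit 3, nat_lit 1, nat_lit 3, nat_lit 2]))) (.node (nat_lit 2879) (.node (nat_lit 2878) (.leaf (nat_lit 2846) (nat_lit 2) [nat_lit 3, nat_lit 1, nat_lit 3, nat_lit 1, nat_lit 3, nat_lit 2, nat_lit 3, nat_lit 1, nat_lit 3, nat_lit 1, nat_lit 3, nat_lit 2, nat_lit 3, nat_lit 1, nat_lit 3, nat_lit 1, nat_lit 3]) (.leaf (nat_lit 2847) (nat_lit 3) [nat_lit 2, nat_lit 3, nat_lit 1, nat_lit 3, nat_lit 1, nat_lit 3, nat_lit 2, nat_lit 3, nat_lit 1, nat_lit 3, nat_lit 1, nat_lit 3, nat_lit 2, nat_lit 3, nat_lit 1, nat_lit 3, nat_lit 1])) (.node (nat_lit 2880) (.leaf (nat_lit 2848) (nat_lit 1) [nat_lit 3, nat_lit 2, nat_lit 3, nat_lit 1, nat_lit 3, nat_lit 1, nat_lit 3, nat_lit 2, nat_lit 3, nat_lit 1, nat_lit 3, nat_lit 1, nat_lit 3, nat_lit 2, nat_lit 3, nat_lit 1, nat_lit 3]) (.node (nat_lit 2881) (.leaf (nat_lit 1263) (nat_lit 2) [nat_lit 0, nat_lit 2, nat_lit 0, nat_lit 1, nat_lit 0, nat_lit 2, nat_lit 0, nat_lit 2, nat_lit 0, nat_lit 1, nat_lit 0, nat_lit 2, nat_lit 0, nat_lit 2, nat_lit 0, nat_lit 1, nat_lit 0]) (.leaf (nat_lit 1264) (nat_lit 0) [nat_lit 2, nat_lit 0, nat_lit 2, nat_lit 0, nat_lit 1, nat_lit 0, nat_lit 2, nat_lit 0, nat_lit 2, nat_lit 0, nat_lit 1, nat_lit 0, nat_lit 2, nat_lit 0, nat_lit 2, nat_lit 0, nat_lit 1])))))) (.node (nat_lit 2891) (.node (nat_lit 2886) (.node (nat_lit 2884) (.node (nat_lit 2883) (.leaf (nat_lit 1265) (nat_lit 1) [nat_lit 0, nat_lit 2, nat_lit 0, nat_lit 2, nat_lit 0, nat_lit 1, nat_lit 0, nat_lit 2, nat_lit 0, nat_lit 2, nat_lit 0, nat_lit 1, nat_lit 0, nat_lit 2, nat_lit 0, nat_lit 2, nat_lit 0]) (.leaf (nat_lit 1260) (nat_lit 0) [nat_lit 1, nat_lit 0, nat_lit 2, nat_lit 0, nat_lit 2, nat_lit 0, nat_lit 1, nat_lit 0, nat_lit 2, nat_lit 0, nat_lit 2, nat_lit 0, nat_lit 1, nat_lit 0, nat_lit 2, nat_lit 0, nat_lit 2])) (.node (nat_lit 2885) (.leaf (nat_lit 1261) (nat_lit 2) [nat_lit 0, nat_lit 1, nat_lit 0, nat_lit 2, nat_lit 0, nat_lit 2, nat_lit 0, nat_lit 1, nat_lit 0, nat_lit 2, nat_lit 0, nat_lit 2, nat_lit 0, nat_lit 1, nat_lit 0, nat_lit 2, nat_lit 0]) (.leaf (nat_lit 1262) (nat_lit 0) [nat_lit 2, nat_lit 0, nat_lit 1, nat_lit 0, nat_lit 2, nat_lit 0, nat_lit 2, nat_lit 0, nat_lit 1, nat_lit 0, nat_lit 2, nat_lit 0, nat_lit 2, nat_lit 0, nat_lit 1, nat_lit 0, nat_lit 2]))) (.node (nat_lit 2888) (.node (nat_lit 2887) (.leaf (nat_lit 1263) (nat_lit 2) [nat_lit 0, nat_lit 2, nat_lit 0, nat_lit 1, nat_lit 0, nat_lit 2, nat_lit 0, nat_lit 2, nat_lit 0, nat_lit 1, nat_lit 0, nat_lit 2, nat_lit 0, nat_lit 2, nat_lit 0, nat_lit 1, nat_lit 0]) (.leaf (nat_lit 1264) (nat_lit 0) [nat_lit 2, nat_lit 0, nat_lit 2, nat_lit 0, nat_lit 1, nat_lit 0, nat_lit 2, nat_lit 0, nat_lit 2, nat_lit 0, nat_lit 1, nat_lit 0, nat_lit 2, nat_lit 0, nat_lit 2, nat_lit 0, nat_lit 1])) (.node (nat_lit 2889) (.leaf (nat_lit 1265) (nat_lit 1) [nat_lit 0, nat_lit 2, nat_lit 0, nat_lit 2, nat_lit 0, nat_lit 1, nat_lit 0, nat_lit 2, nat_lit 0, nat_lit 2, nat_lit 0, nat_lit 1, nat_lit 0, nat_lit 2, nat_lit 0, nat_lit 2, nat_lit 0]) (.node (nat_lit 2890) (.leaf (nat_lit 1260) (nat_lit 0) [nat_lit 1, nat_lit 0, nat_lit 2, nat_lit 0, nat_lit 2, nat_lit 0, nat_lit 1, nat_lit 0, nat_lit 2, nat_lit 0, nat_lit 2, nat_lit 0, nat_lit 1, nat_lit 0, nat_lit 2, nat_lit 0, nat_lit 2]) (.leaf (nat_lit 1261) (nat_lit 2) [nat_lit 0, nat_lit 1, nat_lit 0, nat_lit 2, nat_lit 0, nat_lit 2, nat_lit 0, nat_lit 1, nat_lit 0, nat_lit 2, nat_lit 0, nat_lit 2, nat_lit 0, nat_lit 1, nat_lit 0, nat_lit 2, nat_lit 0]))))) (.node (nat_lit 2896) (.node (nat_lit 2893) (.node (nat_lit 2892) (.leaf (nat_lit 1262) (nat_lit 0) [nat_lit 2, nat_lit 0, nat_lit 1, nat_lit 0, nat_lit 2, nat_lit 0, nat_lit 2, nat_lit 0, nat_lit 1, nat_lit 0, nat_lit 2, nat_lit 0, nat_lit 2, nat_lit 0, nat_lit 1, nat_lit 0, nat_lit 2]) (.leaf (nat_lit 1263) (nat_lit 2) [nat_lit 0, nat_lit 2, nat_lit 0, nat_lit 1, nat_lit 0, nat_lit 2, nat_lit 0, nat_lit 2, nat_lit 0, nat_lit 1, nat_lit 0, nat_lit 2, nat_lit 0, nat_lit 2, nat_lit 0, nat_lit 1, nat_lit 0])) (.node (nat_lit 2894) (.leaf (nat_lit 1264) (nat_lit 0) [nat_lit 2, nat_lit 0, nat_lit 2, nat_lit 0, nat_lit 1, nat_lit 0, nat_lit 2, nat_lit 0, nat_lit 2, nat_lit 0, nat_lit 1, nat_lit 0, nat_lit 2, nat_lit 0, nat_lit 2, nat_lit 0, nat_lit 1]) (.node (nat_lit 2895) (.leaf (nat_lit 1265) (nat_lit 1) [nat_lit 0, nat_lit 2, nat_lit 0, nat_lit 2, nat_lit 0, nat_lit 1, nat_lit 0, nat_lit 2, nat_lit 0, nat_lit 2, nat_lit 0, nat_lit 1, nat_lit 0, nat_lit 2, nat_lit 0, nat_lit 2, nat_lit 0]) (.leaf (nat_lit 1260) (nat_lit 0) [nat_lit 1, nat_lit 0, nat_lit 2, nat_lit 0, nat_lit 2, nat_lit 0, nat_lit 1, nat_lit 0, nat_lit 2, nat_lit 0, nat_lit 2, nat_lit 0, nat_lit 1, nat_lit 0, nat_lit 2, nat_lit 0, nat_lit 2])))) (.node (nat_lit 2898) (.node (nat_lit 2897) (.leaf (nat_lit 1261) (nat_lit 2) [nat_lit 0, nat_lit 1, nat_lit 0, nat_lit 2, nat_lit 0, nat_lit 2, nat_lit 0, nat_lit 1, nat_lit 0, nat_lit 2, nat_lit 0, nat_lit 2, nat_lit 0, nat_lit 1, nat_lit 0, nat_lit 2, nat_lit 0]) (.leaf (nat_lit 1262) (nat_lit 0) [nat_lit 2, nat_lit 0, nat_lit 1, nat_lit 0, nat_lit 2, nat_lit 0, nat_lit 2, nat_lit 0, nat_lit 1, nat_lit 0, nat_lit 2, nat_lit 0, nat_lit 2, nat_lit 0, nat_lit 1, nat_lit 0, nat_lit 2])) (.node (nat_lit 2899) (.leaf (nat_lit 1262) (nat_lit 0) [nat_lit 2, nat_lit 0, nat_lit 1, nat_lit 0, nat_lit 2, nat_lit 0, nat_lit 2, nat_lit 0, nat_lit 1, nat_lit 0, nat_lit 2, nat_lit 0, nat_lit 2, nat_lit 0, nat_lit 1, nat_lit 0, nat_lit 2]) (.node (nat_lit 2900) (.leaf (nat_lit 1263) (nat_lit 2) [nat_lit 0, nat_lit 2, nat_lit 0, nat_lit 1, nat_lit 0, nat_lit 2, nat_lit 0, nat_lit 2, nat_lit 0, nat_lit 1, nat_lit 0, nat_lit 2, nat_lit 0, nat_lit 2, nat_lit 0, nat_lit 1, nat_lit 0]) (.leaf (nat_lit 1264) (nat_lit 0) [nat_lit 2, nat_lit 0, nat_lit 2, nat_lit 0, nat_lit 1, nat_lit 0, nat_lit 2, nat_lit 0, nat_lit 2, nat_lit 0, nat_lit 1, nat_lit 0, nat_lit 2, nat_lit 0, nat_lit 2, nat_lit 0, nat_lit 1]))))))) (.node (nat_lit 2920) (.node (nat_lit 2910) (.node (nat_lit 2905) (.node (nat_lit 2903) (.node (nat_lit 2902) (.leaf (nat_lit 1265) (nat_lit 1) [nat_lit 0, nat_lit 2, nat_lit 0, nat_lit 2, nat_lit 0, nat_lit 1, nat_lit 0, nat_lit 2, nat_lit 0, nat_lit 2, nat_lit 0, nat_lit 1, nat_lit 0, nat_lit 2, nat_lit 0, nat_lit 2, nat_lit 0]) (.leaf (nat_lit 1260) (nat_lit 0) [nat_lit 1, nat_lit 0, nat_lit 2, nat_lit 0, nat_lit 2, nat_lit 0, nat_lit 1, nat_lit 0, nat_lit 2, nat_lit 0, nat_lit 2, nat_lit 0, nat_lit 1, nat_lit 0, nat_lit 2, nat_lit 0, nat_lit 2])) (.node (nat_lit 2904) (.leaf (nat_lit 1261) (nat_lit 2) [nat_lit 0, nat_lit 1, nat_lit 0, nat_lit 2, nat_lit 0, nat_lit 2, nat_lit 0, nat_lit 1, nat_lit 0, nat_lit 2, nat_lit 0, nat_lit 2, nat_lit 0, nat_lit 1, nat_lit 0, nat_lit 2, nat_lit 0]) (.leaf (nat_lit 1262) (nat_lit 0) [nat_lit 2, nat_lit 0, nat_lit 1, nat_lit 0, nat_lit 2, nat_lit 0, nat_lit 2, nat_lit 0, nat_lit 1, nat_lit 0, nat_lit 2, nat_lit 0, nat_lit 2, nat_lit 0, nat_lit 1, nat_lit 0, nat_lit 2]))) (.node (nat_lit 2907) (.node (nat_lit 2906) (.leaf (nat_lit 1263) (nat_lit 2) [nat_lit 0, nat_lit 2, nat_lit 0, nat_lit 1, nat_lit 0, nat_lit 2, nat_lit 0, nat_lit 2, nat_lit 0, nat_lit 1, nat_lit 0, nat_lit 2, nat_lit 0, nat_lit 2, nat_lit 0, nat_lit 1, nat_lit 0]) (.leaf (nat_lit 1264) (nat_lit 0) [nat_lit 2, nat_lit 0, nat_lit 2, nat_lit 0, nat_lit 1, nat_lit 0, nat_lit 2, nat_lit 0, nat_lit 2, nat_lit 0, nat_lit 1, nat_lit 0, nat_lit 2, nat_lit 0, nat_lit 2, nat_lit 0, nat_lit 1])) (.node (nat_lit 2908) (.leaf (nat_lit 1265) (nat_lit 1) [nat_lit 0, nat_lit 2, nat_lit 0, nat_lit 2, nat_lit 0, nat_lit 1, nat_lit 0, nat_lit 2, nat_lit 0, nat_lit 2, nat_lit 0, nat_lit 1, nat_lit 0, nat_lit 2, nat_lit 0, nat_lit 2, nat_lit 0]) (.node (nat_lit 2909) (.leaf (nat_lit 1260) (nat_lit 0) [nat_lit 1, nat_lit 0, nat_lit 2, nat_lit 0, nat_lit 2, nat_lit 0, nat_lit 1, nat_lit 0, nat_lit 2, nat_lit 0, nat_lit 2, nat_lit 0, nat_lit 1, nat_lit 0, nat_lit 2, nat_lit 0, nat_lit 2]) (.leaf (nat_lit 1261) (nat_lit 2) [nat_lit 0, nat_lit 1, nat_lit 0, nat_lit 2, nat_lit 0, nat_lit 2, nat_lit 0, nat_lit 1, nat_lit 0, nat_lit 2, nat_lit 0, nat_lit 2, nat_lit 0, nat_lit 1, nat_lit 0, nat_lit 2, nat_lit 0]))))) (.node (nat_lit 2915) (.node (nat_lit 2912) (.node (nat_lit 2911) (.leaf (nat_lit 1262) (nat_lit 0) [nat_lit 2, nat_lit 0, nat_lit 1, nat_lit 0, nat_lit 2, nat_lit 0, nat_lit 2, nat_lit 0, nat_lit 1, nat_lit 0, nat_lit 2, nat_lit 0, nat_lit 2, nat_lit 0, nat_lit 1, nat_lit 0, nat_lit 2]) (.leaf (nat_lit 1263) (nat_lit 2) [nat_lit 0, nat_lit 2, nat_lit 0, nat_lit 1, nat_lit 0, nat_lit 2, nat_lit 0, nat_lit 2, nat_lit 0, nat_lit 1, nat_lit 0, nat_lit 2, nat_lit 0, nat_lit 2, nat_lit 0, nat_lit 1, nat_lit 0])) (.node (nat_lit 2913) (.leaf (nat_lit 1264) (nat_lit 0) [nat_lit 2, nat_lit 0, nat_lit 2, nat_lit 0, nat_lit 1, nat_lit 0, nat_lit 2, nat_lit 0, nat_lit 2, nat_lit 0, nat_lit 1, nat_lit 0, nat_lit 2, nat_lit 0, nat_lit 2, nat_lit 0, nat_lit 1]) (.node (nat_lit 2914) (.leaf (nat_lit 1265) (nat_lit 1) [nat_lit 0, nat_lit 2, nat_lit 0, nat_lit 2, nat_lit 0, nat_lit 1, nat_lit 0, nat_lit 2, nat_lit 0, nat_lit 2, nat_lit 0, nat_lit 1, nat_lit 0, nat_lit 2, nat_lit 0, nat_lit 2, nat_lit 0]) (.leaf (nat_lit 1260) (nat_lit 0) [nat_lit 1, nat_lit 0, nat_lit 2, nat_lit 0, nat_lit 2, nat_lit 0, nat_lit 1, nat_lit 0, nat_lit 2, nat_lit 0, nat_lit 2, nat_lit 0, nat_lit 1, nat_lit 0, nat_lit 2, nat_lit 0, nat_lit 2])))) (.node (nat_lit 2917) (.node (nat_lit 2916) (.leaf (nat_lit 1261) (nat_lit 2) [nat_lit 0, nat_lit 1, nat_lit 0, nat_lit 2, nat_lit 0, nat_lit 2, nat_lit 0, nat_lit 1, nat_lit 0, nat_lit 2, nat_lit 0, nat_lit 2, nat_lit 0, nat_lit 1, nat_lit 0, nat_lit 2, nat_lit 0]) (.leaf (nat_lit 1369) (nat_lit 2) [nat_lit 0, nat_lit 2, nat_lit 0, nat_lit 2, nat_lit 0, nat_lit 2, nat_lit 0, nat_lit 2, nat_lit 0, nat_lit 2, nat_lit 0, nat_lit 2, nat_lit 0, nat_lit 2, nat_lit 0, nat_lit 2, nat_lit 0])) (.node (nat_lit 2918) (.leaf (nat_lit 1368) (nat_lit 0) [nat_lit 2, nat_lit 0, nat_lit 2, nat_lit 0, nat_lit 2, nat_lit 0, nat_lit 2, nat_lit 0, nat_lit 2, nat_lit 0, nat_lit 2, nat_lit 0, nat_lit 2, nat_lit 0, nat_lit 2, nat_lit 0, nat_lit 2]) (.node (nat_lit 2919) (.leaf (nat_lit 1369) (nat_lit 2) [nat_lit 0, nat_lit 2, nat_lit 0, nat_lit 2, nat_lit 0, nat_lit 2, nat_lit 0, nat_lit 2, nat_lit 0, nat_lit 2, nat_lit 0, nat_lit 2, nat_lit 0, nat_lit 2, nat_lit 0, nat_lit 2, nat_lit 0]) (.leaf (nat_lit 1368) (nat_lit 0) [nat_lit 2, nat_lit 0, nat_lit 2, nat_lit 0, nat_lit 2, nat_lit 0, nat_lit 2, nat_lit 0, nat_lit 2, nat_lit 0, nat_lit 2, nat_lit 0, nat_lit 2, nat_lit 0, nat_lit 2, nat_lit 0, nat_lit 2])))))) (.node (nat_lit 2929) (.node (nat_lit 2924) (.node (nat_lit 2922) (.node (nat_lit 2921) (.leaf (nat_lit 1369) (nat_lit 2) [nat_lit 0, nat_lit 2, nat_lit 0, nat_lit 2, nat_lit 0, nat_lit 2, nat_lit 0, nat_lit 2, nat_lit 0, nat_lit 2, nat_lit 0, nat_lit 2, nat_lit 0, nat_lit 2, nat_lit 0, nat_lit 2, nat_lit 0]) (.leaf (nat_lit 1368) (nat_lit 0) [nat_lit 2, nat_lit 0, nat_lit 2, nat_lit 0, nat_lit 2, nat_lit 0, nat_lit 2, nat_lit 0, nat_lit 2, nat_lit 0, nat_lit 2, nat_lit 0, nat_lit 2, nat_lit 0, nat_lit 2, nat_lit 0, nat_lit 2])) (.node (nat_lit 2923) (.leaf (nat_lit 1369) (nat_lit 2) [nat_lit 0, nat_lit 2, nat_lit 0, nat_lit 2, nat_lit 0, nat_lit 2, nat_lit 0, nat_lit 2, nat_lit 0, nat_lit 2, nat_lit 0, nat_lit 2, nat_lit 0, nat_lit 2, nat_lit 0, nat_lit 2, nat_lit 0]) (.leaf (nat_lit 1368) (nat_lit 0) [nat_lit 2, nat_lit 0, nat_lit 2, nat_lit 0, nat_lit 2, nat_lit 0, nat_lit 2, nat_lit 0, nat_lit 2, nat_lit 0, nat_lit 2, nat_lit 0, nat_lit 2, nat_lit 0, nat_lit 2, nat_lit 0, nat_lit 2]))) (.node (nat_lit 2926) (.node (nat_lit 2925) (.leaf (nat_lit 1369) (nat_lit 2) [nat_lit 0, nat_lit 2, nat_lit 0, nat_lit 2, nat_lit 0, nat_lit 2, nat_lit 0, nat_lit 2, nat_lit 0, nat_lit 2, nat_lit 0, nat_lit 2, nat_lit 0, nat_lit 2, nat_lit 0, nat_lit 2, nat_lit 0]) (.leaf (nat_lit 1368) (nat_lit 0) [nat_lit 2, nat_lit 0, nat_lit 2, nat_lit 0, nat_lit 2, nat_lit 0, nat_lit 2, nat_lit 0, nat_lit 2, nat_lit 0, nat_lit 2, nat_lit 0, nat_lit 2, nat_lit 0, nat_lit 2, nat_lit 0, nat_lit 2])) (.node (nat_lit 2927) (.leaf (nat_lit 1369) (nat_lit 2) [nat_lit 0, nat_lit 2, nat_lit 0, nat_lit 2, nat_lit 0, nat_lit 2, nat_lit 0, nat_lit 2, nat_lit 0, nat_lit 2, nat_lit 0, nat_lit 2, nat_lit 0, nat_lit 2, nat_lit 0, nat_lit 2, nat_lit 0]) (.node (nat_lit 2928) (.leaf (nat_lit 1368) (nat_lit 0) [nat_lit 2, nat_lit 0, nat_lit 2, nat_lit 0, nat_lit 2, nat_lit 0, nat_lit 2, nat_lit 0, nat_lit 2, nat_lit 0, nat_lit 2, nat_lit 0, nat_lit 2, nat_lit 0, nat_lit 2, nat_lit 0, nat_lit 2]) (.leaf (nat_lit 1369) (nat_lit 2) [nat_lit 0, nat_lit 2, nat_lit 0, nat_lit 2, nat_lit 0, nat_lit 2, nat_lit 0, nat_lit 2, nat_lit 0, nat_lit 2, nat_lit 0, nat_lit 2, nat_lit 0, nat_lit 2, nat_lit 0, nat_lit 2, nat_lit 0]))))) (.node (nat_lit 2934) (.node (nat_lit 2931) (.node (nat_lit 2930) (.leaf (nat_lit 1368) (nat_lit 0) [nat_lit 2, nat_lit 0, nat_lit 2, nat_lit 0, nat_lit 2, nat_lit 0, nat_lit 2, nat_lit 0, nat_lit 2, nat_lit 0, nat_lit 2, nat_lit 0, nat_lit 2, nat_lit 0, nat_lit 2, nat_lit 0, nat_lit 2]) (.leaf (nat_lit 1369) (nat_lit 2) [nat_lit 0, nat_lit 2, nat_lit 0, nat_lit 2, nat_lit 0, nat_lit 2, nat_lit 0, nat_lit 2, nat_lit 0, nat_lit 2, nat_lit 0, nat_lit 2, nat_lit 0, nat_lit 2, nat_lit 0, nat_lit 2, nat_lit 0])) (.node (nat_lit 2932) (.leaf (nat_lit 1368) (nat_lit 0) [nat_lit 2, nat_lit 0, nat_lit 2, nat_lit 0, nat_lit 2, nat_lit 0, nat_lit 2, nat_lit 0, nat_lit 2, nat_lit 0, nat_lit 2, nat_lit 0, nat_lit 2, nat_lit 0, nat_lit 2, nat_lit 0, nat_lit 2]) (.node (nat_lit 2933) (.leaf (nat_lit 1369) (nat_lit 2) [nat_lit 0, nat_lit 2, nat_lit 0, nat_lit 2, nat_lit 0, nat_lit 2, nat_lit 0, nat_lit 2, nat_lit 0, nat_lit 2, nat_lit 0, nat_lit 2, nat_lit 0, nat_lit 2, nat_lit 0, nat_lit 2, nat_lit 0]) (.leaf (nat_lit 1368) (nat_lit 0) [nat_lit 2, nat_lit 0, nat_lit 2, nat_lit 0, nat_lit 2, nat_lit 0, nat_lit 2, nat_lit 0, nat_lit 2, nat_lit 0, nat_lit 2, nat_lit 0, nat_lit 2, nat_lit 0, nat_lit 2, nat_lit 0, nat_lit 2])))) (.node (nat_lit 2936) (.node (nat_lit 2935) (.leaf (nat_lit 1368) (nat_lit 0) [nat_lit 2, nat_lit 0, nat_lit 2, nat_lit 0, nat_lit 2, nat_lit 0, nat_lit 2, nat_lit 0, nat_lit 2, nat_lit 0, nat_lit 2, nat_lit 0, nat_lit 2, nat_lit 0, nat_lit 2, nat_lit 0, nat_lit 2]) (.leaf (nat_lit 1369) (nat_lit 2) [nat_lit 0, nat_lit 2, nat_lit 0, nat_lit 2, nat_lit 0, nat_lit 2, nat_lit 0, nat_lit 2, nat_lit 0, nat_lit 2, nat_lit 0, nat_lit 2, nat_lit 0, nat_lit 2, nat_lit 0, nat_lit 2, nat_lit 0])) (.node (nat_lit 2937) (.leaf (nat_lit 1368) (nat_lit 0) [nat_lit 2, nat_lit 0, nat_lit 2, nat_lit 0, nat_lit 2, nat_lit 0, nat_lit 2, nat_lit 0, nat_lit 2, nat_lit 0, nat_lit 2, nat_lit 0, nat_lit 2, nat_lit 0, nat_lit 2, nat_lit 0, nat_lit 2]) (.node (nat_lit 2938) (.leaf (nat_lit 1369) (nat_lit 2) [nat_lit 0, nat_lit 2, nat_lit 0, nat_lit 2, nat_lit 0, nat_lit 2, nat_lit 0, nat_lit 2, nat_lit 0, nat_lit 2, nat_lit 0, nat_lit 2, nat_lit 0, nat_lit 2, nat_lit 0, nat_lit 2, nat_lit 0]) (.leaf (nat_lit 1368) (nat_lit 0) [nat_lit 2, nat_lit 0, nat_lit 2, nat_lit 0, nat_lit 2, nat_lit 0, nat_lit 2, nat_lit 0, nat_lit 2, nat_lit 0, nat_lit 2, nat_lit 0, nat_lit 2, nat_lit 0, nat_lit 2, nat_lit 0, nat_lit 2])))))))) (.node (nat_lit 2977) (.node (nat_lit 2958) (.node (nat_lit 2948) (.node (nat_lit 2943) (.node (nat_lit 2941) (.node (nat_lit 2940) (.leaf (nat_lit 1369) (nat_lit 2) [nat_lit 0, nat_lit 2, nat_lit 0, nat_lit 2, nat_lit 0, nat_lit 2, nat_lit 0, nat_lit 2, nat_lit 0, nat_lit 2, nat_lit 0, nat_lit 2, nat_lit 0, nat_lit 2, nat_lit 0, nat_lit 2, nat_lit 0]) (.leaf (nat_lit 1368) (nat_lit 0) [nat_lit 2, nat_lit 0, nat_lit 2, nat_lit 0, nat_lit 2, nat_lit 0, nat_lit 2, nat_lit 0, nat_lit 2, nat_lit 0, nat_lit 2, nat_lit 0, nat_lit 2, nat_lit 0, nat_lit 2, nat_lit 0, nat_lit 2])) (.node (nat_lit 2942) (.leaf (nat_lit 1369) (nat_lit 2) [nat_lit 0, nat_lit 2, nat_lit 0, nat_lit 2, nat_lit 0, nat_lit 2, nat_lit 0, nat_lit 2, nat_lit 0, nat_lit 2, nat_lit 0, nat_lit 2, nat_lit 0, nat_lit 2, nat_lit 0, nat_lit 2, nat_lit 0]) (.leaf (nat_lit 1368) (nat_lit 0) [nat_lit 2, nat_lit 0, nat_lit 2, nat_lit 0, nat_lit 2, nat_lit 0, nat_lit 2, nat_lit 0, nat_lit 2, nat_lit 0, nat_lit 2, nat_lit 0, nat_lit 2, nat_lit 0, nat_lit 2, nat_lit 0, nat_lit 2]))) (.node (nat_lit 2945) (.node (nat_lit 2944) (.leaf (nat_lit 1369) (nat_lit 2) [nat_lit 0, nat_lit 2, nat_lit 0, nat_lit 2, nat_lit 0, nat_lit 2, nat_lit 0, nat_lit 2, nat_lit 0, nat_lit 2, nat_lit 0, nat_lit 2, nat_lit 0, nat_lit 2, nat_lit 0, nat_lit 2, nat_lit 0]) (.leaf (nat_lit 1368) (nat_lit 0) [nat_lit 2, nat_lit 0, nat_lit 2, nat_lit 0, nat_lit 2, nat_lit 0, nat_lit 2, nat_lit 0, nat_lit 2, nat_lit 0, nat_lit 2, nat_lit 0, nat_lit 2, nat_lit 0, nat_lit 2, nat_lit 0, nat_lit 2])) (.node (nat_lit 2946) (.leaf (nat_lit 1369) (nat_lit 2) [nat_lit 0, nat_lit 2, nat_lit 0, nat_lit 2, nat_lit 0, nat_lit 2, nat_lit 0, nat_lit 2, nat_lit 0, nat_lit 2, nat_lit 0, nat_lit 2, nat_lit 0, nat_lit 2, nat_lit 0, nat_lit 2, nat_lit 0]) (.node (nat_lit 2947) (.leaf (nat_lit 1368) (nat_lit 0) [nat_lit 2, nat_lit 0, nat_lit 2, nat_lit 0, nat_lit 2, nat_lit 0, nat_lit 2, nat_lit 0, nat_lit 2, nat_lit 0, nat_lit 2, nat_lit 0, nat_lit 2, nat_lit 0, nat_lit 2, nat_lit 0, nat_lit 2]) (.leaf (nat_lit 1369) (nat_lit 2) [nat_lit 0, nat_lit 2, nat_lit 0, nat_lit 2, nat_lit 0, nat_lit 2, nat_lit 0, nat_lit 2, nat_lit 0, nat_lit 2, nat_lit 0, nat_lit 2, nat_lit 0, nat_lit 2, nat_lit 0, nat_lit 2, nat_lit 0]))))) (.node (nat_lit 2953) (.node (nat_lit 2950) (.node (nat_lit 2949) (.leaf (nat_lit 1368) (nat_lit 0) [nat_lit 2, nat_lit 0, nat_lit 2, nat_lit 0, nat_lit 2, nat_lit 0, nat_lit 2, nat_lit 0, nat_lit 2, nat_lit 0, nat_lit 2, nat_lit 0, nat_lit 2, nat_lit 0, nat_lit 2, nat_lit 0, nat_lit 2]) (.leaf (nat_lit 1369) (nat_lit 2) [nat_lit 0, nat_lit 2, nat_lit 0, nat_lit 2, nat_lit 0, nat_lit 2, nat_lit 0, nat_lit 2, nat_lit 0, nat_lit 2, nat_lit 0, nat_lit 2, nat_lit 0, nat_lit 2, nat_lit 0, nat_lit 2, nat_lit 0])) (.node (nat_lit 2951) (.leaf (nat_lit 1368) (nat_lit 0) [nat_lit 2, nat_lit 0, nat_lit 2, nat_lit 0, nat_lit 2, nat_lit 0, nat_lit 2, nat_lit 0, nat_lit 2, nat_lit 0, nat_lit 2, nat_lit 0, nat_lit 2, nat_lit 0, nat_lit 2, nat_lit 0, nat_lit 2]) (.node (nat_lit 2952) (.leaf (nat_lit 1369) (nat_lit 2) [nat_lit 0, nat_lit 2, nat_lit 0, nat_lit 2, nat_lit 0, nat_lit 2, nat_lit 0, nat_lit 2, nat_lit 0, nat_lit 2, nat_lit 0, nat_lit 2, nat_lit 0, nat_lit 2, nat_lit 0, nat_lit 2, nat_lit 0]) (.leaf (nat_lit 1479) (nat_lit 2) [nat_lit 0, nat_lit 2, nat_lit 0, nat_lit 3, nat_lit 0, nat_lit 2, nat_lit 0, nat_lit 2, nat_lit 0, nat_lit 3, nat_lit 0, nat_lit 2, nat_lit 0, nat_lit 2, nat_lit 0, nat_lit 3, nat_lit 0])))) (.node (nat_lit 2955) (.node (nat_lit 2954) (.leaf (nat_lit 1480) (nat_lit 0) [nat_lit 2, nat_lit 0, nat_lit 2, nat_lit 0, nat_lit 3, nat_lit 0, nat_lit 2, nat_lit 0, nat_lit 2, nat_lit 0, nat_lit 3, nat_lit 0, nat_lit 2, nat_lit 0, nat_lit 2, nat_lit 0, nat_lit 3]) (.leaf (nat_lit 1481) (nat_lit 3) [nat_lit 0, nat_lit 2, nat_lit 0, nat_lit 2, nat_lit 0, nat_lit 3, nat_lit 0, nat_lit 2, nat_lit 0, nat_lit 2, nat_lit 0, nat_lit 3, nat_lit 0, nat_lit 2, nat_lit 0, nat_lit 2, nat_lit 0])) (.node (nat_lit 2956) (.leaf (nat_lit 1476) (nat_lit 0) [nat_lit 3, nat_lit 0, nat_lit 2, nat_lit 0, nat_lit 2, nat_lit 0, nat_lit 3, nat_lit 0, nat_lit 2, nat_lit 0, nat_lit 2, nat_lit 0, nat_lit 3, nat_lit 0, nat_lit 2, nat_lit 0, nat_lit 2]) (.node (nat_lit 2957) (.leaf (nat_lit 1477) (nat_lit 2) [nat_lit 0, nat_lit 3, nat_lit 0, nat_lit 2, nat_lit 0, nat_lit 2, nat_lit 0, nat_lit 3, nat_lit 0, nat_lit 2, nat_lit 0, nat_lit 2, nat_lit 0, nat_lit 3, nat_lit 0, nat_lit 2, nat_lit 0]) (.leaf (nat_lit 1478) (nat_lit 0) [nat_lit 2, nat_lit 0, nat_lit 3, nat_lit 0, nat_lit 2, nat_lit 0, nat_lit 2, nat_lit 0, nat_lit 3, nat_lit 0, nat_lit 2, nat_lit 0, nat_lit 2, nat_lit 0, nat_lit 3, nat_lit 0, nat_lit 2])))))) (.node (nat_lit 2967) (.node (nat_lit 2962) (.node (nat_lit 2960) (.node (nat_lit 2959) (.leaf (nat_lit 1479) (nat_lit 2) [nat_lit 0, nat_lit 2, nat_lit 0, nat_lit 3, nat_lit 0, nat_lit 2, nat_lit 0, nat_lit 2, nat_lit 0, nat_lit 3, nat_lit 0, nat_lit 2, nat_lit 0, nat_lit 2, nat_lit 0, nat_lit 3, nat_lit 0]) (.leaf (nat_lit 1480) (nat_lit 0) [nat_lit 2, nat_lit 0, nat_lit 2, nat_lit 0, nat_lit 3, nat_lit 0, nat_lit 2, nat_lit 0, nat_lit 2, nat_lit 0, nat_lit 3, nat_lit 0, nat_lit 2, nat_lit 0, nat_lit 2, nat_lit 0, nat_lit 3])) (.node (nat_lit 2961) (.leaf (nat_lit 1481) (nat_lit 3) [nat_lit 0, nat_lit 2, nat_lit 0, nat_lit 2, nat_lit 0, nat_lit 3, nat_lit 0, nat_lit 2, nat_lit 0, nat_lit 2, nat_lit 0, nat_lit 3, nat_lit 0, nat_lit 2, nat_lit 0, nat_lit 2, nat_lit 0]) (.leaf (nat_lit 1476) (nat_lit 0) [nat_lit 3, nat_lit 0, nat_lit 2, nat_lit 0, nat_lit 2, nat_lit 0, nat_lit 3, nat_lit 0, nat_lit 2, nat_lit 0, nat_lit 2, nat_lit 0, nat_lit 3, nat_lit 0, nat_lit 2, nat_lit 0, nat_lit 2]))) (.node (nat_lit 2964) (.node (nat_lit 2963) (.leaf (nat_lit 1477) (nat_lit 2) [nat_lit 0, nat_lit 3, nat_lit 0, nat_lit 2, nat_lit 0, nat_lit 2, nat_lit 0, nat_lit 3, nat_lit 0, nat_lit 2, nat_lit 0, nat_lit 2, nat_lit 0, nat_lit 3, nat_lit 0, nat_lit 2, nat_lit 0]) (.leaf (nat_lit 1478) (nat_lit 0) [nat_lit 2, nat_lit 0, nat_lit 3, nat_lit 0, nat_lit 2, nat_lit 0, nat_lit 2, nat_lit 0, nat_lit 3, nat_lit 0, nat_lit 2, nat_lit 0, nat_lit 2, nat_lit 0, nat_lit 3, nat_lit 0, nat_lit 2])) (.node (nat_lit 2965) (.leaf (nat_lit 1479) (nat_lit 2) [nat_lit 0, nat_lit 2, nat_lit 0, nat_lit 3, nat_lit 0, nat_lit 2, nat_lit 0, nat_lit 2, nat_lit 0, nat_lit 3, nat_lit 0, nat_lit 2, nat_lit 0, nat_lit 2, nat_lit 0, nat_lit 3, nat_lit 0]) (.node (nat_lit 2966) (.leaf (nat_lit 1480) (nat_lit 0) [nat_lit 2, nat_lit 0, nat_lit 2, nat_lit 0, nat_lit 3, nat_lit 0, nat_lit 2, nat_lit 0, nat_lit 2, nat_lit 0, nat_lit 3, nat_lit 0, nat_lit 2, nat_lit 0, nat_lit 2, nat_lit 0, nat_lit 3]) (.leaf (nat_lit 1481) (nat_lit 3) [nat_lit 0, nat_lit 2, nat_lit 0, nat_lit 2, nat_lit 0, nat_lit 3, nat_lit 0, nat_lit 2, nat_lit 0, nat_lit 2, nat_lit 0, nat_lit 3, nat_lit 0, nat_lit 2, nat_lit 0, nat_lit 2, nat_lit 0]))))) (.node (nat_lit 2972) (.node (nat_lit 2969) (.node (nat_lit 2968) (.leaf (nat_lit 1476) (nat_lit 0) [nat_lit 3, nat_lit 0, nat_lit 2, nat_lit 0, nat_lit 2, nat_lit 0, nat_lit 3, nat_lit 0, nat_lit 2, nat_lit 0, nat_lit 2, nat_lit 0, nat_lit 3, nat_lit 0, nat_lit 2, nat_lit 0, nat_lit 2]) (.leaf (nat_lit 1477) (nat_lit 2) [nat_lit 0, nat_lit 3, nat_lit 0, nat_lit 2, nat_lit 0, nat_lit 2, nat_lit 0, nat_lit 3, nat_lit 0, nat_lit 2, nat_lit 0, nat_lit 2, nat_lit 0, nat_lit 3, nat_lit 0, nat_lit 2, nat_lit 0])) (.node (nat_lit 2970) (.leaf (nat_lit 1478) (nat_lit 0) [nat_lit 2, nat_lit 0, nat_lit 3, nat_lit 0, nat_lit 2, nat_lit 0, nat_lit 2, nat_lit 0, nat_lit 3, nat_lit 0, nat_lit 2, nat_lit 0, nat_lit 2, nat_lit 0, nat_lit 3, nat_lit 0, nat_lit 2]) (.node (nat_lit 2971) (.leaf (nat_lit 1478) (nat_lit 0) [nat_lit 2, nat_lit 0, nat_lit 3, nat_lit 0, nat_lit 2, nat_lit 0, nat_lit 2, nat_lit 0, nat_lit 3, nat_lit 0, nat_lit 2, nat_lit 0, nat_lit 2, nat_lit 0, nat_lit 3, nat_lit 0, nat_lit 2]) (.leaf (nat_lit 1479) (nat_lit 2) [nat_lit 0, nat_lit 2, nat_lit 0, nat_lit 3, nat_lit 0, nat_lit 2, nat_lit 0, nat_lit 2, nat_lit 0, nat_lit 3, nat_lit 0, nat_lit 2, nat_lit 0, nat_lit 2, nat_lit 0, nat_lit 3, nat_lit 0])))) (.node (nat_lit 2974) (.node (nat_lit 2973) (.leaf (nat_lit 1480) (nat_lit 0) [nat_lit 2, nat_lit 0, nat_lit 2, nat_lit 0, nat_lit 3, nat_lit 0, nat_lit 2, nat_lit 0, nat_lit 2, nat_lit 0, nat_lit 3, nat_lit 0, nat_lit 2, nat_lit 0, nat_lit 2, nat_lit 0, nat_lit 3]) (.leaf (nat_lit 1481) (nat_lit 3) [nat_lit 0, nat_lit 2, nat_lit 0, nat_lit 2, nat_lit 0, nat_lit 3, nat_lit 0, nat_lit 2, nat_lit 0, nat_lit 2, nat_lit 0, nat_lit 3, nat_lit 0, nat_lit 2, nat_lit 0, nat_lit 2, nat_lit 0])) (.node (nat_lit 2975) (.leaf (nat_lit 1476) (nat_lit 0) [nat_lit 3, nat_lit 0, nat_lit 2, nat_lit 0, nat_lit 2, nat_lit 0, nat_lit 3, nat_lit 0, nat_lit 2, nat_lit 0, nat_lit 2, nat_lit 0, nat_lit 3, nat_lit 0, nat_lit 2, nat_lit 0, nat_lit 2]) (.node (nat_lit 2976) (.leaf (nat_lit 1477) (nat_lit 2) [nat_lit 0, nat_lit 3, nat_lit 0, nat_lit 2, nat_lit 0, nat_lit 2, nat_lit 0, nat_lit 3, nat_lit 0, nat_lit 2, nat_lit 0, nat_lit 2, nat_lit 0, nat_lit 3, nat_lit 0, nat_lit 2, nat_lit 0]) (.leaf (nat_lit 1478) (nat_lit 0) [nat_lit 2, nat_lit 0, nat_lit 3, nat_lit 0, nat_lit 2, nat_lit 0, nat_lit 2, nat_lit 0, nat_lit 3, nat_lit 0, nat_lit 2, nat_lit 0, nat_lit 2, nat_lit 0, nat_lit 3, nat_lit 0, nat_lit 2]))))))) (.node (nat_lit 2996) (.node (nat_lit 2986) (.node (nat_lit 2981) (.node (nat_lit 2979) (.node (nat_lit 2978) (.leaf (nat_lit 1479) (nat_lit 2) [nat_lit 0, nat_lit 2, nat_lit 0, nat_lit 3, nat_lit 0, nat_lit 2, nat_lit 0, nat_lit 2, nat_lit 0, nat_lit 3, nat_lit 0, nat_lit 2, nat_lit 0, nat_lit 2, nat_lit 0, nat_lit 3, nat_lit 0]) (.leaf (nat_lit 1480) (nat_lit 0) [nat_lit 2, nat_lit 0, nat_lit 2, nat_lit 0, nat_lit 3, nat_lit 0, nat_lit 2, nat_lit 0, nat_lit 2, nat_lit 0, nat_lit 3, nat_lit 0, nat_lit 2, nat_lit 0, nat_lit 2, nat_lit 0, nat_lit 3])) (.node (nat_lit 2980) (.leaf (nat_lit 1481) (nat_lit 3) [nat_lit 0, nat_lit 2, nat_lit 0, nat_lit 2, nat_lit 0, nat_lit 3, nat_lit 0, nat_lit 2, nat_lit 0, nat_lit 2, nat_lit 0, nat_lit 3, nat_lit 0, nat_lit 2, nat_lit 0, nat_lit 2, nat_lit 0]) (.leaf (nat_lit 1476) (nat_lit 0) [nat_lit 3, nat_lit 0, nat_lit 2, nat_lit 0, nat_lit 2, nat_lit 0, nat_lit 3, nat_lit 0, nat_lit 2, nat_lit 0, nat_lit 2, nat_lit 0, nat_lit 3, nat_lit 0, nat_lit 2, nat_lit 0, nat_lit 2]))) (.node (nat_lit 2983) (.node (nat_lit 2982) (.leaf (nat_lit 1477) (nat_lit 2) [nat_lit 0, nat_lit 3, nat_lit 0, nat_lit 2, nat_lit 0, nat_lit 2, nat_lit 0, nat_lit 3, nat_lit 0, nat_lit 2, nat_lit 0, nat_lit 2, nat_lit 0, nat_lit 3, nat_lit 0, nat_lit 2, nat_lit 0]) (.leaf (nat_lit 1478) (nat_lit 0) [nat_lit 2, nat_lit 0, nat_lit 3, nat_lit 0, nat_lit 2, nat_lit 0, nat_lit 2, nat_lit 0, nat_lit 3, nat_lit 0, nat_lit 2, nat_lit 0, nat_lit 2, nat_lit 0, nat_lit 3, nat_lit 0, nat_lit 2])) (.node (nat_lit 2984) (.leaf (nat_lit 1479) (nat_lit 2) [nat_lit 0, nat_lit 2, nat_lit 0, nat_lit 3, nat_lit 0, nat_lit 2, nat_lit 0, nat_lit 2, nat_lit 0, nat_lit 3, nat_lit 0, nat_lit 2, nat_lit 0, nat_lit 2, nat_lit 0, nat_lit 3, nat_lit 0]) (.node (nat_lit 2985) (.leaf (nat_lit 1480) (nat_lit 0) [nat_lit 2, nat_lit 0, nat_lit 2, nat_lit 0, nat_lit 3, nat_lit 0, nat_lit 2, nat_lit 0, nat_lit 2, nat_lit 0, nat_lit 3, nat_lit 0, nat_lit 2, nat_lit 0, nat_lit 2, nat_lit 0, nat_lit 3]) (.leaf (nat_lit 1481) (nat_lit 3) [nat_lit 0, nat_lit 2, nat_lit 0, nat_lit 2, nat_lit 0, nat_lit 3, nat_lit 0, nat_lit 2, nat_lit 0, nat_lit 2, nat_lit 0, nat_lit 3, nat_lit 0, nat_lit 2, nat_lit 0, nat_lit 2, nat_lit 0]))))) (.node (nat_lit 2991) (.node (nat_lit 2988) (.node (nat_lit 2987) (.leaf (nat_lit 1476) (nat_lit 0) [nat_lit 3, nat_lit 0, nat_lit 2, nat_lit 0, nat_lit 2, nat_lit 0, nat_lit 3, nat_lit 0, nat_lit 2, nat_lit 0, nat_lit 2, nat_lit 0, nat_lit 3, nat_lit 0, nat_lit 2, nat_lit 0, nat_lit 2]) (.leaf (nat_lit 1477) (nat_lit 2) [nat_lit 0, nat_lit 3, nat_lit 0, nat_lit 2, nat_lit 0, nat_lit 2, nat_lit 0, nat_lit 3, nat_lit 0, nat_lit 2, nat_lit 0, nat_lit 2, nat_lit 0, nat_lit 3, nat_lit 0, nat_lit 2, nat_lit 0])) (.node (nat_lit 2989) (.leaf (nat_lit 1299) (nat_lit 2) [nat_lit 1, nat_lit 2, nat_lit 0, nat_lit 1, nat_lit 0, nat_lit 2, nat_lit 1, nat_lit 2, nat_lit 0, nat_lit 1, nat_lit 0, nat_lit 2, nat_lit 1, nat_lit 2, nat_lit 0, nat_lit 1, nat_lit 0]) (.node (nat_lit 2990) (.leaf (nat_lit 1300) (nat_lit 0) [nat_lit 2, nat_lit 1, nat_lit 2, nat_lit 0, nat_lit 1, nat_lit 0, nat_lit 2, nat_lit 1, nat_lit 2, nat_lit 0, nat_lit 1, nat_lit 0, nat_lit 2, nat_lit 1, nat_lit 2, nat_lit 0, nat_lit 1]) (.leaf (nat_lit 1301) (nat_lit 1) [nat_lit 0, nat_lit 2, nat_lit 1, nat_lit 2, nat_lit 0, nat_lit 1, nat_lit 0, nat_lit 2, nat_lit 1, nat_lit 2, nat_lit 0, nat_lit 1, nat_lit 0, nat_lit 2, nat_lit 1, nat_lit 2, nat_lit 0])))) (.node (nat_lit 2993) (.node (nat_lit 2992) (.leaf (nat_lit 1296) (nat_lit 0) [nat_lit 1, nat_lit 0, nat_lit 2, nat_lit 1, nat_lit 2, nat_lit 0, nat_lit 1, nat_lit 0, nat_lit 2, nat_lit 1, nat_lit 2, nat_lit 0, nat_lit 1, nat_lit 0, nat_lit 2, nat_lit 1, nat_lit 2]) (.leaf (nat_lit 1297) (nat_lit 2) [nat_lit 0, nat_lit 1, nat_lit 0, nat_lit 2, nat_lit 1, nat_lit 2, nat_lit 0, nat_lit 1, nat_lit 0, nat_lit 2, nat_lit 1, nat_lit 2, nat_lit 0, nat_lit 1, nat_lit 0, nat_lit 2, nat_lit 1])) (.node (nat_lit 2994) (.leaf (nat_lit 1298) (nat_lit 1) [nat_lit 2, nat_lit 0, nat_lit 1, nat_lit 0, nat_lit 2, nat_lit 1, nat_lit 2, nat_lit 0, nat_lit 1, nat_lit 0, nat_lit 2, nat_lit 1, nat_lit 2, nat_lit 0, nat_lit 1, nat_lit 0, nat_lit 2]) (.node (nat_lit 2995) (.leaf (nat_lit 1299) (nat_lit 2) [nat_lit 1, nat_lit 2, nat_lit 0, nat_lit 1, nat_lit 0, nat_lit 2, nat_lit 1, nat_lit 2, nat_lit 0, nat_lit 1, nat_lit 0, nat_lit 2, nat_lit 1, nat_lit 2, nat_lit 0, nat_lit 1, nat_lit 0]) (.leaf (nat_lit 1300) (nat_lit 0) [nat_lit 2, nat_lit 1, nat_lit 2, nat_lit 0, nat_lit 1, nat_lit 0, nat_lit 2, nat_lit 1, nat_lit 2, nat_lit 0, nat_lit 1, nat_lit 0, nat_lit 2, nat_lit 1, nat_lit 2, nat_lit 0, nat_lit 1])))))) (.node (nat_lit 3005) (.node (nat_lit 3000) (.node (nat_lit 2998) (.node (nat_lit 2997) (.leaf (nat_lit 1301) (nat_lit 1) [nat_lit 0, nat_lit 2, nat_lit 1, nat_lit 2, nat_lit 0, nat_lit 1, nat_lit 0, nat_lit 2, nat_lit 1, nat_lit 2, nat_lit 0, nat_lit 1, nat_lit 0, nat_lit 2, nat_lit 1, nat_lit 2, nat_lit 0]) (.leaf (nat_lit 1296) (nat_lit 0) [nat_lit 1, nat_lit 0, nat_lit 2, nat_lit 1, nat_lit 2, nat_lit 0, nat_lit 1, nat_lit 0, nat_lit 2, nat_lit 1, nat_lit 2, nat_lit 0, nat_lit 1, nat_lit 0, nat_lit 2, nat_lit 1, nat_lit 2])) (.node (nat_lit 2999) (.leaf (nat_lit 1297) (nat_lit 2) [nat_lit 0, nat_lit 1, nat_lit 0, nat_lit 2, nat_lit 1, nat_lit 2, nat_lit 0, nat_lit 1, nat_lit 0, nat_lit 2, nat_lit 1, nat_lit 2, nat_lit 0, nat_lit 1, nat_lit 0, nat_lit 2, nat_lit 1]) (.leaf (nat_lit 1298) (nat_lit 1) [nat_lit 2, nat_lit 0, nat_lit 1, nat_lit 0, nat_lit 2, nat_lit 1, nat_lit 2, nat_lit 0, nat_lit 1, nat_lit 0, nat_lit 2, nat_lit 1, nat_lit 2, nat_lit 0, nat_lit 1, nat_lit 0, nat_lit 2]))) (.node (nat_lit 3002) (.node (nat_lit 3001) (.leaf (nat_lit 1299) (nat_lit 2) [nat_lit 1, nat_lit 2, nat_lit 0, nat_lit 1, nat_lit 0, nat_lit 2, nat_lit 1, nat_lit 2, nat_lit 0, nat_lit 1, nat_lit 0, nat_lit 2, nat_lit 1, nat_lit 2, nat_lit 0, nat_lit 1, nat_lit 0]) (.leaf (nat_lit 1300) (nat_lit 0) [nat_lit 2, nat_lit 1, nat_lit 2, nat_lit 0, nat_lit 1, nat_lit 0, nat_lit 2, nat_lit 1, nat_lit 2, nat_lit 0, nat_lit 1, nat_lit 0, nat_lit 2, nat_lit 1, nat_lit 2, nat_lit 0, nat_lit 1])) (.node (nat_lit 3003) (.leaf (nat_lit 1301) (nat_lit 1) [nat_lit 0, nat_lit 2, nat_lit 1, nat_lit 2, nat_lit 0, nat_lit 1, nat_lit 0, nat_lit 2, nat_lit 1, nat_lit 2, nat_lit 0, nat_lit 1, nat_lit 0, nat_lit 2, nat_lit 1, nat_lit 2, nat_lit 0]) (.node (nat_lit 3004) (.leaf (nat_lit 1296) (nat_lit 0) [nat_lit 1, nat_lit 0, nat_lit 2, nat_lit 1, nat_lit 2, nat_lit 0, nat_lit 1, nat_lit 0, nat_lit 2, nat_lit 1, nat_lit 2, nat_lit 0, nat_lit 1, nat_lit 0, nat_lit 2, nat_lit 1, nat_lit 2]) (.leaf (nat_lit 1297) (nat_lit 2) [nat_lit 0, nat_lit 1, nat_lit 0, nat_lit 2, nat_lit 1, nat_lit 2, nat_lit 0, nat_lit 1, nat_lit 0, nat_lit 2, nat_lit 1, nat_lit 2, nat_lit 0, nat_lit 1, nat_lit 0, nat_lit 2, nat_lit 1]))))) (.node (nat_lit 3010) (.node (nat_lit 3007) (.node (nat_lit 3006) (.leaf (nat_lit 1298) (nat_lit 1) [nat_lit 2, nat_lit 0, nat_lit 1, nat_lit 0, nat_lit 2, nat_lit 1, nat_lit 2, nat_lit 0, nat_lit 1, nat_lit 0, nat_lit 2, nat_lit 1, nat_lit 2, nat_lit 0, nat_lit 1, nat_lit 0, nat_lit 2]) (.leaf (nat_lit 1298) (nat_lit 1) [nat_lit 2, nat_lit 0, nat_lit 1, nat_lit 0, nat_lit 2, nat_lit 1, nat_lit 2, nat_lit 0, nat_lit 1, nat_lit 0, nat_lit 2, nat_lit 1, nat_lit 2, nat_lit 0, nat_lit 1, nat_lit 0, nat_lit 2])) (.node (nat_lit 3008) (.leaf (nat_lit 1299) (nat_lit 2) [nat_lit 1, nat_lit 2, nat_lit 0, nat_lit 1, nat_lit 0, nat_lit 2, nat_lit 1, nat_lit 2, nat_lit 0, nat_lit 1, nat_lit 0, nat_lit 2, nat_lit 1, nat_lit 2, nat_lit 0, nat_lit 1, nat_lit 0]) (.node (nat_lit 3009) (.leaf (nat_lit 1300) (nat_lit 0) [nat_lit 2, nat_lit 1, nat_lit 2, nat_lit 0, nat_lit 1, nat_lit 0, nat_lit 2, nat_lit 1, nat_lit 2, nat_lit 0, nat_lit 1, nat_lit 0, nat_lit 2, nat_lit 1, nat_lit 2, nat_lit 0, nat_lit 1]) (.leaf (nat_lit 1301) (nat_lit 1) [nat_lit 0, nat_lit 2, nat_lit 1, nat_lit 2, nat_lit 0, nat_lit 1, nat_lit 0, nat_lit 2, nat_lit 1, nat_lit 2, nat_lit 0, nat_lit 1, nat_lit 0, nat_lit 2, nat_lit 1, nat_lit 2, nat_lit 0])))) (.node (nat_lit 3012) (.node (nat_lit 3011) (.leaf (nat_lit 1296) (nat_lit 0) [nat_lit 1, nat_lit 0, nat_lit 2, nat_lit 1, nat_lit 2, nat_lit 0, nat_lit 1, nat_lit 0, nat_lit 2, nat_lit 1, nat_lit 2, nat_lit 0, nat_lit 1, nat_lit 0, nat_lit 2, nat_lit 1, nat_lit 2]) (.leaf (nat_lit 1297) (nat_lit 2) [nat_lit 0, nat_lit 1, nat_lit 0, nat_lit 2, nat_lit 1, nat_lit 2, nat_lit 0, nat_lit 1, nat_lit 0, nat_lit 2, nat_lit 1, nat_lit 2, nat_lit 0, nat_lit 1, nat_lit 0, nat_lit 2, nat_lit 1])) (.node (nat_lit 3013) (.leaf (nat_lit 1298) (nat_lit 1) [nat_lit 2, nat_lit 0, nat_lit 1, nat_lit 0, nat_lit 2, nat_lit 1, nat_lit 2, nat_lit 0, nat_lit 1, nat_lit 0, nat_lit 2, nat_lit 1, nat_lit 2, nat_lit 0, nat_lit 1, nat_lit 0, nat_lit 2]) (.node (nat_lit 3014) (.leaf (nat_lit 1299) (nat_lit 2) [nat_lit 1, nat_lit 2, nat_lit 0, nat_lit 1, nat_lit 0, nat_lit 2, nat_lit 1, nat_lit 2, nat_lit 0, nat_lit 1, nat_lit 0, nat_lit 2, nat_lit 1, nat_lit 2, nat_lit 0, nat_lit 1, nat_lit 0]) (.leaf (nat_lit 1300) (nat_lit 0) [nat_lit 2, nat_lit 1, nat_lit 2, nat_lit 0, nat_lit 1, nat_lit 0, nat_lit 2, nat_lit 1, nat_lit 2, nat_lit 0, nat_lit 1, nat_lit 0, nat_lit 2, nat_lit 1, nat_lit 2, nat_lit 0, nat_lit 1]))))))))))) (.node (nat_lit 3316) (.node (nat_lit 3165) (.node (nat_lit 3090) (.node (nat_lit 3052) (.node (nat_lit 3033) (.node (nat_lit 3024) (.node (nat_lit 3019) (.node (nat_lit 3017) (.node (nat_lit 3016) (.leaf (nat_lit 1301) (nat_lit 1) [nat_lit 0, nat_lit 2, nat_lit 1, nat_lit 2, nat_lit 0, nat_lit 1, nat_lit 0, nat_lit 2, nat_lit 1, nat_lit 2, nat_lit 0, nat_lit 1, nat_lit 0, nat_lit 2, nat_lit 1, nat_lit 2, nat_lit 0]) (.leaf (nat_lit 1296) (nat_lit 0) [nat_lit 1, nat_lit 0, nat_lit 2, nat_lit 1, nat_lit 2, nat_lit 0, nat_lit 1, nat_lit 0, nat_lit 2, nat_lit 1, nat_lit 2, nat_lit 0, nat_lit 1, nat_lit 0, nat_lit 2, nat_lit 1, nat_lit 2])) (.node (nat_lit 3018) (.leaf (nat_lit 1297) (nat_lit 2) [nat_lit 0, nat_lit 1, nat_lit 0, nat_lit 2, nat_lit 1, nat_lit 2, nat_lit 0, nat_lit 1, nat_lit 0, nat_lit 2, nat_lit 1, nat_lit 2, nat_lit 0, nat_lit 1, nat_lit 0, nat_lit 2, nat_lit 1]) (.leaf (nat_lit 1298) (nat_lit 1) [nat_lit 2, nat_lit 0, nat_lit 1, nat_lit 0, nat_lit 2, nat_lit 1, nat_lit 2, nat_lit 0, nat_lit 1, nat_lit 0, nat_lit 2, nat_lit 1, nat_lit 2, nat_lit 0, nat_lit 1, nat_lit 0, nat_lit 2]))) (.node (nat_lit 3021) (.node (nat_lit 3020) (.leaf (nat_lit 1299) (nat_lit 2) [nat_lit 1, nat_lit 2, nat_lit 0, nat_lit 1, nat_lit 0, nat_lit 2, nat_lit 1, nat_lit 2, nat_lit 0, nat_lit 1, nat_lit 0, nat_lit 2, nat_lit 1, nat_lit 2, nat_lit 0, nat_lit 1, nat_lit 0]) (.leaf (nat_lit 1300) (nat_lit 0) [nat_lit 2, nat_lit 1, nat_lit 2, nat_lit 0, nat_lit 1, nat_lit 0, nat_lit 2, nat_lit 1, nat_lit 2, nat_lit 0, nat_lit 1, nat_lit 0, nat_lit 2, nat_lit 1, nat_lit 2, nat_lit 0, nat_lit 1])) (.node (nat_lit 3022) (.leaf (nat_lit 1301) (nat_lit 1) [nat_lit 0, nat_lit 2, nat_lit 1, nat_lit 2, nat_lit 0, nat_lit 1, nat_lit 0, nat_lit 2, nat_lit 1, nat_lit 2, nat_lit 0, nat_lit 1, nat_lit 0, nat_lit 2, nat_lit 1, nat_lit 2, nat_lit 0]) (.node (nat_lit 3023) (.leaf (nat_lit 1296) (nat_lit 0) [nat_lit 1, nat_lit 0, nat_lit 2, nat_lit 1, nat_lit 2, nat_lit 0, nat_lit 1, nat_lit 0, nat_lit 2, nat_lit 1, nat_lit 2, nat_lit 0, nat_lit 1, nat_lit 0, nat_lit 2, nat_lit 1, nat_lit 2]) (.leaf (nat_lit 1297) (nat_lit 2) [nat_lit 0, nat_lit 1, nat_lit 0, nat_lit 2, nat_lit 1, nat_lit 2, nat_lit 0, nat_lit 1, nat_lit 0, nat_lit 2, nat_lit 1, nat_lit 2, nat_lit 0, nat_lit 1, nat_lit 0, nat_lit 2, nat_lit 1]))))) (.node (nat_lit 3028) (.node (nat_lit 3026) (.node (nat_lit 3025) (.leaf (nat_lit 1407) (nat_lit 2) [nat_lit 1, nat_lit 2, nat_lit 0, nat_lit 2, nat_lit 0, nat_lit 2, nat_lit 1, nat_lit 2, nat_lit 0, nat_lit 2, nat_lit 0, nat_lit 2, nat_lit 1, nat_lit 2, nat_lit 0, nat_lit 2, nat_lit 0]) (.leaf (nat_lit 1408) (nat_lit 0) [nat_lit 2, nat_lit 1, nat_lit 2, nat_lit 0, nat_lit 2, nat_lit 0, nat_lit 2, nat_lit 1, nat_lit 2, nat_lit 0, nat_lit 2, nat_lit 0, nat_lit 2, nat_lit 1, nat_lit 2, nat_lit 0, nat_lit 2])) (.node (nat_lit 3027) (.leaf (nat_lit 1409) (nat_lit 2) [nat_lit 0, nat_lit 2, nat_lit 1, nat_lit 2, nat_lit 0, nat_lit 2, nat_lit 0, nat_lit 2, nat_lit 1, nat_lit 2, nat_lit 0, nat_lit 2, nat_lit 0, nat_lit 2, nat_lit 1, nat_lit 2, nat_lit 0]) (.leaf (nat_lit 1404) (nat_lit 0) [nat_lit 2, nat_lit 0, nat_lit 2, nat_lit 1, nat_lit 2, nat_lit 0, nat_lit 2, nat_lit 0, nat_lit 2, nat_lit 1, nat_lit 2, nat_lit 0, nat_lit 2, nat_lit 0, nat_lit 2, nat_lit 1, nat_lit 2]))) (.node (nat_lit 3030) (.node (nat_lit 3029) (.leaf (nat_lit 1405) (nat_lit 2) [nat_lit 0, nat_lit 2, nat_lit 0, nat_lit 2, nat_lit 1, nat_lit 2, nat_lit 0, nat_lit 2, nat_lit 0, nat_lit 2, nat_lit 1, nat_lit 2, nat_lit 0, nat_lit 2, nat_lit 0, nat_lit 2, nat_lit 1]) (.leaf (nat_lit 1406) (nat_lit 1) [nat_lit 2, nat_lit 0, nat_lit 2, nat_lit 0, nat_lit 2, nat_lit 1, nat_lit 2, nat_lit 0, nat_lit 2, nat_lit 0, nat_lit 2, nat_lit 1, nat_lit 2, nat_lit 0, nat_lit 2, nat_lit 0, nat_lit 2])) (.node (nat_lit 3031) (.leaf (nat_lit 1407) (nat_lit 2) [nat_lit 1, nat_lit 2, nat_lit 0, nat_lit 2, nat_lit 0, nat_lit 2, nat_lit 1, nat_lit 2, nat_lit 0, nat_lit 2, nat_lit 0, nat_lit 2, nat_lit 1, nat_lit 2, nat_lit 0, nat_lit 2, nat_lit 0]) (.node (nat_lit 3032) (.leaf (nat_lit 1408) (nat_lit 0) [nat_lit 2, nat_lit 1, nat_lit 2, nat_lit 0, nat_lit 2, nat_lit 0, nat_lit 2, nat_lit 1, nat_lit 2, nat_lit 0, nat_lit 2, nat_lit 0, nat_lit 2, nat_lit 1, nat_lit 2, nat_lit 0, nat_lit 2]) (.leaf (nat_lit 1409) (nat_lit 2) [nat_lit 0, nat_lit 2, nat_lit 1, nat_lit 2, nat_lit 0, nat_lit 2, nat_lit 0, nat_lit 2, nat_lit 1, nat_lit 2, nat_lit 0, nat_lit 2, nat_lit 0, nat_lit 2, nat_lit 1, nat_lit 2, nat_lit 0])))))) (.node (nat_lit 3042) (.node (nat_lit 3037) (.node (nat_lit 3035) (.node (nat_lit 3034) (.leaf (nat_lit 1404) (nat_lit 0) [nat_lit 2, nat_lit 0, nat_lit 2, nat_lit 1, nat_lit 2, nat_lit 0, nat_lit 2, nat_lit 0, nat_lit 2, nat_lit 1, nat_lit 2, nat_lit 0, nat_lit 2, nat_lit 0, nat_lit 2, nat_lit 1, nat_lit 2]) (.leaf (nat_lit 1405) (nat_lit 2) [nat_lit 0, nat_lit 2, nat_lit 0, nat_lit 2, nat_lit 1, nat_lit 2, nat_lit 0, nat_lit 2, nat_lit 0, nat_lit 2, nat_lit 1, nat_lit 2, nat_lit 0, nat_lit 2, nat_lit 0, nat_lit 2, nat_lit 1])) (.node (nat_lit 3036) (.leaf (nat_lit 1406) (nat_lit 1) [nat_lit 2, nat_lit 0, nat_lit 2, nat_lit 0, nat_lit 2, nat_lit 1, nat_lit 2, nat_lit 0, nat_lit 2, nat_lit 0, nat_lit 2, nat_lit 1, nat_lit 2, nat_lit 0, nat_lit 2, nat_lit 0, nat_lit 2]) (.leaf (nat_lit 1407) (nat_lit 2) [nat_lit 1, nat_lit 2, nat_lit 0, nat_lit 2, nat_lit 0, nat_lit 2, nat_lit 1, nat_lit 2, nat_lit 0, nat_lit 2, nat_lit 0, nat_lit 2, nat_lit 1, nat_lit 2, nat_lit 0, nat_lit 2, nat_lit 0]))) (.node (nat_lit 3039) (.node (nat_lit 3038) (.leaf (nat_lit 1408) (nat_lit 0) [nat_lit 2, nat_lit 1, nat_lit 2, nat_lit 0, nat_lit 2, nat_lit 0, nat_lit 2, nat_lit 1, nat_lit 2, nat_lit 0, nat_lit 2, nat_lit 0, nat_lit 2, nat_lit 1, nat_lit 2, nat_lit 0, nat_lit 2]) (.leaf (nat_lit 1409) (nat_lit 2) [nat_lit 0, nat_lit 2, nat_lit 1, nat_lit 2, nat_lit 0, nat_lit 2, nat_lit 0, nat_lit 2, nat_lit 1, nat_lit 2, nat_lit 0, nat_lit 2, nat_lit 0, nat_lit 2, nat_lit 1, nat_lit 2, nat_lit 0])) (.node (nat_lit 3040) (.leaf (nat_lit 1404) (nat_lit 0) [nat_lit 2, nat_lit 0, nat_lit 2, nat_lit 1, nat_lit 2, nat_lit 0, nat_lit 2, nat_lit 0, nat_lit 2, nat_lit 1, nat_lit 2, nat_lit 0, nat_lit 2, nat_lit 0, nat_lit 2, nat_lit 1, nat_lit 2]) (.node (nat_lit 3041) (.leaf (nat_lit 1405) (nat_lit 2) [nat_lit 0, nat_lit 2, nat_lit 0, nat_lit 2, nat_lit 1, nat_lit 2, nat_lit 0, nat_lit 2, nat_lit 0, nat_lit 2, nat_lit 1, nat_lit 2, nat_lit 0, nat_lit 2, nat_lit 0, nat_lit 2, nat_lit 1]) (.leaf (nat_lit 1406) (nat_lit 1) [nat_lit 2, nat_lit 0, nat_lit 2, nat_lit 0, nat_lit 2, nat_lit 1, nat_lit 2, nat_lit 0, nat_lit 2, nat_lit 0, nat_lit 2, nat_lit 1, nat_lit 2, nat_lit 0, nat_lit 2, nat_lit 0, nat_lit 2]))))) (.node (nat_lit 3047) (.node (nat_lit 3044) (.node (nat_lit 3043) (.leaf (nat_lit 1406) (nat_lit 1) [nat_lit 2, nat_lit 0, nat_lit 2, nat_lit 0, nat_lit 2, nat_lit 1, nat_lit 2, nat_lit 0, nat_lit 2, nat_lit 0, nat_lit 2, nat_lit 1, nat_lit 2, nat_lit 0, nat_lit 2, nat_lit 0, nat_lit 2]) (.leaf (nat_lit 1407) (nat_lit 2) [nat_lit 1, nat_lit 2, nat_lit 0, nat_lit 2, nat_lit 0, nat_lit 2, nat_lit 1, nat_lit 2, nat_lit 0, nat_lit 2, nat_lit 0, nat_lit 2, nat_lit 1, nat_lit 2, nat_lit 0, nat_lit 2, nat_lit 0])) (.node (nat_lit 3045) (.leaf (nat_lit 1408) (nat_lit 0) [nat_lit 2, nat_lit 1, nat_lit 2, nat_lit 0, nat_lit 2, nat_lit 0, nat_lit 2, nat_lit 1, nat_lit 2, nat_lit 0, nat_lit 2, nat_lit 0, nat_lit 2, nat_lit 1, nat_lit 2, nat_lit 0, nat_lit 2]) (.node (nat_lit 3046) (.leaf (nat_lit 1409) (nat_lit 2) [nat_lit 0, nat_lit 2, nat_lit 1, nat_lit 2, nat_lit 0, nat_lit 2, nat_lit 0, nat_lit 2, nat_lit 1, nat_lit 2, nat_lit 0, nat_lit 2, nat_lit 0, nat_lit 2, nat_lit 1, nat_lit 2, nat_lit 0]) (.leaf (nat_lit 1404) (nat_lit 0) [nat_lit 2, nat_lit 0, nat_lit 2, nat_lit 1, nat_lit 2, nat_lit 0, nat_lit 2, nat_lit 0, nat_lit 2, nat_lit 1, nat_lit 2, nat_lit 0, nat_lit 2, nat_lit 0, nat_lit 2, nat_lit 1, nat_lit 2])))) (.node (nat_lit 3049) (.node (nat_lit 3048) (.leaf (nat_lit 1405) (nat_lit 2) [nat_lit 0, nat_lit 2, nat_lit 0, nat_lit 2, nat_lit 1, nat_lit 2, nat_lit 0, nat_lit 2, nat_lit 0, nat_lit 2, nat_lit 1, nat_lit 2, nat_lit 0, nat_lit 2, nat_lit 0, nat_lit 2, nat_lit 1]) (.leaf (nat_lit 1406) (nat_lit 1) [nat_lit 2, nat_lit 0, nat_lit 2, nat_lit 0, nat_lit 2, nat_lit 1, nat_lit 2, nat_lit 0, nat_lit 2, nat_lit 0, nat_lit 2, nat_lit 1, nat_lit 2, nat_lit 0, nat_lit 2, nat_lit 0, nat_lit 2])) (.node (nat_lit 3050) (.leaf (nat_lit 1407) (nat_lit 2) [nat_lit 1, nat_lit 2, nat_lit 0, nat_lit 2, nat_lit 0, nat_lit 2, nat_lit 1, nat_lit 2, nat_lit 0, nat_lit 2, nat_lit 0, nat_lit 2, nat_lit 1, nat_lit 2, nat_lit 0, nat_lit 2, nat_lit 0]) (.node (nat_lit 3051) (.leaf (nat_lit 1408) (nat_lit 0) [nat_lit 2, nat_lit 1, nat_lit 2, nat_lit 0, nat_lit 2, nat_lit 0, nat_lit 2, nat_lit 1, nat_lit 2, nat_lit 0, nat_lit 2, nat_lit 0, nat_lit 2, nat_lit 1, nat_lit 2, nat_lit 0, nat_lit 2]) (.leaf (nat_lit 1409) (nat_lit 2) [nat_lit 0, nat_lit 2, nat_lit 1, nat_lit 2, nat_lit 0, nat_lit 2, nat_lit 0, nat_lit 2, nat_lit 1, nat_lit 2, nat_lit 0, nat_lit 2, nat_lit 0, nat_lit 2, nat_lit 1, nat_lit 2, nat_lit 0]))))))) (.node (nat_lit 3071) (.node (nat_lit 3061) (.node (nat_lit 3056) (.node (nat_lit 3054) (.node (nat_lit 3053) (.leaf (nat_lit 1404) (nat_lit 0) [nat_lit 2, nat_lit 0, nat_lit 2, nat_lit 1, nat_lit 2, nat_lit 0, nat_lit 2, nat_lit 0, nat_lit 2, nat_lit 1, nat_lit 2, nat_lit 0, nat_lit 2, nat_lit 0, nat_lit 2, nat_lit 1, nat_lit 2]) (.leaf (nat_lit 1405) (nat_lit 2) [nat_lit 0, nat_lit 2, nat_lit 0, nat_lit 2, nat_lit 1, nat_lit 2, nat_lit 0, nat_lit 2, nat_lit 0, nat_lit 2, nat_lit 1, nat_lit 2, nat_lit 0, nat_lit 2, nat_lit 0, nat_lit 2, nat_lit 1])) (.node (nat_lit 3055) (.leaf (nat_lit 1406) (nat_lit 1) [nat_lit 2, nat_lit 0, nat_lit 2, nat_lit 0, nat_lit 2, nat_lit 1, nat_lit 2, nat_lit 0, nat_lit 2, nat_lit 0, nat_lit 2, nat_lit 1, nat_lit 2, nat_lit 0, nat_lit 2, nat_lit 0, nat_lit 2]) (.leaf (nat_lit 1407) (nat_lit 2) [nat_lit 1, nat_lit 2, nat_lit 0, nat_lit 2, nat_lit 0, nat_lit 2, nat_lit 1, nat_lit 2, nat_lit 0, nat_lit 2, nat_lit 0, nat_lit 2, nat_lit 1, nat_lit 2, nat_lit 0, nat_lit 2, nat_lit 0]))) (.node (nat_lit 3058) (.node (nat_lit 3057) (.leaf (nat_lit 1408) (nat_lit 0) [nat_lit 2, nat_lit 1, nat_lit 2, nat_lit 0, nat_lit 2, nat_lit 0, nat_lit 2, nat_lit 1, nat_lit 2, nat_lit 0, nat_lit 2, nat_lit 0, nat_lit 2, nat_lit 1, nat_lit 2, nat_lit 0, nat_lit 2]) (.leaf (nat_lit 1409) (nat_lit 2) [nat_lit 0, nat_lit 2, nat_lit 1, nat_lit 2, nat_lit 0, nat_lit 2, nat_lit 0, nat_lit 2, nat_lit 1, nat_lit 2, nat_lit 0, nat_lit 2, nat_lit 0, nat_lit 2, nat_lit 1, nat_lit 2, nat_lit 0])) (.node (nat_lit 3059) (.leaf (nat_lit 1404) (nat_lit 0) [nat_lit 2, nat_lit 0, nat_lit 2, nat_lit 1, nat_lit 2, nat_lit 0, nat_lit 2, nat_lit 0, nat_lit 2, nat_lit 1, nat_lit 2, nat_lit 0, nat_lit 2, nat_lit 0, nat_lit 2, nat_lit 1, nat_lit 2]) (.node (nat_lit 3060) (.leaf (nat_lit 1405) (nat_lit 2) [nat_lit 0, nat_lit 2, nat_lit 0, nat_lit 2, nat_lit 1, nat_lit 2, nat_lit 0, nat_lit 2, nat_lit 0, nat_lit 2, nat_lit 1, nat_lit 2, nat_lit 0, nat_lit 2, nat_lit 0, nat_lit 2, nat_lit 1]) (.leaf (nat_lit 1515) (nat_lit 2) [nat_lit 1, nat_lit 2, nat_lit 0, nat_lit 3, nat_lit 0, nat_lit 2, nat_lit 1, nat_lit 2, nat_lit 0, nat_lit 3, nat_lit 0, nat_lit 2, nat_lit 1, nat_lit 2, nat_lit 0, nat_lit 3, nat_lit 0]))))) (.node (nat_lit 3066) (.node (nat_lit 3063) (.node (nat_lit 3062) (.leaf (nat_lit 1516) (nat_lit 0) [nat_lit 2, nat_lit 1, nat_lit 2, nat_lit 0, nat_lit 3, nat_lit 0, nat_lit 2, nat_lit 1, nat_lit 2, nat_lit 0, nat_lit 3, nat_lit 0, nat_lit 2, nat_lit 1, nat_lit 2, nat_lit 0, nat_lit 3]) (.leaf (nat_lit 1517) (nat_lit 3) [nat_lit 0, nat_lit 2, nat_lit 1, nat_lit 2, nat_lit 0, nat_lit 3, nat_lit 0, nat_lit 2, nat_lit 1, nat_lit 2, nat_lit 0, nat_lit 3, nat_lit 0, nat_lit 2, nat_lit 1, nat_lit 2, nat_lit 0])) (.node (nat_lit 3064) (.leaf (nat_lit 1512) (nat_lit 0) [nat_lit 3, nat_lit 0, nat_lit 2, nat_lit 1, nat_lit 2, nat_lit 0, nat_lit 3, nat_lit 0, nat_lit 2, nat_lit 1, nat_lit 2, nat_lit 0, nat_lit 3, nat_lit 0, nat_lit 2, nat_lit 1, nat_lit 2]) (.node (nat_lit 3065) (.leaf (nat_lit 1513) (nat_lit 2) [nat_lit 0, nat_lit 3, nat_lit 0, nat_lit 2, nat_lit 1, nat_lit 2, nat_lit 0, nat_lit 3, nat_lit 0, nat_lit 2, nat_lit 1, nat_lit 2, nat_lit 0, nat_lit 3, nat_lit 0, nat_lit 2, nat_lit 1]) (.leaf (nat_lit 1514) (nat_lit 1) [nat_lit 2, nat_lit 0, nat_lit 3, nat_lit 0, nat_lit 2, nat_lit 1, nat_lit 2, nat_lit 0, nat_lit 3, nat_lit 0, nat_lit 2, nat_lit 1, nat_lit 2, nat_lit 0, nat_lit 3, nat_lit 0, nat_lit 2])))) (.node (nat_lit 3068) (.node (nat_lit 3067) (.leaf (nat_lit 1515) (nat_lit 2) [nat_lit 1, nat_lit 2, nat_lit 0, nat_lit 3, nat_lit 0, nat_lit 2, nat_lit 1, nat_lit 2, nat_lit 0, nat_lit 3, nat_lit 0, nat_lit 2, nat_lit 1, nat_lit 2, nat_lit 0, nat_lit 3, nat_lit 0]) (.leaf (nat_lit 1516) (nat_lit 0) [nat_lit 2, nat_lit 1, nat_lit 2, nat_lit 0, nat_lit 3, nat_lit 0, nat_lit 2, nat_lit 1, nat_lit 2, nat_lit 0, nat_lit 3, nat_lit 0, nat_lit 2, nat_lit 1, nat_lit 2, nat_lit 0, nat_lit 3])) (.node (nat_lit 3069) (.leaf (nat_lit 1517) (nat_lit 3) [nat_lit 0, nat_lit 2, nat_lit 1, nat_lit 2, nat_lit 0, nat_lit 3, nat_lit 0, nat_lit 2, nat_lit 1, nat_lit 2, nat_lit 0, nat_lit 3, nat_lit 0, nat_lit 2, nat_lit 1, nat_lit 2, nat_lit 0]) (.node (nat_lit 3070) (.leaf (nat_lit 1512) (nat_lit 0) [nat_lit 3, nat_lit 0, nat_lit 2, nat_lit 1, nat_lit 2, nat_lit 0, nat_lit 3, nat_lit 0, nat_lit 2, nat_lit 1, nat_lit 2, nat_lit 0, nat_lit 3, nat_lit 0, nat_lit 2, nat_lit 1, nat_lit 2]) (.leaf (nat_lit 1513) (nat_lit 2) [nat_lit 0, nat_lit 3, nat_lit 0, nat_lit 2, nat_lit 1, nat_lit 2, nat_lit 0, nat_lit 3, nat_lit 0, nat_lit 2, nat_lit 1, nat_lit 2, nat_lit 0, nat_lit 3, nat_lit 0, nat_lit 2, nat_lit 1])))))) (.node (nat_lit 3080) (.node (nat_lit 3075) (.node (nat_lit 3073) (.node (nat_lit 3072) (.leaf (nat_lit 1514) (nat_lit 1) [nat_lit 2, nat_lit 0, nat_lit 3, nat_lit 0, nat_lit 2, nat_lit 1, nat_lit 2, nat_lit 0, nat_lit 3, nat_lit 0, nat_lit 2, nat_lit 1, nat_lit 2, nat_lit 0, nat_lit 3, nat_lit 0, nat_lit 2]) (.leaf (nat_lit 1515) (nat_lit 2) [nat_lit 1, nat_lit 2, nat_lit 0, nat_lit 3, nat_lit 0, nat_lit 2, nat_lit 1, nat_lit 2, nat_lit 0, nat_lit 3, nat_lit 0, nat_lit 2, nat_lit 1, nat_lit 2, nat_lit 0, nat_lit 3, nat_lit 0])) (.node (nat_lit 3074) (.leaf (nat_lit 1516) (nat_lit 0) [nat_lit 2, nat_lit 1, nat_lit 2, nat_lit 0, nat_lit 3, nat_lit 0, nat_lit 2, nat_lit 1, nat_lit 2, nat_lit 0, nat_lit 3, nat_lit 0, nat_lit 2, nat_lit 1, nat_lit 2, nat_lit 0, nat_lit 3]) (.leaf (nat_lit 1517) (nat_lit 3) [nat_lit 0, nat_lit 2, nat_lit 1, nat_lit 2, nat_lit 0, nat_lit 3, nat_lit 0, nat_lit 2, nat_lit 1, nat_lit 2, nat_lit 0, nat_lit 3, nat_lit 0, nat_lit 2, nat_lit 1, nat_lit 2, nat_lit 0]))) (.node (nat_lit 3077) (.node (nat_lit 3076) (.leaf (nat_lit 1512) (nat_lit 0) [nat_lit 3, nat_lit 0, nat_lit 2, nat_lit 1, nat_lit 2, nat_lit 0, nat_lit 3, nat_lit 0, nat_lit 2, nat_lit 1, nat_lit 2, nat_lit 0, nat_lit 3, nat_lit 0, nat_lit 2, nat_lit 1, nat_lit 2]) (.leaf (nat_lit 1513) (nat_lit 2) [nat_lit 0, nat_lit 3, nat_lit 0, nat_lit 2, nat_lit 1, nat_lit 2, nat_lit 0, nat_lit 3, nat_lit 0, nat_lit 2, nat_lit 1, nat_lit 2, nat_lit 0, nat_lit 3, nat_lit 0, nat_lit 2, nat_lit 1])) (.node (nat_lit 3078) (.leaf (nat_lit 1514) (nat_lit 1) [nat_lit 2, nat_lit 0, nat_lit 3, nat_lit 0, nat_lit 2, nat_lit 1, nat_lit 2, nat_lit 0, nat_lit 3, nat_lit 0, nat_lit 2, nat_lit 1, nat_lit 2, nat_lit 0, nat_lit 3, nat_lit 0, nat_lit 2]) (.node (nat_lit 3079) (.leaf (nat_lit 1514) (nat_lit 1) [nat_lit 2, nat_lit 0, nat_lit 3, nat_lit 0, nat_lit 2, nat_lit 1, nat_lit 2, nat_lit 0, nat_lit 3, nat_lit 0, nat_lit 2, nat_lit 1, nat_lit 2, nat_lit 0, nat_lit 3, nat_lit 0, nat_lit 2]) (.leaf (nat_lit 1515) (nat_lit 2) [nat_lit 1, nat_lit 2, nat_lit 0, nat_lit 3, nat_lit 0, nat_lit 2, nat_lit 1, nat_lit 2, nat_lit 0, nat_lit 3, nat_lit 0, nat_lit 2, nat_lit 1, nat_lit 2, nat_lit 0, nat_lit 3, nat_lit 0]))))) (.node (nat_lit 3085) (.node (nat_lit 3082) (.node (nat_lit 3081) (.leaf (nat_lit 1516) (nat_lit 0) [nat_lit 2, nat_lit 1, nat_lit 2, nat_lit 0, nat_lit 3, nat_lit 0, nat_lit 2, nat_lit 1, nat_lit 2, nat_lit 0, nat_lit 3, nat_lit 0, nat_lit 2, nat_lit 1, nat_lit 2, nat_lit 0, nat_lit 3]) (.leaf (nat_lit 1517) (nat_lit 3) [nat_lit 0, nat_lit 2, nat_lit 1, nat_lit 2, nat_lit 0, nat_lit 3, nat_lit 0, nat_lit 2, nat_lit 1, nat_lit 2, nat_lit 0, nat_lit 3, nat_lit 0, nat_lit 2, nat_lit 1, nat_lit 2, nat_lit 0])) (.node (nat_lit 3083) (.leaf (nat_lit 1512) (nat_lit 0) [nat_lit 3, nat_lit 0, nat_lit 2, nat_lit 1, nat_lit 2, nat_lit 0, nat_lit 3, nat_lit 0, nat_lit 2, nat_lit 1, nat_lit 2, nat_lit 0, nat_lit 3, nat_lit 0, nat_lit 2, nat_lit 1, nat_lit 2]) (.node (nat_lit 3084) (.leaf (nat_lit 1513) (nat_lit 2) [nat_lit 0, nat_lit 3, nat_lit 0, nat_lit 2, nat_lit 1, nat_lit 2, nat_lit 0, nat_lit 3, nat_lit 0, nat_lit 2, nat_lit 1, nat_lit 2, nat_lit 0, nat_lit 3, nat_lit 0, nat_lit 2, nat_lit 1]) (.leaf (nat_lit 1514) (nat_lit 1) [nat_lit 2, nat_lit 0, nat_lit 3, nat_lit 0, nat_lit 2, nat_lit 1, nat_lit 2, nat_lit 0, nat_lit 3, nat_lit 0, nat_lit 2, nat_lit 1, nat_lit 2, nat_lit 0, nat_lit 3, nat_lit 0, nat_lit 2])))) (.node (nat_lit 3087) (.node (nat_lit 3086) (.leaf (nat_lit 1515) (nat_lit 2) [nat_lit 1, nat_lit 2, nat_lit 0, nat_lit 3, nat_lit 0, nat_lit 2, nat_lit 1, nat_lit 2, nat_lit 0, nat_lit 3, nat_lit 0, nat_lit 2, nat_lit 1, nat_lit 2, nat_lit 0, nat_lit 3, nat_lit 0]) (.leaf (nat_lit 1516) (nat_lit 0) [nat_lit 2, nat_lit 1, nat_lit 2, nat_lit 0, nat_lit 3, nat_lit 0, nat_lit 2, nat_lit 1, nat_lit 2, nat_lit 0, nat_lit 3, nat_lit 0, nat_lit 2, nat_lit 1, nat_lit 2, nat_lit 0, nat_lit 3])) (.node (nat_lit 3088) (.leaf (nat_lit 1517) (nat_lit 3) [nat_lit 0, nat_lit 2, nat_lit 1, nat_lit 2, nat_lit 0, nat_lit 3, nat_lit 0, nat_lit 2, nat_lit 1, nat_lit 2, nat_lit 0, nat_lit 3, nat_lit 0, nat_lit 2, nat_lit 1, nat_lit 2, nat_lit 0]) (.node (nat_lit 3089) (.leaf (nat_lit 1512) (nat_lit 0) [nat_lit 3, nat_lit 0, nat_lit 2, nat_lit 1, nat_lit 2, nat_lit 0, nat_lit 3, nat_lit 0, nat_lit 2, nat_lit 1, nat_lit 2, nat_lit 0, nat_lit 3, nat_lit 0, nat_lit 2, nat_lit 1, nat_lit 2]) (.leaf (nat_lit 1513) (nat_lit 2) [nat_lit 0, nat_lit 3, nat_lit 0, nat_lit 2, nat_lit 1, nat_lit 2, nat_lit 0, nat_lit 3, nat_lit 0, nat_lit 2, nat_lit 1, nat_lit 2, nat_lit 0, nat_lit 3, nat_lit 0, nat_lit 2, nat_lit 1])))))))) (.node (nat_lit 3127) (.node (nat_lit 3108) (.node (nat_lit 3099) (.node (nat_lit 3094) (.node (nat_lit 3092) (.node (nat_lit 3091) (.leaf (nat_lit 1514) (nat_lit 1) [nat_lit 2, nat_lit 0, nat_lit 3, nat_lit 0, nat_lit 2, nat_lit 1, nat_lit 2, nat_lit 0, nat_lit 3, nat_lit 0, nat_lit 2, nat_lit 1, nat_lit 2, nat_lit 0, nat_lit 3, nat_lit 0, nat_lit 2]) (.leaf (nat_lit 1515) (nat_lit 2) [nat_lit 1, nat_lit 2, nat_lit 0, nat_lit 3, nat_lit 0, nat_lit 2, nat_lit 1, nat_lit 2, nat_lit 0, nat_lit 3, nat_lit 0, nat_lit 2, nat_lit 1, nat_lit 2, nat_lit 0, nat_lit 3, nat_lit 0])) (.node (nat_lit 3093) (.leaf (nat_lit 1516) (nat_lit 0) [nat_lit 2, nat_lit 1, nat_lit 2, nat_lit 0, nat_lit 3, nat_lit 0, nat_lit 2, nat_lit 1, nat_lit 2, nat_lit 0, nat_lit 3, nat_lit 0, nat_lit 2, nat_lit 1, nat_lit 2, nat_lit 0, nat_lit 3]) (.leaf (nat_lit 1517) (nat_lit 3) [nat_lit 0, nat_lit 2, nat_lit 1, nat_lit 2, nat_lit 0, nat_lit 3, nat_lit 0, nat_lit 2, nat_lit 1, nat_lit 2, nat_lit 0, nat_lit 3, nat_lit 0, nat_lit 2, nat_lit 1, nat_lit 2, nat_lit 0]))) (.node (nat_lit 3096) (.node (nat_lit 3095) (.leaf (nat_lit 1512) (nat_lit 0) [nat_lit 3, nat_lit 0, nat_lit 2, nat_lit 1, nat_lit 2, nat_lit 0, nat_lit 3, nat_lit 0, nat_lit 2, nat_lit 1, nat_lit 2, nat_lit 0, nat_lit 3, nat_lit 0, nat_lit 2, nat_lit 1, nat_lit 2]) (.leaf (nat_lit 1513) (nat_lit 2) [nat_lit 0, nat_lit 3, nat_lit 0, nat_lit 2, nat_lit 1, nat_lit 2, nat_lit 0, nat_lit 3, nat_lit 0, nat_lit 2, nat_lit 1, nat_lit 2, nat_lit 0, nat_lit 3, nat_lit 0, nat_lit 2, nat_lit 1])) (.node (nat_lit 3097) (.leaf (nat_lit 1335) (nat_lit 2) [nat_lit 3, nat_lit 2, nat_lit 0, nat_lit 1, nat_lit 0, nat_lit 2, nat_lit 3, nat_lit 2, nat_lit 0, nat_lit 1, nat_lit 0, nat_lit 2, nat_lit 3, nat_lit 2, nat_lit 0, nat_lit 1, nat_lit 0]) (.node (nat_lit 3098) (.leaf (nat_lit 1336) (nat_lit 0) [nat_lit 2, nat_lit 3, nat_lit 2, nat_lit 0, nat_lit 1, nat_lit 0, nat_lit 2, nat_lit 3, nat_lit 2, nat_lit 0, nat_lit 1, nat_lit 0, nat_lit 2, nat_lit 3, nat_lit 2, nat_lit 0, nat_lit 1]) (.leaf (nat_lit 1337) (nat_lit 1) [nat_lit 0, nat_lit 2, nat_lit 3, nat_lit 2, nat_lit 0, nat_lit 1, nat_lit 0, nat_lit 2, nat_lit 3, nat_lit 2, nat_lit 0, nat_lit 1, nat_lit 0, nat_lit 2, nat_lit 3, nat_lit 2, nat_lit 0]))))) (.node (nat_lit 3103) (.node (nat_lit 3101) (.node (nat_lit 3100) (.leaf (nat_lit 1332) (nat_lit 0) [nat_lit 1, nat_lit 0, nat_lit 2, nat_lit 3, nat_lit 2, nat_lit 0, nat_lit 1, nat_lit 0, nat_lit 2, nat_lit 3, nat_lit 2, nat_lit 0, nat_lit 1, nat_lit 0, nat_lit 2, nat_lit 3, nat_lit 2]) (.leaf (nat_lit 1333) (nat_lit 2) [nat_lit 0, nat_lit 1, nat_lit 0, nat_lit 2, nat_lit 3, nat_lit 2, nat_lit 0, nat_lit 1, nat_lit 0, nat_lit 2, nat_lit 3, nat_lit 2, nat_lit 0, nat_lit 1, nat_lit 0, nat_lit 2, nat_lit 3])) (.node (nat_lit 3102) (.leaf (nat_lit 1334) (nat_lit 3) [nat_lit 2, nat_lit 0, nat_lit 1, nat_lit 0, nat_lit 2, nat_lit 3, nat_lit 2, nat_lit 0, nat_lit 1, nat_lit 0, nat_lit 2, nat_lit 3, nat_lit 2, nat_lit 0, nat_lit 1, nat_lit 0, nat_lit 2]) (.leaf (nat_lit 1335) (nat_lit 2) [nat_lit 3, nat_lit 2, nat_lit 0, nat_lit 1, nat_lit 0, nat_lit 2, nat_lit 3, nat_lit 2, nat_lit 0, nat_lit 1, nat_lit 0, nat_lit 2, nat_lit 3, nat_lit 2, nat_lit 0, nat_lit 1, nat_lit 0]))) (.node (nat_lit 3105) (.node (nat_lit 3104) (.leaf (nat_lit 1336) (nat_lit 0) [nat_lit 2, nat_lit 3, nat_lit 2, nat_lit 0, nat_lit 1, nat_lit 0, nat_lit 2, nat_lit 3, nat_lit 2, nat_lit 0, nat_lit 1, nat_lit 0, nat_lit 2, nat_lit 3, nat_lit 2, nat_lit 0, nat_lit 1]) (.leaf (nat_lit 1337) (nat_lit 1) [nat_lit 0, nat_lit 2, nat_lit 3, nat_lit 2, nat_lit 0, nat_lit 1, nat_lit 0, nat_lit 2, nat_lit 3, nat_lit 2, nat_lit 0, nat_lit 1, nat_lit 0, nat_lit 2, nat_lit 3, nat_lit 2, nat_lit 0])) (.node (nat_lit 3106) (.leaf (nat_lit 1332) (nat_lit 0) [nat_lit 1, nat_lit 0, nat_lit 2, nat_lit 3, nat_lit 2, nat_lit 0, nat_lit 1, nat_lit 0, nat_lit 2, nat_lit 3, nat_lit 2, nat_lit 0, nat_lit 1, nat_lit 0, nat_lit 2, nat_lit 3, nat_lit 2]) (.node (nat_lit 3107) (.leaf (nat_lit 1333) (nat_lit 2) [nat_lit 0, nat_lit 1, nat_lit 0, nat_lit 2, nat_lit 3, nat_lit 2, nat_lit 0, nat_lit 1, nat_lit 0, nat_lit 2, nat_lit 3, nat_lit 2, nat_lit 0, nat_lit 1, nat_lit 0, nat_lit 2, nat_lit 3]) (.leaf (nat_lit 1334) (nat_lit 3) [nat_lit 2, nat_lit 0, nat_lit 1, nat_lit 0, nat_lit 2, nat_lit 3, nat_lit 2, nat_lit 0, nat_lit 1, nat_lit 0, nat_lit 2, nat_lit 3, nat_lit 2, nat_lit 0, nat_lit 1, nat_lit 0, nat_lit 2])))))) (.node (nat_lit 3117) (.node (nat_lit 3112) (.node (nat_lit 3110) (.node (nat_lit 3109) (.leaf (nat_lit 1335) (nat_lit 2) [nat_lit 3, nat_lit 2, nat_lit 0, nat_lit 1, nat_lit 0, nat_lit 2, nat_lit 3, nat_lit 2, nat_lit 0, nat_lit 1, nat_lit 0, nat_lit 2, nat_lit 3, nat_lit 2, nat_lit 0, nat_lit 1, nat_lit 0]) (.leaf (nat_lit 1336) (nat_lit 0) [nat_lit 2, nat_lit 3, nat_lit 2, nat_lit 0, nat_lit 1, nat_lit 0, nat_lit 2, nat_lit 3, nat_lit 2, nat_lit 0, nat_lit 1, nat_lit 0, nat_lit 2, nat_lit 3, nat_lit 2, nat_lit 0, nat_lit 1])) (.node (nat_lit 3111) (.leaf (nat_lit 1337) (nat_lit 1) [nat_lit 0, nat_lit 2, nat_lit 3, nat_lit 2, nat_lit 0, nat_lit 1, nat_lit 0, nat_lit 2, nat_lit 3, nat_lit 2, nat_lit 0, nat_lit 1, nat_lit 0, nat_lit 2, nat_lit 3, nat_lit 2, nat_lit 0]) (.leaf (nat_lit 1332) (nat_lit 0) [nat_lit 1, nat_lit 0, nat_lit 2, nat_lit 3, nat_lit 2, nat_lit 0, nat_lit 1, nat_lit 0, nat_lit 2, nat_lit 3, nat_lit 2, nat_lit 0, nat_lit 1, nat_lit 0, nat_lit 2, nat_lit 3, nat_lit 2]))) (.node (nat_lit 3114) (.node (nat_lit 3113) (.leaf (nat_lit 1333) (nat_lit 2) [nat_lit 0, nat_lit 1, nat_lit 0, nat_lit 2, nat_lit 3, nat_lit 2, nat_lit 0, nat_lit 1, nat_lit 0, nat_lit 2, nat_lit 3, nat_lit 2, nat_lit 0, nat_lit 1, nat_lit 0, nat_lit 2, nat_lit 3]) (.leaf (nat_lit 1334) (nat_lit 3) [nat_lit 2, nat_lit 0, nat_lit 1, nat_lit 0, nat_lit 2, nat_lit 3, nat_lit 2, nat_lit 0, nat_lit 1, nat_lit 0, nat_lit 2, nat_lit 3, nat_lit 2, nat_lit 0, nat_lit 1, nat_lit 0, nat_lit 2])) (.node (nat_lit 3115) (.leaf (nat_lit 1334) (nat_lit 3) [nat_lit 2, nat_lit 0, nat_lit 1, nat_lit 0, nat_lit 2, nat_lit 3, nat_lit 2, nat_lit 0, nat_lit 1, nat_lit 0, nat_lit 2, nat_lit 3, nat_lit 2, nat_lit 0, nat_lit 1, nat_lit 0, nat_lit 2]) (.node (nat_lit 3116) (.leaf (nat_lit 1335) (nat_lit 2) [nat_lit 3, nat_lit 2, nat_lit 0, nat_lit 1, nat_lit 0, nat_lit 2, nat_lit 3, nat_lit 2, nat_lit 0, nat_lit 1, nat_lit 0, nat_lit 2, nat_lit 3, nat_lit 2, nat_lit 0, nat_lit 1, nat_lit 0]) (.leaf (nat_lit 1336) (nat_lit 0) [nat_lit 2, nat_lit 3, nat_lit 2, nat_lit 0, nat_lit 1, nat_lit 0, nat_lit 2, nat_lit 3, nat_lit 2, nat_lit 0, nat_lit 1, nat_lit 0, nat_lit 2, nat_lit 3, nat_lit 2, nat_lit 0, nat_lit 1]))))) (.node (nat_lit 3122) (.node (nat_lit 3119) (.node (nat_lit 3118) (.leaf (nat_lit 1337) (nat_lit 1) [nat_lit 0, nat_lit 2, nat_lit 3, nat_lit 2, nat_lit 0, nat_lit 1, nat_lit 0, nat_lit 2, nat_lit 3, nat_lit 2, nat_lit 0, nat_lit 1, nat_lit 0, nat_lit 2, nat_lit 3, nat_lit 2, nat_lit 0]) (.leaf (nat_lit 1332) (nat_lit 0) [nat_lit 1, nat_lit 0, nat_lit 2, nat_lit 3, nat_lit 2, nat_lit 0, nat_lit 1, nat_lit 0, nat_lit 2, nat_lit 3, nat_lit 2, nat_lit 0, nat_lit 1, nat_lit 0, nat_lit 2, nat_lit 3, nat_lit 2])) (.node (nat_lit 3120) (.leaf (nat_lit 1333) (nat_lit 2) [nat_lit 0, nat_lit 1, nat_lit 0, nat_lit 2, nat_lit 3, nat_lit 2, nat_lit 0, nat_lit 1, nat_lit 0, nat_lit 2, nat_lit 3, nat_lit 2, nat_lit 0, nat_lit 1, nat_lit 0, nat_lit 2, nat_lit 3]) (.node (nat_lit 3121) (.leaf (nat_lit 1334) (nat_lit 3) [nat_lit 2, nat_lit 0, nat_lit 1, nat_lit 0, nat_lit 2, nat_lit 3, nat_lit 2, nat_lit 0, nat_lit 1, nat_lit 0, nat_lit 2, nat_lit 3, nat_lit 2, nat_lit 0, nat_lit 1, nat_lit 0, nat_lit 2]) (.leaf (nat_lit 1335) (nat_lit 2) [nat_lit 3, nat_lit 2, nat_lit 0, nat_lit 1, nat_lit 0, nat_lit 2, nat_lit 3, nat_lit 2, nat_lit 0, nat_lit 1, nat_lit 0, nat_lit 2, nat_lit 3, nat_lit 2, nat_lit 0, nat_lit 1, nat_lit 0])))) (.node (nat_lit 3124) (.node (nat_lit 3123) (.leaf (nat_lit 1336) (nat_lit 0) [nat_lit 2, nat_lit 3, nat_lit 2, nat_lit 0, nat_lit 1, nat_lit 0, nat_lit 2, nat_lit 3, nat_lit 2, nat_lit 0, nat_lit 1, nat_lit 0, nat_lit 2, nat_lit 3, nat_lit 2, nat_lit 0, nat_lit 1]) (.leaf (nat_lit 1337) (nat_lit 1) [nat_lit 0, nat_lit 2, nat_lit 3, nat_lit 2, nat_lit 0, nat_lit 1, nat_lit 0, nat_lit 2, nat_lit 3, nat_lit 2, nat_lit 0, nat_lit 1, nat_lit 0, nat_lit 2, nat_lit 3, nat_lit 2, nat_lit 0])) (.node (nat_lit 3125) (.leaf (nat_lit 1332) (nat_lit 0) [nat_lit 1, nat_lit 0, nat_lit 2, nat_lit 3, nat_lit 2, nat_lit 0, nat_lit 1, nat_lit 0, nat_lit 2, nat_lit 3, nat_lit 2, nat_lit 0, nat_lit 1, nat_lit 0, nat_lit 2, nat_lit 3, nat_lit 2]) (.node (nat_lit 3126) (.leaf (nat_lit 1333) (nat_lit 2) [nat_lit 0, nat_lit 1, nat_lit 0, nat_lit 2, nat_lit 3, nat_lit 2, nat_lit 0, nat_lit 1, nat_lit 0, nat_lit 2, nat_lit 3, nat_lit 2, nat_lit 0, nat_lit 1, nat_lit 0, nat_lit 2, nat_lit 3]) (.leaf (nat_lit 1334) (nat_lit 3) [nat_lit 2, nat_lit 0, nat_lit 1, nat_lit 0, nat_lit 2, nat_lit 3, nat_lit 2, nat_lit 0, nat_lit 1, nat_lit 0, nat_lit 2, nat_lit 3, nat_lit 2, nat_lit 0, nat_lit 1, nat_lit 0, nat_lit 2]))))))) (.node (nat_lit 3146) (.node (nat_lit 3136) (.node (nat_lit 3131) (.node (nat_lit 3129) (.node (nat_lit 3128) (.leaf (nat_lit 1335) (nat_lit 2) [nat_lit 3, nat_lit 2, nat_lit 0, nat_lit 1, nat_lit 0, nat_lit 2, nat_lit 3, nat_lit 2, nat_lit 0, nat_lit 1, nat_lit 0, nat_lit 2, nat_lit 3, nat_lit 2, nat_lit 0, nat_lit 1, nat_lit 0]) (.leaf (nat_lit 1336) (nat_lit 0) [nat_lit 2, nat_lit 3, nat_lit 2, nat_lit 0, nat_lit 1, nat_lit 0, nat_lit 2, nat_lit 3, nat_lit 2, nat_lit 0, nat_lit 1, nat_lit 0, nat_lit 2, nat_lit 3, nat_lit 2, nat_lit 0, nat_lit 1])) (.node (nat_lit 3130) (.leaf (nat_lit 1337) (nat_lit 1) [nat_lit 0, nat_lit 2, nat_lit 3, nat_lit 2, nat_lit 0, nat_lit 1, nat_lit 0, nat_lit 2, nat_lit 3, nat_lit 2, nat_lit 0, nat_lit 1, nat_lit 0, nat_lit 2, nat_lit 3, nat_lit 2, nat_lit 0]) (.leaf (nat_lit 1332) (nat_lit 0) [nat_lit 1, nat_lit 0, nat_lit 2, nat_lit 3, nat_lit 2, nat_lit 0, nat_lit 1, nat_lit 0, nat_lit 2, nat_lit 3, nat_lit 2, nat_lit 0, nat_lit 1, nat_lit 0, nat_lit 2, nat_lit 3, nat_lit 2]))) (.node (nat_lit 3133) (.node (nat_lit 3132) (.leaf (nat_lit 1333) (nat_lit 2) [nat_lit 0, nat_lit 1, nat_lit 0, nat_lit 2, nat_lit 3, nat_lit 2, nat_lit 0, nat_lit 1, nat_lit 0, nat_lit 2, nat_lit 3, nat_lit 2, nat_lit 0, nat_lit 1, nat_lit 0, nat_lit 2, nat_lit 3]) (.leaf (nat_lit 1443) (nat_lit 2) [nat_lit 3, nat_lit 2, nat_lit 0, nat_lit 2, nat_lit 0, nat_lit 2, nat_lit 3, nat_lit 2, nat_lit 0, nat_lit 2, nat_lit 0, nat_lit 2, nat_lit 3, nat_lit 2, nat_lit 0, nat_lit 2, nat_lit 0])) (.node (nat_lit 3134) (.leaf (nat_lit 1444) (nat_lit 0) [nat_lit 2, nat_lit 3, nat_lit 2, nat_lit 0, nat_lit 2, nat_lit 0, nat_lit 2, nat_lit 3, nat_lit 2, nat_lit 0, nat_lit 2, nat_lit 0, nat_lit 2, nat_lit 3, nat_lit 2, nat_lit 0, nat_lit 2]) (.node (nat_lit 3135) (.leaf (nat_lit 1445) (nat_lit 2) [nat_lit 0, nat_lit 2, nat_lit 3, nat_lit 2, nat_lit 0, nat_lit 2, nat_lit 0, nat_lit 2, nat_lit 3, nat_lit 2, nat_lit 0, nat_lit 2, nat_lit 0, nat_lit 2, nat_lit 3, nat_lit 2, nat_lit 0]) (.leaf (nat_lit 1440) (nat_lit 0) [nat_lit 2, nat_lit 0, nat_lit 2, nat_lit 3, nat_lit 2, nat_lit 0, nat_lit 2, nat_lit 0, nat_lit 2, nat_lit 3, nat_lit 2, nat_lit 0, nat_lit 2, nat_lit 0, nat_lit 2, nat_lit 3, nat_lit 2]))))) (.node (nat_lit 3141) (.node (nat_lit 3138) (.node (nat_lit 3137) (.leaf (nat_lit 1441) (nat_lit 2) [nat_lit 0, nat_lit 2, nat_lit 0, nat_lit 2, nat_lit 3, nat_lit 2, nat_lit 0, nat_lit 2, nat_lit 0, nat_lit 2, nat_lit 3, nat_lit 2, nat_lit 0, nat_lit 2, nat_lit 0, nat_lit 2, nat_lit 3]) (.leaf (nat_lit 1442) (nat_lit 3) [nat_lit 2, nat_lit 0, nat_lit 2, nat_lit 0, nat_lit 2, nat_lit 3, nat_lit 2, nat_lit 0, nat_lit 2, nat_lit 0, nat_lit 2, nat_lit 3, nat_lit 2, nat_lit 0, nat_lit 2, nat_lit 0, nat_lit 2])) (.node (nat_lit 3139) (.leaf (nat_lit 1443) (nat_lit 2) [nat_lit 3, nat_lit 2, nat_lit 0, nat_lit 2, nat_lit 0, nat_lit 2, nat_lit 3, nat_lit 2, nat_lit 0, nat_lit 2, nat_lit 0, nat_lit 2, nat_lit 3, nat_lit 2, nat_lit 0, nat_lit 2, nat_lit 0]) (.node (nat_lit 3140) (.leaf (nat_lit 1444) (nat_lit 0) [nat_lit 2, nat_lit 3, nat_lit 2, nat_lit 0, nat_lit 2, nat_lit 0, nat_lit 2, nat_lit 3, nat_lit 2, nat_lit 0, nat_lit 2, nat_lit 0, nat_lit 2, nat_lit 3, nat_lit 2, nat_lit 0, nat_lit 2]) (.leaf (nat_lit 1445) (nat_lit 2) [nat_lit 0, nat_lit 2, nat_lit 3, nat_lit 2, nat_lit 0, nat_lit 2, nat_lit 0, nat_lit 2, nat_lit 3, nat_lit 2, nat_lit 0, nat_lit 2, nat_lit 0, nat_lit 2, nat_lit 3, nat_lit 2, nat_lit 0])))) (.node (nat_lit 3143) (.node (nat_lit 3142) (.leaf (nat_lit 1440) (nat_lit 0) [nat_lit 2, nat_lit 0, nat_lit 2, nat_lit 3, nat_lit 2, nat_lit 0, nat_lit 2, nat_lit 0, nat_lit 2, nat_lit 3, nat_lit 2, nat_lit 0, nat_lit 2, nat_lit 0, nat_lit 2, nat_lit 3, nat_lit 2]) (.leaf (nat_lit 1441) (nat_lit 2) [nat_lit 0, nat_lit 2, nat_lit 0, nat_lit 2, nat_lit 3, nat_lit 2, nat_lit 0, nat_lit 2, nat_lit 0, nat_lit 2, nat_lit 3, nat_lit 2, nat_lit 0, nat_lit 2, nat_lit 0, nat_lit 2, nat_lit 3])) (.node (nat_lit 3144) (.leaf (nat_lit 1442) (nat_lit 3) [nat_lit 2, nat_lit 0, nat_lit 2, nat_lit 0, nat_lit 2, nat_lit 3, nat_lit 2, nat_lit 0, nat_lit 2, nat_lit 0, nat_lit 2, nat_lit 3, nat_lit 2, nat_lit 0, nat_lit 2, nat_lit 0, nat_lit 2]) (.node (nat_lit 3145) (.leaf (nat_lit 1443) (nat_lit 2) [nat_lit 3, nat_lit 2, nat_lit 0, nat_lit 2, nat_lit 0, nat_lit 2, nat_lit 3, nat_lit 2, nat_lit 0, nat_lit 2, nat_lit 0, nat_lit 2, nat_lit 3, nat_lit 2, nat_lit 0, nat_lit 2, nat_lit 0]) (.leaf (nat_lit 1444) (nat_lit 0) [nat_lit 2, nat_lit 3, nat_lit 2, nat_lit 0, nat_lit 2, nat_lit 0, nat_lit 2, nat_lit 3, nat_lit 2, nat_lit 0, nat_lit 2, nat_lit 0, nat_lit 2, nat_lit 3, nat_lit 2, nat_lit 0, nat_lit 2])))))) (.node (nat_lit 3155) (.node (nat_lit 3150) (.node (nat_lit 3148) (.node (nat_lit 3147) (.leaf (nat_lit 1445) (nat_lit 2) [nat_lit 0, nat_lit 2, nat_lit 3, nat_lit 2, nat_lit 0, nat_lit 2, nat_lit 0, nat_lit 2, nat_lit 3, nat_lit 2, nat_lit 0, nat_lit 2, nat_lit 0, nat_lit 2, nat_lit 3, nat_lit 2, nat_lit 0]) (.leaf (nat_lit 1440) (nat_lit 0) [nat_lit 2, nat_lit 0, nat_lit 2, nat_lit 3, nat_lit 2, nat_lit 0, nat_lit 2, nat_lit 0, nat_lit 2, nat_lit 3, nat_lit 2, nat_lit 0, nat_lit 2, nat_lit 0, nat_lit 2, nat_lit 3, nat_lit 2])) (.node (nat_lit 3149) (.leaf (nat_lit 1441) (nat_lit 2) [nat_lit 0, nat_lit 2, nat_lit 0, nat_lit 2, nat_lit 3, nat_lit 2, nat_lit 0, nat_lit 2, nat_lit 0, nat_lit 2, nat_lit 3, nat_lit 2, nat_lit 0, nat_lit 2, nat_lit 0, nat_lit 2, nat_lit 3]) (.leaf (nat_lit 1442) (nat_lit 3) [nat_lit 2, nat_lit 0, nat_lit 2, nat_lit 0, nat_lit 2, nat_lit 3, nat_lit 2, nat_lit 0, nat_lit 2, nat_lit 0, nat_lit 2, nat_lit 3, nat_lit 2, nat_lit 0, nat_lit 2, nat_lit 0, nat_lit 2]))) (.node (nat_lit 3152) (.node (nat_lit 3151) (.leaf (nat_lit 1442) (nat_lit 3) [nat_lit 2, nat_lit 0, nat_lit 2, nat_lit 0, nat_lit 2, nat_lit 3, nat_lit 2, nat_lit 0, nat_lit 2, nat_lit 0, nat_lit 2, nat_lit 3, nat_lit 2, nat_lit 0, nat_lit 2, nat_lit 0, nat_lit 2]) (.leaf (nat_lit 1443) (nat_lit 2) [nat_lit 3, nat_lit 2, nat_lit 0, nat_lit 2, nat_lit 0, nat_lit 2, nat_lit 3, nat_lit 2, nat_lit 0, nat_lit 2, nat_lit 0, nat_lit 2, nat_lit 3, nat_lit 2, nat_lit 0, nat_lit 2, nat_lit 0])) (.node (nat_lit 3153) (.leaf (nat_lit 1444) (nat_lit 0) [nat_lit 2, nat_lit 3, nat_lit 2, nat_lit 0, nat_lit 2, nat_lit 0, nat_lit 2, nat_lit 3, nat_lit 2, nat_lit 0, nat_lit 2, nat_lit 0, nat_lit 2, nat_lit 3, nat_lit 2, nat_lit 0, nat_lit 2]) (.node (nat_lit 3154) (.leaf (nat_lit 1445) (nat_lit 2) [nat_lit 0, nat_lit 2, nat_lit 3, nat_lit 2, nat_lit 0, nat_lit 2, nat_lit 0, nat_lit 2, nat_lit 3, nat_lit 2, nat_lit 0, nat_lit 2, nat_lit 0, nat_lit 2, nat_lit 3, nat_lit 2, nat_lit 0]) (.leaf (nat_lit 1440) (nat_lit 0) [nat_lit 2, nat_lit 0, nat_lit 2, nat_lit 3, nat_lit 2, nat_lit 0, nat_lit 2, nat_lit 0, nat_lit 2, nat_lit 3, nat_lit 2, nat_lit 0, nat_lit 2, nat_lit 0, nat_lit 2, nat_lit 3, nat_lit 2]))))) (.node (nat_lit 3160) (.node (nat_lit 3157) (.node (nat_lit 3156) (.leaf (nat_lit 1441) (nat_lit 2) [nat_lit 0, nat_lit 2, nat_lit 0, nat_lit 2, nat_lit 3, nat_lit 2, nat_lit 0, nat_lit 2, nat_lit 0, nat_lit 2, nat_lit 3, nat_lit 2, nat_lit 0, nat_lit 2, nat_lit 0, nat_lit 2, nat_lit 3]) (.leaf (nat_lit 1442) (nat_lit 3) [nat_lit 2, nat_lit 0, nat_lit 2, nat_lit 0, nat_lit 2, nat_lit 3, nat_lit 2, nat_lit 0, nat_lit 2, nat_lit 0, nat_lit 2, nat_lit 3, nat_lit 2, nat_lit 0, nat_lit 2, nat_lit 0, nat_lit 2])) (.node (nat_lit 3158) (.leaf (nat_lit 1443) (nat_lit 2) [nat_lit 3, nat_lit 2, nat_lit 0, nat_lit 2, nat_lit 0, nat_lit 2, nat_lit 3, nat_lit 2, nat_lit 0, nat_lit 2, nat_lit 0, nat_lit 2, nat_lit 3, nat_lit 2, nat_lit 0, nat_lit 2, nat_lit 0]) (.node (nat_lit 3159) (.leaf (nat_lit 1444) (nat_lit 0) [nat_lit 2, nat_lit 3, nat_lit 2, nat_lit 0, nat_lit 2, nat_lit 0, nat_lit 2, nat_lit 3, nat_lit 2, nat_lit 0, nat_lit 2, nat_lit 0, nat_lit 2, nat_lit 3, nat_lit 2, nat_lit 0, nat_lit 2]) (.leaf (nat_lit 1445) (nat_lit 2) [nat_lit 0, nat_lit 2, nat_lit 3, nat_lit 2, nat_lit 0, nat_lit 2, nat_lit 0, nat_lit 2, nat_lit 3, nat_lit 2, nat_lit 0, nat_lit 2, nat_lit 0, nat_lit 2, nat_lit 3, nat_lit 2, nat_lit 0])))) (.node (nat_lit 3162) (.node (nat_lit 3161) (.leaf (nat_lit 1440) (nat_lit 0) [nat_lit 2, nat_lit 0, nat_lit 2, nat_lit 3, nat_lit 2, nat_lit 0, nat_lit 2, nat_lit 0, nat_lit 2, nat_lit 3, nat_lit 2, nat_lit 0, nat_lit 2, nat_lit 0, nat_lit 2, nat_lit 3, nat_lit 2]) (.leaf (nat_lit 1441) (nat_lit 2) [nat_lit 0, nat_lit 2, nat_lit 0, nat_lit 2, nat_lit 3, nat_lit 2, nat_lit 0, nat_lit 2, nat_lit 0, nat_lit 2, nat_lit 3, nat_lit 2, nat_lit 0, nat_lit 2, nat_lit 0, nat_lit 2, nat_lit 3])) (.node (nat_lit 3163) (.leaf (nat_lit 1442) (nat_lit 3) [nat_lit 2, nat_lit 0, nat_lit 2, nat_lit 0, nat_lit 2, nat_lit 3, nat_lit 2, nat_lit 0, nat_lit 2, nat_lit 0, nat_lit 2, nat_lit 3, nat_lit 2, nat_lit 0, nat_lit 2, nat_lit 0, nat_lit 2]) (.node (nat_lit 3164) (.leaf (nat_lit 1443) (nat_lit 2) [nat_lit 3, nat_lit 2, nat_lit 0, nat_lit 2, nat_lit 0, nat_lit 2, nat_lit 3, nat_lit 2, nat_lit 0, nat_lit 2, nat_lit 0, nat_lit 2, nat_lit 3, nat_lit 2, nat_lit 0, nat_lit 2, nat_lit 0]) (.leaf (nat_lit 1444) (nat_lit 0) [nat_lit 2, nat_lit 3, nat_lit 2, nat_lit 0, nat_lit 2, nat_lit 0, nat_lit 2, nat_lit 3, nat_lit 2, nat_lit 0, nat_lit 2, nat_lit 0, nat_lit 2, nat_lit 3, nat_lit 2, nat_lit 0, nat_lit 2]))))))))) (.node (nat_lit 3240) (.node (nat_lit 3202) (.node (nat_lit 3183) (.node (nat_lit 3174) (.node (nat_lit 3169) (.node (nat_lit 3167) (.node (nat_lit 3166) (.leaf (nat_lit 1445) (nat_lit 2) [nat_lit 0, nat_lit 2, nat_lit 3, nat_lit 2, nat_lit 0, nat_lit 2, nat_lit 0, nat_lit 2, nat_lit 3, nat_lit 2, nat_lit 0, nat_lit 2, nat_lit 0, nat_lit 2, nat_lit 3, nat_lit 2, nat_lit 0]) (.leaf (nat_lit 1440) (nat_lit 0) [nat_lit 2, nat_lit 0, nat_lit 2, nat_lit 3, nat_lit 2, nat_lit 0, nat_lit 2, nat_lit 0, nat_lit 2, nat_lit 3, nat_lit 2, nat_lit 0, nat_lit 2, nat_lit 0, nat_lit 2, nat_lit 3, nat_lit 2])) (.node (nat_lit 3168) (.leaf (nat_lit 1441) (nat_lit 2) [nat_lit 0, nat_lit 2, nat_lit 0, nat_lit 2, nat_lit 3, nat_lit 2, nat_lit 0, nat_lit 2, nat_lit 0, nat_lit 2, nat_lit 3, nat_lit 2, nat_lit 0, nat_lit 2, nat_lit 0, nat_lit 2, nat_lit 3]) (.leaf (nat_lit 1551) (nat_lit 2) [nat_lit 3, nat_lit 2, nat_lit 0, nat_lit 3, nat_lit 0, nat_lit 2, nat_lit 3, nat_lit 2, nat_lit 0, nat_lit 3, nat_lit 0, nat_lit 2, nat_lit 3, nat_lit 2, nat_lit 0, nat_lit 3, nat_lit 0]))) (.node (nat_lit 3171) (.node (nat_lit 3170) (.leaf (nat_lit 1552) (nat_lit 0) [nat_lit 2, nat_lit 3, nat_lit 2, nat_lit 0, nat_lit 3, nat_lit 0, nat_lit 2, nat_lit 3, nat_lit 2, nat_lit 0, nat_lit 3, nat_lit 0, nat_lit 2, nat_lit 3, nat_lit 2, nat_lit 0, nat_lit 3]) (.leaf (nat_lit 1553) (nat_lit 3) [nat_lit 0, nat_lit 2, nat_lit 3, nat_lit 2, nat_lit 0, nat_lit 3, nat_lit 0, nat_lit 2, nat_lit 3, nat_lit 2, nat_lit 0, nat_lit 3, nat_lit 0, nat_lit 2, nat_lit 3, nat_lit 2, nat_lit 0])) (.node (nat_lit 3172) (.leaf (nat_lit 1548) (nat_lit 0) [nat_lit 3, nat_lit 0, nat_lit 2, nat_lit 3, nat_lit 2, nat_lit 0, nat_lit 3, nat_lit 0, nat_lit 2, nat_lit 3, nat_lit 2, nat_lit 0, nat_lit 3, nat_lit 0, nat_lit 2, nat_lit 3, nat_lit 2]) (.node (nat_lit 3173) (.leaf (nat_lit 1549) (nat_lit 2) [nat_lit 0, nat_lit 3, nat_lit 0, nat_lit 2, nat_lit 3, nat_lit 2, nat_lit 0, nat_lit 3, nat_lit 0, nat_lit 2, nat_lit 3, nat_lit 2, nat_lit 0, nat_lit 3, nat_lit 0, nat_lit 2, nat_lit 3]) (.leaf (nat_lit 1550) (nat_lit 3) [nat_lit 2, nat_lit 0, nat_lit 3, nat_lit 0, nat_lit 2, nat_lit 3, nat_lit 2, nat_lit 0, nat_lit 3, nat_lit 0, nat_lit 2, nat_lit 3, nat_lit 2, nat_lit 0, nat_lit 3, nat_lit 0, nat_lit 2]))))) (.node (nat_lit 3178) (.node (nat_lit 3176) (.node (nat_lit 3175) (.leaf (nat_lit 1551) (nat_lit 2) [nat_lit 3, nat_lit 2, nat_lit 0, nat_lit 3, nat_lit 0, nat_lit 2, nat_lit 3, nat_lit 2, nat_lit 0, nat_lit 3, nat_lit 0, nat_lit 2, nat_lit 3, nat_lit 2, nat_lit 0, nat_lit 3, nat_lit 0]) (.leaf (nat_lit 1552) (nat_lit 0) [nat_lit 2, nat_lit 3, nat_lit 2, nat_lit 0, nat_lit 3, nat_lit 0, nat_lit 2, nat_lit 3, nat_lit 2, nat_lit 0, nat_lit 3, nat_lit 0, nat_lit 2, nat_lit 3, nat_lit 2, nat_lit 0, nat_lit 3])) (.node (nat_lit 3177) (.leaf (nat_lit 1553) (nat_lit 3) [nat_lit 0, nat_lit 2, nat_lit 3, nat_lit 2, nat_lit 0, nat_lit 3, nat_lit 0, nat_lit 2, nat_lit 3, nat_lit 2, nat_lit 0, nat_lit 3, nat_lit 0, nat_lit 2, nat_lit 3, nat_lit 2, nat_lit 0]) (.leaf (nat_lit 1548) (nat_lit 0) [nat_lit 3, nat_lit 0, nat_lit 2, nat_lit 3, nat_lit 2, nat_lit 0, nat_lit 3, nat_lit 0, nat_lit 2, nat_lit 3, nat_lit 2, nat_lit 0, nat_lit 3, nat_lit 0, nat_lit 2, nat_lit 3, nat_lit 2]))) (.node (nat_lit 3180) (.node (nat_lit 3179) (.leaf (nat_lit 1549) (nat_lit 2) [nat_lit 0, nat_lit 3, nat_lit 0, nat_lit 2, nat_lit 3, nat_lit 2, nat_lit 0, nat_lit 3, nat_lit 0, nat_lit 2, nat_lit 3, nat_lit 2, nat_lit 0, nat_lit 3, nat_lit 0, nat_lit 2, nat_lit 3]) (.leaf (nat_lit 1550) (nat_lit 3) [nat_lit 2, nat_lit 0, nat_lit 3, nat_lit 0, nat_lit 2, nat_lit 3, nat_lit 2, nat_lit 0, nat_lit 3, nat_lit 0, nat_lit 2, nat_lit 3, nat_lit 2, nat_lit 0, nat_lit 3, nat_lit 0, nat_lit 2])) (.node (nat_lit 3181) (.leaf (nat_lit 1551) (nat_lit 2) [nat_lit 3, nat_lit 2, nat_lit 0, nat_lit 3, nat_lit 0, nat_lit 2, nat_lit 3, nat_lit 2, nat_lit 0, nat_lit 3, nat_lit 0, nat_lit 2, nat_lit 3, nat_lit 2, nat_lit 0, nat_lit 3, nat_lit 0]) (.node (nat_lit 3182) (.leaf (nat_lit 1552) (nat_lit 0) [nat_lit 2, nat_lit 3, nat_lit 2, nat_lit 0, nat_lit 3, nat_lit 0, nat_lit 2, nat_lit 3, nat_lit 2, nat_lit 0, nat_lit 3, nat_lit 0, nat_lit 2, nat_lit 3, nat_lit 2, nat_lit 0, nat_lit 3]) (.leaf (nat_lit 1553) (nat_lit 3) [nat_lit 0, nat_lit 2, nat_lit 3, nat_lit 2, nat_lit 0, nat_lit 3, nat_lit 0, nat_lit 2, nat_lit 3, nat_lit 2, nat_lit 0, nat_lit 3, nat_lit 0, nat_lit 2, nat_lit 3, nat_lit 2, nat_lit 0])))))) (.node (nat_lit 3192) (.node (nat_lit 3187) (.node (nat_lit 3185) (.node (nat_lit 3184) (.leaf (nat_lit 1548) (nat_lit 0) [nat_lit 3, nat_lit 0, nat_lit 2, nat_lit 3, nat_lit 2, nat_lit 0, nat_lit 3, nat_lit 0, nat_lit 2, nat_lit 3, nat_lit 2, nat_lit 0, nat_lit 3, nat_lit 0, nat_lit 2, nat_lit 3, nat_lit 2]) (.leaf (nat_lit 1549) (nat_lit 2) [nat_lit 0, nat_lit 3, nat_lit 0, nat_lit 2, nat_lit 3, nat_lit 2, nat_lit 0, nat_lit 3, nat_lit 0, nat_lit 2, nat_lit 3, nat_lit 2, nat_lit 0, nat_lit 3, nat_lit 0, nat_lit 2, nat_lit 3])) (.node (nat_lit 3186) (.leaf (nat_lit 1550) (nat_lit 3) [nat_lit 2, nat_lit 0, nat_lit 3, nat_lit 0, nat_lit 2, nat_lit 3, nat_lit 2, nat_lit 0, nat_lit 3, nat_lit 0, nat_lit 2, nat_lit 3, nat_lit 2, nat_lit 0, nat_lit 3, nat_lit 0, nat_lit 2]) (.leaf (nat_lit 1550) (nat_lit 3) [nat_lit 2, nat_lit 0, nat_lit 3, nat_lit 0, nat_lit 2, nat_lit 3, nat_lit 2, nat_lit 0, nat_lit 3, nat_lit 0, nat_lit 2, nat_lit 3, nat_lit 2, nat_lit 0, nat_lit 3, nat_lit 0, nat_lit 2]))) (.node (nat_lit 3189) (.node (nat_lit 3188) (.leaf (nat_lit 1551) (nat_lit 2) [nat_lit 3, nat_lit 2, nat_lit 0, nat_lit 3, nat_lit 0, nat_lit 2, nat_lit 3, nat_lit 2, nat_lit 0, nat_lit 3, nat_lit 0, nat_lit 2, nat_lit 3, nat_lit 2, nat_lit 0, nat_lit 3, nat_lit 0]) (.leaf (nat_lit 1552) (nat_lit 0) [nat_lit 2, nat_lit 3, nat_lit 2, nat_lit 0, nat_lit 3, nat_lit 0, nat_lit 2, nat_lit 3, nat_lit 2, nat_lit 0, nat_lit 3, nat_lit 0, nat_lit 2, nat_lit 3, nat_lit 2, nat_lit 0, nat_lit 3])) (.node (nat_lit 3190) (.leaf (nat_lit 1553) (nat_lit 3) [nat_lit 0, nat_lit 2, nat_lit 3, nat_lit 2, nat_lit 0, nat_lit 3, nat_lit 0, nat_lit 2, nat_lit 3, nat_lit 2, nat_lit 0, nat_lit 3, nat_lit 0, nat_lit 2, nat_lit 3, nat_lit 2, nat_lit 0]) (.node (nat_lit 3191) (.leaf (nat_lit 1548) (nat_lit 0) [nat_lit 3, nat_lit 0, nat_lit 2, nat_lit 3, nat_lit 2, nat_lit 0, nat_lit 3, nat_lit 0, nat_lit 2, nat_lit 3, nat_lit 2, nat_lit 0, nat_lit 3, nat_lit 0, nat_lit 2, nat_lit 3, nat_lit 2]) (.leaf (nat_lit 1549) (nat_lit 2) [nat_lit 0, nat_lit 3, nat_lit 0, nat_lit 2, nat_lit 3, nat_lit 2, nat_lit 0, nat_lit 3, nat_lit 0, nat_lit 2, nat_lit 3, nat_lit 2, nat_lit 0, nat_lit 3, nat_lit 0, nat_lit 2, nat_lit 3]))))) (.node (nat_lit 3197) (.node (nat_lit 3194) (.node (nat_lit 3193) (.leaf (nat_lit 1550) (nat_lit 3) [nat_lit 2, nat_lit 0, nat_lit 3, nat_lit 0, nat_lit 2, nat_lit 3, nat_lit 2, nat_lit 0, nat_lit 3, nat_lit 0, nat_lit 2, nat_lit 3, nat_lit 2, nat_lit 0, nat_lit 3, nat_lit 0, nat_lit 2]) (.leaf (nat_lit 1551) (nat_lit 2) [nat_lit 3, nat_lit 2, nat_lit 0, nat_lit 3, nat_lit 0, nat_lit 2, nat_lit 3, nat_lit 2, nat_lit 0, nat_lit 3, nat_lit 0, nat_lit 2, nat_lit 3, nat_lit 2, nat_lit 0, nat_lit 3, nat_lit 0])) (.node (nat_lit 3195) (.leaf (nat_lit 1552) (nat_lit 0) [nat_lit 2, nat_lit 3, nat_lit 2, nat_lit 0, nat_lit 3, nat_lit 0, nat_lit 2, nat_lit 3, nat_lit 2, nat_lit 0, nat_lit 3, nat_lit 0, nat_lit 2, nat_lit 3, nat_lit 2, nat_lit 0, nat_lit 3]) (.node (nat_lit 3196) (.leaf (nat_lit 1553) (nat_lit 3) [nat_lit 0, nat_lit 2, nat_lit 3, nat_lit 2, nat_lit 0, nat_lit 3, nat_lit 0, nat_lit 2, nat_lit 3, nat_lit 2, nat_lit 0, nat_lit 3, nat_lit 0, nat_lit 2, nat_lit 3, nat_lit 2, nat_lit 0]) (.leaf (nat_lit 1548) (nat_lit 0) [nat_lit 3, nat_lit 0, nat_lit 2, nat_lit 3, nat_lit 2, nat_lit 0, nat_lit 3, nat_lit 0, nat_lit 2, nat_lit 3, nat_lit 2, nat_lit 0, nat_lit 3, nat_lit 0, nat_lit 2, nat_lit 3, nat_lit 2])))) (.node (nat_lit 3199) (.node (nat_lit 3198) (.leaf (nat_lit 1549) (nat_lit 2) [nat_lit 0, nat_lit 3, nat_lit 0, nat_lit 2, nat_lit 3, nat_lit 2, nat_lit 0, nat_lit 3, nat_lit 0, nat_lit 2, nat_lit 3, nat_lit 2, nat_lit 0, nat_lit 3, nat_lit 0, nat_lit 2, nat_lit 3]) (.leaf (nat_lit 1550) (nat_lit 3) [nat_lit 2, nat_lit 0, nat_lit 3, nat_lit 0, nat_lit 2, nat_lit 3, nat_lit 2, nat_lit 0, nat_lit 3, nat_lit 0, nat_lit 2, nat_lit 3, nat_lit 2, nat_lit 0, nat_lit 3, nat_lit 0, nat_lit 2])) (.node (nat_lit 3200) (.leaf (nat_lit 1551) (nat_lit 2) [nat_lit 3, nat_lit 2, nat_lit 0, nat_lit 3, nat_lit 0, nat_lit 2, nat_lit 3, nat_lit 2, nat_lit 0, nat_lit 3, nat_lit 0, nat_lit 2, nat_lit 3, nat_lit 2, nat_lit 0, nat_lit 3, nat_lit 0]) (.node (nat_lit 3201) (.leaf (nat_lit 1552) (nat_lit 0) [nat_lit 2, nat_lit 3, nat_lit 2, nat_lit 0, nat_lit 3, nat_lit 0, nat_lit 2, nat_lit 3, nat_lit 2, nat_lit 0, nat_lit 3, nat_lit 0, nat_lit 2, nat_lit 3, nat_lit 2, nat_lit 0, nat_lit 3]) (.leaf (nat_lit 1553) (nat_lit 3) [nat_lit 0, nat_lit 2, nat_lit 3, nat_lit 2, nat_lit 0, nat_lit 3, nat_lit 0, nat_lit 2, nat_lit 3, nat_lit 2, nat_lit 0, nat_lit 3, nat_lit 0, nat_lit 2, nat_lit 3, nat_lit 2, nat_lit 0]))))))) (.node (nat_lit 3221) (.node (nat_lit 3211) (.node (nat_lit 3206) (.node (nat_lit 3204) (.node (nat_lit 3203) (.leaf (nat_lit 1548) (nat_lit 0) [nat_lit 3, nat_lit 0, nat_lit 2, nat_lit 3, nat_lit 2, nat_lit 0, nat_lit 3, nat_lit 0, nat_lit 2, nat_lit 3, nat_lit 2, nat_lit 0, nat_lit 3, nat_lit 0, nat_lit 2, nat_lit 3, nat_lit 2]) (.leaf (nat_lit 1549) (nat_lit 2) [nat_lit 0, nat_lit 3, nat_lit 0, nat_lit 2, nat_lit 3, nat_lit 2, nat_lit 0, nat_lit 3, nat_lit 0, nat_lit 2, nat_lit 3, nat_lit 2, nat_lit 0, nat_lit 3, nat_lit 0, nat_lit 2, nat_lit 3])) (.node (nat_lit 3205) (.leaf (nat_lit 2235) (nat_lit 2) [nat_lit 0, nat_lit 2, nat_lit 1, nat_lit 0, nat_lit 1, nat_lit 2, nat_lit 0, nat_lit 2, nat_lit 1, nat_lit 0, nat_lit 1, nat_lit 2, nat_lit 0, nat_lit 2, nat_lit 1, nat_lit 0, nat_lit 1]) (.leaf (nat_lit 2236) (nat_lit 1) [nat_lit 2, nat_lit 0, nat_lit 2, nat_lit 1, nat_lit 0, nat_lit 1, nat_lit 2, nat_lit 0, nat_lit 2, nat_lit 1, nat_lit 0, nat_lit 1, nat_lit 2, nat_lit 0, nat_lit 2, nat_lit 1, nat_lit 0]))) (.node (nat_lit 3208) (.node (nat_lit 3207) (.leaf (nat_lit 2237) (nat_lit 0) [nat_lit 1, nat_lit 2, nat_lit 0, nat_lit 2, nat_lit 1, nat_lit 0, nat_lit 1, nat_lit 2, nat_lit 0, nat_lit 2, nat_lit 1, nat_lit 0, nat_lit 1, nat_lit 2, nat_lit 0, nat_lit 2, nat_lit 1]) (.leaf (nat_lit 2232) (nat_lit 1) [nat_lit 0, nat_lit 1, nat_lit 2, nat_lit 0, nat_lit 2, nat_lit 1, nat_lit 0, nat_lit 1, nat_lit 2, nat_lit 0, nat_lit 2, nat_lit 1, nat_lit 0, nat_lit 1, nat_lit 2, nat_lit 0, nat_lit 2])) (.node (nat_lit 3209) (.leaf (nat_lit 2233) (nat_lit 2) [nat_lit 1, nat_lit 0, nat_lit 1, nat_lit 2, nat_lit 0, nat_lit 2, nat_lit 1, nat_lit 0, nat_lit 1, nat_lit 2, nat_lit 0, nat_lit 2, nat_lit 1, nat_lit 0, nat_lit 1, nat_lit 2, nat_lit 0]) (.node (nat_lit 3210) (.leaf (nat_lit 2234) (nat_lit 0) [nat_lit 2, nat_lit 1, nat_lit 0, nat_lit 1, nat_lit 2, nat_lit 0, nat_lit 2, nat_lit 1, nat_lit 0, nat_lit 1, nat_lit 2, nat_lit 0, nat_lit 2, nat_lit 1, nat_lit 0, nat_lit 1, nat_lit 2]) (.leaf (nat_lit 2235) (nat_lit 2) [nat_lit 0, nat_lit 2, nat_lit 1, nat_lit 0, nat_lit 1, nat_lit 2, nat_lit 0, nat_lit 2, nat_lit 1, nat_lit 0, nat_lit 1, nat_lit 2, nat_lit 0, nat_lit 2, nat_lit 1, nat_lit 0, nat_lit 1]))))) (.node (nat_lit 3216) (.node (nat_lit 3213) (.node (nat_lit 3212) (.leaf (nat_lit 2236) (nat_lit 1) [nat_lit 2, nat_lit 0, nat_lit 2, nat_lit 1, nat_lit 0, nat_lit 1, nat_lit 2, nat_lit 0, nat_lit 2, nat_lit 1, nat_lit 0, nat_lit 1, nat_lit 2, nat_lit 0, nat_lit 2, nat_lit 1, nat_lit 0]) (.leaf (nat_lit 2237) (nat_lit 0) [nat_lit 1, nat_lit 2, nat_lit 0, nat_lit 2, nat_lit 1, nat_lit 0, nat_lit 1, nat_lit 2, nat_lit 0, nat_lit 2, nat_lit 1, nat_lit 0, nat_lit 1, nat_lit 2, nat_lit 0, nat_lit 2, nat_lit 1])) (.node (nat_lit 3214) (.leaf (nat_lit 2232) (nat_lit 1) [nat_lit 0, nat_lit 1, nat_lit 2, nat_lit 0, nat_lit 2, nat_lit 1, nat_lit 0, nat_lit 1, nat_lit 2, nat_lit 0, nat_lit 2, nat_lit 1, nat_lit 0, nat_lit 1, nat_lit 2, nat_lit 0, nat_lit 2]) (.node (nat_lit 3215) (.leaf (nat_lit 2233) (nat_lit 2) [nat_lit 1, nat_lit 0, nat_lit 1, nat_lit 2, nat_lit 0, nat_lit 2, nat_lit 1, nat_lit 0, nat_lit 1, nat_lit 2, nat_lit 0, nat_lit 2, nat_lit 1, nat_lit 0, nat_lit 1, nat_lit 2, nat_lit 0]) (.leaf (nat_lit 2234) (nat_lit 0) [nat_lit 2, nat_lit 1, nat_lit 0, nat_lit 1, nat_lit 2, nat_lit 0, nat_lit 2, nat_lit 1, nat_lit 0, nat_lit 1, nat_lit 2, nat_lit 0, nat_lit 2, nat_lit 1, nat_lit 0, nat_lit 1, nat_lit 2])))) (.node (nat_lit 3218) (.node (nat_lit 3217) (.leaf (nat_lit 2235) (nat_lit 2) [nat_lit 0, nat_lit 2, nat_lit 1, nat_lit 0, nat_lit 1, nat_lit 2, nat_lit 0, nat_lit 2, nat_lit 1, nat_lit 0, nat_lit 1, nat_lit 2, nat_lit 0, nat_lit 2, nat_lit 1, nat_lit 0, nat_lit 1]) (.leaf (nat_lit 2236) (nat_lit 1) [nat_lit 2, nat_lit 0, nat_lit 2, nat_lit 1, nat_lit 0, nat_lit 1, nat_lit 2, nat_lit 0, nat_lit 2, nat_lit 1, nat_lit 0, nat_lit 1, nat_lit 2, nat_lit 0, nat_lit 2, nat_lit 1, nat_lit 0])) (.node (nat_lit 3219) (.leaf (nat_lit 2237) (nat_lit 0) [nat_lit 1, nat_lit 2, nat_lit 0, nat_lit 2, nat_lit 1, nat_lit 0, nat_lit 1, nat_lit 2, nat_lit 0, nat_lit 2, nat_lit 1, nat_lit 0, nat_lit 1, nat_lit 2, nat_lit 0, nat_lit 2, nat_lit 1]) (.node (nat_lit 3220) (.leaf (nat_lit 2232) (nat_lit 1) [nat_lit 0, nat_lit 1, nat_lit 2, nat_lit 0, nat_lit 2, nat_lit 1, nat_lit 0, nat_lit 1, nat_lit 2, nat_lit 0, nat_lit 2, nat_lit 1, nat_lit 0, nat_lit 1, nat_lit 2, nat_lit 0, nat_lit 2]) (.leaf (nat_lit 2233) (nat_lit 2) [nat_lit 1, nat_lit 0, nat_lit 1, nat_lit 2, nat_lit 0, nat_lit 2, nat_lit 1, nat_lit 0, nat_lit 1, nat_lit 2, nat_lit 0, nat_lit 2, nat_lit 1, nat_lit 0, nat_lit 1, nat_lit 2, nat_lit 0])))))) (.node (nat_lit 3230) (.node (nat_lit 3225) (.node (nat_lit 3223) (.node (nat_lit 3222) (.leaf (nat_lit 2234) (nat_lit 0) [nat_lit 2, nat_lit 1, nat_lit 0, nat_lit 1, nat_lit 2, nat_lit 0, nat_lit 2, nat_lit 1, nat_lit 0, nat_lit 1, nat_lit 2, nat_lit 0, nat_lit 2, nat_lit 1, nat_lit 0, nat_lit 1, nat_lit 2]) (.leaf (nat_lit 2234) (nat_lit 0) [nat_lit 2, nat_lit 1, nat_lit 0, nat_lit 1, nat_lit 2, nat_lit 0, nat_lit 2, nat_lit 1, nat_lit 0, nat_lit 1, nat_lit 2, nat_lit 0, nat_lit 2, nat_lit 1, nat_lit 0, nat_lit 1, nat_lit 2])) (.node (nat_lit 3224) (.leaf (nat_lit 2235) (nat_lit 2) [nat_lit 0, nat_lit 2, nat_lit 1, nat_lit 0, nat_lit 1, nat_lit 2, nat_lit 0, nat_lit 2, nat_lit 1, nat_lit 0, nat_lit 1, nat_lit 2, nat_lit 0, nat_lit 2, nat_lit 1, nat_lit 0, nat_lit 1]) (.leaf (nat_lit 2236) (nat_lit 1) [nat_lit 2, nat_lit 0, nat_lit 2, nat_lit 1, nat_lit 0, nat_lit 1, nat_lit 2, nat_lit 0, nat_lit 2, nat_lit 1, nat_lit 0, nat_lit 1, nat_lit 2, nat_lit 0, nat_lit 2, nat_lit 1, nat_lit 0]))) (.node (nat_lit 3227) (.node (nat_lit 3226) (.leaf (nat_lit 2237) (nat_lit 0) [nat_lit 1, nat_lit 2, nat_lit 0, nat_lit 2, nat_lit 1, nat_lit 0, nat_lit 1, nat_lit 2, nat_lit 0, nat_lit 2, nat_lit 1, nat_lit 0, nat_lit 1, nat_lit 2, nat_lit 0, nat_lit 2, nat_lit 1]) (.leaf (nat_lit 2232) (nat_lit 1) [nat_lit 0, nat_lit 1, nat_lit 2, nat_lit 0, nat_lit 2, nat_lit 1, nat_lit 0, nat_lit 1, nat_lit 2, nat_lit 0, nat_lit 2, nat_lit 1, nat_lit 0, nat_lit 1, nat_lit 2, nat_lit 0, nat_lit 2])) (.node (nat_lit 3228) (.leaf (nat_lit 2233) (nat_lit 2) [nat_lit 1, nat_lit 0, nat_lit 1, nat_lit 2, nat_lit 0, nat_lit 2, nat_lit 1, nat_lit 0, nat_lit 1, nat_lit 2, nat_lit 0, nat_lit 2, nat_lit 1, nat_lit 0, nat_lit 1, nat_lit 2, nat_lit 0]) (.node (nat_lit 3229) (.leaf (nat_lit 2234) (nat_lit 0) [nat_lit 2, nat_lit 1, nat_lit 0, nat_lit 1, nat_lit 2, nat_lit 0, nat_lit 2, nat_lit 1, nat_lit 0, nat_lit 1, nat_lit 2, nat_lit 0, nat_lit 2, nat_lit 1, nat_lit 0, nat_lit 1, nat_lit 2]) (.leaf (nat_lit 2235) (nat_lit 2) [nat_lit 0, nat_lit 2, nat_lit 1, nat_lit 0, nat_lit 1, nat_lit 2, nat_lit 0, nat_lit 2, nat_lit 1, nat_lit 0, nat_lit 1, nat_lit 2, nat_lit 0, nat_lit 2, nat_lit 1, nat_lit 0, nat_lit 1]))))) (.node (nat_lit 3235) (.node (nat_lit 3232) (.node (nat_lit 3231) (.leaf (nat_lit 2236) (nat_lit 1) [nat_lit 2, nat_lit 0, nat_lit 2, nat_lit 1, nat_lit 0, nat_lit 1, nat_lit 2, nat_lit 0, nat_lit 2, nat_lit 1, nat_lit 0, nat_lit 1, nat_lit 2, nat_lit 0, nat_lit 2, nat_lit 1, nat_lit 0]) (.leaf (nat_lit 2237) (nat_lit 0) [nat_lit 1, nat_lit 2, nat_lit 0, nat_lit 2, nat_lit 1, nat_lit 0, nat_lit 1, nat_lit 2, nat_lit 0, nat_lit 2, nat_lit 1, nat_lit 0, nat_lit 1, nat_lit 2, nat_lit 0, nat_lit 2, nat_lit 1])) (.node (nat_lit 3233) (.leaf (nat_lit 2232) (nat_lit 1) [nat_lit 0, nat_lit 1, nat_lit 2, nat_lit 0, nat_lit 2, nat_lit 1, nat_lit 0, nat_lit 1, nat_lit 2, nat_lit 0, nat_lit 2, nat_lit 1, nat_lit 0, nat_lit 1, nat_lit 2, nat_lit 0, nat_lit 2]) (.node (nat_lit 3234) (.leaf (nat_lit 2233) (nat_lit 2) [nat_lit 1, nat_lit 0, nat_lit 1, nat_lit 2, nat_lit 0, nat_lit 2, nat_lit 1, nat_lit 0, nat_lit 1, nat_lit 2, nat_lit 0, nat_lit 2, nat_lit 1, nat_lit 0, nat_lit 1, nat_lit 2, nat_lit 0]) (.leaf (nat_lit 2234) (nat_lit 0) [nat_lit 2, nat_lit 1, nat_lit 0, nat_lit 1, nat_lit 2, nat_lit 0, nat_lit 2, nat_lit 1, nat_lit 0, nat_lit 1, nat_lit 2, nat_lit 0, nat_lit 2, nat_lit 1, nat_lit 0, nat_lit 1, nat_lit 2])))) (.node (nat_lit 3237) (.node (nat_lit 3236) (.leaf (nat_lit 2235) (nat_lit 2) [nat_lit 0, nat_lit 2, nat_lit 1, nat_lit 0, nat_lit 1, nat_lit 2, nat_lit 0, nat_lit 2, nat_lit 1, nat_lit 0, nat_lit 1, nat_lit 2, nat_lit 0, nat_lit 2, nat_lit 1, nat_lit 0, nat_lit 1]) (.leaf (nat_lit 2236) (nat_lit 1) [nat_lit 2, nat_lit 0, nat_lit 2, nat_lit 1, nat_lit 0, nat_lit 1, nat_lit 2, nat_lit 0, nat_lit 2, nat_lit 1, nat_lit 0, nat_lit 1, nat_lit 2, nat_lit 0, nat_lit 2, nat_lit 1, nat_lit 0])) (.node (nat_lit 3238) (.leaf (nat_lit 2237) (nat_lit 0) [nat_lit 1, nat_lit 2, nat_lit 0, nat_lit 2, nat_lit 1, nat_lit 0, nat_lit 1, nat_lit 2, nat_lit 0, nat_lit 2, nat_lit 1, nat_lit 0, nat_lit 1, nat_lit 2, nat_lit 0, nat_lit 2, nat_lit 1]) (.node (nat_lit 3239) (.leaf (nat_lit 2232) (nat_lit 1) [nat_lit 0, nat_lit 1, nat_lit 2, nat_lit 0, nat_lit 2, nat_lit 1, nat_lit 0, nat_lit 1, nat_lit 2, nat_lit 0, nat_lit 2, nat_lit 1, nat_lit 0, nat_lit 1, nat_lit 2, nat_lit 0, nat_lit 2]) (.leaf (nat_lit 2233) (nat_lit 2) [nat_lit 1, nat_lit 0, nat_lit 1, nat_lit 2, nat_lit 0, nat_lit 2, nat_lit 1, nat_lit 0, nat_lit 1, nat_lit 2, nat_lit 0, nat_lit 2, nat_lit 1, nat_lit 0, nat_lit 1, nat_lit 2, nat_lit 0])))))))) (.node (nat_lit 3278) (.node (nat_lit 3259) (.node (nat_lit 3249) (.node (nat_lit 3244) (.node (nat_lit 3242) (.node (nat_lit 3241) (.leaf (nat_lit 2343) (nat_lit 2) [nat_lit 0, nat_lit 2, nat_lit 1, nat_lit 2, nat_lit 1, nat_lit 2, nat_lit 0, nat_lit 2, nat_lit 1, nat_lit 2, nat_lit 1, nat_lit 2, nat_lit 0, nat_lit 2, nat_lit 1, nat_lit 2, nat_lit 1]) (.leaf (nat_lit 2344) (nat_lit 1) [nat_lit 2, nat_lit 0, nat_lit 2, nat_lit 1, nat_lit 2, nat_lit 1, nat_lit 2, nat_lit 0, nat_lit 2, nat_lit 1, nat_lit 2, nat_lit 1, nat_lit 2, nat_lit 0, nat_lit 2, nat_lit 1, nat_lit 2])) (.node (nat_lit 3243) (.leaf (nat_lit 2345) (nat_lit 2) [nat_lit 1, nat_lit 2, nat_lit 0, nat_lit 2, nat_lit 1, nat_lit 2, nat_lit 1, nat_lit 2, nat_lit 0, nat_lit 2, nat_lit 1, nat_lit 2, nat_lit 1, nat_lit 2, nat_lit 0, nat_lit 2, nat_lit 1]) (.leaf (nat_lit 2340) (nat_lit 1) [nat_lit 2, nat_lit 1, nat_lit 2, nat_lit 0, nat_lit 2, nat_lit 1, nat_lit 2, nat_lit 1, nat_lit 2, nat_lit 0, nat_lit 2, nat_lit 1, nat_lit 2, nat_lit 1, nat_lit 2, nat_lit 0, nat_lit 2]))) (.node (nat_lit 3246) (.node (nat_lit 3245) (.leaf (nat_lit 2341) (nat_lit 2) [nat_lit 1, nat_lit 2, nat_lit 1, nat_lit 2, nat_lit 0, nat_lit 2, nat_lit 1, nat_lit 2, nat_lit 1, nat_lit 2, nat_lit 0, nat_lit 2, nat_lit 1, nat_lit 2, nat_lit 1, nat_lit 2, nat_lit 0]) (.leaf (nat_lit 2342) (nat_lit 0) [nat_lit 2, nat_lit 1, nat_lit 2, nat_lit 1, nat_lit 2, nat_lit 0, nat_lit 2, nat_lit 1, nat_lit 2, nat_lit 1, nat_lit 2, nat_lit 0, nat_lit 2, nat_lit 1, nat_lit 2, nat_lit 1, nat_lit 2])) (.node (nat_lit 3247) (.leaf (nat_lit 2343) (nat_lit 2) [nat_lit 0, nat_lit 2, nat_lit 1, nat_lit 2, nat_lit 1, nat_lit 2, nat_lit 0, nat_lit 2, nat_lit 1, nat_lit 2, nat_lit 1, nat_lit 2, nat_lit 0, nat_lit 2, nat_lit 1, nat_lit 2, nat_lit 1]) (.node (nat_lit 3248) (.leaf (nat_lit 2344) (nat_lit 1) [nat_lit 2, nat_lit 0, nat_lit 2, nat_lit 1, nat_lit 2, nat_lit 1, nat_lit 2, nat_lit 0, nat_lit 2, nat_lit 1, nat_lit 2, nat_lit 1, nat_lit 2, nat_lit 0, nat_lit 2, nat_lit 1, nat_lit 2]) (.leaf (nat_lit 2345) (nat_lit 2) [nat_lit 1, nat_lit 2, nat_lit 0, nat_lit 2, nat_lit 1, nat_lit 2, nat_lit 1, nat_lit 2, nat_lit 0, nat_lit 2, nat_lit 1, nat_lit 2, nat_lit 1, nat_lit 2, nat_lit 0, nat_lit 2, nat_lit 1]))))) (.node (nat_lit 3254) (.node (nat_lit 3251) (.node (nat_lit 3250) (.leaf (nat_lit 2340) (nat_lit 1) [nat_lit 2, nat_lit 1, nat_lit 2, nat_lit 0, nat_lit 2, nat_lit 1, nat_lit 2, nat_lit 1, nat_lit 2, nat_lit 0, nat_lit 2, nat_lit 1, nat_lit 2, nat_lit 1, nat_lit 2, nat_lit 0, nat_lit 2]) (.leaf (nat_lit 2341) (nat_lit 2) [nat_lit 1, nat_lit 2, nat_lit 1, nat_lit 2, nat_lit 0, nat_lit 2, nat_lit 1, nat_lit 2, nat_lit 1, nat_lit 2, nat_lit 0, nat_lit 2, nat_lit 1, nat_lit 2, nat_lit 1, nat_lit 2, nat_lit 0])) (.node (nat_lit 3252) (.leaf (nat_lit 2342) (nat_lit 0) [nat_lit 2, nat_lit 1, nat_lit 2, nat_lit 1, nat_lit 2, nat_lit 0, nat_lit 2, nat_lit 1, nat_lit 2, nat_lit 1, nat_lit 2, nat_lit 0, nat_lit 2, nat_lit 1, nat_lit 2, nat_lit 1, nat_lit 2]) (.node (nat_lit 3253) (.leaf (nat_lit 2343) (nat_lit 2) [nat_lit 0, nat_lit 2, nat_lit 1, nat_lit 2, nat_lit 1, nat_lit 2, nat_lit 0, nat_lit 2, nat_lit 1, nat_lit 2, nat_lit 1, nat_lit 2, nat_lit 0, nat_lit 2, nat_lit 1, nat_lit 2, nat_lit 1]) (.leaf (nat_lit 2344) (nat_lit 1) [nat_lit 2, nat_lit 0, nat_lit 2, nat_lit 1, nat_lit 2, nat_lit 1, nat_lit 2, nat_lit 0, nat_lit 2, nat_lit 1, nat_lit 2, nat_lit 1, nat_lit 2, nat_lit 0, nat_lit 2, nat_lit 1, nat_lit 2])))) (.node (nat_lit 3256) (.node (nat_lit 3255) (.leaf (nat_lit 2345) (nat_lit 2) [nat_lit 1, nat_lit 2, nat_lit 0, nat_lit 2, nat_lit 1, nat_lit 2, nat_lit 1, nat_lit 2, nat_lit 0, nat_lit 2, nat_lit 1, nat_lit 2, nat_lit 1, nat_lit 2, nat_lit 0, nat_lit 2, nat_lit 1]) (.leaf (nat_lit 2340) (nat_lit 1) [nat_lit 2, nat_lit 1, nat_lit 2, nat_lit 0, nat_lit 2, nat_lit 1, nat_lit 2, nat_lit 1, nat_lit 2, nat_lit 0, nat_lit 2, nat_lit 1, nat_lit 2, nat_lit 1, nat_lit 2, nat_lit 0, nat_lit 2])) (.node (nat_lit 3257) (.leaf (nat_lit 2341) (nat_lit 2) [nat_lit 1, nat_lit 2, nat_lit 1, nat_lit 2, nat_lit 0, nat_lit 2, nat_lit 1, nat_lit 2, nat_lit 1, nat_lit 2, nat_lit 0, nat_lit 2, nat_lit 1, nat_lit 2, nat_lit 1, nat_lit 2, nat_lit 0]) (.node (nat_lit 3258) (.leaf (nat_lit 2342) (nat_lit 0) [nat_lit 2, nat_lit 1, nat_lit 2, nat_lit 1, nat_lit 2, nat_lit 0, nat_lit 2, nat_lit 1, nat_lit 2, nat_lit 1, nat_lit 2, nat_lit 0, nat_lit 2, nat_lit 1, nat_lit 2, nat_lit 1, nat_lit 2]) (.leaf (nat_lit 2342) (nat_lit 0) [nat_lit 2, nat_lit 1, nat_lit 2, nat_lit 1, nat_lit 2, nat_lit 0, nat_lit 2, nat_lit 1, nat_lit 2, nat_lit 1, nat_lit 2, nat_lit 0, nat_lit 2, nat_lit 1, nat_lit 2, nat_lit 1, nat_lit 2])))))) (.node (nat_lit 3268) (.node (nat_lit 3263) (.node (nat_lit 3261) (.node (nat_lit 3260) (.leaf (nat_lit 2343) (nat_lit 2) [nat_lit 0, nat_lit 2, nat_lit 1, nat_lit 2, nat_lit 1, nat_lit 2, nat_lit 0, nat_lit 2, nat_lit 1, nat_lit 2, nat_lit 1, nat_lit 2, nat_lit 0, nat_lit 2, nat_lit 1, nat_lit 2, nat_lit 1]) (.leaf (nat_lit 2344) (nat_lit 1) [nat_lit 2, nat_lit 0, nat_lit 2, nat_lit 1, nat_lit 2, nat_lit 1, nat_lit 2, nat_lit 0, nat_lit 2, nat_lit 1, nat_lit 2, nat_lit 1, nat_lit 2, nat_lit 0, nat_lit 2, nat_lit 1, nat_lit 2])) (.node (nat_lit 3262) (.leaf (nat_lit 2345) (nat_lit 2) [nat_lit 1, nat_lit 2, nat_lit 0, nat_lit 2, nat_lit 1, nat_lit 2, nat_lit 1, nat_lit 2, nat_lit 0, nat_lit 2, nat_lit 1, nat_lit 2, nat_lit 1, nat_lit 2, nat_lit 0, nat_lit 2, nat_lit 1]) (.leaf (nat_lit 2340) (nat_lit 1) [nat_lit 2, nat_lit 1, nat_lit 2, nat_lit 0, nat_lit 2, nat_lit 1, nat_lit 2, nat_lit 1, nat_lit 2, nat_lit 0, nat_lit 2, nat_lit 1, nat_lit 2, nat_lit 1, nat_lit 2, nat_lit 0, nat_lit 2]))) (.node (nat_lit 3265) (.node (nat_lit 3264) (.leaf (nat_lit 2341) (nat_lit 2) [nat_lit 1, nat_lit 2, nat_lit 1, nat_lit 2, nat_lit 0, nat_lit 2, nat_lit 1, nat_lit 2, nat_lit 1, nat_lit 2, nat_lit 0, nat_lit 2, nat_lit 1, nat_lit 2, nat_lit 1, nat_lit 2, nat_lit 0]) (.leaf (nat_lit 2342) (nat_lit 0) [nat_lit 2, nat_lit 1, nat_lit 2, nat_lit 1, nat_lit 2, nat_lit 0, nat_lit 2, nat_lit 1, nat_lit 2, nat_lit 1, nat_lit 2, nat_lit 0, nat_lit 2, nat_lit 1, nat_lit 2, nat_lit 1, nat_lit 2])) (.node (nat_lit 3266) (.leaf (nat_lit 2343) (nat_lit 2) [nat_lit 0, nat_lit 2, nat_lit 1, nat_lit 2, nat_lit 1, nat_lit 2, nat_lit 0, nat_lit 2, nat_lit 1, nat_lit 2, nat_lit 1, nat_lit 2, nat_lit 0, nat_lit 2, nat_lit 1, nat_lit 2, nat_lit 1]) (.node (nat_lit 3267) (.leaf (nat_lit 2344) (nat_lit 1) [nat_lit 2, nat_lit 0, nat_lit 2, nat_lit 1, nat_lit 2, nat_lit 1, nat_lit 2, nat_lit 0, nat_lit 2, nat_lit 1, nat_lit 2, nat_lit 1, nat_lit 2, nat_lit 0, nat_lit 2, nat_lit 1, nat_lit 2]) (.leaf (nat_lit 2345) (nat_lit 2) [nat_lit 1, nat_lit 2, nat_lit 0, nat_lit 2, nat_lit 1, nat_lit 2, nat_lit 1, nat_lit 2, nat_lit 0, nat_lit 2, nat_lit 1, nat_lit 2, nat_lit 1, nat_lit 2, nat_lit 0, nat_lit 2, nat_lit 1]))))) (.node (nat_lit 3273) (.node (nat_lit 3270) (.node (nat_lit 3269) (.leaf (nat_lit 2340) (nat_lit 1) [nat_lit 2, nat_lit 1, nat_lit 2, nat_lit 0, nat_lit 2, nat_lit 1, nat_lit 2, nat_lit 1, nat_lit 2, nat_lit 0, nat_lit 2, nat_lit 1, nat_lit 2, nat_lit 1, nat_lit 2, nat_lit 0, nat_lit 2]) (.leaf (nat_lit 2341) (nat_lit 2) [nat_lit 1, nat_lit 2, nat_lit 1, nat_lit 2, nat_lit 0, nat_lit 2, nat_lit 1, nat_lit 2, nat_lit 1, nat_lit 2, nat_lit 0, nat_lit 2, nat_lit 1, nat_lit 2, nat_lit 1, nat_lit 2, nat_lit 0])) (.node (nat_lit 3271) (.leaf (nat_lit 2342) (nat_lit 0) [nat_lit 2, nat_lit 1, nat_lit 2, nat_lit 1, nat_lit 2, nat_lit 0, nat_lit 2, nat_lit 1, nat_lit 2, nat_lit 1, nat_lit 2, nat_lit 0, nat_lit 2, nat_lit 1, nat_lit 2, nat_lit 1, nat_lit 2]) (.node (nat_lit 3272) (.leaf (nat_lit 2343) (nat_lit 2) [nat_lit 0, nat_lit 2, nat_lit 1, nat_lit 2, nat_lit 1, nat_lit 2, nat_lit 0, nat_lit 2, nat_lit 1, nat_lit 2, nat_lit 1, nat_lit 2, nat_lit 0, nat_lit 2, nat_lit 1, nat_lit 2, nat_lit 1]) (.leaf (nat_lit 2344) (nat_lit 1) [nat_lit 2, nat_lit 0, nat_lit 2, nat_lit 1, nat_lit 2, nat_lit 1, nat_lit 2, nat_lit 0, nat_lit 2, nat_lit 1, nat_lit 2, nat_lit 1, nat_lit 2, nat_lit 0, nat_lit 2, nat_lit 1, nat_lit 2])))) (.node (nat_lit 3275) (.node (nat_lit 3274) (.leaf (nat_lit 2345) (nat_lit 2) [nat_lit 1, nat_lit 2, nat_lit 0, nat_lit 2, nat_lit 1, nat_lit 2, nat_lit 1, nat_lit 2, nat_lit 0, nat_lit 2, nat_lit 1, nat_lit 2, nat_lit 1, nat_lit 2, nat_lit 0, nat_lit 2, nat_lit 1]) (.leaf (nat_lit 2340) (nat_lit 1) [nat_lit 2, nat_lit 1, nat_lit 2, nat_lit 0, nat_lit 2, nat_lit 1, nat_lit 2, nat_lit 1, nat_lit 2, nat_lit 0, nat_lit 2, nat_lit 1, nat_lit 2, nat_lit 1, nat_lit 2, nat_lit 0, nat_lit 2])) (.node (nat_lit 3276) (.leaf (nat_lit 2341) (nat_lit 2) [nat_lit 1, nat_lit 2, nat_lit 1, nat_lit 2, nat_lit 0, nat_lit 2, nat_lit 1, nat_lit 2, nat_lit 1, nat_lit 2, nat_lit 0, nat_lit 2, nat_lit 1, nat_lit 2, nat_lit 1, nat_lit 2, nat_lit 0]) (.node (nat_lit 3277) (.leaf (nat_lit 2451) (nat_lit 2) [nat_lit 0, nat_lit 2, nat_lit 1, nat_lit 3, nat_lit 1, nat_lit 2, nat_lit 0, nat_lit 2, nat_lit 1, nat_lit 3, nat_lit 1, nat_lit 2, nat_lit 0, nat_lit 2, nat_lit 1, nat_lit 3, nat_lit 1]) (.leaf (nat_lit 2452) (nat_lit 1) [nat_lit 2, nat_lit 0, nat_lit 2, nat_lit 1, nat_lit 3, nat_lit 1, nat_lit 2, nat_lit 0, nat_lit 2, nat_lit 1, nat_lit 3, nat_lit 1, nat_lit 2, nat_lit 0, nat_lit 2, nat_lit 1, nat_lit 3]))))))) (.node (nat_lit 3297) (.node (nat_lit 3287) (.node (nat_lit 3282) (.node (nat_lit 3280) (.node (nat_lit 3279) (.leaf (nat_lit 2453) (nat_lit 3) [nat_lit 1, nat_lit 2, nat_lit 0, nat_lit 2, nat_lit 1, nat_lit 3, nat_lit 1, nat_lit 2, nat_lit 0, nat_lit 2, nat_lit 1, nat_lit 3, nat_lit 1, nat_lit 2, nat_lit 0, nat_lit 2, nat_lit 1]) (.leaf (nat_lit 2448) (nat_lit 1) [nat_lit 3, nat_lit 1, nat_lit 2, nat_lit 0, nat_lit 2, nat_lit 1, nat_lit 3, nat_lit 1, nat_lit 2, nat_lit 0, nat_lit 2, nat_lit 1, nat_lit 3, nat_lit 1, nat_lit 2, nat_lit 0, nat_lit 2])) (.node (nat_lit 3281) (.leaf (nat_lit 2449) (nat_lit 2) [nat_lit 1, nat_lit 3, nat_lit 1, nat_lit 2, nat_lit 0, nat_lit 2, nat_lit 1, nat_lit 3, nat_lit 1, nat_lit 2, nat_lit 0, nat_lit 2, nat_lit 1, nat_lit 3, nat_lit 1, nat_lit 2, nat_lit 0]) (.leaf (nat_lit 2450) (nat_lit 0) [nat_lit 2, nat_lit 1, nat_lit 3, nat_lit 1, nat_lit 2, nat_lit 0, nat_lit 2, nat_lit 1, nat_lit 3, nat_lit 1, nat_lit 2, nat_lit 0, nat_lit 2, nat_lit 1, nat_lit 3, nat_lit 1, nat_lit 2]))) (.node (nat_lit 3284) (.node (nat_lit 3283) (.leaf (nat_lit 2451) (nat_lit 2) [nat_lit 0, nat_lit 2, nat_lit 1, nat_lit 3, nat_lit 1, nat_lit 2, nat_lit 0, nat_lit 2, nat_lit 1, nat_lit 3, nat_lit 1, nat_lit 2, nat_lit 0, nat_lit 2, nat_lit 1, nat_lit 3, nat_lit 1]) (.leaf (nat_lit 2452) (nat_lit 1) [nat_lit 2, nat_lit 0, nat_lit 2, nat_lit 1, nat_lit 3, nat_lit 1, nat_lit 2, nat_lit 0, nat_lit 2, nat_lit 1, nat_lit 3, nat_lit 1, nat_lit 2, nat_lit 0, nat_lit 2, nat_lit 1, nat_lit 3])) (.node (nat_lit 3285) (.leaf (nat_lit 2453) (nat_lit 3) [nat_lit 1, nat_lit 2, nat_lit 0, nat_lit 2, nat_lit 1, nat_lit 3, nat_lit 1, nat_lit 2, nat_lit 0, nat_lit 2, nat_lit 1, nat_lit 3, nat_lit 1, nat_lit 2, nat_lit 0, nat_lit 2, nat_lit 1]) (.node (nat_lit 3286) (.leaf (nat_lit 2448) (nat_lit 1) [nat_lit 3, nat_lit 1, nat_lit 2, nat_lit 0, nat_lit 2, nat_lit 1, nat_lit 3, nat_lit 1, nat_lit 2, nat_lit 0, nat_lit 2, nat_lit 1, nat_lit 3, nat_lit 1, nat_lit 2, nat_lit 0, nat_lit 2]) (.leaf (nat_lit 2449) (nat_lit 2) [nat_lit 1, nat_lit 3, nat_lit 1, nat_lit 2, nat_lit 0, nat_lit 2, nat_lit 1, nat_lit 3, nat_lit 1, nat_lit 2, nat_lit 0, nat_lit 2, nat_lit 1, nat_lit 3, nat_lit 1, nat_lit 2, nat_lit 0]))))) (.node (nat_lit 3292) (.node (nat_lit 3289) (.node (nat_lit 3288) (.leaf (nat_lit 2450) (nat_lit 0) [nat_lit 2, nat_lit 1, nat_lit 3, nat_lit 1, nat_lit 2, nat_lit 0, nat_lit 2, nat_lit 1, nat_lit 3, nat_lit 1, nat_lit 2, nat_lit 0, nat_lit 2, nat_lit 1, nat_lit 3, nat_lit 1, nat_lit 2]) (.leaf (nat_lit 2451) (nat_lit 2) [nat_lit 0, nat_lit 2, nat_lit 1, nat_lit 3, nat_lit 1, nat_lit 2, nat_lit 0, nat_lit 2, nat_lit 1, nat_lit 3, nat_lit 1, nat_lit 2, nat_lit 0, nat_lit 2, nat_lit 1, nat_lit 3, nat_lit 1])) (.node (nat_lit 3290) (.leaf (nat_lit 2452) (nat_lit 1) [nat_lit 2, nat_lit 0, nat_lit 2, nat_lit 1, nat_lit 3, nat_lit 1, nat_lit 2, nat_lit 0, nat_lit 2, nat_lit 1, nat_lit 3, nat_lit 1, nat_lit 2, nat_lit 0, nat_lit 2, nat_lit 1, nat_lit 3]) (.node (nat_lit 3291) (.leaf (nat_lit 2453) (nat_lit 3) [nat_lit 1, nat_lit 2, nat_lit 0, nat_lit 2, nat_lit 1, nat_lit 3, nat_lit 1, nat_lit 2, nat_lit 0, nat_lit 2, nat_lit 1, nat_lit 3, nat_lit 1, nat_lit 2, nat_lit 0, nat_lit 2, nat_lit 1]) (.leaf (nat_lit 2448) (nat_lit 1) [nat_lit 3, nat_lit 1, nat_lit 2, nat_lit 0, nat_lit 2, nat_lit 1, nat_lit 3, nat_lit 1, nat_lit 2, nat_lit 0, nat_lit 2, nat_lit 1, nat_lit 3, nat_lit 1, nat_lit 2, nat_lit 0, nat_lit 2])))) (.node (nat_lit 3294) (.node (nat_lit 3293) (.leaf (nat_lit 2449) (nat_lit 2) [nat_lit 1, nat_lit 3, nat_lit 1, nat_lit 2, nat_lit 0, nat_lit 2, nat_lit 1, nat_lit 3, nat_lit 1, nat_lit 2, nat_lit 0, nat_lit 2, nat_lit 1, nat_lit 3, nat_lit 1, nat_lit 2, nat_lit 0]) (.leaf (nat_lit 2450) (nat_lit 0) [nat_lit 2, nat_lit 1, nat_lit 3, nat_lit 1, nat_lit 2, nat_lit 0, nat_lit 2, nat_lit 1, nat_lit 3, nat_lit 1, nat_lit 2, nat_lit 0, nat_lit 2, nat_lit 1, nat_lit 3, nat_lit 1, nat_lit 2])) (.node (nat_lit 3295) (.leaf (nat_lit 2450) (nat_lit 0) [nat_lit 2, nat_lit 1, nat_lit 3, nat_lit 1, nat_lit 2, nat_lit 0, nat_lit 2, nat_lit 1, nat_lit 3, nat_lit 1, nat_lit 2, nat_lit 0, nat_lit 2, nat_lit 1, nat_lit 3, nat_lit 1, nat_lit 2]) (.node (nat_lit 3296) (.leaf (nat_lit 2451) (nat_lit 2) [nat_lit 0, nat_lit 2, nat_lit 1, nat_lit 3, nat_lit 1, nat_lit 2, nat_lit 0, nat_lit 2, nat_lit 1, nat_lit 3, nat_lit 1, nat_lit 2, nat_lit 0, nat_lit 2, nat_lit 1, nat_lit 3, nat_lit 1]) (.leaf (nat_lit 2452) (nat_lit 1) [nat_lit 2, nat_lit 0, nat_lit 2, nat_lit 1, nat_lit 3, nat_lit 1, nat_lit 2, nat_lit 0, nat_lit 2, nat_lit 1, nat_lit 3, nat_lit 1, nat_lit 2, nat_lit 0, nat_lit 2, nat_lit 1, nat_lit 3])))))) (.node (nat_lit 3306) (.node (nat_lit 3301) (.node (nat_lit 3299) (.node (nat_lit 3298) (.leaf (nat_lit 2453) (nat_lit 3) [nat_lit 1, nat_lit 2, nat_lit 0, nat_lit 2, nat_lit 1, nat_lit 3, nat_lit 1, nat_lit 2, nat_lit 0, nat_lit 2, nat_lit 1, nat_lit 3, nat_lit 1, nat_lit 2, nat_lit 0, nat_lit 2, nat_lit 1]) (.leaf (nat_lit 2448) (nat_lit 1) [nat_lit 3, nat_lit 1, nat_lit 2, nat_lit 0, nat_lit 2, nat_lit 1, nat_lit 3, nat_lit 1, nat_lit 2, nat_lit 0, nat_lit 2, nat_lit 1, nat_lit 3, nat_lit 1, nat_lit 2, nat_lit 0, nat_lit 2])) (.node (nat_lit 3300) (.leaf (nat_lit 2449) (nat_lit 2) [nat_lit 1, nat_lit 3, nat_lit 1, nat_lit 2, nat_lit 0, nat_lit 2, nat_lit 1, nat_lit 3, nat_lit 1, nat_lit 2, nat_lit 0, nat_lit 2, nat_lit 1, nat_lit 3, nat_lit 1, nat_lit 2, nat_lit 0]) (.leaf (nat_lit 2450) (nat_lit 0) [nat_lit 2, nat_lit 1, nat_lit 3, nat_lit 1, nat_lit 2, nat_lit 0, nat_lit 2, nat_lit 1, nat_lit 3, nat_lit 1, nat_lit 2, nat_lit 0, nat_lit 2, nat_lit 1, nat_lit 3, nat_lit 1, nat_lit 2]))) (.node (nat_lit 3303) (.node (nat_lit 3302) (.leaf (nat_lit 2451) (nat_lit 2) [nat_lit 0, nat_lit 2, nat_lit 1, nat_lit 3, nat_lit 1, nat_lit 2, nat_lit 0, nat_lit 2, nat_lit 1, nat_lit 3, nat_lit 1, nat_lit 2, nat_lit 0, nat_lit 2, nat_lit 1, nat_lit 3, nat_lit 1]) (.leaf (nat_lit 2452) (nat_lit 1) [nat_lit 2, nat_lit 0, nat_lit 2, nat_lit 1, nat_lit 3, nat_lit 1, nat_lit 2, nat_lit 0, nat_lit 2, nat_lit 1, nat_lit 3, nat_lit 1, nat_lit 2, nat_lit 0, nat_lit 2, nat_lit 1, nat_lit 3])) (.node (nat_lit 3304) (.leaf (nat_lit 2453) (nat_lit 3) [nat_lit 1, nat_lit 2, nat_lit 0, nat_lit 2, nat_lit 1, nat_lit 3, nat_lit 1, nat_lit 2, nat_lit 0, nat_lit 2, nat_lit 1, nat_lit 3, nat_lit 1, nat_lit 2, nat_lit 0, nat_lit 2, nat_lit 1]) (.node (nat_lit 3305) (.leaf (nat_lit 2448) (nat_lit 1) [nat_lit 3, nat_lit 1, nat_lit 2, nat_lit 0, nat_lit 2, nat_lit 1, nat_lit 3, nat_lit 1, nat_lit 2, nat_lit 0, nat_lit 2, nat_lit 1, nat_lit 3, nat_lit 1, nat_lit 2, nat_lit 0, nat_lit 2]) (.leaf (nat_lit 2449) (nat_lit 2) [nat_lit 1, nat_lit 3, nat_lit 1, nat_lit 2, nat_lit 0, nat_lit 2, nat_lit 1, nat_lit 3, nat_lit 1, nat_lit 2, nat_lit 0, nat_lit 2, nat_lit 1, nat_lit 3, nat_lit 1, nat_lit 2, nat_lit 0]))))) (.node (nat_lit 3311) (.node (nat_lit 3308) (.node (nat_lit 3307) (.leaf (nat_lit 2450) (nat_lit 0) [nat_lit 2, nat_lit 1, nat_lit 3, nat_lit 1, nat_lit 2, nat_lit 0, nat_lit 2, nat_lit 1, nat_lit 3, nat_lit 1, nat_lit 2, nat_lit 0, nat_lit 2, nat_lit 1, nat_lit 3, nat_lit 1, nat_lit 2]) (.leaf (nat_lit 2451) (nat_lit 2) [nat_lit 0, nat_lit 2, nat_lit 1, nat_lit 3, nat_lit 1, nat_lit 2, nat_lit 0, nat_lit 2, nat_lit 1, nat_lit 3, nat_lit 1, nat_lit 2, nat_lit 0, nat_lit 2, nat_lit 1, nat_lit 3, nat_lit 1])) (.node (nat_lit 3309) (.leaf (nat_lit 2452) (nat_lit 1) [nat_lit 2, nat_lit 0, nat_lit 2, nat_lit 1, nat_lit 3, nat_lit 1, nat_lit 2, nat_lit 0, nat_lit 2, nat_lit 1, nat_lit 3, nat_lit 1, nat_lit 2, nat_lit 0, nat_lit 2, nat_lit 1, nat_lit 3]) (.node (nat_lit 3310) (.leaf (nat_lit 2453) (nat_lit 3) [nat_lit 1, nat_lit 2, nat_lit 0, nat_lit 2, nat_lit 1, nat_lit 3, nat_lit 1, nat_lit 2, nat_lit 0, nat_lit 2, nat_lit 1, nat_lit 3, nat_lit 1, nat_lit 2, nat_lit 0, nat_lit 2, nat_lit 1]) (.leaf (nat_lit 2448) (nat_lit 1) [nat_lit 3, nat_lit 1, nat_lit 2, nat_lit 0, nat_lit 2, nat_lit 1, nat_lit 3, nat_lit 1, nat_lit 2, nat_lit 0, nat_lit 2, nat_lit 1, nat_lit 3, nat_lit 1, nat_lit 2, nat_lit 0, nat_lit 2])))) (.node (nat_lit 3313) (.node (nat_lit 3312) (.leaf (nat_lit 2449) (nat_lit 2) [nat_lit 1, nat_lit 3, nat_lit 1, nat_lit 2, nat_lit 0, nat_lit 2, nat_lit 1, nat_lit 3, nat_lit 1, nat_lit 2, nat_lit 0, nat_lit 2, nat_lit 1, nat_lit 3, nat_lit 1, nat_lit 2, nat_lit 0]) (.leaf (nat_lit 2271) (nat_lit 2) [nat_lit 1, nat_lit 2, nat_lit 1, nat_lit 0, nat_lit 1, nat_lit 2, nat_lit 1, nat_lit 2, nat_lit 1, nat_lit 0, nat_lit 1, nat_lit 2, nat_lit 1, nat_lit 2, nat_lit 1, nat_lit 0, nat_lit 1])) (.node (nat_lit 3314) (.leaf (nat_lit 2272) (nat_lit 1) [nat_lit 2, nat_lit 1, nat_lit 2, nat_lit 1, nat_lit 0, nat_lit 1, nat_lit 2, nat_lit 1, nat_lit 2, nat_lit 1, nat_lit 0, nat_lit 1, nat_lit 2, nat_lit 1, nat_lit 2, nat_lit 1, nat_lit 0]) (.node (nat_lit 3315) (.leaf (nat_lit 2273) (nat_lit 0) [nat_lit 1, nat_lit 2, nat_lit 1, nat_lit 2, nat_lit 1, nat_lit 0, nat_lit 1, nat_lit 2, nat_lit 1, nat_lit 2, nat_lit 1, nat_lit 0, nat_lit 1, nat_lit 2, nat_lit 1, nat_lit 2, nat_lit 1]) (.leaf (nat_lit 2268) (nat_lit 1) [nat_lit 0, nat_lit 1, nat_lit 2, nat_lit 1, nat_lit 2, nat_lit 1, nat_lit 0, nat_lit 1, nat_lit 2, nat_lit 1, nat_lit 2, nat_lit 1, nat_lit 0, nat_lit 1, nat_lit 2, nat_lit 1, nat_lit 2])))))))))) (.node (nat_lit 3467) (.node (nat_lit 3391) (.node (nat_lit 3353) (.node (nat_lit 3334) (.node (nat_lit 3325) (.node (nat_lit 3320) (.node (nat_lit 3318) (.node (nat_lit 3317) (.leaf (nat_lit 2269) (nat_lit 2) [nat_lit 1, nat_lit 0, nat_lit 1, nat_lit 2, nat_lit 1, nat_lit 2, nat_lit 1, nat_lit 0, nat_lit 1, nat_lit 2, nat_lit 1, nat_lit 2, nat_lit 1, nat_lit 0, nat_lit 1, nat_lit 2, nat_lit 1]) (.leaf (nat_lit 2270) (nat_lit 1) [nat_lit 2, nat_lit 1, nat_lit 0, nat_lit 1, nat_lit 2, nat_lit 1, nat_lit 2, nat_lit 1, nat_lit 0, nat_lit 1, nat_lit 2, nat_lit 1, nat_lit 2, nat_lit 1, nat_lit 0, nat_lit 1, nat_lit 2])) (.node (nat_lit 3319) (.leaf (nat_lit 2271) (nat_lit 2) [nat_lit 1, nat_lit 2, nat_lit 1, nat_lit 0, nat_lit 1, nat_lit 2, nat_lit 1, nat_lit 2, nat_lit 1, nat_lit 0, nat_lit 1, nat_lit 2, nat_lit 1, nat_lit 2, nat_lit 1, nat_lit 0, nat_lit 1]) (.leaf (nat_lit 2272) (nat_lit 1) [nat_lit 2, nat_lit 1, nat_lit 2, nat_lit 1, nat_lit 0, nat_lit 1, nat_lit 2, nat_lit 1, nat_lit 2, nat_lit 1, nat_lit 0, nat_lit 1, nat_lit 2, nat_lit 1, nat_lit 2, nat_lit 1, nat_lit 0]))) (.node (nat_lit 3322) (.node (nat_lit 3321) (.leaf (nat_lit 2273) (nat_lit 0) [nat_lit 1, nat_lit 2, nat_lit 1, nat_lit 2, nat_lit 1, nat_lit 0, nat_lit 1, nat_lit 2, nat_lit 1, nat_lit 2, nat_lit 1, nat_lit 0, nat_lit 1, nat_lit 2, nat_lit 1, nat_lit 2, nat_lit 1]) (.leaf (nat_lit 2268) (nat_lit 1) [nat_lit 0, nat_lit 1, nat_lit 2, nat_lit 1, nat_lit 2, nat_lit 1, nat_lit 0, nat_lit 1, nat_lit 2, nat_lit 1, nat_lit 2, nat_lit 1, nat_lit 0, nat_lit 1, nat_lit 2, nat_lit 1, nat_lit 2])) (.node (nat_lit 3323) (.leaf (nat_lit 2269) (nat_lit 2) [nat_lit 1, nat_lit 0, nat_lit 1, nat_lit 2, nat_lit 1, nat_lit 2, nat_lit 1, nat_lit 0, nat_lit 1, nat_lit 2, nat_lit 1, nat_lit 2, nat_lit 1, nat_lit 0, nat_lit 1, nat_lit 2, nat_lit 1]) (.node (nat_lit 3324) (.leaf (nat_lit 2270) (nat_lit 1) [nat_lit 2, nat_lit 1, nat_lit 0, nat_lit 1, nat_lit 2, nat_lit 1, nat_lit 2, nat_lit 1, nat_lit 0, nat_lit 1, nat_lit 2, nat_lit 1, nat_lit 2, nat_lit 1, nat_lit 0, nat_lit 1, nat_lit 2]) (.leaf (nat_lit 2271) (nat_lit 2) [nat_lit 1, nat_lit 2, nat_lit 1, nat_lit 0, nat_lit 1, nat_lit 2, nat_lit 1, nat_lit 2, nat_lit 1, nat_lit 0, nat_lit 1, nat_lit 2, nat_lit 1, nat_lit 2, nat_lit 1, nat_lit 0, nat_lit 1]))))) (.node (nat_lit 3329) (.node (nat_lit 3327) (.node (nat_lit 3326) (.leaf (nat_lit 2272) (nat_lit 1) [nat_lit 2, nat_lit 1, nat_lit 2, nat_lit 1, nat_lit 0, nat_lit 1, nat_lit 2, nat_lit 1, nat_lit 2, nat_lit 1, nat_lit 0, nat_lit 1, nat_lit 2, nat_lit 1, nat_lit 2, nat_lit 1, nat_lit 0]) (.leaf (nat_lit 2273) (nat_lit 0) [nat_lit 1, nat_lit 2, nat_lit 1, nat_lit 2, nat_lit 1, nat_lit 0, nat_lit 1, nat_lit 2, nat_lit 1, nat_lit 2, nat_lit 1, nat_lit 0, nat_lit 1, nat_lit 2, nat_lit 1, nat_lit 2, nat_lit 1])) (.node (nat_lit 3328) (.leaf (nat_lit 2268) (nat_lit 1) [nat_lit 0, nat_lit 1, nat_lit 2, nat_lit 1, nat_lit 2, nat_lit 1, nat_lit 0, nat_lit 1, nat_lit 2, nat_lit 1, nat_lit 2, nat_lit 1, nat_lit 0, nat_lit 1, nat_lit 2, nat_lit 1, nat_lit 2]) (.leaf (nat_lit 2269) (nat_lit 2) [nat_lit 1, nat_lit 0, nat_lit 1, nat_lit 2, nat_lit 1, nat_lit 2, nat_lit 1, nat_lit 0, nat_lit 1, nat_lit 2, nat_lit 1, nat_lit 2, nat_lit 1, nat_lit 0, nat_lit 1, nat_lit 2, nat_lit 1]))) (.node (nat_lit 3331) (.node (nat_lit 3330) (.leaf (nat_lit 2270) (nat_lit 1) [nat_lit 2, nat_lit 1, nat_lit 0, nat_lit 1, nat_lit 2, nat_lit 1, nat_lit 2, nat_lit 1, nat_lit 0, nat_lit 1, nat_lit 2, nat_lit 1, nat_lit 2, nat_lit 1, nat_lit 0, nat_lit 1, nat_lit 2]) (.leaf (nat_lit 2270) (nat_lit 1) [nat_lit 2, nat_lit 1, nat_lit 0, nat_lit 1, nat_lit 2, nat_lit 1, nat_lit 2, nat_lit 1, nat_lit 0, nat_lit 1, nat_lit 2, nat_lit 1, nat_lit 2, nat_lit 1, nat_lit 0, nat_lit 1, nat_lit 2])) (.node (nat_lit 3332) (.leaf (nat_lit 2271) (nat_lit 2) [nat_lit 1, nat_lit 2, nat_lit 1, nat_lit 0, nat_lit 1, nat_lit 2, nat_lit 1, nat_lit 2, nat_lit 1, nat_lit 0, nat_lit 1, nat_lit 2, nat_lit 1, nat_lit 2, nat_lit 1, nat_lit 0, nat_lit 1]) (.node (nat_lit 3333) (.leaf (nat_lit 2272) (nat_lit 1) [nat_lit 2, nat_lit 1, nat_lit 2, nat_lit 1, nat_lit 0, nat_lit 1, nat_lit 2, nat_lit 1, nat_lit 2, nat_lit 1, nat_lit 0, nat_lit 1, nat_lit 2, nat_lit 1, nat_lit 2, nat_lit 1, nat_lit 0]) (.leaf (nat_lit 2273) (nat_lit 0) [nat_lit 1, nat_lit 2, nat_lit 1, nat_lit 2, nat_lit 1, nat_lit 0, nat_lit 1, nat_lit 2, nat_lit 1, nat_lit 2, nat_lit 1, nat_lit 0, nat_lit 1, nat_lit 2, nat_lit 1, nat_lit 2, nat_lit 1])))))) (.node (nat_lit 3343) (.node (nat_lit 3338) (.node (nat_lit 3336) (.node (nat_lit 3335) (.leaf (nat_lit 2268) (nat_lit 1) [nat_lit 0, nat_lit 1, nat_lit 2, nat_lit 1, nat_lit 2, nat_lit 1, nat_lit 0, nat_lit 1, nat_lit 2, nat_lit 1, nat_lit 2, nat_lit 1, nat_lit 0, nat_lit 1, nat_lit 2, nat_lit 1, nat_lit 2]) (.leaf (nat_lit 2269) (nat_lit 2) [nat_lit 1, nat_lit 0, nat_lit 1, nat_lit 2, nat_lit 1, nat_lit 2, nat_lit 1, nat_lit 0, nat_lit 1, nat_lit 2, nat_lit 1, nat_lit 2, nat_lit 1, nat_lit 0, nat_lit 1, nat_lit 2, nat_lit 1])) (.node (nat_lit 3337) (.leaf (nat_lit 2270) (nat_lit 1) [nat_lit 2, nat_lit 1, nat_lit 0, nat_lit 1, nat_lit 2, nat_lit 1, nat_lit 2, nat_lit 1, nat_lit 0, nat_lit 1, nat_lit 2, nat_lit 1, nat_lit 2, nat_lit 1, nat_lit 0, nat_lit 1, nat_lit 2]) (.leaf (nat_lit 2271) (nat_lit 2) [nat_lit 1, nat_lit 2, nat_lit 1, nat_lit 0, nat_lit 1, nat_lit 2, nat_lit 1, nat_lit 2, nat_lit 1, nat_lit 0, nat_lit 1, nat_lit 2, nat_lit 1, nat_lit 2, nat_lit 1, nat_lit 0, nat_lit 1]))) (.node (nat_lit 3340) (.node (nat_lit 3339) (.leaf (nat_lit 2272) (nat_lit 1) [nat_lit 2, nat_lit 1, nat_lit 2, nat_lit 1, nat_lit 0, nat_lit 1, nat_lit 2, nat_lit 1, nat_lit 2, nat_lit 1, nat_lit 0, nat_lit 1, nat_lit 2, nat_lit 1, nat_lit 2, nat_lit 1, nat_lit 0]) (.leaf (nat_lit 2273) (nat_lit 0) [nat_lit 1, nat_lit 2, nat_lit 1, nat_lit 2, nat_lit 1, nat_lit 0, nat_lit 1, nat_lit 2, nat_lit 1, nat_lit 2, nat_lit 1, nat_lit 0, nat_lit 1, nat_lit 2, nat_lit 1, nat_lit 2, nat_lit 1])) (.node (nat_lit 3341) (.leaf (nat_lit 2268) (nat_lit 1) [nat_lit 0, nat_lit 1, nat_lit 2, nat_lit 1, nat_lit 2, nat_lit 1, nat_lit 0, nat_lit 1, nat_lit 2, nat_lit 1, nat_lit 2, nat_lit 1, nat_lit 0, nat_lit 1, nat_lit 2, nat_lit 1, nat_lit 2]) (.node (nat_lit 3342) (.leaf (nat_lit 2269) (nat_lit 2) [nat_lit 1, nat_lit 0, nat_lit 1, nat_lit 2, nat_lit 1, nat_lit 2, nat_lit 1, nat_lit 0, nat_lit 1, nat_lit 2, nat_lit 1, nat_lit 2, nat_lit 1, nat_lit 0, nat_lit 1, nat_lit 2, nat_lit 1]) (.leaf (nat_lit 2270) (nat_lit 1) [nat_lit 2, nat_lit 1, nat_lit 0, nat_lit 1, nat_lit 2, nat_lit 1, nat_lit 2, nat_lit 1, nat_lit 0, nat_lit 1, nat_lit 2, nat_lit 1, nat_lit 2, nat_lit 1, nat_lit 0, nat_lit 1, nat_lit 2]))))) (.node (nat_lit 3348) (.node (nat_lit 3345) (.node (nat_lit 3344) (.leaf (nat_lit 2271) (nat_lit 2) [nat_lit 1, nat_lit 2, nat_lit 1, nat_lit 0, nat_lit 1, nat_lit 2, nat_lit 1, nat_lit 2, nat_lit 1, nat_lit 0, nat_lit 1, nat_lit 2, nat_lit 1, nat_lit 2, nat_lit 1, nat_lit 0, nat_lit 1]) (.leaf (nat_lit 2272) (nat_lit 1) [nat_lit 2, nat_lit 1, nat_lit 2, nat_lit 1, nat_lit 0, nat_lit 1, nat_lit 2, nat_lit 1, nat_lit 2, nat_lit 1, nat_lit 0, nat_lit 1, nat_lit 2, nat_lit 1, nat_lit 2, nat_lit 1, nat_lit 0])) (.node (nat_lit 3346) (.leaf (nat_lit 2273) (nat_lit 0) [nat_lit 1, nat_lit 2, nat_lit 1, nat_lit 2, nat_lit 1, nat_lit 0, nat_lit 1, nat_lit 2, nat_lit 1, nat_lit 2, nat_lit 1, nat_lit 0, nat_lit 1, nat_lit 2, nat_lit 1, nat_lit 2, nat_lit 1]) (.node (nat_lit 3347) (.leaf (nat_lit 2268) (nat_lit 1) [nat_lit 0, nat_lit 1, nat_lit 2, nat_lit 1, nat_lit 2, nat_lit 1, nat_lit 0, nat_lit 1, nat_lit 2, nat_lit 1, nat_lit 2, nat_lit 1, nat_lit 0, nat_lit 1, nat_lit 2, nat_lit 1, nat_lit 2]) (.leaf (nat_lit 2269) (nat_lit 2) [nat_lit 1, nat_lit 0, nat_lit 1, nat_lit 2, nat_lit 1, nat_lit 2, nat_lit 1, nat_lit 0, nat_lit 1, nat_lit 2, nat_lit 1, nat_lit 2, nat_lit 1, nat_lit 0, nat_lit 1, nat_lit 2, nat_lit 1])))) (.node (nat_lit 3350) (.node (nat_lit 3349) (.leaf (nat_lit 2377) (nat_lit 2) [nat_lit 1, nat_lit 2, nat_lit 1, nat_lit 2, nat_lit 1, nat_lit 2, nat_lit 1, nat_lit 2, nat_lit 1, nat_lit 2, nat_lit 1, nat_lit 2, nat_lit 1, nat_lit 2, nat_lit 1, nat_lit 2, nat_lit 1]) (.leaf (nat_lit 2376) (nat_lit 1) [nat_lit 2, nat_lit 1, nat_lit 2, nat_lit 1, nat_lit 2, nat_lit 1, nat_lit 2, nat_lit 1, nat_lit 2, nat_lit 1, nat_lit 2, nat_lit 1, nat_lit 2, nat_lit 1, nat_lit 2, nat_lit 1, nat_lit 2])) (.node (nat_lit 3351) (.leaf (nat_lit 2377) (nat_lit 2) [nat_lit 1, nat_lit 2, nat_lit 1, nat_lit 2, nat_lit 1, nat_lit 2, nat_lit 1, nat_lit 2, nat_lit 1, nat_lit 2, nat_lit 1, nat_lit 2, nat_lit 1, nat_lit 2, nat_lit 1, nat_lit 2, nat_lit 1]) (.node (nat_lit 3352) (.leaf (nat_lit 2376) (nat_lit 1) [nat_lit 2, nat_lit 1, nat_lit 2, nat_lit 1, nat_lit 2, nat_lit 1, nat_lit 2, nat_lit 1, nat_lit 2, nat_lit 1, nat_lit 2, nat_lit 1, nat_lit 2, nat_lit 1, nat_lit 2, nat_lit 1, nat_lit 2]) (.leaf (nat_lit 2377) (nat_lit 2) [nat_lit 1, nat_lit 2, nat_lit 1, nat_lit 2, nat_lit 1, nat_lit 2, nat_lit 1, nat_lit 2, nat_lit 1, nat_lit 2, nat_lit 1, nat_lit 2, nat_lit 1, nat_lit 2, nat_lit 1, nat_lit 2, nat_lit 1]))))))) (.node (nat_lit 3372) (.node (nat_lit 3362) (.node (nat_lit 3357) (.node (nat_lit 3355) (.node (nat_lit 3354) (.leaf (nat_lit 2376) (nat_lit 1) [nat_lit 2, nat_lit 1, nat_lit 2, nat_lit 1, nat_lit 2, nat_lit 1, nat_lit 2, nat_lit 1, nat_lit 2, nat_lit 1, nat_lit 2, nat_lit 1, nat_lit 2, nat_lit 1, nat_lit 2, nat_lit 1, nat_lit 2]) (.leaf (nat_lit 2377) (nat_lit 2) [nat_lit 1, nat_lit 2, nat_lit 1, nat_lit 2, nat_lit 1, nat_lit 2, nat_lit 1, nat_lit 2, nat_lit 1, nat_lit 2, nat_lit 1, nat_lit 2, nat_lit 1, nat_lit 2, nat_lit 1, nat_lit 2, nat_lit 1])) (.node (nat_lit 3356) (.leaf (nat_lit 2376) (nat_lit 1) [nat_lit 2, nat_lit 1, nat_lit 2, nat_lit 1, nat_lit 2, nat_lit 1, nat_lit 2, nat_lit 1, nat_lit 2, nat_lit 1, nat_lit 2, nat_lit 1, nat_lit 2, nat_lit 1, nat_lit 2, nat_lit 1, nat_lit 2]) (.leaf (nat_lit 2377) (nat_lit 2) [nat_lit 1, nat_lit 2, nat_lit 1, nat_lit 2, nat_lit 1, nat_lit 2, nat_lit 1, nat_lit 2, nat_lit 1, nat_lit 2, nat_lit 1, nat_lit 2, nat_lit 1, nat_lit 2, nat_lit 1, nat_lit 2, nat_lit 1]))) (.node (nat_lit 3359) (.node (nat_lit 3358) (.leaf (nat_lit 2376) (nat_lit 1) [nat_lit 2, nat_lit 1, nat_lit 2, nat_lit 1, nat_lit 2, nat_lit 1, nat_lit 2, nat_lit 1, nat_lit 2, nat_lit 1, nat_lit 2, nat_lit 1, nat_lit 2, nat_lit 1, nat_lit 2, nat_lit 1, nat_lit 2]) (.leaf (nat_lit 2377) (nat_lit 2) [nat_lit 1, nat_lit 2, nat_lit 1, nat_lit 2, nat_lit 1, nat_lit 2, nat_lit 1, nat_lit 2, nat_lit 1, nat_lit 2, nat_lit 1, nat_lit 2, nat_lit 1, nat_lit 2, nat_lit 1, nat_lit 2, nat_lit 1])) (.node (nat_lit 3360) (.leaf (nat_lit 2376) (nat_lit 1) [nat_lit 2, nat_lit 1, nat_lit 2, nat_lit 1, nat_lit 2, nat_lit 1, nat_lit 2, nat_lit 1, nat_lit 2, nat_lit 1, nat_lit 2, nat_lit 1, nat_lit 2, nat_lit 1, nat_lit 2, nat_lit 1, nat_lit 2]) (.node (nat_lit 3361) (.leaf (nat_lit 2377) (nat_lit 2) [nat_lit 1, nat_lit 2, nat_lit 1, nat_lit 2, nat_lit 1, nat_lit 2, nat_lit 1, nat_lit 2, nat_lit 1, nat_lit 2, nat_lit 1, nat_lit 2, nat_lit 1, nat_lit 2, nat_lit 1, nat_lit 2, nat_lit 1]) (.leaf (nat_lit 2376) (nat_lit 1) [nat_lit 2, nat_lit 1, nat_lit 2, nat_lit 1, nat_lit 2, nat_lit 1, nat_lit 2, nat_lit 1, nat_lit 2, nat_lit 1, nat_lit 2, nat_lit 1, nat_lit 2, nat_lit 1, nat_lit 2, nat_lit 1, nat_lit 2]))))) (.node (nat_lit 3367) (.node (nat_lit 3364) (.node (nat_lit 3363) (.leaf (nat_lit 2377) (nat_lit 2) [nat_lit 1, nat_lit 2, nat_lit 1, nat_lit 2, nat_lit 1, nat_lit 2, nat_lit 1, nat_lit 2, nat_lit 1, nat_lit 2, nat_lit 1, nat_lit 2, nat_lit 1, nat_lit 2, nat_lit 1, nat_lit 2, nat_lit 1]) (.leaf (nat_lit 2376) (nat_lit 1) [nat_lit 2, nat_lit 1, nat_lit 2, nat_lit 1, nat_lit 2, nat_lit 1, nat_lit 2, nat_lit 1, nat_lit 2, nat_lit 1, nat_lit 2, nat_lit 1, nat_lit 2, nat_lit 1, nat_lit 2, nat_lit 1, nat_lit 2])) (.node (nat_lit 3365) (.leaf (nat_lit 2377) (nat_lit 2) [nat_lit 1, nat_lit 2, nat_lit 1, nat_lit 2, nat_lit 1, nat_lit 2, nat_lit 1, nat_lit 2, nat_lit 1, nat_lit 2, nat_lit 1, nat_lit 2, nat_lit 1, nat_lit 2, nat_lit 1, nat_lit 2, nat_lit 1]) (.node (nat_lit 3366) (.leaf (nat_lit 2376) (nat_lit 1) [nat_lit 2, nat_lit 1, nat_lit 2, nat_lit 1, nat_lit 2, nat_lit 1, nat_lit 2, nat_lit 1, nat_lit 2, nat_lit 1, nat_lit 2, nat_lit 1, nat_lit 2, nat_lit 1, nat_lit 2, nat_lit 1, nat_lit 2]) (.leaf (nat_lit 2376) (nat_lit 1) [nat_lit 2, nat_lit 1, nat_lit 2, nat_lit 1, nat_lit 2, nat_lit 1, nat_lit 2, nat_lit 1, nat_lit 2, nat_lit 1, nat_lit 2, nat_lit 1, nat_lit 2, nat_lit 1, nat_lit 2, nat_lit 1, nat_lit 2])))) (.node (nat_lit 3369) (.node (nat_lit 3368) (.leaf (nat_lit 2377) (nat_lit 2) [nat_lit 1, nat_lit 2, nat_lit 1, nat_lit 2, nat_lit 1, nat_lit 2, nat_lit 1, nat_lit 2, nat_lit 1, nat_lit 2, nat_lit 1, nat_lit 2, nat_lit 1, nat_lit 2, nat_lit 1, nat_lit 2, nat_lit 1]) (.leaf (nat_lit 2376) (nat_lit 1) [nat_lit 2, nat_lit 1, nat_lit 2, nat_lit 1, nat_lit 2, nat_lit 1, nat_lit 2, nat_lit 1, nat_lit 2, nat_lit 1, nat_lit 2, nat_lit 1, nat_lit 2, nat_lit 1, nat_lit 2, nat_lit 1, nat_lit 2])) (.node (nat_lit 3370) (.leaf (nat_lit 2377) (nat_lit 2) [nat_lit 1, nat_lit 2, nat_lit 1, nat_lit 2, nat_lit 1, nat_lit 2, nat_lit 1, nat_lit 2, nat_lit 1, nat_lit 2, nat_lit 1, nat_lit 2, nat_lit 1, nat_lit 2, nat_lit 1, nat_lit 2, nat_lit 1]) (.node (nat_lit 3371) (.leaf (nat_lit 2376) (nat_lit 1) [nat_lit 2, nat_lit 1, nat_lit 2, nat_lit 1, nat_lit 2, nat_lit 1, nat_lit 2, nat_lit 1, nat_lit 2, nat_lit 1, nat_lit 2, nat_lit 1, nat_lit 2, nat_lit 1, nat_lit 2, nat_lit 1, nat_lit 2]) (.leaf (nat_lit 2377) (nat_lit 2) [nat_lit 1, nat_lit 2, nat_lit 1, nat_lit 2, nat_lit 1, nat_lit 2, nat_lit 1, nat_lit 2, nat_lit 1, nat_lit 2, nat_lit 1, nat_lit 2, nat_lit 1, nat_lit 2, nat_lit 1, nat_lit 2, nat_lit 1])))))) (.node (nat_lit 3381) (.node (nat_lit 3376) (.node (nat_lit 3374) (.node (nat_lit 3373) (.leaf (nat_lit 2376) (nat_lit 1) [nat_lit 2, nat_lit 1, nat_lit 2, nat_lit 1, nat_lit 2, nat_lit 1, nat_lit 2, nat_lit 1, nat_lit 2, nat_lit 1, nat_lit 2, nat_lit 1, nat_lit 2, nat_lit 1, nat_lit 2, nat_lit 1, nat_lit 2]) (.leaf (nat_lit 2377) (nat_lit 2) [nat_lit 1, nat_lit 2, nat_lit 1, nat_lit 2, nat_lit 1, nat_lit 2, nat_lit 1, nat_lit 2, nat_lit 1, nat_lit 2, nat_lit 1, nat_lit 2, nat_lit 1, nat_lit 2, nat_lit 1, nat_lit 2, nat_lit 1])) (.node (nat_lit 3375) (.leaf (nat_lit 2376) (nat_lit 1) [nat_lit 2, nat_lit 1, nat_lit 2, nat_lit 1, nat_lit 2, nat_lit 1, nat_lit 2, nat_lit 1, nat_lit 2, nat_lit 1, nat_lit 2, nat_lit 1, nat_lit 2, nat_lit 1, nat_lit 2, nat_lit 1, nat_lit 2]) (.leaf (nat_lit 2377) (nat_lit 2) [nat_lit 1, nat_lit 2, nat_lit 1, nat_lit 2, nat_lit 1, nat_lit 2, nat_lit 1, nat_lit 2, nat_lit 1, nat_lit 2, nat_lit 1, nat_lit 2, nat_lit 1, nat_lit 2, nat_lit 1, nat_lit 2, nat_lit 1]))) (.node (nat_lit 3378) (.node (nat_lit 3377) (.leaf (nat_lit 2376) (nat_lit 1) [nat_lit 2, nat_lit 1, nat_lit 2, nat_lit 1, nat_lit 2, nat_lit 1, nat_lit 2, nat_lit 1, nat_lit 2, nat_lit 1, nat_lit 2, nat_lit 1, nat_lit 2, nat_lit 1, nat_lit 2, nat_lit 1, nat_lit 2]) (.leaf (nat_lit 2377) (nat_lit 2) [nat_lit 1, nat_lit 2, nat_lit 1, nat_lit 2, nat_lit 1, nat_lit 2, nat_lit 1, nat_lit 2, nat_lit 1, nat_lit 2, nat_lit 1, nat_lit 2, nat_lit 1, nat_lit 2, nat_lit 1, nat_lit 2, nat_lit 1])) (.node (nat_lit 3379) (.leaf (nat_lit 2376) (nat_lit 1) [nat_lit 2, nat_lit 1, nat_lit 2, nat_lit 1, nat_lit 2, nat_lit 1, nat_lit 2, nat_lit 1, nat_lit 2, nat_lit 1, nat_lit 2, nat_lit 1, nat_lit 2, nat_lit 1, nat_lit 2, nat_lit 1, nat_lit 2]) (.node (nat_lit 3380) (.leaf (nat_lit 2377) (nat_lit 2) [nat_lit 1, nat_lit 2, nat_lit 1, nat_lit 2, nat_lit 1, nat_lit 2, nat_lit 1, nat_lit 2, nat_lit 1, nat_lit 2, nat_lit 1, nat_lit 2, nat_lit 1, nat_lit 2, nat_lit 1, nat_lit 2, nat_lit 1]) (.leaf (nat_lit 2376) (nat_lit 1) [nat_lit 2, nat_lit 1, nat_lit 2, nat_lit 1, nat_lit 2, nat_lit 1, nat_lit 2, nat_lit 1, nat_lit 2, nat_lit 1, nat_lit 2, nat_lit 1, nat_lit 2, nat_lit 1, nat_lit 2, nat_lit 1, nat_lit 2]))))) (.node (nat_lit 3386) (.node (nat_lit 3383) (.node (nat_lit 3382) (.leaf (nat_lit 2377) (nat_lit 2) [nat_lit 1, nat_lit 2, nat_lit 1, nat_lit 2, nat_lit 1, nat_lit 2, nat_lit 1, nat_lit 2, nat_lit 1, nat_lit 2, nat_lit 1, nat_lit 2, nat_lit 1, nat_lit 2, nat_lit 1, nat_lit 2, nat_lit 1]) (.leaf (nat_lit 2376) (nat_lit 1) [nat_lit 2, nat_lit 1, nat_lit 2, nat_lit 1, nat_lit 2, nat_lit 1, nat_lit 2, nat_lit 1, nat_lit 2, nat_lit 1, nat_lit 2, nat_lit 1, nat_lit 2, nat_lit 1, nat_lit 2, nat_lit 1, nat_lit 2])) (.node (nat_lit 3384) (.leaf (nat_lit 2377) (nat_lit 2) [nat_lit 1, nat_lit 2, nat_lit 1, nat_lit 2, nat_lit 1, nat_lit 2, nat_lit 1, nat_lit 2, nat_lit 1, nat_lit 2, nat_lit 1, nat_lit 2, nat_lit 1, nat_lit 2, nat_lit 1, nat_lit 2, nat_lit 1]) (.node (nat_lit 3385) (.leaf (nat_lit 2487) (nat_lit 2) [nat_lit 1, nat_lit 2, nat_lit 1, nat_lit 3, nat_lit 1, nat_lit 2, nat_lit 1, nat_lit 2, nat_lit 1, nat_lit 3, nat_lit 1, nat_lit 2, nat_lit 1, nat_lit 2, nat_lit 1, nat_lit 3, nat_lit 1]) (.leaf (nat_lit 2488) (nat_lit 1) [nat_lit 2, nat_lit 1, nat_lit 2, nat_lit 1, nat_lit 3, nat_lit 1, nat_lit 2, nat_lit 1, nat_lit 2, nat_lit 1, nat_lit 3, nat_lit 1, nat_lit 2, nat_lit 1, nat_lit 2, nat_lit 1, nat_lit 3])))) (.node (nat_lit 3388) (.node (nat_lit 3387) (.leaf (nat_lit 2489) (nat_lit 3) [nat_lit 1, nat_lit 2, nat_lit 1, nat_lit 2, nat_lit 1, nat_lit 3, nat_lit 1, nat_lit 2, nat_lit 1, nat_lit 2, nat_lit 1, nat_lit 3, nat_lit 1, nat_lit 2, nat_lit 1, nat_lit 2, nat_lit 1]) (.leaf (nat_lit 2484) (nat_lit 1) [nat_lit 3, nat_lit 1, nat_lit 2, nat_lit 1, nat_lit 2, nat_lit 1, nat_lit 3, nat_lit 1, nat_lit 2, nat_lit 1, nat_lit 2, nat_lit 1, nat_lit 3, nat_lit 1, nat_lit 2, nat_lit 1, nat_lit 2])) (.node (nat_lit 3389) (.leaf (nat_lit 2485) (nat_lit 2) [nat_lit 1, nat_lit 3, nat_lit 1, nat_lit 2, nat_lit 1, nat_lit 2, nat_lit 1, nat_lit 3, nat_lit 1, nat_lit 2, nat_lit 1, nat_lit 2, nat_lit 1, nat_lit 3, nat_lit 1, nat_lit 2, nat_lit 1]) (.node (nat_lit 3390) (.leaf (nat_lit 2486) (nat_lit 1) [nat_lit 2, nat_lit 1, nat_lit 3, nat_lit 1, nat_lit 2, nat_lit 1, nat_lit 2, nat_lit 1, nat_lit 3, nat_lit 1, nat_lit 2, nat_lit 1, nat_lit 2, nat_lit 1, nat_lit 3, nat_lit 1, nat_lit 2]) (.leaf (nat_lit 2487) (nat_lit 2) [nat_lit 1, nat_lit 2, nat_lit 1, nat_lit 3, nat_lit 1, nat_lit 2, nat_lit 1, nat_lit 2, nat_lit 1, nat_lit 3, nat_lit 1, nat_lit 2, nat_lit 1, nat_lit 2, nat_lit 1, nat_lit 3, nat_lit 1])))))))) (.node (nat_lit 3429) (.node (nat_lit 3410) (.node (nat_lit 3400) (.node (nat_lit 3395) (.node (nat_lit 3393) (.node (nat_lit 3392) (.leaf (nat_lit 2488) (nat_lit 1) [nat_lit 2, nat_lit 1, nat_lit 2, nat_lit 1, nat_lit 3, nat_lit 1, nat_lit 2, nat_lit 1, nat_lit 2, nat_lit 1, nat_lit 3, nat_lit 1, nat_lit 2, nat_lit 1, nat_lit 2, nat_lit 1, nat_lit 3]) (.leaf (nat_lit 2489) (nat_lit 3) [nat_lit 1, nat_lit 2, nat_lit 1, nat_lit 2, nat_lit 1, nat_lit 3, nat_lit 1, nat_lit 2, nat_lit 1, nat_lit 2, nat_lit 1, nat_lit 3, nat_lit 1, nat_lit 2, nat_lit 1, nat_lit 2, nat_lit 1])) (.node (nat_lit 3394) (.leaf (nat_lit 2484) (nat_lit 1) [nat_lit 3, nat_lit 1, nat_lit 2, nat_lit 1, nat_lit 2, nat_lit 1, nat_lit 3, nat_lit 1, nat_lit 2, nat_lit 1, nat_lit 2, nat_lit 1, nat_lit 3, nat_lit 1, nat_lit 2, nat_lit 1, nat_lit 2]) (.leaf (nat_lit 2485) (nat_lit 2) [nat_lit 1, nat_lit 3, nat_lit 1, nat_lit 2, nat_lit 1, nat_lit 2, nat_lit 1, nat_lit 3, nat_lit 1, nat_lit 2, nat_lit 1, nat_lit 2, nat_lit 1, nat_lit 3, nat_lit 1, nat_lit 2, nat_lit 1]))) (.node (nat_lit 3397) (.node (nat_lit 3396) (.leaf (nat_lit 2486) (nat_lit 1) [nat_lit 2, nat_lit 1, nat_lit 3, nat_lit 1, nat_lit 2, nat_lit 1, nat_lit 2, nat_lit 1, nat_lit 3, nat_lit 1, nat_lit 2, nat_lit 1, nat_lit 2, nat_lit 1, nat_lit 3, nat_lit 1, nat_lit 2]) (.leaf (nat_lit 2487) (nat_lit 2) [nat_lit 1, nat_lit 2, nat_lit 1, nat_lit 3, nat_lit 1, nat_lit 2, nat_lit 1, nat_lit 2, nat_lit 1, nat_lit 3, nat_lit 1, nat_lit 2, nat_lit 1, nat_lit 2, nat_lit 1, nat_lit 3, nat_lit 1])) (.node (nat_lit 3398) (.leaf (nat_lit 2488) (nat_lit 1) [nat_lit 2, nat_lit 1, nat_lit 2, nat_lit 1, nat_lit 3, nat_lit 1, nat_lit 2, nat_lit 1, nat_lit 2, nat_lit 1, nat_lit 3, nat_lit 1, nat_lit 2, nat_lit 1, nat_lit 2, nat_lit 1, nat_lit 3]) (.node (nat_lit 3399) (.leaf (nat_lit 2489) (nat_lit 3) [nat_lit 1, nat_lit 2, nat_lit 1, nat_lit 2, nat_lit 1, nat_lit 3, nat_lit 1, nat_lit 2, nat_lit 1, nat_lit 2, nat_lit 1, nat_lit 3, nat_lit 1, nat_lit 2, nat_lit 1, nat_lit 2, nat_lit 1]) (.leaf (nat_lit 2484) (nat_lit 1) [nat_lit 3, nat_lit 1, nat_lit 2, nat_lit 1, nat_lit 2, nat_lit 1, nat_lit 3, nat_lit 1, nat_lit 2, nat_lit 1, nat_lit 2, nat_lit 1, nat_lit 3, nat_lit 1, nat_lit 2, nat_lit 1, nat_lit 2]))))) (.node (nat_lit 3405) (.node (nat_lit 3402) (.node (nat_lit 3401) (.leaf (nat_lit 2485) (nat_lit 2) [nat_lit 1, nat_lit 3, nat_lit 1, nat_lit 2, nat_lit 1, nat_lit 2, nat_lit 1, nat_lit 3, nat_lit 1, nat_lit 2, nat_lit 1, nat_lit 2, nat_lit 1, nat_lit 3, nat_lit 1, nat_lit 2, nat_lit 1]) (.leaf (nat_lit 2486) (nat_lit 1) [nat_lit 2, nat_lit 1, nat_lit 3, nat_lit 1, nat_lit 2, nat_lit 1, nat_lit 2, nat_lit 1, nat_lit 3, nat_lit 1, nat_lit 2, nat_lit 1, nat_lit 2, nat_lit 1, nat_lit 3, nat_lit 1, nat_lit 2])) (.node (nat_lit 3403) (.leaf (nat_lit 2486) (nat_lit 1) [nat_lit 2, nat_lit 1, nat_lit 3, nat_lit 1, nat_lit 2, nat_lit 1, nat_lit 2, nat_lit 1, nat_lit 3, nat_lit 1, nat_lit 2, nat_lit 1, nat_lit 2, nat_lit 1, nat_lit 3, nat_lit 1, nat_lit 2]) (.node (nat_lit 3404) (.leaf (nat_lit 2487) (nat_lit 2) [nat_lit 1, nat_lit 2, nat_lit 1, nat_lit 3, nat_lit 1, nat_lit 2, nat_lit 1, nat_lit 2, nat_lit 1, nat_lit 3, nat_lit 1, nat_lit 2, nat_lit 1, nat_lit 2, nat_lit 1, nat_lit 3, nat_lit 1]) (.leaf (nat_lit 2488) (nat_lit 1) [nat_lit 2, nat_lit 1, nat_lit 2, nat_lit 1, nat_lit 3, nat_lit 1, nat_lit 2, nat_lit 1, nat_lit 2, nat_lit 1, nat_lit 3, nat_lit 1, nat_lit 2, nat_lit 1, nat_lit 2, nat_lit 1, nat_lit 3])))) (.node (nat_lit 3407) (.node (nat_lit 3406) (.leaf (nat_lit 2489) (nat_lit 3) [nat_lit 1, nat_lit 2, nat_lit 1, nat_lit 2, nat_lit 1, nat_lit 3, nat_lit 1, nat_lit 2, nat_lit 1, nat_lit 2, nat_lit 1, nat_lit 3, nat_lit 1, nat_lit 2, nat_lit 1, nat_lit 2, nat_lit 1]) (.leaf (nat_lit 2484) (nat_lit 1) [nat_lit 3, nat_lit 1, nat_lit 2, nat_lit 1, nat_lit 2, nat_lit 1, nat_lit 3, nat_lit 1, nat_lit 2, nat_lit 1, nat_lit 2, nat_lit 1, nat_lit 3, nat_lit 1, nat_lit 2, nat_lit 1, nat_lit 2])) (.node (nat_lit 3408) (.leaf (nat_lit 2485) (nat_lit 2) [nat_lit 1, nat_lit 3, nat_lit 1, nat_lit 2, nat_lit 1, nat_lit 2, nat_lit 1, nat_lit 3, nat_lit 1, nat_lit 2, nat_lit 1, nat_lit 2, nat_lit 1, nat_lit 3, nat_lit 1, nat_lit 2, nat_lit 1]) (.node (nat_lit 3409) (.leaf (nat_lit 2486) (nat_lit 1) [nat_lit 2, nat_lit 1, nat_lit 3, nat_lit 1, nat_lit 2, nat_lit 1, nat_lit 2, nat_lit 1, nat_lit 3, nat_lit 1, nat_lit 2, nat_lit 1, nat_lit 2, nat_lit 1, nat_lit 3, nat_lit 1, nat_lit 2]) (.leaf (nat_lit 2487) (nat_lit 2) [nat_lit 1, nat_lit 2, nat_lit 1, nat_lit 3, nat_lit 1, nat_lit 2, nat_lit 1, nat_lit 2, nat_lit 1, nat_lit 3, nat_lit 1, nat_lit 2, nat_lit 1, nat_lit 2, nat_lit 1, nat_lit 3, nat_lit 1])))))) (.node (nat_lit 3419) (.node (nat_lit 3414) (.node (nat_lit 3412) (.node (nat_lit 3411) (.leaf (nat_lit 2488) (nat_lit 1) [nat_lit 2, nat_lit 1, nat_lit 2, nat_lit 1, nat_lit 3, nat_lit 1, nat_lit 2, nat_lit 1, nat_lit 2, nat_lit 1, nat_lit 3, nat_lit 1, nat_lit 2, nat_lit 1, nat_lit 2, nat_lit 1, nat_lit 3]) (.leaf (nat_lit 2489) (nat_lit 3) [nat_lit 1, nat_lit 2, nat_lit 1, nat_lit 2, nat_lit 1, nat_lit 3, nat_lit 1, nat_lit 2, nat_lit 1, nat_lit 2, nat_lit 1, nat_lit 3, nat_lit 1, nat_lit 2, nat_lit 1, nat_lit 2, nat_lit 1])) (.node (nat_lit 3413) (.leaf (nat_lit 2484) (nat_lit 1) [nat_lit 3, nat_lit 1, nat_lit 2, nat_lit 1, nat_lit 2, nat_lit 1, nat_lit 3, nat_lit 1, nat_lit 2, nat_lit 1, nat_lit 2, nat_lit 1, nat_lit 3, nat_lit 1, nat_lit 2, nat_lit 1, nat_lit 2]) (.leaf (nat_lit 2485) (nat_lit 2) [nat_lit 1, nat_lit 3, nat_lit 1, nat_lit 2, nat_lit 1, nat_lit 2, nat_lit 1, nat_lit 3, nat_lit 1, nat_lit 2, nat_lit 1, nat_lit 2, nat_lit 1, nat_lit 3, nat_lit 1, nat_lit 2, nat_lit 1]))) (.node (nat_lit 3416) (.node (nat_lit 3415) (.leaf (nat_lit 2486) (nat_lit 1) [nat_lit 2, nat_lit 1, nat_lit 3, nat_lit 1, nat_lit 2, nat_lit 1, nat_lit 2, nat_lit 1, nat_lit 3, nat_lit 1, nat_lit 2, nat_lit 1, nat_lit 2, nat_lit 1, nat_lit 3, nat_lit 1, nat_lit 2]) (.leaf (nat_lit 2487) (nat_lit 2) [nat_lit 1, nat_lit 2, nat_lit 1, nat_lit 3, nat_lit 1, nat_lit 2, nat_lit 1, nat_lit 2, nat_lit 1, nat_lit 3, nat_lit 1, nat_lit 2, nat_lit 1, nat_lit 2, nat_lit 1, nat_lit 3, nat_lit 1])) (.node (nat_lit 3417) (.leaf (nat_lit 2488) (nat_lit 1) [nat_lit 2, nat_lit 1, nat_lit 2, nat_lit 1, nat_lit 3, nat_lit 1, nat_lit 2, nat_lit 1, nat_lit 2, nat_lit 1, nat_lit 3, nat_lit 1, nat_lit 2, nat_lit 1, nat_lit 2, nat_lit 1, nat_lit 3]) (.node (nat_lit 3418) (.leaf (nat_lit 2489) (nat_lit 3) [nat_lit 1, nat_lit 2, nat_lit 1, nat_lit 2, nat_lit 1, nat_lit 3, nat_lit 1, nat_lit 2, nat_lit 1, nat_lit 2, nat_lit 1, nat_lit 3, nat_lit 1, nat_lit 2, nat_lit 1, nat_lit 2, nat_lit 1]) (.leaf (nat_lit 2484) (nat_lit 1) [nat_lit 3, nat_lit 1, nat_lit 2, nat_lit 1, nat_lit 2, nat_lit 1, nat_lit 3, nat_lit 1, nat_lit 2, nat_lit 1, nat_lit 2, nat_lit 1, nat_lit 3, nat_lit 1, nat_lit 2, nat_lit 1, nat_lit 2]))))) (.node (nat_lit 3424) (.node (nat_lit 3421) (.node (nat_lit 3420) (.leaf (nat_lit 2485) (nat_lit 2) [nat_lit 1, nat_lit 3, nat_lit 1, nat_lit 2, nat_lit 1, nat_lit 2, nat_lit 1, nat_lit 3, nat_lit 1, nat_lit 2, nat_lit 1, nat_lit 2, nat_lit 1, nat_lit 3, nat_lit 1, nat_lit 2, nat_lit 1]) (.leaf (nat_lit 2307) (nat_lit 2) [nat_lit 3, nat_lit 2, nat_lit 1, nat_lit 0, nat_lit 1, nat_lit 2, nat_lit 3, nat_lit 2, nat_lit 1, nat_lit 0, nat_lit 1, nat_lit 2, nat_lit 3, nat_lit 2, nat_lit 1, nat_lit 0, nat_lit 1])) (.node (nat_lit 3422) (.leaf (nat_lit 2308) (nat_lit 1) [nat_lit 2, nat_lit 3, nat_lit 2, nat_lit 1, nat_lit 0, nat_lit 1, nat_lit 2, nat_lit 3, nat_lit 2, nat_lit 1, nat_lit 0, nat_lit 1, nat_lit 2, nat_lit 3, nat_lit 2, nat_lit 1, nat_lit 0]) (.node (nat_lit 3423) (.leaf (nat_lit 2309) (nat_lit 0) [nat_lit 1, nat_lit 2, nat_lit 3, nat_lit 2, nat_lit 1, nat_lit 0, nat_lit 1, nat_lit 2, nat_lit 3, nat_lit 2, nat_lit 1, nat_lit 0, nat_lit 1, nat_lit 2, nat_lit 3, nat_lit 2, nat_lit 1]) (.leaf (nat_lit 2304) (nat_lit 1) [nat_lit 0, nat_lit 1, nat_lit 2, nat_lit 3, nat_lit 2, nat_lit 1, nat_lit 0, nat_lit 1, nat_lit 2, nat_lit 3, nat_lit 2, nat_lit 1, nat_lit 0, nat_lit 1, nat_lit 2, nat_lit 3, nat_lit 2])))) (.node (nat_lit 3426) (.node (nat_lit 3425) (.leaf (nat_lit 2305) (nat_lit 2) [nat_lit 1, nat_lit 0, nat_lit 1, nat_lit 2, nat_lit 3, nat_lit 2, nat_lit 1, nat_lit 0, nat_lit 1, nat_lit 2, nat_lit 3, nat_lit 2, nat_lit 1, nat_lit 0, nat_lit 1, nat_lit 2, nat_lit 3]) (.leaf (nat_lit 2306) (nat_lit 3) [nat_lit 2, nat_lit 1, nat_lit 0, nat_lit 1, nat_lit 2, nat_lit 3, nat_lit 2, nat_lit 1, nat_lit 0, nat_lit 1, nat_lit 2, nat_lit 3, nat_lit 2, nat_lit 1, nat_lit 0, nat_lit 1, nat_lit 2])) (.node (nat_lit 3427) (.leaf (nat_lit 2307) (nat_lit 2) [nat_lit 3, nat_lit 2, nat_lit 1, nat_lit 0, nat_lit 1, nat_lit 2, nat_lit 3, nat_lit 2, nat_lit 1, nat_lit 0, nat_lit 1, nat_lit 2, nat_lit 3, nat_lit 2, nat_lit 1, nat_lit 0, nat_lit 1]) (.node (nat_lit 3428) (.leaf (nat_lit 2308) (nat_lit 1) [nat_lit 2, nat_lit 3, nat_lit 2, nat_lit 1, nat_lit 0, nat_lit 1, nat_lit 2, nat_lit 3, nat_lit 2, nat_lit 1, nat_lit 0, nat_lit 1, nat_lit 2, nat_lit 3, nat_lit 2, nat_lit 1, nat_lit 0]) (.leaf (nat_lit 2309) (nat_lit 0) [nat_lit 1, nat_lit 2, nat_lit 3, nat_lit 2, nat_lit 1, nat_lit 0, nat_lit 1, nat_lit 2, nat_lit 3, nat_lit 2, nat_lit 1, nat_lit 0, nat_lit 1, nat_lit 2, nat_lit 3, nat_lit 2, nat_lit 1]))))))) (.node (nat_lit 3448) (.node (nat_lit 3438) (.node (nat_lit 3433) (.node (nat_lit 3431) (.node (nat_lit 3430) (.leaf (nat_lit 2304) (nat_lit 1) [nat_lit 0, nat_lit 1, nat_lit 2, nat_lit 3, nat_lit 2, nat_lit 1, nat_lit 0, nat_lit 1, nat_lit 2, nat_lit 3, nat_lit 2, nat_lit 1, nat_lit 0, nat_lit 1, nat_lit 2, nat_lit 3, nat_lit 2]) (.leaf (nat_lit 2305) (nat_lit 2) [nat_lit 1, nat_lit 0, nat_lit 1, nat_lit 2, nat_lit 3, nat_lit 2, nat_lit 1, nat_lit 0, nat_lit 1, nat_lit 2, nat_lit 3, nat_lit 2, nat_lit 1, nat_lit 0, nat_lit 1, nat_lit 2, nat_lit 3])) (.node (nat_lit 3432) (.leaf (nat_lit 2306) (nat_lit 3) [nat_lit 2, nat_lit 1, nat_lit 0, nat_lit 1, nat_lit 2, nat_lit 3, nat_lit 2, nat_lit 1, nat_lit 0, nat_lit 1, nat_lit 2, nat_lit 3, nat_lit 2, nat_lit 1, nat_lit 0, nat_lit 1, nat_lit 2]) (.leaf (nat_lit 2307) (nat_lit 2) [nat_lit 3, nat_lit 2, nat_lit 1, nat_lit 0, nat_lit 1, nat_lit 2, nat_lit 3, nat_lit 2, nat_lit 1, nat_lit 0, nat_lit 1, nat_lit 2, nat_lit 3, nat_lit 2, nat_lit 1, nat_lit 0, nat_lit 1]))) (.node (nat_lit 3435) (.node (nat_lit 3434) (.leaf (nat_lit 2308) (nat_lit 1) [nat_lit 2, nat_lit 3, nat_lit 2, nat_lit 1, nat_lit 0, nat_lit 1, nat_lit 2, nat_lit 3, nat_lit 2, nat_lit 1, nat_lit 0, nat_lit 1, nat_lit 2, nat_lit 3, nat_lit 2, nat_lit 1, nat_lit 0]) (.leaf (nat_lit 2309) (nat_lit 0) [nat_lit 1, nat_lit 2, nat_lit 3, nat_lit 2, nat_lit 1, nat_lit 0, nat_lit 1, nat_lit 2, nat_lit 3, nat_lit 2, nat_lit 1, nat_lit 0, nat_lit 1, nat_lit 2, nat_lit 3, nat_lit 2, nat_lit 1])) (.node (nat_lit 3436) (.leaf (nat_lit 2304) (nat_lit 1) [nat_lit 0, nat_lit 1, nat_lit 2, nat_lit 3, nat_lit 2, nat_lit 1, nat_lit 0, nat_lit 1, nat_lit 2, nat_lit 3, nat_lit 2, nat_lit 1, nat_lit 0, nat_lit 1, nat_lit 2, nat_lit 3, nat_lit 2]) (.node (nat_lit 3437) (.leaf (nat_lit 2305) (nat_lit 2) [nat_lit 1, nat_lit 0, nat_lit 1, nat_lit 2, nat_lit 3, nat_lit 2, nat_lit 1, nat_lit 0, nat_lit 1, nat_lit 2, nat_lit 3, nat_lit 2, nat_lit 1, nat_lit 0, nat_lit 1, nat_lit 2, nat_lit 3]) (.leaf (nat_lit 2306) (nat_lit 3) [nat_lit 2, nat_lit 1, nat_lit 0, nat_lit 1, nat_lit 2, nat_lit 3, nat_lit 2, nat_lit 1, nat_lit 0, nat_lit 1, nat_lit 2, nat_lit 3, nat_lit 2, nat_lit 1, nat_lit 0, nat_lit 1, nat_lit 2]))))) (.node (nat_lit 3443) (.node (nat_lit 3440) (.node (nat_lit 3439) (.leaf (nat_lit 2306) (nat_lit 3) [nat_lit 2, nat_lit 1, nat_lit 0, nat_lit 1, nat_lit 2, nat_lit 3, nat_lit 2, nat_lit 1, nat_lit 0, nat_lit 1, nat_lit 2, nat_lit 3, nat_lit 2, nat_lit 1, nat_lit 0, nat_lit 1, nat_lit 2]) (.leaf (nat_lit 2307) (nat_lit 2) [nat_lit 3, nat_lit 2, nat_lit 1, nat_lit 0, nat_lit 1, nat_lit 2, nat_lit 3, nat_lit 2, nat_lit 1, nat_lit 0, nat_lit 1, nat_lit 2, nat_lit 3, nat_lit 2, nat_lit 1, nat_lit 0, nat_lit 1])) (.node (nat_lit 3441) (.leaf (nat_lit 2308) (nat_lit 1) [nat_lit 2, nat_lit 3, nat_lit 2, nat_lit 1, nat_lit 0, nat_lit 1, nat_lit 2, nat_lit 3, nat_lit 2, nat_lit 1, nat_lit 0, nat_lit 1, nat_lit 2, nat_lit 3, nat_lit 2, nat_lit 1, nat_lit 0]) (.node (nat_lit 3442) (.leaf (nat_lit 2309) (nat_lit 0) [nat_lit 1, nat_lit 2, nat_lit 3, nat_lit 2, nat_lit 1, nat_lit 0, nat_lit 1, nat_lit 2, nat_lit 3, nat_lit 2, nat_lit 1, nat_lit 0, nat_lit 1, nat_lit 2, nat_lit 3, nat_lit 2, nat_lit 1]) (.leaf (nat_lit 2304) (nat_lit 1) [nat_lit 0, nat_lit 1, nat_lit 2, nat_lit 3, nat_lit 2, nat_lit 1, nat_lit 0, nat_lit 1, nat_lit 2, nat_lit 3, nat_lit 2, nat_lit 1, nat_lit 0, nat_lit 1, nat_lit 2, nat_lit 3, nat_lit 2])))) (.node (nat_lit 3445) (.node (nat_lit 3444) (.leaf (nat_lit 2305) (nat_lit 2) [nat_lit 1, nat_lit 0, nat_lit 1, nat_lit 2, nat_lit 3, nat_lit 2, nat_lit 1, nat_lit 0, nat_lit 1, nat_lit 2, nat_lit 3, nat_lit 2, nat_lit 1, nat_lit 0, nat_lit 1, nat_lit 2, nat_lit 3]) (.leaf (nat_lit 2306) (nat_lit 3) [nat_lit 2, nat_lit 1, nat_lit 0, nat_lit 1, nat_lit 2, nat_lit 3, nat_lit 2, nat_lit 1, nat_lit 0, nat_lit 1, nat_lit 2, nat_lit 3, nat_lit 2, nat_lit 1, nat_lit 0, nat_lit 1, nat_lit 2])) (.node (nat_lit 3446) (.leaf (nat_lit 2307) (nat_lit 2) [nat_lit 3, nat_lit 2, nat_lit 1, nat_lit 0, nat_lit 1, nat_lit 2, nat_lit 3, nat_lit 2, nat_lit 1, nat_lit 0, nat_lit 1, nat_lit 2, nat_lit 3, nat_lit 2, nat_lit 1, nat_lit 0, nat_lit 1]) (.node (nat_lit 3447) (.leaf (nat_lit 2308) (nat_lit 1) [nat_lit 2, nat_lit 3, nat_lit 2, nat_lit 1, nat_lit 0, nat_lit 1, nat_lit 2, nat_lit 3, nat_lit 2, nat_lit 1, nat_lit 0, nat_lit 1, nat_lit 2, nat_lit 3, nat_lit 2, nat_lit 1, nat_lit 0]) (.leaf (nat_lit 2309) (nat_lit 0) [nat_lit 1, nat_lit 2, nat_lit 3, nat_lit 2, nat_lit 1, nat_lit 0, nat_lit 1, nat_lit 2, nat_lit 3, nat_lit 2, nat_lit 1, nat_lit 0, nat_lit 1, nat_lit 2, nat_lit 3, nat_lit 2, nat_lit 1])))))) (.node (nat_lit 3457) (.node (nat_lit 3452) (.node (nat_lit 3450) (.node (nat_lit 3449) (.leaf (nat_lit 2304) (nat_lit 1) [nat_lit 0, nat_lit 1, nat_lit 2, nat_lit 3, nat_lit 2, nat_lit 1, nat_lit 0, nat_lit 1, nat_lit 2, nat_lit 3, nat_lit 2, nat_lit 1, nat_lit 0, nat_lit 1, nat_lit 2, nat_lit 3, nat_lit 2]) (.leaf (nat_lit 2305) (nat_lit 2) [nat_lit 1, nat_lit 0, nat_lit 1, nat_lit 2, nat_lit 3, nat_lit 2, nat_lit 1, nat_lit 0, nat_lit 1, nat_lit 2, nat_lit 3, nat_lit 2, nat_lit 1, nat_lit 0, nat_lit 1, nat_lit 2, nat_lit 3])) (.node (nat_lit 3451) (.leaf (nat_lit 2306) (nat_lit 3) [nat_lit 2, nat_lit 1, nat_lit 0, nat_lit 1, nat_lit 2, nat_lit 3, nat_lit 2, nat_lit 1, nat_lit 0, nat_lit 1, nat_lit 2, nat_lit 3, nat_lit 2, nat_lit 1, nat_lit 0, nat_lit 1, nat_lit 2]) (.leaf (nat_lit 2307) (nat_lit 2) [nat_lit 3, nat_lit 2, nat_lit 1, nat_lit 0, nat_lit 1, nat_lit 2, nat_lit 3, nat_lit 2, nat_lit 1, nat_lit 0, nat_lit 1, nat_lit 2, nat_lit 3, nat_lit 2, nat_lit 1, nat_lit 0, nat_lit 1]))) (.node (nat_lit 3454) (.node (nat_lit 3453) (.leaf (nat_lit 2308) (nat_lit 1) [nat_lit 2, nat_lit 3, nat_lit 2, nat_lit 1, nat_lit 0, nat_lit 1, nat_lit 2, nat_lit 3, nat_lit 2, nat_lit 1, nat_lit 0, nat_lit 1, nat_lit 2, nat_lit 3, nat_lit 2, nat_lit 1, nat_lit 0]) (.leaf (nat_lit 2309) (nat_lit 0) [nat_lit 1, nat_lit 2, nat_lit 3, nat_lit 2, nat_lit 1, nat_lit 0, nat_lit 1, nat_lit 2, nat_lit 3, nat_lit 2, nat_lit 1, nat_lit 0, nat_lit 1, nat_lit 2, nat_lit 3, nat_lit 2, nat_lit 1])) (.node (nat_lit 3455) (.leaf (nat_lit 2304) (nat_lit 1) [nat_lit 0, nat_lit 1, nat_lit 2, nat_lit 3, nat_lit 2, nat_lit 1, nat_lit 0, nat_lit 1, nat_lit 2, nat_lit 3, nat_lit 2, nat_lit 1, nat_lit 0, nat_lit 1, nat_lit 2, nat_lit 3, nat_lit 2]) (.node (nat_lit 3456) (.leaf (nat_lit 2305) (nat_lit 2) [nat_lit 1, nat_lit 0, nat_lit 1, nat_lit 2, nat_lit 3, nat_lit 2, nat_lit 1, nat_lit 0, nat_lit 1, nat_lit 2, nat_lit 3, nat_lit 2, nat_lit 1, nat_lit 0, nat_lit 1, nat_lit 2, nat_lit 3]) (.leaf (nat_lit 2415) (nat_lit 2) [nat_lit 3, nat_lit 2, nat_lit 1, nat_lit 2, nat_lit 1, nat_lit 2, nat_lit 3, nat_lit 2, nat_lit 1, nat_lit 2, nat_lit 1, nat_lit 2, nat_lit 3, nat_lit 2, nat_lit 1, nat_lit 2, nat_lit 1]))))) (.node (nat_lit 3462) (.node (nat_lit 3459) (.node (nat_lit 3458) (.leaf (nat_lit 2416) (nat_lit 1) [nat_lit 2, nat_lit 3, nat_lit 2, nat_lit 1, nat_lit 2, nat_lit 1, nat_lit 2, nat_lit 3, nat_lit 2, nat_lit 1, nat_lit 2, nat_lit 1, nat_lit 2, nat_lit 3, nat_lit 2, nat_lit 1, nat_lit 2]) (.leaf (nat_lit 2417) (nat_lit 2) [nat_lit 1, nat_lit 2, nat_lit 3, nat_lit 2, nat_lit 1, nat_lit 2, nat_lit 1, nat_lit 2, nat_lit 3, nat_lit 2, nat_lit 1, nat_lit 2, nat_lit 1, nat_lit 2, nat_lit 3, nat_lit 2, nat_lit 1])) (.node (nat_lit 3460) (.leaf (nat_lit 2412) (nat_lit 1) [nat_lit 2, nat_lit 1, nat_lit 2, nat_lit 3, nat_lit 2, nat_lit 1, nat_lit 2, nat_lit 1, nat_lit 2, nat_lit 3, nat_lit 2, nat_lit 1, nat_lit 2, nat_lit 1, nat_lit 2, nat_lit 3, nat_lit 2]) (.node (nat_lit 3461) (.leaf (nat_lit 2413) (nat_lit 2) [nat_lit 1, nat_lit 2, nat_lit 1, nat_lit 2, nat_lit 3, nat_lit 2, nat_lit 1, nat_lit 2, nat_lit 1, nat_lit 2, nat_lit 3, nat_lit 2, nat_lit 1, nat_lit 2, nat_lit 1, nat_lit 2, nat_lit 3]) (.leaf (nat_lit 2414) (nat_lit 3) [nat_lit 2, nat_lit 1, nat_lit 2, nat_lit 1, nat_lit 2, nat_lit 3, nat_lit 2, nat_lit 1, nat_lit 2, nat_lit 1, nat_lit 2, nat_lit 3, nat_lit 2, nat_lit 1, nat_lit 2, nat_lit 1, nat_lit 2])))) (.node (nat_lit 3464) (.node (nat_lit 3463) (.leaf (nat_lit 2415) (nat_lit 2) [nat_lit 3, nat_lit 2, nat_lit 1, nat_lit 2, nat_lit 1, nat_lit 2, nat_lit 3, nat_lit 2, nat_lit 1, nat_lit 2, nat_lit 1, nat_lit 2, nat_lit 3, nat_lit 2, nat_lit 1, nat_lit 2, nat_lit 1]) (.leaf (nat_lit 2416) (nat_lit 1) [nat_lit 2, nat_lit 3, nat_lit 2, nat_lit 1, nat_lit 2, nat_lit 1, nat_lit 2, nat_lit 3, nat_lit 2, nat_lit 1, nat_lit 2, nat_lit 1, nat_lit 2, nat_lit 3, nat_lit 2, nat_lit 1, nat_lit 2])) (.node (nat_lit 3465) (.leaf (nat_lit 2417) (nat_lit 2) [nat_lit 1, nat_lit 2, nat_lit 3, nat_lit 2, nat_lit 1, nat_lit 2, nat_lit 1, nat_lit 2, nat_lit 3, nat_lit 2, nat_lit 1, nat_lit 2, nat_lit 1, nat_lit 2, nat_lit 3, nat_lit 2, nat_lit 1]) (.node (nat_lit 3466) (.leaf (nat_lit 2412) (nat_lit 1) [nat_lit 2, nat_lit 1, nat_lit 2, nat_lit 3, nat_lit 2, nat_lit 1, nat_lit 2, nat_lit 1, nat_lit 2, nat_lit 3, nat_lit 2, nat_lit 1, nat_lit 2, nat_lit 1, nat_lit 2, nat_lit 3, nat_lit 2]) (.leaf (nat_lit 2413) (nat_lit 2) [nat_lit 1, nat_lit 2, nat_lit 1, nat_lit 2, nat_lit 3, nat_lit 2, nat_lit 1, nat_lit 2, nat_lit 1, nat_lit 2, nat_lit 3, nat_lit 2, nat_lit 1, nat_lit 2, nat_lit 1, nat_lit 2, nat_lit 3]))))))))) (.node (nat_lit 3542) (.node (nat_lit 3504) (.node (nat_lit 3485) (.node (nat_lit 3476) (.node (nat_lit 3471) (.node (nat_lit 3469) (.node (nat_lit 3468) (.leaf (nat_lit 2414) (nat_lit 3) [nat_lit 2, nat_lit 1, nat_lit 2, nat_lit 1, nat_lit 2, nat_lit 3, nat_lit 2, nat_lit 1, nat_lit 2, nat_lit 1, nat_lit 2, nat_lit 3, nat_lit 2, nat_lit 1, nat_lit 2, nat_lit 1, nat_lit 2]) (.leaf (nat_lit 2415) (nat_lit 2) [nat_lit 3, nat_lit 2, nat_lit 1, nat_lit 2, nat_lit 1, nat_lit 2, nat_lit 3, nat_lit 2, nat_lit 1, nat_lit 2, nat_lit 1, nat_lit 2, nat_lit 3, nat_lit 2, nat_lit 1, nat_lit 2, nat_lit 1])) (.node (nat_lit 3470) (.leaf (nat_lit 2416) (nat_lit 1) [nat_lit 2, nat_lit 3, nat_lit 2, nat_lit 1, nat_lit 2, nat_lit 1, nat_lit 2, nat_lit 3, nat_lit 2, nat_lit 1, nat_lit 2, nat_lit 1, nat_lit 2, nat_lit 3, nat_lit 2, nat_lit 1, nat_lit 2]) (.leaf (nat_lit 2417) (nat_lit 2) [nat_lit 1, nat_lit 2, nat_lit 3, nat_lit 2, nat_lit 1, nat_lit 2, nat_lit 1, nat_lit 2, nat_lit 3, nat_lit 2, nat_lit 1, nat_lit 2, nat_lit 1, nat_lit 2, nat_lit 3, nat_lit 2, nat_lit 1]))) (.node (nat_lit 3473) (.node (nat_lit 3472) (.leaf (nat_lit 2412) (nat_lit 1) [nat_lit 2, nat_lit 1, nat_lit 2, nat_lit 3, nat_lit 2, nat_lit 1, nat_lit 2, nat_lit 1, nat_lit 2, nat_lit 3, nat_lit 2, nat_lit 1, nat_lit 2, nat_lit 1, nat_lit 2, nat_lit 3, nat_lit 2]) (.leaf (nat_lit 2413) (nat_lit 2) [nat_lit 1, nat_lit 2, nat_lit 1, nat_lit 2, nat_lit 3, nat_lit 2, nat_lit 1, nat_lit 2, nat_lit 1, nat_lit 2, nat_lit 3, nat_lit 2, nat_lit 1, nat_lit 2, nat_lit 1, nat_lit 2, nat_lit 3])) (.node (nat_lit 3474) (.leaf (nat_lit 2414) (nat_lit 3) [nat_lit 2, nat_lit 1, nat_lit 2, nat_lit 1, nat_lit 2, nat_lit 3, nat_lit 2, nat_lit 1, nat_lit 2, nat_lit 1, nat_lit 2, nat_lit 3, nat_lit 2, nat_lit 1, nat_lit 2, nat_lit 1, nat_lit 2]) (.node (nat_lit 3475) (.leaf (nat_lit 2414) (nat_lit 3) [nat_lit 2, nat_lit 1, nat_lit 2, nat_lit 1, nat_lit 2, nat_lit 3, nat_lit 2, nat_lit 1, nat_lit 2, nat_lit 1, nat_lit 2, nat_lit 3, nat_lit 2, nat_lit 1, nat_lit 2, nat_lit 1, nat_lit 2]) (.leaf (nat_lit 2415) (nat_lit 2) [nat_lit 3, nat_lit 2, nat_lit 1, nat_lit 2, nat_lit 1, nat_lit 2, nat_lit 3, nat_lit 2, nat_lit 1, nat_lit 2, nat_lit 1, nat_lit 2, nat_lit 3, nat_lit 2, nat_lit 1, nat_lit 2, nat_lit 1]))))) (.node (nat_lit 3480) (.node (nat_lit 3478) (.node (nat_lit 3477) (.leaf (nat_lit 2416) (nat_lit 1) [nat_lit 2, nat_lit 3, nat_lit 2, nat_lit 1, nat_lit 2, nat_lit 1, nat_lit 2, nat_lit 3, nat_lit 2, nat_lit 1, nat_lit 2, nat_lit 1, nat_lit 2, nat_lit 3, nat_lit 2, nat_lit 1, nat_lit 2]) (.leaf (nat_lit 2417) (nat_lit 2) [nat_lit 1, nat_lit 2, nat_lit 3, nat_lit 2, nat_lit 1, nat_lit 2, nat_lit 1, nat_lit 2, nat_lit 3, nat_lit 2, nat_lit 1, nat_lit 2, nat_lit 1, nat_lit 2, nat_lit 3, nat_lit 2, nat_lit 1])) (.node (nat_lit 3479) (.leaf (nat_lit 2412) (nat_lit 1) [nat_lit 2, nat_lit 1, nat_lit 2, nat_lit 3, nat_lit 2, nat_lit 1, nat_lit 2, nat_lit 1, nat_lit 2, nat_lit 3, nat_lit 2, nat_lit 1, nat_lit 2, nat_lit 1, nat_lit 2, nat_lit 3, nat_lit 2]) (.leaf (nat_lit 2413) (nat_lit 2) [nat_lit 1, nat_lit 2, nat_lit 1, nat_lit 2, nat_lit 3, nat_lit 2, nat_lit 1, nat_lit 2, nat_lit 1, nat_lit 2, nat_lit 3, nat_lit 2, nat_lit 1, nat_lit 2, nat_lit 1, nat_lit 2, nat_lit 3]))) (.node (nat_lit 3482) (.node (nat_lit 3481) (.leaf (nat_lit 2414) (nat_lit 3) [nat_lit 2, nat_lit 1, nat_lit 2, nat_lit 1, nat_lit 2, nat_lit 3, nat_lit 2, nat_lit 1, nat_lit 2, nat_lit 1, nat_lit 2, nat_lit 3, nat_lit 2, nat_lit 1, nat_lit 2, nat_lit 1, nat_lit 2]) (.leaf (nat_lit 2415) (nat_lit 2) [nat_lit 3, nat_lit 2, nat_lit 1, nat_lit 2, nat_lit 1, nat_lit 2, nat_lit 3, nat_lit 2, nat_lit 1, nat_lit 2, nat_lit 1, nat_lit 2, nat_lit 3, nat_lit 2, nat_lit 1, nat_lit 2, nat_lit 1])) (.node (nat_lit 3483) (.leaf (nat_lit 2416) (nat_lit 1) [nat_lit 2, nat_lit 3, nat_lit 2, nat_lit 1, nat_lit 2, nat_lit 1, nat_lit 2, nat_lit 3, nat_lit 2, nat_lit 1, nat_lit 2, nat_lit 1, nat_lit 2, nat_lit 3, nat_lit 2, nat_lit 1, nat_lit 2]) (.node (nat_lit 3484) (.leaf (nat_lit 2417) (nat_lit 2) [nat_lit 1, nat_lit 2, nat_lit 3, nat_lit 2, nat_lit 1, nat_lit 2, nat_lit 1, nat_lit 2, nat_lit 3, nat_lit 2, nat_lit 1, nat_lit 2, nat_lit 1, nat_lit 2, nat_lit 3, nat_lit 2, nat_lit 1]) (.leaf (nat_lit 2412) (nat_lit 1) [nat_lit 2, nat_lit 1, nat_lit 2, nat_lit 3, nat_lit 2, nat_lit 1, nat_lit 2, nat_lit 1, nat_lit 2, nat_lit 3, nat_lit 2, nat_lit 1, nat_lit 2, nat_lit 1, nat_lit 2, nat_lit 3, nat_lit 2])))))) (.node (nat_lit 3494) (.node (nat_lit 3489) (.node (nat_lit 3487) (.node (nat_lit 3486) (.leaf (nat_lit 2413) (nat_lit 2) [nat_lit 1, nat_lit 2, nat_lit 1, nat_lit 2, nat_lit 3, nat_lit 2, nat_lit 1, nat_lit 2, nat_lit 1, nat_lit 2, nat_lit 3, nat_lit 2, nat_lit 1, nat_lit 2, nat_lit 1, nat_lit 2, nat_lit 3]) (.leaf (nat_lit 2414) (nat_lit 3) [nat_lit 2, nat_lit 1, nat_lit 2, nat_lit 1, nat_lit 2, nat_lit 3, nat_lit 2, nat_lit 1, nat_lit 2, nat_lit 1, nat_lit 2, nat_lit 3, nat_lit 2, nat_lit 1, nat_lit 2, nat_lit 1, nat_lit 2])) (.node (nat_lit 3488) (.leaf (nat_lit 2415) (nat_lit 2) [nat_lit 3, nat_lit 2, nat_lit 1, nat_lit 2, nat_lit 1, nat_lit 2, nat_lit 3, nat_lit 2, nat_lit 1, nat_lit 2, nat_lit 1, nat_lit 2, nat_lit 3, nat_lit 2, nat_lit 1, nat_lit 2, nat_lit 1]) (.leaf (nat_lit 2416) (nat_lit 1) [nat_lit 2, nat_lit 3, nat_lit 2, nat_lit 1, nat_lit 2, nat_lit 1, nat_lit 2, nat_lit 3, nat_lit 2, nat_lit 1, nat_lit 2, nat_lit 1, nat_lit 2, nat_lit 3, nat_lit 2, nat_lit 1, nat_lit 2]))) (.node (nat_lit 3491) (.node (nat_lit 3490) (.leaf (nat_lit 2417) (nat_lit 2) [nat_lit 1, nat_lit 2, nat_lit 3, nat_lit 2, nat_lit 1, nat_lit 2, nat_lit 1, nat_lit 2, nat_lit 3, nat_lit 2, nat_lit 1, nat_lit 2, nat_lit 1, nat_lit 2, nat_lit 3, nat_lit 2, nat_lit 1]) (.leaf (nat_lit 2412) (nat_lit 1) [nat_lit 2, nat_lit 1, nat_lit 2, nat_lit 3, nat_lit 2, nat_lit 1, nat_lit 2, nat_lit 1, nat_lit 2, nat_lit 3, nat_lit 2, nat_lit 1, nat_lit 2, nat_lit 1, nat_lit 2, nat_lit 3, nat_lit 2])) (.node (nat_lit 3492) (.leaf (nat_lit 2413) (nat_lit 2) [nat_lit 1, nat_lit 2, nat_lit 1, nat_lit 2, nat_lit 3, nat_lit 2, nat_lit 1, nat_lit 2, nat_lit 1, nat_lit 2, nat_lit 3, nat_lit 2, nat_lit 1, nat_lit 2, nat_lit 1, nat_lit 2, nat_lit 3]) (.node (nat_lit 3493) (.leaf (nat_lit 2523) (nat_lit 2) [nat_lit 3, nat_lit 2, nat_lit 1, nat_lit 3, nat_lit 1, nat_lit 2, nat_lit 3, nat_lit 2, nat_lit 1, nat_lit 3, nat_lit 1, nat_lit 2, nat_lit 3, nat_lit 2, nat_lit 1, nat_lit 3, nat_lit 1]) (.leaf (nat_lit 2524) (nat_lit 1) [nat_lit 2, nat_lit 3, nat_lit 2, nat_lit 1, nat_lit 3, nat_lit 1, nat_lit 2, nat_lit 3, nat_lit 2, nat_lit 1, nat_lit 3, nat_lit 1, nat_lit 2, nat_lit 3, nat_lit 2, nat_lit 1, nat_lit 3]))))) (.node (nat_lit 3499) (.node (nat_lit 3496) (.node (nat_lit 3495) (.leaf (nat_lit 2525) (nat_lit 3) [nat_lit 1, nat_lit 2, nat_lit 3, nat_lit 2, nat_lit 1, nat_lit 3, nat_lit 1, nat_lit 2, nat_lit 3, nat_lit 2, nat_lit 1, nat_lit 3, nat_lit 1, nat_lit 2, nat_lit 3, nat_lit 2, nat_lit 1]) (.leaf (nat_lit 2520) (nat_lit 1) [nat_lit 3, nat_lit 1, nat_lit 2, nat_lit 3, nat_lit 2, nat_lit 1, nat_lit 3, nat_lit 1, nat_lit 2, nat_lit 3, nat_lit 2, nat_lit 1, nat_lit 3, nat_lit 1, nat_lit 2, nat_lit 3, nat_lit 2])) (.node (nat_lit 3497) (.leaf (nat_lit 2521) (nat_lit 2) [nat_lit 1, nat_lit 3, nat_lit 1, nat_lit 2, nat_lit 3, nat_lit 2, nat_lit 1, nat_lit 3, nat_lit 1, nat_lit 2, nat_lit 3, nat_lit 2, nat_lit 1, nat_lit 3, nat_lit 1, nat_lit 2, nat_lit 3]) (.node (nat_lit 3498) (.leaf (nat_lit 2522) (nat_lit 3) [nat_lit 2, nat_lit 1, nat_lit 3, nat_lit 1, nat_lit 2, nat_lit 3, nat_lit 2, nat_lit 1, nat_lit 3, nat_lit 1, nat_lit 2, nat_lit 3, nat_lit 2, nat_lit 1, nat_lit 3, nat_lit 1, nat_lit 2]) (.leaf (nat_lit 2523) (nat_lit 2) [nat_lit 3, nat_lit 2, nat_lit 1, nat_lit 3, nat_lit 1, nat_lit 2, nat_lit 3, nat_lit 2, nat_lit 1, nat_lit 3, nat_lit 1, nat_lit 2, nat_lit 3, nat_lit 2, nat_lit 1, nat_lit 3, nat_lit 1])))) (.node (nat_lit 3501) (.node (nat_lit 3500) (.leaf (nat_lit 2524) (nat_lit 1) [nat_lit 2, nat_lit 3, nat_lit 2, nat_lit 1, nat_lit 3, nat_lit 1, nat_lit 2, nat_lit 3, nat_lit 2, nat_lit 1, nat_lit 3, nat_lit 1, nat_lit 2, nat_lit 3, nat_lit 2, nat_lit 1, nat_lit 3]) (.leaf (nat_lit 2525) (nat_lit 3) [nat_lit 1, nat_lit 2, nat_lit 3, nat_lit 2, nat_lit 1, nat_lit 3, nat_lit 1, nat_lit 2, nat_lit 3, nat_lit 2, nat_lit 1, nat_lit 3, nat_lit 1, nat_lit 2, nat_lit 3, nat_lit 2, nat_lit 1])) (.node (nat_lit 3502) (.leaf (nat_lit 2520) (nat_lit 1) [nat_lit 3, nat_lit 1, nat_lit 2, nat_lit 3, nat_lit 2, nat_lit 1, nat_lit 3, nat_lit 1, nat_lit 2, nat_lit 3, nat_lit 2, nat_lit 1, nat_lit 3, nat_lit 1, nat_lit 2, nat_lit 3, nat_lit 2]) (.node (nat_lit 3503) (.leaf (nat_lit 2521) (nat_lit 2) [nat_lit 1, nat_lit 3, nat_lit 1, nat_lit 2, nat_lit 3, nat_lit 2, nat_lit 1, nat_lit 3, nat_lit 1, nat_lit 2, nat_lit 3, nat_lit 2, nat_lit 1, nat_lit 3, nat_lit 1, nat_lit 2, nat_lit 3]) (.leaf (nat_lit 2522) (nat_lit 3) [nat_lit 2, nat_lit 1, nat_lit 3, nat_lit 1, nat_lit 2, nat_lit 3, nat_lit 2, nat_lit 1, nat_lit 3, nat_lit 1, nat_lit 2, nat_lit 3, nat_lit 2, nat_lit 1, nat_lit 3, nat_lit 1, nat_lit 2]))))))) (.node (nat_lit 3523) (.node (nat_lit 3513) (.node (nat_lit 3508) (.node (nat_lit 3506) (.node (nat_lit 3505) (.leaf (nat_lit 2523) (nat_lit 2) [nat_lit 3, nat_lit 2, nat_lit 1, nat_lit 3, nat_lit 1, nat_lit 2, nat_lit 3, nat_lit 2, nat_lit 1, nat_lit 3, nat_lit 1, nat_lit 2, nat_lit 3, nat_lit 2, nat_lit 1, nat_lit 3, nat_lit 1]) (.leaf (nat_lit 2524) (nat_lit 1) [nat_lit 2, nat_lit 3, nat_lit 2, nat_lit 1, nat_lit 3, nat_lit 1, nat_lit 2, nat_lit 3, nat_lit 2, nat_lit 1, nat_lit 3, nat_lit 1, nat_lit 2, nat_lit 3, nat_lit 2, nat_lit 1, nat_lit 3])) (.node (nat_lit 3507) (.leaf (nat_lit 2525) (nat_lit 3) [nat_lit 1, nat_lit 2, nat_lit 3, nat_lit 2, nat_lit 1, nat_lit 3, nat_lit 1, nat_lit 2, nat_lit 3, nat_lit 2, nat_lit 1, nat_lit 3, nat_lit 1, nat_lit 2, nat_lit 3, nat_lit 2, nat_lit 1]) (.leaf (nat_lit 2520) (nat_lit 1) [nat_lit 3, nat_lit 1, nat_lit 2, nat_lit 3, nat_lit 2, nat_lit 1, nat_lit 3, nat_lit 1, nat_lit 2, nat_lit 3, nat_lit 2, nat_lit 1, nat_lit 3, nat_lit 1, nat_lit 2, nat_lit 3, nat_lit 2]))) (.node (nat_lit 3510) (.node (nat_lit 3509) (.leaf (nat_lit 2521) (nat_lit 2) [nat_lit 1, nat_lit 3, nat_lit 1, nat_lit 2, nat_lit 3, nat_lit 2, nat_lit 1, nat_lit 3, nat_lit 1, nat_lit 2, nat_lit 3, nat_lit 2, nat_lit 1, nat_lit 3, nat_lit 1, nat_lit 2, nat_lit 3]) (.leaf (nat_lit 2522) (nat_lit 3) [nat_lit 2, nat_lit 1, nat_lit 3, nat_lit 1, nat_lit 2, nat_lit 3, nat_lit 2, nat_lit 1, nat_lit 3, nat_lit 1, nat_lit 2, nat_lit 3, nat_lit 2, nat_lit 1, nat_lit 3, nat_lit 1, nat_lit 2])) (.node (nat_lit 3511) (.leaf (nat_lit 2522) (nat_lit 3) [nat_lit 2, nat_lit 1, nat_lit 3, nat_lit 1, nat_lit 2, nat_lit 3, nat_lit 2, nat_lit 1, nat_lit 3, nat_lit 1, nat_lit 2, nat_lit 3, nat_lit 2, nat_lit 1, nat_lit 3, nat_lit 1, nat_lit 2]) (.node (nat_lit 3512) (.leaf (nat_lit 2523) (nat_lit 2) [nat_lit 3, nat_lit 2, nat_lit 1, nat_lit 3, nat_lit 1, nat_lit 2, nat_lit 3, nat_lit 2, nat_lit 1, nat_lit 3, nat_lit 1, nat_lit 2, nat_lit 3, nat_lit 2, nat_lit 1, nat_lit 3, nat_lit 1]) (.leaf (nat_lit 2524) (nat_lit 1) [nat_lit 2, nat_lit 3, nat_lit 2, nat_lit 1, nat_lit 3, nat_lit 1, nat_lit 2, nat_lit 3, nat_lit 2, nat_lit 1, nat_lit 3, nat_lit 1, nat_lit 2, nat_lit 3, nat_lit 2, nat_lit 1, nat_lit 3]))))) (.node (nat_lit 3518) (.node (nat_lit 3515) (.node (nat_lit 3514) (.leaf (nat_lit 2525) (nat_lit 3) [nat_lit 1, nat_lit 2, nat_lit 3, nat_lit 2, nat_lit 1, nat_lit 3, nat_lit 1, nat_lit 2, nat_lit 3, nat_lit 2, nat_lit 1, nat_lit 3, nat_lit 1, nat_lit 2, nat_lit 3, nat_lit 2, nat_lit 1]) (.leaf (nat_lit 2520) (nat_lit 1) [nat_lit 3, nat_lit 1, nat_lit 2, nat_lit 3, nat_lit 2, nat_lit 1, nat_lit 3, nat_lit 1, nat_lit 2, nat_lit 3, nat_lit 2, nat_lit 1, nat_lit 3, nat_lit 1, nat_lit 2, nat_lit 3, nat_lit 2])) (.node (nat_lit 3516) (.leaf (nat_lit 2521) (nat_lit 2) [nat_lit 1, nat_lit 3, nat_lit 1, nat_lit 2, nat_lit 3, nat_lit 2, nat_lit 1, nat_lit 3, nat_lit 1, nat_lit 2, nat_lit 3, nat_lit 2, nat_lit 1, nat_lit 3, nat_lit 1, nat_lit 2, nat_lit 3]) (.node (nat_lit 3517) (.leaf (nat_lit 2522) (nat_lit 3) [nat_lit 2, nat_lit 1, nat_lit 3, nat_lit 1, nat_lit 2, nat_lit 3, nat_lit 2, nat_lit 1, nat_lit 3, nat_lit 1, nat_lit 2, nat_lit 3, nat_lit 2, nat_lit 1, nat_lit 3, nat_lit 1, nat_lit 2]) (.leaf (nat_lit 2523) (nat_lit 2) [nat_lit 3, nat_lit 2, nat_lit 1, nat_lit 3, nat_lit 1, nat_lit 2, nat_lit 3, nat_lit 2, nat_lit 1, nat_lit 3, nat_lit 1, nat_lit 2, nat_lit 3, nat_lit 2, nat_lit 1, nat_lit 3, nat_lit 1])))) (.node (nat_lit 3520) (.node (nat_lit 3519) (.leaf (nat_lit 2524) (nat_lit 1) [nat_lit 2, nat_lit 3, nat_lit 2, nat_lit 1, nat_lit 3, nat_lit 1, nat_lit 2, nat_lit 3, nat_lit 2, nat_lit 1, nat_lit 3, nat_lit 1, nat_lit 2, nat_lit 3, nat_lit 2, nat_lit 1, nat_lit 3]) (.leaf (nat_lit 2525) (nat_lit 3) [nat_lit 1, nat_lit 2, nat_lit 3, nat_lit 2, nat_lit 1, nat_lit 3, nat_lit 1, nat_lit 2, nat_lit 3, nat_lit 2, nat_lit 1, nat_lit 3, nat_lit 1, nat_lit 2, nat_lit 3, nat_lit 2, nat_lit 1])) (.node (nat_lit 3521) (.leaf (nat_lit 2520) (nat_lit 1) [nat_lit 3, nat_lit 1, nat_lit 2, nat_lit 3, nat_lit 2, nat_lit 1, nat_lit 3, nat_lit 1, nat_lit 2, nat_lit 3, nat_lit 2, nat_lit 1, nat_lit 3, nat_lit 1, nat_lit 2, nat_lit 3, nat_lit 2]) (.node (nat_lit 3522) (.leaf (nat_lit 2521) (nat_lit 2) [nat_lit 1, nat_lit 3, nat_lit 1, nat_lit 2, nat_lit 3, nat_lit 2, nat_lit 1, nat_lit 3, nat_lit 1, nat_lit 2, nat_lit 3, nat_lit 2, nat_lit 1, nat_lit 3, nat_lit 1, nat_lit 2, nat_lit 3]) (.leaf (nat_lit 2522) (nat_lit 3) [nat_lit 2, nat_lit 1, nat_lit 3, nat_lit 1, nat_lit 2, nat_lit 3, nat_lit 2, nat_lit 1, nat_lit 3, nat_lit 1, nat_lit 2, nat_lit 3, nat_lit 2, nat_lit 1, nat_lit 3, nat_lit 1, nat_lit 2])))))) (.node (nat_lit 3532) (.node (nat_lit 3527) (.node (nat_lit 3525) (.node (nat_lit 3524) (.leaf (nat_lit 2523) (nat_lit 2) [nat_lit 3, nat_lit 2, nat_lit 1, nat_lit 3, nat_lit 1, nat_lit 2, nat_lit 3, nat_lit 2, nat_lit 1, nat_lit 3, nat_lit 1, nat_lit 2, nat_lit 3, nat_lit 2, nat_lit 1, nat_lit 3, nat_lit 1]) (.leaf (nat_lit 2524) (nat_lit 1) [nat_lit 2, nat_lit 3, nat_lit 2, nat_lit 1, nat_lit 3, nat_lit 1, nat_lit 2, nat_lit 3, nat_lit 2, nat_lit 1, nat_lit 3, nat_lit 1, nat_lit 2, nat_lit 3, nat_lit 2, nat_lit 1, nat_lit 3])) (.node (nat_lit 3526) (.leaf (nat_lit 2525) (nat_lit 3) [nat_lit 1, nat_lit 2, nat_lit 3, nat_lit 2, nat_lit 1, nat_lit 3, nat_lit 1, nat_lit 2, nat_lit 3, nat_lit 2, nat_lit 1, nat_lit 3, nat_lit 1, nat_lit 2, nat_lit 3, nat_lit 2, nat_lit 1]) (.leaf (nat_lit 2520) (nat_lit 1) [nat_lit 3, nat_lit 1, nat_lit 2, nat_lit 3, nat_lit 2, nat_lit 1, nat_lit 3, nat_lit 1, nat_lit 2, nat_lit 3, nat_lit 2, nat_lit 1, nat_lit 3, nat_lit 1, nat_lit 2, nat_lit 3, nat_lit 2]))) (.node (nat_lit 3529) (.node (nat_lit 3528) (.leaf (nat_lit 2521) (nat_lit 2) [nat_lit 1, nat_lit 3, nat_lit 1, nat_lit 2, nat_lit 3, nat_lit 2, nat_lit 1, nat_lit 3, nat_lit 1, nat_lit 2, nat_lit 3, nat_lit 2, nat_lit 1, nat_lit 3, nat_lit 1, nat_lit 2, nat_lit 3]) (.leaf (nat_lit 3528) (nat_lit 2) [nat_lit 0, nat_lit 2, nat_lit 3, nat_lit 0, nat_lit 3, nat_lit 2, nat_lit 0, nat_lit 2, nat_lit 3, nat_lit 0, nat_lit 3, nat_lit 2, nat_lit 0, nat_lit 2, nat_lit 3, nat_lit 0, nat_lit 3])) (.node (nat_lit 3530) (.leaf (nat_lit 3529) (nat_lit 3) [nat_lit 2, nat_lit 0, nat_lit 2, nat_lit 3, nat_lit 0, nat_lit 3, nat_lit 2, nat_lit 0, nat_lit 2, nat_lit 3, nat_lit 0, nat_lit 3, nat_lit 2, nat_lit 0, nat_lit 2, nat_lit 3, nat_lit 0]) (.node (nat_lit 3531) (.leaf (nat_lit 3530) (nat_lit 0) [nat_lit 3, nat_lit 2, nat_lit 0, nat_lit 2, nat_lit 3, nat_lit 0, nat_lit 3, nat_lit 2, nat_lit 0, nat_lit 2, nat_lit 3, nat_lit 0, nat_lit 3, nat_lit 2, nat_lit 0, nat_lit 2, nat_lit 3]) (.leaf (nat_lit 3531) (nat_lit 3) [nat_lit 0, nat_lit 3, nat_lit 2, nat_lit 0, nat_lit 2, nat_lit 3, nat_lit 0, nat_lit 3, nat_lit 2, nat_lit 0, nat_lit 2, nat_lit 3, nat_lit 0, nat_lit 3, nat_lit 2, nat_lit 0, nat_lit 2]))))) (.node (nat_lit 3537) (.node (nat_lit 3534) (.node (nat_lit 3533) (.leaf (nat_lit 3532) (nat_lit 2) [nat_lit 3, nat_lit 0, nat_lit 3, nat_lit 2, nat_lit 0, nat_lit 2, nat_lit 3, nat_lit 0, nat_lit 3, nat_lit 2, nat_lit 0, nat_lit 2, nat_lit 3, nat_lit 0, nat_lit 3, nat_lit 2, nat_lit 0]) (.leaf (nat_lit 3533) (nat_lit 0) [nat_lit 2, nat_lit 3, nat_lit 0, nat_lit 3, nat_lit 2, nat_lit 0, nat_lit 2, nat_lit 3, nat_lit 0, nat_lit 3, nat_lit 2, nat_lit 0, nat_lit 2, nat_lit 3, nat_lit 0, nat_lit 3, nat_lit 2])) (.node (nat_lit 3535) (.leaf (nat_lit 3528) (nat_lit 2) [nat_lit 0, nat_lit 2, nat_lit 3, nat_lit 0, nat_lit 3, nat_lit 2, nat_lit 0, nat_lit 2, nat_lit 3, nat_lit 0, nat_lit 3, nat_lit 2, nat_lit 0, nat_lit 2, nat_lit 3, nat_lit 0, nat_lit 3]) (.node (nat_lit 3536) (.leaf (nat_lit 3529) (nat_lit 3) [nat_lit 2, nat_lit 0, nat_lit 2, nat_lit 3, nat_lit 0, nat_lit 3, nat_lit 2, nat_lit 0, nat_lit 2, nat_lit 3, nat_lit 0, nat_lit 3, nat_lit 2, nat_lit 0, nat_lit 2, nat_lit 3, nat_lit 0]) (.leaf (nat_lit 3530) (nat_lit 0) [nat_lit 3, nat_lit 2, nat_lit 0, nat_lit 2, nat_lit 3, nat_lit 0, nat_lit 3, nat_lit 2, nat_lit 0, nat_lit 2, nat_lit 3, nat_lit 0, nat_lit 3, nat_lit 2, nat_lit 0, nat_lit 2, nat_lit 3])))) (.node (nat_lit 3539) (.node (nat_lit 3538) (.leaf (nat_lit 3531) (nat_lit 3) [nat_lit 0, nat_lit 3, nat_lit 2, nat_lit 0, nat_lit 2, nat_lit 3, nat_lit 0, nat_lit 3, nat_lit 2, nat_lit 0, nat_lit 2, nat_lit 3, nat_lit 0, nat_lit 3, nat_lit 2, nat_lit 0, nat_lit 2]) (.leaf (nat_lit 3532) (nat_lit 2) [nat_lit 3, nat_lit 0, nat_lit 3, nat_lit 2, nat_lit 0, nat_lit 2, nat_lit 3, nat_lit 0, nat_lit 3, nat_lit 2, nat_lit 0, nat_lit 2, nat_lit 3, nat_lit 0, nat_lit 3, nat_lit 2, nat_lit 0])) (.node (nat_lit 3540) (.leaf (nat_lit 3533) (nat_lit 0) [nat_lit 2, nat_lit 3, nat_lit 0, nat_lit 3, nat_lit 2, nat_lit 0, nat_lit 2, nat_lit 3, nat_lit 0, nat_lit 3, nat_lit 2, nat_lit 0, nat_lit 2, nat_lit 3, nat_lit 0, nat_lit 3, nat_lit 2]) (.node (nat_lit 3541) (.leaf (nat_lit 3528) (nat_lit 2) [nat_lit 0, nat_lit 2, nat_lit 3, nat_lit 0, nat_lit 3, nat_lit 2, nat_lit 0, nat_lit 2, nat_lit 3, nat_lit 0, nat_lit 3, nat_lit 2, nat_lit 0, nat_lit 2, nat_lit 3, nat_lit 0, nat_lit 3]) (.leaf (nat_lit 3529) (nat_lit 3) [nat_lit 2, nat_lit 0, nat_lit 2, nat_lit 3, nat_lit 0, nat_lit 3, nat_lit 2, nat_lit 0, nat_lit 2, nat_lit 3, nat_lit 0, nat_lit 3, nat_lit 2, nat_lit 0, nat_lit 2, nat_lit 3, nat_lit 0])))))))) (.node (nat_lit 3580) (.node (nat_lit 3561) (.node (nat_lit 3551) (.node (nat_lit 3546) (.node (nat_lit 3544) (.node (nat_lit 3543) (.leaf (nat_lit 3530) (nat_lit 0) [nat_lit 3, nat_lit 2, nat_lit 0, nat_lit 2, nat_lit 3, nat_lit 0, nat_lit 3, nat_lit 2, nat_lit 0, nat_lit 2, nat_lit 3, nat_lit 0, nat_lit 3, nat_lit 2, nat_lit 0, nat_lit 2, nat_lit 3]) (.leaf (nat_lit 3531) (nat_lit 3) [nat_lit 0, nat_lit 3, nat_lit 2, nat_lit 0, nat_lit 2, nat_lit 3, nat_lit 0, nat_lit 3, nat_lit 2, nat_lit 0, nat_lit 2, nat_lit 3, nat_lit 0, nat_lit 3, nat_lit 2, nat_lit 0, nat_lit 2])) (.node (nat_lit 3545) (.leaf (nat_lit 3532) (nat_lit 2) [nat_lit 3, nat_lit 0, nat_lit 3, nat_lit 2, nat_lit 0, nat_lit 2, nat_lit 3, nat_lit 0, nat_lit 3, nat_lit 2, nat_lit 0, nat_lit 2, nat_lit 3, nat_lit 0, nat_lit 3, nat_lit 2, nat_lit 0]) (.leaf (nat_lit 3533) (nat_lit 0) [nat_lit 2, nat_lit 3, nat_lit 0, nat_lit 3, nat_lit 2, nat_lit 0, nat_lit 2, nat_lit 3, nat_lit 0, nat_lit 3, nat_lit 2, nat_lit 0, nat_lit 2, nat_lit 3, nat_lit 0, nat_lit 3, nat_lit 2]))) (.node (nat_lit 3548) (.node (nat_lit 3547) (.leaf (nat_lit 3533) (nat_lit 0) [nat_lit 2, nat_lit 3, nat_lit 0, nat_lit 3, nat_lit 2, nat_lit 0, nat_lit 2, nat_lit 3, nat_lit 0, nat_lit 3, nat_lit 2, nat_lit 0, nat_lit 2, nat_lit 3, nat_lit 0, nat_lit 3, nat_lit 2]) (.leaf (nat_lit 3528) (nat_lit 2) [nat_lit 0, nat_lit 2, nat_lit 3, nat_lit 0, nat_lit 3, nat_lit 2, nat_lit 0, nat_lit 2, nat_lit 3, nat_lit 0, nat_lit 3, nat_lit 2, nat_lit 0, nat_lit 2, nat_lit 3, nat_lit 0, nat_lit 3])) (.node (nat_lit 3549) (.leaf (nat_lit 3529) (nat_lit 3) [nat_lit 2, nat_lit 0, nat_lit 2, nat_lit 3, nat_lit 0, nat_lit 3, nat_lit 2, nat_lit 0, nat_lit 2, nat_lit 3, nat_lit 0, nat_lit 3, nat_lit 2, nat_lit 0, nat_lit 2, nat_lit 3, nat_lit 0]) (.node (nat_lit 3550) (.leaf (nat_lit 3530) (nat_lit 0) [nat_lit 3, nat_lit 2, nat_lit 0, nat_lit 2, nat_lit 3, nat_lit 0, nat_lit 3, nat_lit 2, nat_lit 0, nat_lit 2, nat_lit 3, nat_lit 0, nat_lit 3, nat_lit 2, nat_lit 0, nat_lit 2, nat_lit 3]) (.leaf (nat_lit 3531) (nat_lit 3) [nat_lit 0, nat_lit 3, nat_lit 2, nat_lit 0, nat_lit 2, nat_lit 3, nat_lit 0, nat_lit 3, nat_lit 2, nat_lit 0, nat_lit 2, nat_lit 3, nat_lit 0, nat_lit 3, nat_lit 2, nat_lit 0, nat_lit 2]))))) (.node (nat_lit 3556) (.node (nat_lit 3553) (.node (nat_lit 3552) (.leaf (nat_lit 3532) (nat_lit 2) [nat_lit 3, nat_lit 0, nat_lit 3, nat_lit 2, nat_lit 0, nat_lit 2, nat_lit 3, nat_lit 0, nat_lit 3, nat_lit 2, nat_lit 0, nat_lit 2, nat_lit 3, nat_lit 0, nat_lit 3, nat_lit 2, nat_lit 0]) (.leaf (nat_lit 3533) (nat_lit 0) [nat_lit 2, nat_lit 3, nat_lit 0, nat_lit 3, nat_lit 2, nat_lit 0, nat_lit 2, nat_lit 3, nat_lit 0, nat_lit 3, nat_lit 2, nat_lit 0, nat_lit 2, nat_lit 3, nat_lit 0, nat_lit 3, nat_lit 2])) (.node (nat_lit 3554) (.leaf (nat_lit 3528) (nat_lit 2) [nat_lit 0, nat_lit 2, nat_lit 3, nat_lit 0, nat_lit 3, nat_lit 2, nat_lit 0, nat_lit 2, nat_lit 3, nat_lit 0, nat_lit 3, nat_lit 2, nat_lit 0, nat_lit 2, nat_lit 3, nat_lit 0, nat_lit 3]) (.node (nat_lit 3555) (.leaf (nat_lit 3529) (nat_lit 3) [nat_lit 2, nat_lit 0, nat_lit 2, nat_lit 3, nat_lit 0, nat_lit 3, nat_lit 2, nat_lit 0, nat_lit 2, nat_lit 3, nat_lit 0, nat_lit 3, nat_lit 2, nat_lit 0, nat_lit 2, nat_lit 3, nat_lit 0]) (.leaf (nat_lit 3530) (nat_lit 0) [nat_lit 3, nat_lit 2, nat_lit 0, nat_lit 2, nat_lit 3, nat_lit 0, nat_lit 3, nat_lit 2, nat_lit 0, nat_lit 2, nat_lit 3, nat_lit 0, nat_lit 3, nat_lit 2, nat_lit 0, nat_lit 2, nat_lit 3])))) (.node (nat_lit 3558) (.node (nat_lit 3557) (.leaf (nat_lit 3531) (nat_lit 3) [nat_lit 0, nat_lit 3, nat_lit 2, nat_lit 0, nat_lit 2, nat_lit 3, nat_lit 0, nat_lit 3, nat_lit 2, nat_lit 0, nat_lit 2, nat_lit 3, nat_lit 0, nat_lit 3, nat_lit 2, nat_lit 0, nat_lit 2]) (.leaf (nat_lit 3532) (nat_lit 2) [nat_lit 3, nat_lit 0, nat_lit 3, nat_lit 2, nat_lit 0, nat_lit 2, nat_lit 3, nat_lit 0, nat_lit 3, nat_lit 2, nat_lit 0, nat_lit 2, nat_lit 3, nat_lit 0, nat_lit 3, nat_lit 2, nat_lit 0])) (.node (nat_lit 3559) (.leaf (nat_lit 3533) (nat_lit 0) [nat_lit 2, nat_lit 3, nat_lit 0, nat_lit 3, nat_lit 2, nat_lit 0, nat_lit 2, nat_lit 3, nat_lit 0, nat_lit 3, nat_lit 2, nat_lit 0, nat_lit 2, nat_lit 3, nat_lit 0, nat_lit 3, nat_lit 2]) (.node (nat_lit 3560) (.leaf (nat_lit 3528) (nat_lit 2) [nat_lit 0, nat_lit 2, nat_lit 3, nat_lit 0, nat_lit 3, nat_lit 2, nat_lit 0, nat_lit 2, nat_lit 3, nat_lit 0, nat_lit 3, nat_lit 2, nat_lit 0, nat_lit 2, nat_lit 3, nat_lit 0, nat_lit 3]) (.leaf (nat_lit 3529) (nat_lit 3) [nat_lit 2, nat_lit 0, nat_lit 2, nat_lit 3, nat_lit 0, nat_lit 3, nat_lit 2, nat_lit 0, nat_lit 2, nat_lit 3, nat_lit 0, nat_lit 3, nat_lit 2, nat_lit 0, nat_lit 2, nat_lit 3, nat_lit 0])))))) (.node (nat_lit 3570) (.node (nat_lit 3565) (.node (nat_lit 3563) (.node (nat_lit 3562) (.leaf (nat_lit 3530) (nat_lit 0) [nat_lit 3, nat_lit 2, nat_lit 0, nat_lit 2, nat_lit 3, nat_lit 0, nat_lit 3, nat_lit 2, nat_lit 0, nat_lit 2, nat_lit 3, nat_lit 0, nat_lit 3, nat_lit 2, nat_lit 0, nat_lit 2, nat_lit 3]) (.leaf (nat_lit 3531) (nat_lit 3) [nat_lit 0, nat_lit 3, nat_lit 2, nat_lit 0, nat_lit 2, nat_lit 3, nat_lit 0, nat_lit 3, nat_lit 2, nat_lit 0, nat_lit 2, nat_lit 3, nat_lit 0, nat_lit 3, nat_lit 2, nat_lit 0, nat_lit 2])) (.node (nat_lit 3564) (.leaf (nat_lit 3532) (nat_lit 2) [nat_lit 3, nat_lit 0, nat_lit 3, nat_lit 2, nat_lit 0, nat_lit 2, nat_lit 3, nat_lit 0, nat_lit 3, nat_lit 2, nat_lit 0, nat_lit 2, nat_lit 3, nat_lit 0, nat_lit 3, nat_lit 2, nat_lit 0]) (.leaf (nat_lit 3564) (nat_lit 2) [nat_lit 0, nat_lit 2, nat_lit 3, nat_lit 1, nat_lit 3, nat_lit 2, nat_lit 0, nat_lit 2, nat_lit 3, nat_lit 1, nat_lit 3, nat_lit 2, nat_lit 0, nat_lit 2, nat_lit 3, nat_lit 1, nat_lit 3]))) (.node (nat_lit 3567) (.node (nat_lit 3566) (.leaf (nat_lit 3565) (nat_lit 3) [nat_lit 2, nat_lit 0, nat_lit 2, nat_lit 3, nat_lit 1, nat_lit 3, nat_lit 2, nat_lit 0, nat_lit 2, nat_lit 3, nat_lit 1, nat_lit 3, nat_lit 2, nat_lit 0, nat_lit 2, nat_lit 3, nat_lit 1]) (.leaf (nat_lit 3566) (nat_lit 1) [nat_lit 3, nat_lit 2, nat_lit 0, nat_lit 2, nat_lit 3, nat_lit 1, nat_lit 3, nat_lit 2, nat_lit 0, nat_lit 2, nat_lit 3, nat_lit 1, nat_lit 3, nat_lit 2, nat_lit 0, nat_lit 2, nat_lit 3])) (.node (nat_lit 3568) (.leaf (nat_lit 3567) (nat_lit 3) [nat_lit 1, nat_lit 3, nat_lit 2, nat_lit 0, nat_lit 2, nat_lit 3, nat_lit 1, nat_lit 3, nat_lit 2, nat_lit 0, nat_lit 2, nat_lit 3, nat_lit 1, nat_lit 3, nat_lit 2, nat_lit 0, nat_lit 2]) (.node (nat_lit 3569) (.leaf (nat_lit 3568) (nat_lit 2) [nat_lit 3, nat_lit 1, nat_lit 3, nat_lit 2, nat_lit 0, nat_lit 2, nat_lit 3, nat_lit 1, nat_lit 3, nat_lit 2, nat_lit 0, nat_lit 2, nat_lit 3, nat_lit 1, nat_lit 3, nat_lit 2, nat_lit 0]) (.leaf (nat_lit 3569) (nat_lit 0) [nat_lit 2, nat_lit 3, nat_lit 1, nat_lit 3, nat_lit 2, nat_lit 0, nat_lit 2, nat_lit 3, nat_lit 1, nat_lit 3, nat_lit 2, nat_lit 0, nat_lit 2, nat_lit 3, nat_lit 1, nat_lit 3, nat_lit 2]))))) (.node (nat_lit 3575) (.node (nat_lit 3572) (.node (nat_lit 3571) (.leaf (nat_lit 3564) (nat_lit 2) [nat_lit 0, nat_lit 2, nat_lit 3, nat_lit 1, nat_lit 3, nat_lit 2, nat_lit 0, nat_lit 2, nat_lit 3, nat_lit 1, nat_lit 3, nat_lit 2, nat_lit 0, nat_lit 2, nat_lit 3, nat_lit 1, nat_lit 3]) (.leaf (nat_lit 3565) (nat_lit 3) [nat_lit 2, nat_lit 0, nat_lit 2, nat_lit 3, nat_lit 1, nat_lit 3, nat_lit 2, nat_lit 0, nat_lit 2, nat_lit 3, nat_lit 1, nat_lit 3, nat_lit 2, nat_lit 0, nat_lit 2, nat_lit 3, nat_lit 1])) (.node (nat_lit 3573) (.leaf (nat_lit 3566) (nat_lit 1) [nat_lit 3, nat_lit 2, nat_lit 0, nat_lit 2, nat_lit 3, nat_lit 1, nat_lit 3, nat_lit 2, nat_lit 0, nat_lit 2, nat_lit 3, nat_lit 1, nat_lit 3, nat_lit 2, nat_lit 0, nat_lit 2, nat_lit 3]) (.node (nat_lit 3574) (.leaf (nat_lit 3567) (nat_lit 3) [nat_lit 1, nat_lit 3, nat_lit 2, nat_lit 0, nat_lit 2, nat_lit 3, nat_lit 1, nat_lit 3, nat_lit 2, nat_lit 0, nat_lit 2, nat_lit 3, nat_lit 1, nat_lit 3, nat_lit 2, nat_lit 0, nat_lit 2]) (.leaf (nat_lit 3568) (nat_lit 2) [nat_lit 3, nat_lit 1, nat_lit 3, nat_lit 2, nat_lit 0, nat_lit 2, nat_lit 3, nat_lit 1, nat_lit 3, nat_lit 2, nat_lit 0, nat_lit 2, nat_lit 3, nat_lit 1, nat_lit 3, nat_lit 2, nat_lit 0])))) (.node (nat_lit 3577) (.node (nat_lit 3576) (.leaf (nat_lit 3569) (nat_lit 0) [nat_lit 2, nat_lit 3, nat_lit 1, nat_lit 3, nat_lit 2, nat_lit 0, nat_lit 2, nat_lit 3, nat_lit 1, nat_lit 3, nat_lit 2, nat_lit 0, nat_lit 2, nat_lit 3, nat_lit 1, nat_lit 3, nat_lit 2]) (.leaf (nat_lit 3564) (nat_lit 2) [nat_lit 0, nat_lit 2, nat_lit 3, nat_lit 1, nat_lit 3, nat_lit 2, nat_lit 0, nat_lit 2, nat_lit 3, nat_lit 1, nat_lit 3, nat_lit 2, nat_lit 0, nat_lit 2, nat_lit 3, nat_lit 1, nat_lit 3])) (.node (nat_lit 3578) (.leaf (nat_lit 3565) (nat_lit 3) [nat_lit 2, nat_lit 0, nat_lit 2, nat_lit 3, nat_lit 1, nat_lit 3, nat_lit 2, nat_lit 0, nat_lit 2, nat_lit 3, nat_lit 1, nat_lit 3, nat_lit 2, nat_lit 0, nat_lit 2, nat_lit 3, nat_lit 1]) (.node (nat_lit 3579) (.leaf (nat_lit 3566) (nat_lit 1) [nat_lit 3, nat_lit 2, nat_lit 0, nat_lit 2, nat_lit 3, nat_lit 1, nat_lit 3, nat_lit 2, nat_lit 0, nat_lit 2, nat_lit 3, nat_lit 1, nat_lit 3, nat_lit 2, nat_lit 0, nat_lit 2, nat_lit 3]) (.leaf (nat_lit 3567) (nat_lit 3) [nat_lit 1, nat_lit 3, nat_lit 2, nat_lit 0, nat_lit 2, nat_lit 3, nat_lit 1, nat_lit 3, nat_lit 2, nat_lit 0, nat_lit 2, nat_lit 3, nat_lit 1, nat_lit 3, nat_lit 2, nat_lit 0, nat_lit 2]))))))) (.node (nat_lit 3599) (.node (nat_lit 3589) (.node (nat_lit 3584) (.node (nat_lit 3582) (.node (nat_lit 3581) (.leaf (nat_lit 3568) (nat_lit 2) [nat_lit 3, nat_lit 1, nat_lit 3, nat_lit 2, nat_lit 0, nat_lit 2, nat_lit 3, nat_lit 1, nat_lit 3, nat_lit 2, nat_lit 0, nat_lit 2, nat_lit 3, nat_lit 1, nat_lit 3, nat_lit 2, nat_lit 0]) (.leaf (nat_lit 3569) (nat_lit 0) [nat_lit 2, nat_lit 3, nat_lit 1, nat_lit 3, nat_lit 2, nat_lit 0, nat_lit 2, nat_lit 3, nat_lit 1, nat_lit 3, nat_lit 2, nat_lit 0, nat_lit 2, nat_lit 3, nat_lit 1, nat_lit 3, nat_lit 2])) (.node (nat_lit 3583) (.leaf (nat_lit 3569) (nat_lit 0) [nat_lit 2, nat_lit 3, nat_lit 1, nat_lit 3, nat_lit 2, nat_lit 0, nat_lit 2, nat_lit 3, nat_lit 1, nat_lit 3, nat_lit 2, nat_lit 0, nat_lit 2, nat_lit 3, nat_lit 1, nat_lit 3, nat_lit 2]) (.leaf (nat_lit 3564) (nat_lit 2) [nat_lit 0, nat_lit 2, nat_lit 3, nat_lit 1, nat_lit 3, nat_lit 2, nat_lit 0, nat_lit 2, nat_lit 3, nat_lit 1, nat_lit 3, nat_lit 2, nat_lit 0, nat_lit 2, nat_lit 3, nat_lit 1, nat_lit 3]))) (.node (nat_lit 3586) (.node (nat_lit 3585) (.leaf (nat_lit 3565) (nat_lit 3) [nat_lit 2, nat_lit 0, nat_lit 2, nat_lit 3, nat_lit 1, nat_lit 3, nat_lit 2, nat_lit 0, nat_lit 2, nat_lit 3, nat_lit 1, nat_lit 3, nat_lit 2, nat_lit 0, nat_lit 2, nat_lit 3, nat_lit 1]) (.leaf (nat_lit 3566) (nat_lit 1) [nat_lit 3, nat_lit 2, nat_lit 0, nat_lit 2, nat_lit 3, nat_lit 1, nat_lit 3, nat_lit 2, nat_lit 0, nat_lit 2, nat_lit 3, nat_lit 1, nat_lit 3, nat_lit 2, nat_lit 0, nat_lit 2, nat_lit 3])) (.node (nat_lit 3587) (.leaf (nat_lit 3567) (nat_lit 3) [nat_lit 1, nat_lit 3, nat_lit 2, nat_lit 0, nat_lit 2, nat_lit 3, nat_lit 1, nat_lit 3, nat_lit 2, nat_lit 0, nat_lit 2, nat_lit 3, nat_lit 1, nat_lit 3, nat_lit 2, nat_lit 0, nat_lit 2]) (.node (nat_lit 3588) (.leaf (nat_lit 3568) (nat_lit 2) [nat_lit 3, nat_lit 1, nat_lit 3, nat_lit 2, nat_lit 0, nat_lit 2, nat_lit 3, nat_lit 1, nat_lit 3, nat_lit 2, nat_lit 0, nat_lit 2, nat_lit 3, nat_lit 1, nat_lit 3, nat_lit 2, nat_lit 0]) (.leaf (nat_lit 3569) (nat_lit 0) [nat_lit 2, nat_lit 3, nat_lit 1, nat_lit 3, nat_lit 2, nat_lit 0, nat_lit 2, nat_lit 3, nat_lit 1, nat_lit 3, nat_lit 2, nat_lit 0, nat_lit 2, nat_lit 3, nat_lit 1, nat_lit 3, nat_lit 2]))))) (.node (nat_lit 3594) (.node (nat_lit 3591) (.node (nat_lit 3590) (.leaf (nat_lit 3564) (nat_lit 2) [nat_lit 0, nat_lit 2, nat_lit 3, nat_lit 1, nat_lit 3, nat_lit 2, nat_lit 0, nat_lit 2, nat_lit 3, nat_lit 1, nat_lit 3, nat_lit 2, nat_lit 0, nat_lit 2, nat_lit 3, nat_lit 1, nat_lit 3]) (.leaf (nat_lit 3565) (nat_lit 3) [nat_lit 2, nat_lit 0, nat_lit 2, nat_lit 3, nat_lit 1, nat_lit 3, nat_lit 2, nat_lit 0, nat_lit 2, nat_lit 3, nat_lit 1, nat_lit 3, nat_lit 2, nat_lit 0, nat_lit 2, nat_lit 3, nat_lit 1])) (.node (nat_lit 3592) (.leaf (nat_lit 3566) (nat_lit 1) [nat_lit 3, nat_lit 2, nat_lit 0, nat_lit 2, nat_lit 3, nat_lit 1, nat_lit 3, nat_lit 2, nat_lit 0, nat_lit 2, nat_lit 3, nat_lit 1, nat_lit 3, nat_lit 2, nat_lit 0, nat_lit 2, nat_lit 3]) (.node (nat_lit 3593) (.leaf (nat_lit 3567) (nat_lit 3) [nat_lit 1, nat_lit 3, nat_lit 2, nat_lit 0, nat_lit 2, nat_lit 3, nat_lit 1, nat_lit 3, nat_lit 2, nat_lit 0, nat_lit 2, nat_lit 3, nat_lit 1, nat_lit 3, nat_lit 2, nat_lit 0, nat_lit 2]) (.leaf (nat_lit 3568) (nat_lit 2) [nat_lit 3, nat_lit 1, nat_lit 3, nat_lit 2, nat_lit 0, nat_lit 2, nat_lit 3, nat_lit 1, nat_lit 3, nat_lit 2, nat_lit 0, nat_lit 2, nat_lit 3, nat_lit 1, nat_lit 3, nat_lit 2, nat_lit 0])))) (.node (nat_lit 3596) (.node (nat_lit 3595) (.leaf (nat_lit 3569) (nat_lit 0) [nat_lit 2, nat_lit 3, nat_lit 1, nat_lit 3, nat_lit 2, nat_lit 0, nat_lit 2, nat_lit 3, nat_lit 1, nat_lit 3, nat_lit 2, nat_lit 0, nat_lit 2, nat_lit 3, nat_lit 1, nat_lit 3, nat_lit 2]) (.leaf (nat_lit 3564) (nat_lit 2) [nat_lit 0, nat_lit 2, nat_lit 3, nat_lit 1, nat_lit 3, nat_lit 2, nat_lit 0, nat_lit 2, nat_lit 3, nat_lit 1, nat_lit 3, nat_lit 2, nat_lit 0, nat_lit 2, nat_lit 3, nat_lit 1, nat_lit 3])) (.node (nat_lit 3597) (.leaf (nat_lit 3565) (nat_lit 3) [nat_lit 2, nat_lit 0, nat_lit 2, nat_lit 3, nat_lit 1, nat_lit 3, nat_lit 2, nat_lit 0, nat_lit 2, nat_lit 3, nat_lit 1, nat_lit 3, nat_lit 2, nat_lit 0, nat_lit 2, nat_lit 3, nat_lit 1]) (.node (nat_lit 3598) (.leaf (nat_lit 3566) (nat_lit 1) [nat_lit 3, nat_lit 2, nat_lit 0, nat_lit 2, nat_lit 3, nat_lit 1, nat_lit 3, nat_lit 2, nat_lit 0, nat_lit 2, nat_lit 3, nat_lit 1, nat_lit 3, nat_lit 2, nat_lit 0, nat_lit 2, nat_lit 3]) (.leaf (nat_lit 3567) (nat_lit 3) [nat_lit 1, nat_lit 3, nat_lit 2, nat_lit 0, nat_lit 2, nat_lit 3, nat_lit 1, nat_lit 3, nat_lit 2, nat_lit 0, nat_lit 2, nat_lit 3, nat_lit 1, nat_lit 3, nat_lit 2, nat_lit 0, nat_lit 2])))))) (.node (nat_lit 3608) (.node (nat_lit 3603) (.node (nat_lit 3601) (.node (nat_lit 3600) (.leaf (nat_lit 3568) (nat_lit 2) [nat_lit 3, nat_lit 1, nat_lit 3, nat_lit 2, nat_lit 0, nat_lit 2, nat_lit 3, nat_lit 1, nat_lit 3, nat_lit 2, nat_lit 0, nat_lit 2, nat_lit 3, nat_lit 1, nat_lit 3, nat_lit 2, nat_lit 0]) (.leaf (nat_lit 3600) (nat_lit 2) [nat_lit 0, nat_lit 2, nat_lit 3, nat_lit 2, nat_lit 3, nat_lit 2, nat_lit 0, nat_lit 2, nat_lit 3, nat_lit 2, nat_lit 3, nat_lit 2, nat_lit 0, nat_lit 2, nat_lit 3, nat_lit 2, nat_lit 3])) (.node (nat_lit 3602) (.leaf (nat_lit 3601) (nat_lit 3) [nat_lit 2, nat_lit 0, nat_lit 2, nat_lit 3, nat_lit 2, nat_lit 3, nat_lit 2, nat_lit 0, nat_lit 2, nat_lit 3, nat_lit 2, nat_lit 3, nat_lit 2, nat_lit 0, nat_lit 2, nat_lit 3, nat_lit 2]) (.leaf (nat_lit 3602) (nat_lit 2) [nat_lit 3, nat_lit 2, nat_lit 0, nat_lit 2, nat_lit 3, nat_lit 2, nat_lit 3, nat_lit 2, nat_lit 0, nat_lit 2, nat_lit 3, nat_lit 2, nat_lit 3, nat_lit 2, nat_lit 0, nat_lit 2, nat_lit 3]))) (.node (nat_lit 3605) (.node (nat_lit 3604) (.leaf (nat_lit 3603) (nat_lit 3) [nat_lit 2, nat_lit 3, nat_lit 2, nat_lit 0, nat_lit 2, nat_lit 3, nat_lit 2, nat_lit 3, nat_lit 2, nat_lit 0, nat_lit 2, nat_lit 3, nat_lit 2, nat_lit 3, nat_lit 2, nat_lit 0, nat_lit 2]) (.leaf (nat_lit 3604) (nat_lit 2) [nat_lit 3, nat_lit 2, nat_lit 3, nat_lit 2, nat_lit 0, nat_lit 2, nat_lit 3, nat_lit 2, nat_lit 3, nat_lit 2, nat_lit 0, nat_lit 2, nat_lit 3, nat_lit 2, nat_lit 3, nat_lit 2, nat_lit 0])) (.node (nat_lit 3606) (.leaf (nat_lit 3605) (nat_lit 0) [nat_lit 2, nat_lit 3, nat_lit 2, nat_lit 3, nat_lit 2, nat_lit 0, nat_lit 2, nat_lit 3, nat_lit 2, nat_lit 3, nat_lit 2, nat_lit 0, nat_lit 2, nat_lit 3, nat_lit 2, nat_lit 3, nat_lit 2]) (.node (nat_lit 3607) (.leaf (nat_lit 3600) (nat_lit 2) [nat_lit 0, nat_lit 2, nat_lit 3, nat_lit 2, nat_lit 3, nat_lit 2, nat_lit 0, nat_lit 2, nat_lit 3, nat_lit 2, nat_lit 3, nat_lit 2, nat_lit 0, nat_lit 2, nat_lit 3, nat_lit 2, nat_lit 3]) (.leaf (nat_lit 3601) (nat_lit 3) [nat_lit 2, nat_lit 0, nat_lit 2, nat_lit 3, nat_lit 2, nat_lit 3, nat_lit 2, nat_lit 0, nat_lit 2, nat_lit 3, nat_lit 2, nat_lit 3, nat_lit 2, nat_lit 0, nat_lit 2, nat_lit 3, nat_lit 2]))))) (.node (nat_lit 3613) (.node (nat_lit 3610) (.node (nat_lit 3609) (.leaf (nat_lit 3602) (nat_lit 2) [nat_lit 3, nat_lit 2, nat_lit 0, nat_lit 2, nat_lit 3, nat_lit 2, nat_lit 3, nat_lit 2, nat_lit 0, nat_lit 2, nat_lit 3, nat_lit 2, nat_lit 3, nat_lit 2, nat_lit 0, nat_lit 2, nat_lit 3]) (.leaf (nat_lit 3603) (nat_lit 3) [nat_lit 2, nat_lit 3, nat_lit 2, nat_lit 0, nat_lit 2, nat_lit 3, nat_lit 2, nat_lit 3, nat_lit 2, nat_lit 0, nat_lit 2, nat_lit 3, nat_lit 2, nat_lit 3, nat_lit 2, nat_lit 0, nat_lit 2])) (.node (nat_lit 3611) (.leaf (nat_lit 3604) (nat_lit 2) [nat_lit 3, nat_lit 2, nat_lit 3, nat_lit 2, nat_lit 0, nat_lit 2, nat_lit 3, nat_lit 2, nat_lit 3, nat_lit 2, nat_lit 0, nat_lit 2, nat_lit 3, nat_lit 2, nat_lit 3, nat_lit 2, nat_lit 0]) (.node (nat_lit 3612) (.leaf (nat_lit 3605) (nat_lit 0) [nat_lit 2, nat_lit 3, nat_lit 2, nat_lit 3, nat_lit 2, nat_lit 0, nat_lit 2, nat_lit 3, nat_lit 2, nat_lit 3, nat_lit 2, nat_lit 0, nat_lit 2, nat_lit 3, nat_lit 2, nat_lit 3, nat_lit 2]) (.leaf (nat_lit 3600) (nat_lit 2) [nat_lit 0, nat_lit 2, nat_lit 3, nat_lit 2, nat_lit 3, nat_lit 2, nat_lit 0, nat_lit 2, nat_lit 3, nat_lit 2, nat_lit 3, nat_lit 2, nat_lit 0, nat_lit 2, nat_lit 3, nat_lit 2, nat_lit 3])))) (.node (nat_lit 3615) (.node (nat_lit 3614) (.leaf (nat_lit 3601) (nat_lit 3) [nat_lit 2, nat_lit 0, nat_lit 2, nat_lit 3, nat_lit 2, nat_lit 3, nat_lit 2, nat_lit 0, nat_lit 2, nat_lit 3, nat_lit 2, nat_lit 3, nat_lit 2, nat_lit 0, nat_lit 2, nat_lit 3, nat_lit 2]) (.leaf (nat_lit 3602) (nat_lit 2) [nat_lit 3, nat_lit 2, nat_lit 0, nat_lit 2, nat_lit 3, nat_lit 2, nat_lit 3, nat_lit 2, nat_lit 0, nat_lit 2, nat_lit 3, nat_lit 2, nat_lit 3, nat_lit 2, nat_lit 0, nat_lit 2, nat_lit 3])) (.node (nat_lit 3616) (.leaf (nat_lit 3603) (nat_lit 3) [nat_lit 2, nat_lit 3, nat_lit 2, nat_lit 0, nat_lit 2, nat_lit 3, nat_lit 2, nat_lit 3, nat_lit 2, nat_lit 0, nat_lit 2, nat_lit 3, nat_lit 2, nat_lit 3, nat_lit 2, nat_lit 0, nat_lit 2]) (.node (nat_lit 3617) (.leaf (nat_lit 3604) (nat_lit 2) [nat_lit 3, nat_lit 2, nat_lit 3, nat_lit 2, nat_lit 0, nat_lit 2, nat_lit 3, nat_lit 2, nat_lit 3, nat_lit 2, nat_lit 0, nat_lit 2, nat_lit 3, nat_lit 2, nat_lit 3, nat_lit 2, nat_lit 0]) (.leaf (nat_lit 3605) (nat_lit 0) [nat_lit 2, nat_lit 3, nat_lit 2, nat_lit 3, nat_lit 2, nat_lit 0, nat_lit 2, nat_lit 3, nat_lit 2, nat_lit 3, nat_lit 2, nat_lit 0, nat_lit 2, nat_lit 3, nat_lit 2, nat_lit 3, nat_lit 2])))))))))))) (.node (nat_lit 4221) (.node (nat_lit 3919) (.node (nat_lit 3768) (.node (nat_lit 3693) (.node (nat_lit 3655) (.node (nat_lit 3636) (.node (nat_lit 3627) (.node (nat_lit 3622) (.node (nat_lit 3620) (.node (nat_lit 3619) (.leaf (nat_lit 3605) (nat_lit 0) [nat_lit 2, nat_lit 3, nat_lit 2, nat_lit 3, nat_lit 2, nat_lit 0, nat_lit 2, nat_lit 3, nat_lit 2, nat_lit 3, nat_lit 2, nat_lit 0, nat_lit 2, nat_lit 3, nat_lit 2, nat_lit 3, nat_lit 2]) (.leaf (nat_lit 3600) (nat_lit 2) [nat_lit 0, nat_lit 2, nat_lit 3, nat_lit 2, nat_lit 3, nat_lit 2, nat_lit 0, nat_lit 2, nat_lit 3, nat_lit 2, nat_lit 3, nat_lit 2, nat_lit 0, nat_lit 2, nat_lit 3, nat_lit 2, nat_lit 3])) (.node (nat_lit 3621) (.leaf (nat_lit 3601) (nat_lit 3) [nat_lit 2, nat_lit 0, nat_lit 2, nat_lit 3, nat_lit 2, nat_lit 3, nat_lit 2, nat_lit 0, nat_lit 2, nat_lit 3, nat_lit 2, nat_lit 3, nat_lit 2, nat_lit 0, nat_lit 2, nat_lit 3, nat_lit 2]) (.leaf (nat_lit 3602) (nat_lit 2) [nat_lit 3, nat_lit 2, nat_lit 0, nat_lit 2, nat_lit 3, nat_lit 2, nat_lit 3, nat_lit 2, nat_lit 0, nat_lit 2, nat_lit 3, nat_lit 2, nat_lit 3, nat_lit 2, nat_lit 0, nat_lit 2, nat_lit 3]))) (.node (nat_lit 3624) (.node (nat_lit 3623) (.leaf (nat_lit 3603) (nat_lit 3) [nat_lit 2, nat_lit 3, nat_lit 2, nat_lit 0, nat_lit 2, nat_lit 3, nat_lit 2, nat_lit 3, nat_lit 2, nat_lit 0, nat_lit 2, nat_lit 3, nat_lit 2, nat_lit 3, nat_lit 2, nat_lit 0, nat_lit 2]) (.leaf (nat_lit 3604) (nat_lit 2) [nat_lit 3, nat_lit 2, nat_lit 3, nat_lit 2, nat_lit 0, nat_lit 2, nat_lit 3, nat_lit 2, nat_lit 3, nat_lit 2, nat_lit 0, nat_lit 2, nat_lit 3, nat_lit 2, nat_lit 3, nat_lit 2, nat_lit 0])) (.node (nat_lit 3625) (.leaf (nat_lit 3605) (nat_lit 0) [nat_lit 2, nat_lit 3, nat_lit 2, nat_lit 3, nat_lit 2, nat_lit 0, nat_lit 2, nat_lit 3, nat_lit 2, nat_lit 3, nat_lit 2, nat_lit 0, nat_lit 2, nat_lit 3, nat_lit 2, nat_lit 3, nat_lit 2]) (.node (nat_lit 3626) (.leaf (nat_lit 3600) (nat_lit 2) [nat_lit 0, nat_lit 2, nat_lit 3, nat_lit 2, nat_lit 3, nat_lit 2, nat_lit 0, nat_lit 2, nat_lit 3, nat_lit 2, nat_lit 3, nat_lit 2, nat_lit 0, nat_lit 2, nat_lit 3, nat_lit 2, nat_lit 3]) (.leaf (nat_lit 3601) (nat_lit 3) [nat_lit 2, nat_lit 0, nat_lit 2, nat_lit 3, nat_lit 2, nat_lit 3, nat_lit 2, nat_lit 0, nat_lit 2, nat_lit 3, nat_lit 2, nat_lit 3, nat_lit 2, nat_lit 0, nat_lit 2, nat_lit 3, nat_lit 2]))))) (.node (nat_lit 3631) (.node (nat_lit 3629) (.node (nat_lit 3628) (.leaf (nat_lit 3602) (nat_lit 2) [nat_lit 3, nat_lit 2, nat_lit 0, nat_lit 2, nat_lit 3, nat_lit 2, nat_lit 3, nat_lit 2, nat_lit 0, nat_lit 2, nat_lit 3, nat_lit 2, nat_lit 3, nat_lit 2, nat_lit 0, nat_lit 2, nat_lit 3]) (.leaf (nat_lit 3603) (nat_lit 3) [nat_lit 2, nat_lit 3, nat_lit 2, nat_lit 0, nat_lit 2, nat_lit 3, nat_lit 2, nat_lit 3, nat_lit 2, nat_lit 0, nat_lit 2, nat_lit 3, nat_lit 2, nat_lit 3, nat_lit 2, nat_lit 0, nat_lit 2])) (.node (nat_lit 3630) (.leaf (nat_lit 3604) (nat_lit 2) [nat_lit 3, nat_lit 2, nat_lit 3, nat_lit 2, nat_lit 0, nat_lit 2, nat_lit 3, nat_lit 2, nat_lit 3, nat_lit 2, nat_lit 0, nat_lit 2, nat_lit 3, nat_lit 2, nat_lit 3, nat_lit 2, nat_lit 0]) (.leaf (nat_lit 3605) (nat_lit 0) [nat_lit 2, nat_lit 3, nat_lit 2, nat_lit 3, nat_lit 2, nat_lit 0, nat_lit 2, nat_lit 3, nat_lit 2, nat_lit 3, nat_lit 2, nat_lit 0, nat_lit 2, nat_lit 3, nat_lit 2, nat_lit 3, nat_lit 2]))) (.node (nat_lit 3633) (.node (nat_lit 3632) (.leaf (nat_lit 3600) (nat_lit 2) [nat_lit 0, nat_lit 2, nat_lit 3, nat_lit 2, nat_lit 3, nat_lit 2, nat_lit 0, nat_lit 2, nat_lit 3, nat_lit 2, nat_lit 3, nat_lit 2, nat_lit 0, nat_lit 2, nat_lit 3, nat_lit 2, nat_lit 3]) (.leaf (nat_lit 3601) (nat_lit 3) [nat_lit 2, nat_lit 0, nat_lit 2, nat_lit 3, nat_lit 2, nat_lit 3, nat_lit 2, nat_lit 0, nat_lit 2, nat_lit 3, nat_lit 2, nat_lit 3, nat_lit 2, nat_lit 0, nat_lit 2, nat_lit 3, nat_lit 2])) (.node (nat_lit 3634) (.leaf (nat_lit 3602) (nat_lit 2) [nat_lit 3, nat_lit 2, nat_lit 0, nat_lit 2, nat_lit 3, nat_lit 2, nat_lit 3, nat_lit 2, nat_lit 0, nat_lit 2, nat_lit 3, nat_lit 2, nat_lit 3, nat_lit 2, nat_lit 0, nat_lit 2, nat_lit 3]) (.node (nat_lit 3635) (.leaf (nat_lit 3603) (nat_lit 3) [nat_lit 2, nat_lit 3, nat_lit 2, nat_lit 0, nat_lit 2, nat_lit 3, nat_lit 2, nat_lit 3, nat_lit 2, nat_lit 0, nat_lit 2, nat_lit 3, nat_lit 2, nat_lit 3, nat_lit 2, nat_lit 0, nat_lit 2]) (.leaf (nat_lit 3604) (nat_lit 2) [nat_lit 3, nat_lit 2, nat_lit 3, nat_lit 2, nat_lit 0, nat_lit 2, nat_lit 3, nat_lit 2, nat_lit 3, nat_lit 2, nat_lit 0, nat_lit 2, nat_lit 3, nat_lit 2, nat_lit 3, nat_lit 2, nat_lit 0])))))) (.node (nat_lit 3645) (.node (nat_lit 3640) (.node (nat_lit 3638) (.node (nat_lit 3637) (.leaf (nat_lit 3636) (nat_lit 2) [nat_lit 1, nat_lit 2, nat_lit 3, nat_lit 0, nat_lit 3, nat_lit 2, nat_lit 1, nat_lit 2, nat_lit 3, nat_lit 0, nat_lit 3, nat_lit 2, nat_lit 1, nat_lit 2, nat_lit 3, nat_lit 0, nat_lit 3]) (.leaf (nat_lit 3637) (nat_lit 3) [nat_lit 2, nat_lit 1, nat_lit 2, nat_lit 3, nat_lit 0, nat_lit 3, nat_lit 2, nat_lit 1, nat_lit 2, nat_lit 3, nat_lit 0, nat_lit 3, nat_lit 2, nat_lit 1, nat_lit 2, nat_lit 3, nat_lit 0])) (.node (nat_lit 3639) (.leaf (nat_lit 3638) (nat_lit 0) [nat_lit 3, nat_lit 2, nat_lit 1, nat_lit 2, nat_lit 3, nat_lit 0, nat_lit 3, nat_lit 2, nat_lit 1, nat_lit 2, nat_lit 3, nat_lit 0, nat_lit 3, nat_lit 2, nat_lit 1, nat_lit 2, nat_lit 3]) (.leaf (nat_lit 3639) (nat_lit 3) [nat_lit 0, nat_lit 3, nat_lit 2, nat_lit 1, nat_lit 2, nat_lit 3, nat_lit 0, nat_lit 3, nat_lit 2, nat_lit 1, nat_lit 2, nat_lit 3, nat_lit 0, nat_lit 3, nat_lit 2, nat_lit 1, nat_lit 2]))) (.node (nat_lit 3642) (.node (nat_lit 3641) (.leaf (nat_lit 3640) (nat_lit 2) [nat_lit 3, nat_lit 0, nat_lit 3, nat_lit 2, nat_lit 1, nat_lit 2, nat_lit 3, nat_lit 0, nat_lit 3, nat_lit 2, nat_lit 1, nat_lit 2, nat_lit 3, nat_lit 0, nat_lit 3, nat_lit 2, nat_lit 1]) (.leaf (nat_lit 3641) (nat_lit 1) [nat_lit 2, nat_lit 3, nat_lit 0, nat_lit 3, nat_lit 2, nat_lit 1, nat_lit 2, nat_lit 3, nat_lit 0, nat_lit 3, nat_lit 2, nat_lit 1, nat_lit 2, nat_lit 3, nat_lit 0, nat_lit 3, nat_lit 2])) (.node (nat_lit 3643) (.leaf (nat_lit 3636) (nat_lit 2) [nat_lit 1, nat_lit 2, nat_lit 3, nat_lit 0, nat_lit 3, nat_lit 2, nat_lit 1, nat_lit 2, nat_lit 3, nat_lit 0, nat_lit 3, nat_lit 2, nat_lit 1, nat_lit 2, nat_lit 3, nat_lit 0, nat_lit 3]) (.node (nat_lit 3644) (.leaf (nat_lit 3637) (nat_lit 3) [nat_lit 2, nat_lit 1, nat_lit 2, nat_lit 3, nat_lit 0, nat_lit 3, nat_lit 2, nat_lit 1, nat_lit 2, nat_lit 3, nat_lit 0, nat_lit 3, nat_lit 2, nat_lit 1, nat_lit 2, nat_lit 3, nat_lit 0]) (.leaf (nat_lit 3638) (nat_lit 0) [nat_lit 3, nat_lit 2, nat_lit 1, nat_lit 2, nat_lit 3, nat_lit 0, nat_lit 3, nat_lit 2, nat_lit 1, nat_lit 2, nat_lit 3, nat_lit 0, nat_lit 3, nat_lit 2, nat_lit 1, nat_lit 2, nat_lit 3]))))) (.node (nat_lit 3650) (.node (nat_lit 3647) (.node (nat_lit 3646) (.leaf (nat_lit 3639) (nat_lit 3) [nat_lit 0, nat_lit 3, nat_lit 2, nat_lit 1, nat_lit 2, nat_lit 3, nat_lit 0, nat_lit 3, nat_lit 2, nat_lit 1, nat_lit 2, nat_lit 3, nat_lit 0, nat_lit 3, nat_lit 2, nat_lit 1, nat_lit 2]) (.leaf (nat_lit 3640) (nat_lit 2) [nat_lit 3, nat_lit 0, nat_lit 3, nat_lit 2, nat_lit 1, nat_lit 2, nat_lit 3, nat_lit 0, nat_lit 3, nat_lit 2, nat_lit 1, nat_lit 2, nat_lit 3, nat_lit 0, nat_lit 3, nat_lit 2, nat_lit 1])) (.node (nat_lit 3648) (.leaf (nat_lit 3641) (nat_lit 1) [nat_lit 2, nat_lit 3, nat_lit 0, nat_lit 3, nat_lit 2, nat_lit 1, nat_lit 2, nat_lit 3, nat_lit 0, nat_lit 3, nat_lit 2, nat_lit 1, nat_lit 2, nat_lit 3, nat_lit 0, nat_lit 3, nat_lit 2]) (.node (nat_lit 3649) (.leaf (nat_lit 3636) (nat_lit 2) [nat_lit 1, nat_lit 2, nat_lit 3, nat_lit 0, nat_lit 3, nat_lit 2, nat_lit 1, nat_lit 2, nat_lit 3, nat_lit 0, nat_lit 3, nat_lit 2, nat_lit 1, nat_lit 2, nat_lit 3, nat_lit 0, nat_lit 3]) (.leaf (nat_lit 3637) (nat_lit 3) [nat_lit 2, nat_lit 1, nat_lit 2, nat_lit 3, nat_lit 0, nat_lit 3, nat_lit 2, nat_lit 1, nat_lit 2, nat_lit 3, nat_lit 0, nat_lit 3, nat_lit 2, nat_lit 1, nat_lit 2, nat_lit 3, nat_lit 0])))) (.node (nat_lit 3652) (.node (nat_lit 3651) (.leaf (nat_lit 3638) (nat_lit 0) [nat_lit 3, nat_lit 2, nat_lit 1, nat_lit 2, nat_lit 3, nat_lit 0, nat_lit 3, nat_lit 2, nat_lit 1, nat_lit 2, nat_lit 3, nat_lit 0, nat_lit 3, nat_lit 2, nat_lit 1, nat_lit 2, nat_lit 3]) (.leaf (nat_lit 3639) (nat_lit 3) [nat_lit 0, nat_lit 3, nat_lit 2, nat_lit 1, nat_lit 2, nat_lit 3, nat_lit 0, nat_lit 3, nat_lit 2, nat_lit 1, nat_lit 2, nat_lit 3, nat_lit 0, nat_lit 3, nat_lit 2, nat_lit 1, nat_lit 2])) (.node (nat_lit 3653) (.leaf (nat_lit 3640) (nat_lit 2) [nat_lit 3, nat_lit 0, nat_lit 3, nat_lit 2, nat_lit 1, nat_lit 2, nat_lit 3, nat_lit 0, nat_lit 3, nat_lit 2, nat_lit 1, nat_lit 2, nat_lit 3, nat_lit 0, nat_lit 3, nat_lit 2, nat_lit 1]) (.node (nat_lit 3654) (.leaf (nat_lit 3641) (nat_lit 1) [nat_lit 2, nat_lit 3, nat_lit 0, nat_lit 3, nat_lit 2, nat_lit 1, nat_lit 2, nat_lit 3, nat_lit 0, nat_lit 3, nat_lit 2, nat_lit 1, nat_lit 2, nat_lit 3, nat_lit 0, nat_lit 3, nat_lit 2]) (.leaf (nat_lit 3641) (nat_lit 1) [nat_lit 2, nat_lit 3, nat_lit 0, nat_lit 3, nat_lit 2, nat_lit 1, nat_lit 2, nat_lit 3, nat_lit 0, nat_lit 3, nat_lit 2, nat_lit 1, nat_lit 2, nat_lit 3, nat_lit 0, nat_lit 3, nat_lit 2]))))))) (.node (nat_lit 3674) (.node (nat_lit 3664) (.node (nat_lit 3659) (.node (nat_lit 3657) (.node (nat_lit 3656) (.leaf (nat_lit 3636) (nat_lit 2) [nat_lit 1, nat_lit 2, nat_lit 3, nat_lit 0, nat_lit 3, nat_lit 2, nat_lit 1, nat_lit 2, nat_lit 3, nat_lit 0, nat_lit 3, nat_lit 2, nat_lit 1, nat_lit 2, nat_lit 3, nat_lit 0, nat_lit 3]) (.leaf (nat_lit 3637) (nat_lit 3) [nat_lit 2, nat_lit 1, nat_lit 2, nat_lit 3, nat_lit 0, nat_lit 3, nat_lit 2, nat_lit 1, nat_lit 2, nat_lit 3, nat_lit 0, nat_lit 3, nat_lit 2, nat_lit 1, nat_lit 2, nat_lit 3, nat_lit 0])) (.node (nat_lit 3658) (.leaf (nat_lit 3638) (nat_lit 0) [nat_lit 3, nat_lit 2, nat_lit 1, nat_lit 2, nat_lit 3, nat_lit 0, nat_lit 3, nat_lit 2, nat_lit 1, nat_lit 2, nat_lit 3, nat_lit 0, nat_lit 3, nat_lit 2, nat_lit 1, nat_lit 2, nat_lit 3]) (.leaf (nat_lit 3639) (nat_lit 3) [nat_lit 0, nat_lit 3, nat_lit 2, nat_lit 1, nat_lit 2, nat_lit 3, nat_lit 0, nat_lit 3, nat_lit 2, nat_lit 1, nat_lit 2, nat_lit 3, nat_lit 0, nat_lit 3, nat_lit 2, nat_lit 1, nat_lit 2]))) (.node (nat_lit 3661) (.node (nat_lit 3660) (.leaf (nat_lit 3640) (nat_lit 2) [nat_lit 3, nat_lit 0, nat_lit 3, nat_lit 2, nat_lit 1, nat_lit 2, nat_lit 3, nat_lit 0, nat_lit 3, nat_lit 2, nat_lit 1, nat_lit 2, nat_lit 3, nat_lit 0, nat_lit 3, nat_lit 2, nat_lit 1]) (.leaf (nat_lit 3641) (nat_lit 1) [nat_lit 2, nat_lit 3, nat_lit 0, nat_lit 3, nat_lit 2, nat_lit 1, nat_lit 2, nat_lit 3, nat_lit 0, nat_lit 3, nat_lit 2, nat_lit 1, nat_lit 2, nat_lit 3, nat_lit 0, nat_lit 3, nat_lit 2])) (.node (nat_lit 3662) (.leaf (nat_lit 3636) (nat_lit 2) [nat_lit 1, nat_lit 2, nat_lit 3, nat_lit 0, nat_lit 3, nat_lit 2, nat_lit 1, nat_lit 2, nat_lit 3, nat_lit 0, nat_lit 3, nat_lit 2, nat_lit 1, nat_lit 2, nat_lit 3, nat_lit 0, nat_lit 3]) (.node (nat_lit 3663) (.leaf (nat_lit 3637) (nat_lit 3) [nat_lit 2, nat_lit 1, nat_lit 2, nat_lit 3, nat_lit 0, nat_lit 3, nat_lit 2, nat_lit 1, nat_lit 2, nat_lit 3, nat_lit 0, nat_lit 3, nat_lit 2, nat_lit 1, nat_lit 2, nat_lit 3, nat_lit 0]) (.leaf (nat_lit 3638) (nat_lit 0) [nat_lit 3, nat_lit 2, nat_lit 1, nat_lit 2, nat_lit 3, nat_lit 0, nat_lit 3, nat_lit 2, nat_lit 1, nat_lit 2, nat_lit 3, nat_lit 0, nat_lit 3, nat_lit 2, nat_lit 1, nat_lit 2, nat_lit 3]))))) (.node (nat_lit 3669) (.node (nat_lit 3666) (.node (nat_lit 3665) (.leaf (nat_lit 3639) (nat_lit 3) [nat_lit 0, nat_lit 3, nat_lit 2, nat_lit 1, nat_lit 2, nat_lit 3, nat_lit 0, nat_lit 3, nat_lit 2, nat_lit 1, nat_lit 2, nat_lit 3, nat_lit 0, nat_lit 3, nat_lit 2, nat_lit 1, nat_lit 2]) (.leaf (nat_lit 3640) (nat_lit 2) [nat_lit 3, nat_lit 0, nat_lit 3, nat_lit 2, nat_lit 1, nat_lit 2, nat_lit 3, nat_lit 0, nat_lit 3, nat_lit 2, nat_lit 1, nat_lit 2, nat_lit 3, nat_lit 0, nat_lit 3, nat_lit 2, nat_lit 1])) (.node (nat_lit 3667) (.leaf (nat_lit 3641) (nat_lit 1) [nat_lit 2, nat_lit 3, nat_lit 0, nat_lit 3, nat_lit 2, nat_lit 1, nat_lit 2, nat_lit 3, nat_lit 0, nat_lit 3, nat_lit 2, nat_lit 1, nat_lit 2, nat_lit 3, nat_lit 0, nat_lit 3, nat_lit 2]) (.node (nat_lit 3668) (.leaf (nat_lit 3636) (nat_lit 2) [nat_lit 1, nat_lit 2, nat_lit 3, nat_lit 0, nat_lit 3, nat_lit 2, nat_lit 1, nat_lit 2, nat_lit 3, nat_lit 0, nat_lit 3, nat_lit 2, nat_lit 1, nat_lit 2, nat_lit 3, nat_lit 0, nat_lit 3]) (.leaf (nat_lit 3637) (nat_lit 3) [nat_lit 2, nat_lit 1, nat_lit 2, nat_lit 3, nat_lit 0, nat_lit 3, nat_lit 2, nat_lit 1, nat_lit 2, nat_lit 3, nat_lit 0, nat_lit 3, nat_lit 2, nat_lit 1, nat_lit 2, nat_lit 3, nat_lit 0])))) (.node (nat_lit 3671) (.node (nat_lit 3670) (.leaf (nat_lit 3638) (nat_lit 0) [nat_lit 3, nat_lit 2, nat_lit 1, nat_lit 2, nat_lit 3, nat_lit 0, nat_lit 3, nat_lit 2, nat_lit 1, nat_lit 2, nat_lit 3, nat_lit 0, nat_lit 3, nat_lit 2, nat_lit 1, nat_lit 2, nat_lit 3]) (.leaf (nat_lit 3639) (nat_lit 3) [nat_lit 0, nat_lit 3, nat_lit 2, nat_lit 1, nat_lit 2, nat_lit 3, nat_lit 0, nat_lit 3, nat_lit 2, nat_lit 1, nat_lit 2, nat_lit 3, nat_lit 0, nat_lit 3, nat_lit 2, nat_lit 1, nat_lit 2])) (.node (nat_lit 3672) (.leaf (nat_lit 3640) (nat_lit 2) [nat_lit 3, nat_lit 0, nat_lit 3, nat_lit 2, nat_lit 1, nat_lit 2, nat_lit 3, nat_lit 0, nat_lit 3, nat_lit 2, nat_lit 1, nat_lit 2, nat_lit 3, nat_lit 0, nat_lit 3, nat_lit 2, nat_lit 1]) (.node (nat_lit 3673) (.leaf (nat_lit 3672) (nat_lit 2) [nat_lit 1, nat_lit 2, nat_lit 3, nat_lit 1, nat_lit 3, nat_lit 2, nat_lit 1, nat_lit 2, nat_lit 3, nat_lit 1, nat_lit 3, nat_lit 2, nat_lit 1, nat_lit 2, nat_lit 3, nat_lit 1, nat_lit 3]) (.leaf (nat_lit 3673) (nat_lit 3) [nat_lit 2, nat_lit 1, nat_lit 2, nat_lit 3, nat_lit 1, nat_lit 3, nat_lit 2, nat_lit 1, nat_lit 2, nat_lit 3, nat_lit 1, nat_lit 3, nat_lit 2, nat_lit 1, nat_lit 2, nat_lit 3, nat_lit 1])))))) (.node (nat_lit 3683) (.node (nat_lit 3678) (.node (nat_lit 3676) (.node (nat_lit 3675) (.leaf (nat_lit 3674) (nat_lit 1) [nat_lit 3, nat_lit 2, nat_lit 1, nat_lit 2, nat_lit 3, nat_lit 1, nat_lit 3, nat_lit 2, nat_lit 1, nat_lit 2, nat_lit 3, nat_lit 1, nat_lit 3, nat_lit 2, nat_lit 1, nat_lit 2, nat_lit 3]) (.leaf (nat_lit 3675) (nat_lit 3) [nat_lit 1, nat_lit 3, nat_lit 2, nat_lit 1, nat_lit 2, nat_lit 3, nat_lit 1, nat_lit 3, nat_lit 2, nat_lit 1, nat_lit 2, nat_lit 3, nat_lit 1, nat_lit 3, nat_lit 2, nat_lit 1, nat_lit 2])) (.node (nat_lit 3677) (.leaf (nat_lit 3676) (nat_lit 2) [nat_lit 3, nat_lit 1, nat_lit 3, nat_lit 2, nat_lit 1, nat_lit 2, nat_lit 3, nat_lit 1, nat_lit 3, nat_lit 2, nat_lit 1, nat_lit 2, nat_lit 3, nat_lit 1, nat_lit 3, nat_lit 2, nat_lit 1]) (.leaf (nat_lit 3677) (nat_lit 1) [nat_lit 2, nat_lit 3, nat_lit 1, nat_lit 3, nat_lit 2, nat_lit 1, nat_lit 2, nat_lit 3, nat_lit 1, nat_lit 3, nat_lit 2, nat_lit 1, nat_lit 2, nat_lit 3, nat_lit 1, nat_lit 3, nat_lit 2]))) (.node (nat_lit 3680) (.node (nat_lit 3679) (.leaf (nat_lit 3672) (nat_lit 2) [nat_lit 1, nat_lit 2, nat_lit 3, nat_lit 1, nat_lit 3, nat_lit 2, nat_lit 1, nat_lit 2, nat_lit 3, nat_lit 1, nat_lit 3, nat_lit 2, nat_lit 1, nat_lit 2, nat_lit 3, nat_lit 1, nat_lit 3]) (.leaf (nat_lit 3673) (nat_lit 3) [nat_lit 2, nat_lit 1, nat_lit 2, nat_lit 3, nat_lit 1, nat_lit 3, nat_lit 2, nat_lit 1, nat_lit 2, nat_lit 3, nat_lit 1, nat_lit 3, nat_lit 2, nat_lit 1, nat_lit 2, nat_lit 3, nat_lit 1])) (.node (nat_lit 3681) (.leaf (nat_lit 3674) (nat_lit 1) [nat_lit 3, nat_lit 2, nat_lit 1, nat_lit 2, nat_lit 3, nat_lit 1, nat_lit 3, nat_lit 2, nat_lit 1, nat_lit 2, nat_lit 3, nat_lit 1, nat_lit 3, nat_lit 2, nat_lit 1, nat_lit 2, nat_lit 3]) (.node (nat_lit 3682) (.leaf (nat_lit 3675) (nat_lit 3) [nat_lit 1, nat_lit 3, nat_lit 2, nat_lit 1, nat_lit 2, nat_lit 3, nat_lit 1, nat_lit 3, nat_lit 2, nat_lit 1, nat_lit 2, nat_lit 3, nat_lit 1, nat_lit 3, nat_lit 2, nat_lit 1, nat_lit 2]) (.leaf (nat_lit 3676) (nat_lit 2) [nat_lit 3, nat_lit 1, nat_lit 3, nat_lit 2, nat_lit 1, nat_lit 2, nat_lit 3, nat_lit 1, nat_lit 3, nat_lit 2, nat_lit 1, nat_lit 2, nat_lit 3, nat_lit 1, nat_lit 3, nat_lit 2, nat_lit 1]))))) (.node (nat_lit 3688) (.node (nat_lit 3685) (.node (nat_lit 3684) (.leaf (nat_lit 3677) (nat_lit 1) [nat_lit 2, nat_lit 3, nat_lit 1, nat_lit 3, nat_lit 2, nat_lit 1, nat_lit 2, nat_lit 3, nat_lit 1, nat_lit 3, nat_lit 2, nat_lit 1, nat_lit 2, nat_lit 3, nat_lit 1, nat_lit 3, nat_lit 2]) (.leaf (nat_lit 3672) (nat_lit 2) [nat_lit 1, nat_lit 2, nat_lit 3, nat_lit 1, nat_lit 3, nat_lit 2, nat_lit 1, nat_lit 2, nat_lit 3, nat_lit 1, nat_lit 3, nat_lit 2, nat_lit 1, nat_lit 2, nat_lit 3, nat_lit 1, nat_lit 3])) (.node (nat_lit 3686) (.leaf (nat_lit 3673) (nat_lit 3) [nat_lit 2, nat_lit 1, nat_lit 2, nat_lit 3, nat_lit 1, nat_lit 3, nat_lit 2, nat_lit 1, nat_lit 2, nat_lit 3, nat_lit 1, nat_lit 3, nat_lit 2, nat_lit 1, nat_lit 2, nat_lit 3, nat_lit 1]) (.node (nat_lit 3687) (.leaf (nat_lit 3674) (nat_lit 1) [nat_lit 3, nat_lit 2, nat_lit 1, nat_lit 2, nat_lit 3, nat_lit 1, nat_lit 3, nat_lit 2, nat_lit 1, nat_lit 2, nat_lit 3, nat_lit 1, nat_lit 3, nat_lit 2, nat_lit 1, nat_lit 2, nat_lit 3]) (.leaf (nat_lit 3675) (nat_lit 3) [nat_lit 1, nat_lit 3, nat_lit 2, nat_lit 1, nat_lit 2, nat_lit 3, nat_lit 1, nat_lit 3, nat_lit 2, nat_lit 1, nat_lit 2, nat_lit 3, nat_lit 1, nat_lit 3, nat_lit 2, nat_lit 1, nat_lit 2])))) (.node (nat_lit 3690) (.node (nat_lit 3689) (.leaf (nat_lit 3676) (nat_lit 2) [nat_lit 3, nat_lit 1, nat_lit 3, nat_lit 2, nat_lit 1, nat_lit 2, nat_lit 3, nat_lit 1, nat_lit 3, nat_lit 2, nat_lit 1, nat_lit 2, nat_lit 3, nat_lit 1, nat_lit 3, nat_lit 2, nat_lit 1]) (.leaf (nat_lit 3677) (nat_lit 1) [nat_lit 2, nat_lit 3, nat_lit 1, nat_lit 3, nat_lit 2, nat_lit 1, nat_lit 2, nat_lit 3, nat_lit 1, nat_lit 3, nat_lit 2, nat_lit 1, nat_lit 2, nat_lit 3, nat_lit 1, nat_lit 3, nat_lit 2])) (.node (nat_lit 3691) (.leaf (nat_lit 3677) (nat_lit 1) [nat_lit 2, nat_lit 3, nat_lit 1, nat_lit 3, nat_lit 2, nat_lit 1, nat_lit 2, nat_lit 3, nat_lit 1, nat_lit 3, nat_lit 2, nat_lit 1, nat_lit 2, nat_lit 3, nat_lit 1, nat_lit 3, nat_lit 2]) (.node (nat_lit 3692) (.leaf (nat_lit 3672) (nat_lit 2) [nat_lit 1, nat_lit 2, nat_lit 3, nat_lit 1, nat_lit 3, nat_lit 2, nat_lit 1, nat_lit 2, nat_lit 3, nat_lit 1, nat_lit 3, nat_lit 2, nat_lit 1, nat_lit 2, nat_lit 3, nat_lit 1, nat_lit 3]) (.leaf (nat_lit 3673) (nat_lit 3) [nat_lit 2, nat_lit 1, nat_lit 2, nat_lit 3, nat_lit 1, nat_lit 3, nat_lit 2, nat_lit 1, nat_lit 2, nat_lit 3, nat_lit 1, nat_lit 3, nat_lit 2, nat_lit 1, nat_lit 2, nat_lit 3, nat_lit 1])))))))) (.node (nat_lit 3730) (.node (nat_lit 3711) (.node (nat_lit 3702) (.node (nat_lit 3697) (.node (nat_lit 3695) (.node (nat_lit 3694) (.leaf (nat_lit 3674) (nat_lit 1) [nat_lit 3, nat_lit 2, nat_lit 1, nat_lit 2, nat_lit 3, nat_lit 1, nat_lit 3, nat_lit 2, nat_lit 1, nat_lit 2, nat_lit 3, nat_lit 1, nat_lit 3, nat_lit 2, nat_lit 1, nat_lit 2, nat_lit 3]) (.leaf (nat_lit 3675) (nat_lit 3) [nat_lit 1, nat_lit 3, nat_lit 2, nat_lit 1, nat_lit 2, nat_lit 3, nat_lit 1, nat_lit 3, nat_lit 2, nat_lit 1, nat_lit 2, nat_lit 3, nat_lit 1, nat_lit 3, nat_lit 2, nat_lit 1, nat_lit 2])) (.node (nat_lit 3696) (.leaf (nat_lit 3676) (nat_lit 2) [nat_lit 3, nat_lit 1, nat_lit 3, nat_lit 2, nat_lit 1, nat_lit 2, nat_lit 3, nat_lit 1, nat_lit 3, nat_lit 2, nat_lit 1, nat_lit 2, nat_lit 3, nat_lit 1, nat_lit 3, nat_lit 2, nat_lit 1]) (.leaf (nat_lit 3677) (nat_lit 1) [nat_lit 2, nat_lit 3, nat_lit 1, nat_lit 3, nat_lit 2, nat_lit 1, nat_lit 2, nat_lit 3, nat_lit 1, nat_lit 3, nat_lit 2, nat_lit 1, nat_lit 2, nat_lit 3, nat_lit 1, nat_lit 3, nat_lit 2]))) (.node (nat_lit 3699) (.node (nat_lit 3698) (.leaf (nat_lit 3672) (nat_lit 2) [nat_lit 1, nat_lit 2, nat_lit 3, nat_lit 1, nat_lit 3, nat_lit 2, nat_lit 1, nat_lit 2, nat_lit 3, nat_lit 1, nat_lit 3, nat_lit 2, nat_lit 1, nat_lit 2, nat_lit 3, nat_lit 1, nat_lit 3]) (.leaf (nat_lit 3673) (nat_lit 3) [nat_lit 2, nat_lit 1, nat_lit 2, nat_lit 3, nat_lit 1, nat_lit 3, nat_lit 2, nat_lit 1, nat_lit 2, nat_lit 3, nat_lit 1, nat_lit 3, nat_lit 2, nat_lit 1, nat_lit 2, nat_lit 3, nat_lit 1])) (.node (nat_lit 3700) (.leaf (nat_lit 3674) (nat_lit 1) [nat_lit 3, nat_lit 2, nat_lit 1, nat_lit 2, nat_lit 3, nat_lit 1, nat_lit 3, nat_lit 2, nat_lit 1, nat_lit 2, nat_lit 3, nat_lit 1, nat_lit 3, nat_lit 2, nat_lit 1, nat_lit 2, nat_lit 3]) (.node (nat_lit 3701) (.leaf (nat_lit 3675) (nat_lit 3) [nat_lit 1, nat_lit 3, nat_lit 2, nat_lit 1, nat_lit 2, nat_lit 3, nat_lit 1, nat_lit 3, nat_lit 2, nat_lit 1, nat_lit 2, nat_lit 3, nat_lit 1, nat_lit 3, nat_lit 2, nat_lit 1, nat_lit 2]) (.leaf (nat_lit 3676) (nat_lit 2) [nat_lit 3, nat_lit 1, nat_lit 3, nat_lit 2, nat_lit 1, nat_lit 2, nat_lit 3, nat_lit 1, nat_lit 3, nat_lit 2, nat_lit 1, nat_lit 2, nat_lit 3, nat_lit 1, nat_lit 3, nat_lit 2, nat_lit 1]))))) (.node (nat_lit 3706) (.node (nat_lit 3704) (.node (nat_lit 3703) (.leaf (nat_lit 3677) (nat_lit 1) [nat_lit 2, nat_lit 3, nat_lit 1, nat_lit 3, nat_lit 2, nat_lit 1, nat_lit 2, nat_lit 3, nat_lit 1, nat_lit 3, nat_lit 2, nat_lit 1, nat_lit 2, nat_lit 3, nat_lit 1, nat_lit 3, nat_lit 2]) (.leaf (nat_lit 3672) (nat_lit 2) [nat_lit 1, nat_lit 2, nat_lit 3, nat_lit 1, nat_lit 3, nat_lit 2, nat_lit 1, nat_lit 2, nat_lit 3, nat_lit 1, nat_lit 3, nat_lit 2, nat_lit 1, nat_lit 2, nat_lit 3, nat_lit 1, nat_lit 3])) (.node (nat_lit 3705) (.leaf (nat_lit 3673) (nat_lit 3) [nat_lit 2, nat_lit 1, nat_lit 2, nat_lit 3, nat_lit 1, nat_lit 3, nat_lit 2, nat_lit 1, nat_lit 2, nat_lit 3, nat_lit 1, nat_lit 3, nat_lit 2, nat_lit 1, nat_lit 2, nat_lit 3, nat_lit 1]) (.leaf (nat_lit 3674) (nat_lit 1) [nat_lit 3, nat_lit 2, nat_lit 1, nat_lit 2, nat_lit 3, nat_lit 1, nat_lit 3, nat_lit 2, nat_lit 1, nat_lit 2, nat_lit 3, nat_lit 1, nat_lit 3, nat_lit 2, nat_lit 1, nat_lit 2, nat_lit 3]))) (.node (nat_lit 3708) (.node (nat_lit 3707) (.leaf (nat_lit 3675) (nat_lit 3) [nat_lit 1, nat_lit 3, nat_lit 2, nat_lit 1, nat_lit 2, nat_lit 3, nat_lit 1, nat_lit 3, nat_lit 2, nat_lit 1, nat_lit 2, nat_lit 3, nat_lit 1, nat_lit 3, nat_lit 2, nat_lit 1, nat_lit 2]) (.leaf (nat_lit 3676) (nat_lit 2) [nat_lit 3, nat_lit 1, nat_lit 3, nat_lit 2, nat_lit 1, nat_lit 2, nat_lit 3, nat_lit 1, nat_lit 3, nat_lit 2, nat_lit 1, nat_lit 2, nat_lit 3, nat_lit 1, nat_lit 3, nat_lit 2, nat_lit 1])) (.node (nat_lit 3709) (.leaf (nat_lit 3708) (nat_lit 2) [nat_lit 1, nat_lit 2, nat_lit 3, nat_lit 2, nat_lit 3, nat_lit 2, nat_lit 1, nat_lit 2, nat_lit 3, nat_lit 2, nat_lit 3, nat_lit 2, nat_lit 1, nat_lit 2, nat_lit 3, nat_lit 2, nat_lit 3]) (.node (nat_lit 3710) (.leaf (nat_lit 3709) (nat_lit 3) [nat_lit 2, nat_lit 1, nat_lit 2, nat_lit 3, nat_lit 2, nat_lit 3, nat_lit 2, nat_lit 1, nat_lit 2, nat_lit 3, nat_lit 2, nat_lit 3, nat_lit 2, nat_lit 1, nat_lit 2, nat_lit 3, nat_lit 2]) (.leaf (nat_lit 3710) (nat_lit 2) [nat_lit 3, nat_lit 2, nat_lit 1, nat_lit 2, nat_lit 3, nat_lit 2, nat_lit 3, nat_lit 2, nat_lit 1, nat_lit 2, nat_lit 3, nat_lit 2, nat_lit 3, nat_lit 2, nat_lit 1, nat_lit 2, nat_lit 3])))))) (.node (nat_lit 3720) (.node (nat_lit 3715) (.node (nat_lit 3713) (.node (nat_lit 3712) (.leaf (nat_lit 3711) (nat_lit 3) [nat_lit 2, nat_lit 3, nat_lit 2, nat_lit 1, nat_lit 2, nat_lit 3, nat_lit 2, nat_lit 3, nat_lit 2, nat_lit 1, nat_lit 2, nat_lit 3, nat_lit 2, nat_lit 3, nat_lit 2, nat_lit 1, nat_lit 2]) (.leaf (nat_lit 3712) (nat_lit 2) [nat_lit 3, nat_lit 2, nat_lit 3, nat_lit 2, nat_lit 1, nat_lit 2, nat_lit 3, nat_lit 2, nat_lit 3, nat_lit 2, nat_lit 1, nat_lit 2, nat_lit 3, nat_lit 2, nat_lit 3, nat_lit 2, nat_lit 1])) (.node (nat_lit 3714) (.leaf (nat_lit 3713) (nat_lit 1) [nat_lit 2, nat_lit 3, nat_lit 2, nat_lit 3, nat_lit 2, nat_lit 1, nat_lit 2, nat_lit 3, nat_lit 2, nat_lit 3, nat_lit 2, nat_lit 1, nat_lit 2, nat_lit 3, nat_lit 2, nat_lit 3, nat_lit 2]) (.leaf (nat_lit 3708) (nat_lit 2) [nat_lit 1, nat_lit 2, nat_lit 3, nat_lit 2, nat_lit 3, nat_lit 2, nat_lit 1, nat_lit 2, nat_lit 3, nat_lit 2, nat_lit 3, nat_lit 2, nat_lit 1, nat_lit 2, nat_lit 3, nat_lit 2, nat_lit 3]))) (.node (nat_lit 3717) (.node (nat_lit 3716) (.leaf (nat_lit 3709) (nat_lit 3) [nat_lit 2, nat_lit 1, nat_lit 2, nat_lit 3, nat_lit 2, nat_lit 3, nat_lit 2, nat_lit 1, nat_lit 2, nat_lit 3, nat_lit 2, nat_lit 3, nat_lit 2, nat_lit 1, nat_lit 2, nat_lit 3, nat_lit 2]) (.leaf (nat_lit 3710) (nat_lit 2) [nat_lit 3, nat_lit 2, nat_lit 1, nat_lit 2, nat_lit 3, nat_lit 2, nat_lit 3, nat_lit 2, nat_lit 1, nat_lit 2, nat_lit 3, nat_lit 2, nat_lit 3, nat_lit 2, nat_lit 1, nat_lit 2, nat_lit 3])) (.node (nat_lit 3718) (.leaf (nat_lit 3711) (nat_lit 3) [nat_lit 2, nat_lit 3, nat_lit 2, nat_lit 1, nat_lit 2, nat_lit 3, nat_lit 2, nat_lit 3, nat_lit 2, nat_lit 1, nat_lit 2, nat_lit 3, nat_lit 2, nat_lit 3, nat_lit 2, nat_lit 1, nat_lit 2]) (.node (nat_lit 3719) (.leaf (nat_lit 3712) (nat_lit 2) [nat_lit 3, nat_lit 2, nat_lit 3, nat_lit 2, nat_lit 1, nat_lit 2, nat_lit 3, nat_lit 2, nat_lit 3, nat_lit 2, nat_lit 1, nat_lit 2, nat_lit 3, nat_lit 2, nat_lit 3, nat_lit 2, nat_lit 1]) (.leaf (nat_lit 3713) (nat_lit 1) [nat_lit 2, nat_lit 3, nat_lit 2, nat_lit 3, nat_lit 2, nat_lit 1, nat_lit 2, nat_lit 3, nat_lit 2, nat_lit 3, nat_lit 2, nat_lit 1, nat_lit 2, nat_lit 3, nat_lit 2, nat_lit 3, nat_lit 2]))))) (.node (nat_lit 3725) (.node (nat_lit 3722) (.node (nat_lit 3721) (.leaf (nat_lit 3708) (nat_lit 2) [nat_lit 1, nat_lit 2, nat_lit 3, nat_lit 2, nat_lit 3, nat_lit 2, nat_lit 1, nat_lit 2, nat_lit 3, nat_lit 2, nat_lit 3, nat_lit 2, nat_lit 1, nat_lit 2, nat_lit 3, nat_lit 2, nat_lit 3]) (.leaf (nat_lit 3709) (nat_lit 3) [nat_lit 2, nat_lit 1, nat_lit 2, nat_lit 3, nat_lit 2, nat_lit 3, nat_lit 2, nat_lit 1, nat_lit 2, nat_lit 3, nat_lit 2, nat_lit 3, nat_lit 2, nat_lit 1, nat_lit 2, nat_lit 3, nat_lit 2])) (.node (nat_lit 3723) (.leaf (nat_lit 3710) (nat_lit 2) [nat_lit 3, nat_lit 2, nat_lit 1, nat_lit 2, nat_lit 3, nat_lit 2, nat_lit 3, nat_lit 2, nat_lit 1, nat_lit 2, nat_lit 3, nat_lit 2, nat_lit 3, nat_lit 2, nat_lit 1, nat_lit 2, nat_lit 3]) (.node (nat_lit 3724) (.leaf (nat_lit 3711) (nat_lit 3) [nat_lit 2, nat_lit 3, nat_lit 2, nat_lit 1, nat_lit 2, nat_lit 3, nat_lit 2, nat_lit 3, nat_lit 2, nat_lit 1, nat_lit 2, nat_lit 3, nat_lit 2, nat_lit 3, nat_lit 2, nat_lit 1, nat_lit 2]) (.leaf (nat_lit 3712) (nat_lit 2) [nat_lit 3, nat_lit 2, nat_lit 3, nat_lit 2, nat_lit 1, nat_lit 2, nat_lit 3, nat_lit 2, nat_lit 3, nat_lit 2, nat_lit 1, nat_lit 2, nat_lit 3, nat_lit 2, nat_lit 3, nat_lit 2, nat_lit 1])))) (.node (nat_lit 3727) (.node (nat_lit 3726) (.leaf (nat_lit 3713) (nat_lit 1) [nat_lit 2, nat_lit 3, nat_lit 2, nat_lit 3, nat_lit 2, nat_lit 1, nat_lit 2, nat_lit 3, nat_lit 2, nat_lit 3, nat_lit 2, nat_lit 1, nat_lit 2, nat_lit 3, nat_lit 2, nat_lit 3, nat_lit 2]) (.leaf (nat_lit 3713) (nat_lit 1) [nat_lit 2, nat_lit 3, nat_lit 2, nat_lit 3, nat_lit 2, nat_lit 1, nat_lit 2, nat_lit 3, nat_lit 2, nat_lit 3, nat_lit 2, nat_lit 1, nat_lit 2, nat_lit 3, nat_lit 2, nat_lit 3, nat_lit 2])) (.node (nat_lit 3728) (.leaf (nat_lit 3708) (nat_lit 2) [nat_lit 1, nat_lit 2, nat_lit 3, nat_lit 2, nat_lit 3, nat_lit 2, nat_lit 1, nat_lit 2, nat_lit 3, nat_lit 2, nat_lit 3, nat_lit 2, nat_lit 1, nat_lit 2, nat_lit 3, nat_lit 2, nat_lit 3]) (.node (nat_lit 3729) (.leaf (nat_lit 3709) (nat_lit 3) [nat_lit 2, nat_lit 1, nat_lit 2, nat_lit 3, nat_lit 2, nat_lit 3, nat_lit 2, nat_lit 1, nat_lit 2, nat_lit 3, nat_lit 2, nat_lit 3, nat_lit 2, nat_lit 1, nat_lit 2, nat_lit 3, nat_lit 2]) (.leaf (nat_lit 3710) (nat_lit 2) [nat_lit 3, nat_lit 2, nat_lit 1, nat_lit 2, nat_lit 3, nat_lit 2, nat_lit 3, nat_lit 2, nat_lit 1, nat_lit 2, nat_lit 3, nat_lit 2, nat_lit 3, nat_lit 2, nat_lit 1, nat_lit 2, nat_lit 3]))))))) (.node (nat_lit 3749) (.node (nat_lit 3739) (.node (nat_lit 3734) (.node (nat_lit 3732) (.node (nat_lit 3731) (.leaf (nat_lit 3711) (nat_lit 3) [nat_lit 2, nat_lit 3, nat_lit 2, nat_lit 1, nat_lit 2, nat_lit 3, nat_lit 2, nat_lit 3, nat_lit 2, nat_lit 1, nat_lit 2, nat_lit 3, nat_lit 2, nat_lit 3, nat_lit 2, nat_lit 1, nat_lit 2]) (.leaf (nat_lit 3712) (nat_lit 2) [nat_lit 3, nat_lit 2, nat_lit 3, nat_lit 2, nat_lit 1, nat_lit 2, nat_lit 3, nat_lit 2, nat_lit 3, nat_lit 2, nat_lit 1, nat_lit 2, nat_lit 3, nat_lit 2, nat_lit 3, nat_lit 2, nat_lit 1])) (.node (nat_lit 3733) (.leaf (nat_lit 3713) (nat_lit 1) [nat_lit 2, nat_lit 3, nat_lit 2, nat_lit 3, nat_lit 2, nat_lit 1, nat_lit 2, nat_lit 3, nat_lit 2, nat_lit 3, nat_lit 2, nat_lit 1, nat_lit 2, nat_lit 3, nat_lit 2, nat_lit 3, nat_lit 2]) (.leaf (nat_lit 3708) (nat_lit 2) [nat_lit 1, nat_lit 2, nat_lit 3, nat_lit 2, nat_lit 3, nat_lit 2, nat_lit 1, nat_lit 2, nat_lit 3, nat_lit 2, nat_lit 3, nat_lit 2, nat_lit 1, nat_lit 2, nat_lit 3, nat_lit 2, nat_lit 3]))) (.node (nat_lit 3736) (.node (nat_lit 3735) (.leaf (nat_lit 3709) (nat_lit 3) [nat_lit 2, nat_lit 1, nat_lit 2, nat_lit 3, nat_lit 2, nat_lit 3, nat_lit 2, nat_lit 1, nat_lit 2, nat_lit 3, nat_lit 2, nat_lit 3, nat_lit 2, nat_lit 1, nat_lit 2, nat_lit 3, nat_lit 2]) (.leaf (nat_lit 3710) (nat_lit 2) [nat_lit 3, nat_lit 2, nat_lit 1, nat_lit 2, nat_lit 3, nat_lit 2, nat_lit 3, nat_lit 2, nat_lit 1, nat_lit 2, nat_lit 3, nat_lit 2, nat_lit 3, nat_lit 2, nat_lit 1, nat_lit 2, nat_lit 3])) (.node (nat_lit 3737) (.leaf (nat_lit 3711) (nat_lit 3) [nat_lit 2, nat_lit 3, nat_lit 2, nat_lit 1, nat_lit 2, nat_lit 3, nat_lit 2, nat_lit 3, nat_lit 2, nat_lit 1, nat_lit 2, nat_lit 3, nat_lit 2, nat_lit 3, nat_lit 2, nat_lit 1, nat_lit 2]) (.node (nat_lit 3738) (.leaf (nat_lit 3712) (nat_lit 2) [nat_lit 3, nat_lit 2, nat_lit 3, nat_lit 2, nat_lit 1, nat_lit 2, nat_lit 3, nat_lit 2, nat_lit 3, nat_lit 2, nat_lit 1, nat_lit 2, nat_lit 3, nat_lit 2, nat_lit 3, nat_lit 2, nat_lit 1]) (.leaf (nat_lit 3713) (nat_lit 1) [nat_lit 2, nat_lit 3, nat_lit 2, nat_lit 3, nat_lit 2, nat_lit 1, nat_lit 2, nat_lit 3, nat_lit 2, nat_lit 3, nat_lit 2, nat_lit 1, nat_lit 2, nat_lit 3, nat_lit 2, nat_lit 3, nat_lit 2]))))) (.node (nat_lit 3744) (.node (nat_lit 3741) (.node (nat_lit 3740) (.leaf (nat_lit 3708) (nat_lit 2) [nat_lit 1, nat_lit 2, nat_lit 3, nat_lit 2, nat_lit 3, nat_lit 2, nat_lit 1, nat_lit 2, nat_lit 3, nat_lit 2, nat_lit 3, nat_lit 2, nat_lit 1, nat_lit 2, nat_lit 3, nat_lit 2, nat_lit 3]) (.leaf (nat_lit 3709) (nat_lit 3) [nat_lit 2, nat_lit 1, nat_lit 2, nat_lit 3, nat_lit 2, nat_lit 3, nat_lit 2, nat_lit 1, nat_lit 2, nat_lit 3, nat_lit 2, nat_lit 3, nat_lit 2, nat_lit 1, nat_lit 2, nat_lit 3, nat_lit 2])) (.node (nat_lit 3742) (.leaf (nat_lit 3710) (nat_lit 2) [nat_lit 3, nat_lit 2, nat_lit 1, nat_lit 2, nat_lit 3, nat_lit 2, nat_lit 3, nat_lit 2, nat_lit 1, nat_lit 2, nat_lit 3, nat_lit 2, nat_lit 3, nat_lit 2, nat_lit 1, nat_lit 2, nat_lit 3]) (.node (nat_lit 3743) (.leaf (nat_lit 3711) (nat_lit 3) [nat_lit 2, nat_lit 3, nat_lit 2, nat_lit 1, nat_lit 2, nat_lit 3, nat_lit 2, nat_lit 3, nat_lit 2, nat_lit 1, nat_lit 2, nat_lit 3, nat_lit 2, nat_lit 3, nat_lit 2, nat_lit 1, nat_lit 2]) (.leaf (nat_lit 3712) (nat_lit 2) [nat_lit 3, nat_lit 2, nat_lit 3, nat_lit 2, nat_lit 1, nat_lit 2, nat_lit 3, nat_lit 2, nat_lit 3, nat_lit 2, nat_lit 1, nat_lit 2, nat_lit 3, nat_lit 2, nat_lit 3, nat_lit 2, nat_lit 1])))) (.node (nat_lit 3746) (.node (nat_lit 3745) (.leaf (nat_lit 3744) (nat_lit 2) [nat_lit 3, nat_lit 2, nat_lit 3, nat_lit 0, nat_lit 3, nat_lit 2, nat_lit 3, nat_lit 2, nat_lit 3, nat_lit 0, nat_lit 3, nat_lit 2, nat_lit 3, nat_lit 2, nat_lit 3, nat_lit 0, nat_lit 3]) (.leaf (nat_lit 3745) (nat_lit 3) [nat_lit 2, nat_lit 3, nat_lit 2, nat_lit 3, nat_lit 0, nat_lit 3, nat_lit 2, nat_lit 3, nat_lit 2, nat_lit 3, nat_lit 0, nat_lit 3, nat_lit 2, nat_lit 3, nat_lit 2, nat_lit 3, nat_lit 0])) (.node (nat_lit 3747) (.leaf (nat_lit 3746) (nat_lit 0) [nat_lit 3, nat_lit 2, nat_lit 3, nat_lit 2, nat_lit 3, nat_lit 0, nat_lit 3, nat_lit 2, nat_lit 3, nat_lit 2, nat_lit 3, nat_lit 0, nat_lit 3, nat_lit 2, nat_lit 3, nat_lit 2, nat_lit 3]) (.node (nat_lit 3748) (.leaf (nat_lit 3747) (nat_lit 3) [nat_lit 0, nat_lit 3, nat_lit 2, nat_lit 3, nat_lit 2, nat_lit 3, nat_lit 0, nat_lit 3, nat_lit 2, nat_lit 3, nat_lit 2, nat_lit 3, nat_lit 0, nat_lit 3, nat_lit 2, nat_lit 3, nat_lit 2]) (.leaf (nat_lit 3748) (nat_lit 2) [nat_lit 3, nat_lit 0, nat_lit 3, nat_lit 2, nat_lit 3, nat_lit 2, nat_lit 3, nat_lit 0, nat_lit 3, nat_lit 2, nat_lit 3, nat_lit 2, nat_lit 3, nat_lit 0, nat_lit 3, nat_lit 2, nat_lit 3])))))) (.node (nat_lit 3758) (.node (nat_lit 3753) (.node (nat_lit 3751) (.node (nat_lit 3750) (.leaf (nat_lit 3749) (nat_lit 3) [nat_lit 2, nat_lit 3, nat_lit 0, nat_lit 3, nat_lit 2, nat_lit 3, nat_lit 2, nat_lit 3, nat_lit 0, nat_lit 3, nat_lit 2, nat_lit 3, nat_lit 2, nat_lit 3, nat_lit 0, nat_lit 3, nat_lit 2]) (.leaf (nat_lit 3744) (nat_lit 2) [nat_lit 3, nat_lit 2, nat_lit 3, nat_lit 0, nat_lit 3, nat_lit 2, nat_lit 3, nat_lit 2, nat_lit 3, nat_lit 0, nat_lit 3, nat_lit 2, nat_lit 3, nat_lit 2, nat_lit 3, nat_lit 0, nat_lit 3])) (.node (nat_lit 3752) (.leaf (nat_lit 3745) (nat_lit 3) [nat_lit 2, nat_lit 3, nat_lit 2, nat_lit 3, nat_lit 0, nat_lit 3, nat_lit 2, nat_lit 3, nat_lit 2, nat_lit 3, nat_lit 0, nat_lit 3, nat_lit 2, nat_lit 3, nat_lit 2, nat_lit 3, nat_lit 0]) (.leaf (nat_lit 3746) (nat_lit 0) [nat_lit 3, nat_lit 2, nat_lit 3, nat_lit 2, nat_lit 3, nat_lit 0, nat_lit 3, nat_lit 2, nat_lit 3, nat_lit 2, nat_lit 3, nat_lit 0, nat_lit 3, nat_lit 2, nat_lit 3, nat_lit 2, nat_lit 3]))) (.node (nat_lit 3755) (.node (nat_lit 3754) (.leaf (nat_lit 3747) (nat_lit 3) [nat_lit 0, nat_lit 3, nat_lit 2, nat_lit 3, nat_lit 2, nat_lit 3, nat_lit 0, nat_lit 3, nat_lit 2, nat_lit 3, nat_lit 2, nat_lit 3, nat_lit 0, nat_lit 3, nat_lit 2, nat_lit 3, nat_lit 2]) (.leaf (nat_lit 3748) (nat_lit 2) [nat_lit 3, nat_lit 0, nat_lit 3, nat_lit 2, nat_lit 3, nat_lit 2, nat_lit 3, nat_lit 0, nat_lit 3, nat_lit 2, nat_lit 3, nat_lit 2, nat_lit 3, nat_lit 0, nat_lit 3, nat_lit 2, nat_lit 3])) (.node (nat_lit 3756) (.leaf (nat_lit 3749) (nat_lit 3) [nat_lit 2, nat_lit 3, nat_lit 0, nat_lit 3, nat_lit 2, nat_lit 3, nat_lit 2, nat_lit 3, nat_lit 0, nat_lit 3, nat_lit 2, nat_lit 3, nat_lit 2, nat_lit 3, nat_lit 0, nat_lit 3, nat_lit 2]) (.node (nat_lit 3757) (.leaf (nat_lit 3744) (nat_lit 2) [nat_lit 3, nat_lit 2, nat_lit 3, nat_lit 0, nat_lit 3, nat_lit 2, nat_lit 3, nat_lit 2, nat_lit 3, nat_lit 0, nat_lit 3, nat_lit 2, nat_lit 3, nat_lit 2, nat_lit 3, nat_lit 0, nat_lit 3]) (.leaf (nat_lit 3745) (nat_lit 3) [nat_lit 2, nat_lit 3, nat_lit 2, nat_lit 3, nat_lit 0, nat_lit 3, nat_lit 2, nat_lit 3, nat_lit 2, nat_lit 3, nat_lit 0, nat_lit 3, nat_lit 2, nat_lit 3, nat_lit 2, nat_lit 3, nat_lit 0]))))) (.node (nat_lit 3763) (.node (nat_lit 3760) (.node (nat_lit 3759) (.leaf (nat_lit 3746) (nat_lit 0) [nat_lit 3, nat_lit 2, nat_lit 3, nat_lit 2, nat_lit 3, nat_lit 0, nat_lit 3, nat_lit 2, nat_lit 3, nat_lit 2, nat_lit 3, nat_lit 0, nat_lit 3, nat_lit 2, nat_lit 3, nat_lit 2, nat_lit 3]) (.leaf (nat_lit 3747) (nat_lit 3) [nat_lit 0, nat_lit 3, nat_lit 2, nat_lit 3, nat_lit 2, nat_lit 3, nat_lit 0, nat_lit 3, nat_lit 2, nat_lit 3, nat_lit 2, nat_lit 3, nat_lit 0, nat_lit 3, nat_lit 2, nat_lit 3, nat_lit 2])) (.node (nat_lit 3761) (.leaf (nat_lit 3748) (nat_lit 2) [nat_lit 3, nat_lit 0, nat_lit 3, nat_lit 2, nat_lit 3, nat_lit 2, nat_lit 3, nat_lit 0, nat_lit 3, nat_lit 2, nat_lit 3, nat_lit 2, nat_lit 3, nat_lit 0, nat_lit 3, nat_lit 2, nat_lit 3]) (.node (nat_lit 3762) (.leaf (nat_lit 3749) (nat_lit 3) [nat_lit 2, nat_lit 3, nat_lit 0, nat_lit 3, nat_lit 2, nat_lit 3, nat_lit 2, nat_lit 3, nat_lit 0, nat_lit 3, nat_lit 2, nat_lit 3, nat_lit 2, nat_lit 3, nat_lit 0, nat_lit 3, nat_lit 2]) (.leaf (nat_lit 3749) (nat_lit 3) [nat_lit 2, nat_lit 3, nat_lit 0, nat_lit 3, nat_lit 2, nat_lit 3, nat_lit 2, nat_lit 3, nat_lit 0, nat_lit 3, nat_lit 2, nat_lit 3, nat_lit 2, nat_lit 3, nat_lit 0, nat_lit 3, nat_lit 2])))) (.node (nat_lit 3765) (.node (nat_lit 3764) (.leaf (nat_lit 3744) (nat_lit 2) [nat_lit 3, nat_lit 2, nat_lit 3, nat_lit 0, nat_lit 3, nat_lit 2, nat_lit 3, nat_lit 2, nat_lit 3, nat_lit 0, nat_lit 3, nat_lit 2, nat_lit 3, nat_lit 2, nat_lit 3, nat_lit 0, nat_lit 3]) (.leaf (nat_lit 3745) (nat_lit 3) [nat_lit 2, nat_lit 3, nat_lit 2, nat_lit 3, nat_lit 0, nat_lit 3, nat_lit 2, nat_lit 3, nat_lit 2, nat_lit 3, nat_lit 0, nat_lit 3, nat_lit 2, nat_lit 3, nat_lit 2, nat_lit 3, nat_lit 0])) (.node (nat_lit 3766) (.leaf (nat_lit 3746) (nat_lit 0) [nat_lit 3, nat_lit 2, nat_lit 3, nat_lit 2, nat_lit 3, nat_lit 0, nat_lit 3, nat_lit 2, nat_lit 3, nat_lit 2, nat_lit 3, nat_lit 0, nat_lit 3, nat_lit 2, nat_lit 3, nat_lit 2, nat_lit 3]) (.node (nat_lit 3767) (.leaf (nat_lit 3747) (nat_lit 3) [nat_lit 0, nat_lit 3, nat_lit 2, nat_lit 3, nat_lit 2, nat_lit 3, nat_lit 0, nat_lit 3, nat_lit 2, nat_lit 3, nat_lit 2, nat_lit 3, nat_lit 0, nat_lit 3, nat_lit 2, nat_lit 3, nat_lit 2]) (.leaf (nat_lit 3748) (nat_lit 2) [nat_lit 3, nat_lit 0, nat_lit 3, nat_lit 2, nat_lit 3, nat_lit 2, nat_lit 3, nat_lit 0, nat_lit 3, nat_lit 2, nat_lit 3, nat_lit 2, nat_lit 3, nat_lit 0, nat_lit 3, nat_lit 2, nat_lit 3]))))))))) (.node (nat_lit 3843) (.node (nat_lit 3805) (.node (nat_lit 3786) (.node (nat_lit 3777) (.node (nat_lit 3772) (.node (nat_lit 3770) (.node (nat_lit 3769) (.leaf (nat_lit 3749) (nat_lit 3) [nat_lit 2, nat_lit 3, nat_lit 0, nat_lit 3, nat_lit 2, nat_lit 3, nat_lit 2, nat_lit 3, nat_lit 0, nat_lit 3, nat_lit 2, nat_lit 3, nat_lit 2, nat_lit 3, nat_lit 0, nat_lit 3, nat_lit 2]) (.leaf (nat_lit 3744) (nat_lit 2) [nat_lit 3, nat_lit 2, nat_lit 3, nat_lit 0, nat_lit 3, nat_lit 2, nat_lit 3, nat_lit 2, nat_lit 3, nat_lit 0, nat_lit 3, nat_lit 2, nat_lit 3, nat_lit 2, nat_lit 3, nat_lit 0, nat_lit 3])) (.node (nat_lit 3771) (.leaf (nat_lit 3745) (nat_lit 3) [nat_lit 2, nat_lit 3, nat_lit 2, nat_lit 3, nat_lit 0, nat_lit 3, nat_lit 2, nat_lit 3, nat_lit 2, nat_lit 3, nat_lit 0, nat_lit 3, nat_lit 2, nat_lit 3, nat_lit 2, nat_lit 3, nat_lit 0]) (.leaf (nat_lit 3746) (nat_lit 0) [nat_lit 3, nat_lit 2, nat_lit 3, nat_lit 2, nat_lit 3, nat_lit 0, nat_lit 3, nat_lit 2, nat_lit 3, nat_lit 2, nat_lit 3, nat_lit 0, nat_lit 3, nat_lit 2, nat_lit 3, nat_lit 2, nat_lit 3]))) (.node (nat_lit 3774) (.node (nat_lit 3773) (.leaf (nat_lit 3747) (nat_lit 3) [nat_lit 0, nat_lit 3, nat_lit 2, nat_lit 3, nat_lit 2, nat_lit 3, nat_lit 0, nat_lit 3, nat_lit 2, nat_lit 3, nat_lit 2, nat_lit 3, nat_lit 0, nat_lit 3, nat_lit 2, nat_lit 3, nat_lit 2]) (.leaf (nat_lit 3748) (nat_lit 2) [nat_lit 3, nat_lit 0, nat_lit 3, nat_lit 2, nat_lit 3, nat_lit 2, nat_lit 3, nat_lit 0, nat_lit 3, nat_lit 2, nat_lit 3, nat_lit 2, nat_lit 3, nat_lit 0, nat_lit 3, nat_lit 2, nat_lit 3])) (.node (nat_lit 3775) (.leaf (nat_lit 3749) (nat_lit 3) [nat_lit 2, nat_lit 3, nat_lit 0, nat_lit 3, nat_lit 2, nat_lit 3, nat_lit 2, nat_lit 3, nat_lit 0, nat_lit 3, nat_lit 2, nat_lit 3, nat_lit 2, nat_lit 3, nat_lit 0, nat_lit 3, nat_lit 2]) (.node (nat_lit 3776) (.leaf (nat_lit 3744) (nat_lit 2) [nat_lit 3, nat_lit 2, nat_lit 3, nat_lit 0, nat_lit 3, nat_lit 2, nat_lit 3, nat_lit 2, nat_lit 3, nat_lit 0, nat_lit 3, nat_lit 2, nat_lit 3, nat_lit 2, nat_lit 3, nat_lit 0, nat_lit 3]) (.leaf (nat_lit 3745) (nat_lit 3) [nat_lit 2, nat_lit 3, nat_lit 2, nat_lit 3, nat_lit 0, nat_lit 3, nat_lit 2, nat_lit 3, nat_lit 2, nat_lit 3, nat_lit 0, nat_lit 3, nat_lit 2, nat_lit 3, nat_lit 2, nat_lit 3, nat_lit 0]))))) (.node (nat_lit 3781) (.node (nat_lit 3779) (.node (nat_lit 3778) (.leaf (nat_lit 3746) (nat_lit 0) [nat_lit 3, nat_lit 2, nat_lit 3, nat_lit 2, nat_lit 3, nat_lit 0, nat_lit 3, nat_lit 2, nat_lit 3, nat_lit 2, nat_lit 3, nat_lit 0, nat_lit 3, nat_lit 2, nat_lit 3, nat_lit 2, nat_lit 3]) (.leaf (nat_lit 3747) (nat_lit 3) [nat_lit 0, nat_lit 3, nat_lit 2, nat_lit 3, nat_lit 2, nat_lit 3, nat_lit 0, nat_lit 3, nat_lit 2, nat_lit 3, nat_lit 2, nat_lit 3, nat_lit 0, nat_lit 3, nat_lit 2, nat_lit 3, nat_lit 2])) (.node (nat_lit 3780) (.leaf (nat_lit 3748) (nat_lit 2) [nat_lit 3, nat_lit 0, nat_lit 3, nat_lit 2, nat_lit 3, nat_lit 2, nat_lit 3, nat_lit 0, nat_lit 3, nat_lit 2, nat_lit 3, nat_lit 2, nat_lit 3, nat_lit 0, nat_lit 3, nat_lit 2, nat_lit 3]) (.leaf (nat_lit 3780) (nat_lit 2) [nat_lit 3, nat_lit 2, nat_lit 3, nat_lit 1, nat_lit 3, nat_lit 2, nat_lit 3, nat_lit 2, nat_lit 3, nat_lit 1, nat_lit 3, nat_lit 2, nat_lit 3, nat_lit 2, nat_lit 3, nat_lit 1, nat_lit 3]))) (.node (nat_lit 3783) (.node (nat_lit 3782) (.leaf (nat_lit 3781) (nat_lit 3) [nat_lit 2, nat_lit 3, nat_lit 2, nat_lit 3, nat_lit 1, nat_lit 3, nat_lit 2, nat_lit 3, nat_lit 2, nat_lit 3, nat_lit 1, nat_lit 3, nat_lit 2, nat_lit 3, nat_lit 2, nat_lit 3, nat_lit 1]) (.leaf (nat_lit 3782) (nat_lit 1) [nat_lit 3, nat_lit 2, nat_lit 3, nat_lit 2, nat_lit 3, nat_lit 1, nat_lit 3, nat_lit 2, nat_lit 3, nat_lit 2, nat_lit 3, nat_lit 1, nat_lit 3, nat_lit 2, nat_lit 3, nat_lit 2, nat_lit 3])) (.node (nat_lit 3784) (.leaf (nat_lit 3783) (nat_lit 3) [nat_lit 1, nat_lit 3, nat_lit 2, nat_lit 3, nat_lit 2, nat_lit 3, nat_lit 1, nat_lit 3, nat_lit 2, nat_lit 3, nat_lit 2, nat_lit 3, nat_lit 1, nat_lit 3, nat_lit 2, nat_lit 3, nat_lit 2]) (.node (nat_lit 3785) (.leaf (nat_lit 3784) (nat_lit 2) [nat_lit 3, nat_lit 1, nat_lit 3, nat_lit 2, nat_lit 3, nat_lit 2, nat_lit 3, nat_lit 1, nat_lit 3, nat_lit 2, nat_lit 3, nat_lit 2, nat_lit 3, nat_lit 1, nat_lit 3, nat_lit 2, nat_lit 3]) (.leaf (nat_lit 3785) (nat_lit 3) [nat_lit 2, nat_lit 3, nat_lit 1, nat_lit 3, nat_lit 2, nat_lit 3, nat_lit 2, nat_lit 3, nat_lit 1, nat_lit 3, nat_lit 2, nat_lit 3, nat_lit 2, nat_lit 3, nat_lit 1, nat_lit 3, nat_lit 2])))))) (.node (nat_lit 3795) (.node (nat_lit 3790) (.node (nat_lit 3788) (.node (nat_lit 3787) (.leaf (nat_lit 3780) (nat_lit 2) [nat_lit 3, nat_lit 2, nat_lit 3, nat_lit 1, nat_lit 3, nat_lit 2, nat_lit 3, nat_lit 2, nat_lit 3, nat_lit 1, nat_lit 3, nat_lit 2, nat_lit 3, nat_lit 2, nat_lit 3, nat_lit 1, nat_lit 3]) (.leaf (nat_lit 3781) (nat_lit 3) [nat_lit 2, nat_lit 3, nat_lit 2, nat_lit 3, nat_lit 1, nat_lit 3, nat_lit 2, nat_lit 3, nat_lit 2, nat_lit 3, nat_lit 1, nat_lit 3, nat_lit 2, nat_lit 3, nat_lit 2, nat_lit 3, nat_lit 1])) (.node (nat_lit 3789) (.leaf (nat_lit 3782) (nat_lit 1) [nat_lit 3, nat_lit 2, nat_lit 3, nat_lit 2, nat_lit 3, nat_lit 1, nat_lit 3, nat_lit 2, nat_lit 3, nat_lit 2, nat_lit 3, nat_lit 1, nat_lit 3, nat_lit 2, nat_lit 3, nat_lit 2, nat_lit 3]) (.leaf (nat_lit 3783) (nat_lit 3) [nat_lit 1, nat_lit 3, nat_lit 2, nat_lit 3, nat_lit 2, nat_lit 3, nat_lit 1, nat_lit 3, nat_lit 2, nat_lit 3, nat_lit 2, nat_lit 3, nat_lit 1, nat_lit 3, nat_lit 2, nat_lit 3, nat_lit 2]))) (.node (nat_lit 3792) (.node (nat_lit 3791) (.leaf (nat_lit 3784) (nat_lit 2) [nat_lit 3, nat_lit 1, nat_lit 3, nat_lit 2, nat_lit 3, nat_lit 2, nat_lit 3, nat_lit 1, nat_lit 3, nat_lit 2, nat_lit 3, nat_lit 2, nat_lit 3, nat_lit 1, nat_lit 3, nat_lit 2, nat_lit 3]) (.leaf (nat_lit 3785) (nat_lit 3) [nat_lit 2, nat_lit 3, nat_lit 1, nat_lit 3, nat_lit 2, nat_lit 3, nat_lit 2, nat_lit 3, nat_lit 1, nat_lit 3, nat_lit 2, nat_lit 3, nat_lit 2, nat_lit 3, nat_lit 1, nat_lit 3, nat_lit 2])) (.node (nat_lit 3793) (.leaf (nat_lit 3780) (nat_lit 2) [nat_lit 3, nat_lit 2, nat_lit 3, nat_lit 1, nat_lit 3, nat_lit 2, nat_lit 3, nat_lit 2, nat_lit 3, nat_lit 1, nat_lit 3, nat_lit 2, nat_lit 3, nat_lit 2, nat_lit 3, nat_lit 1, nat_lit 3]) (.node (nat_lit 3794) (.leaf (nat_lit 3781) (nat_lit 3) [nat_lit 2, nat_lit 3, nat_lit 2, nat_lit 3, nat_lit 1, nat_lit 3, nat_lit 2, nat_lit 3, nat_lit 2, nat_lit 3, nat_lit 1, nat_lit 3, nat_lit 2, nat_lit 3, nat_lit 2, nat_lit 3, nat_lit 1]) (.leaf (nat_lit 3782) (nat_lit 1) [nat_lit 3, nat_lit 2, nat_lit 3, nat_lit 2, nat_lit 3, nat_lit 1, nat_lit 3, nat_lit 2, nat_lit 3, nat_lit 2, nat_lit 3, nat_lit 1, nat_lit 3, nat_lit 2, nat_lit 3, nat_lit 2, nat_lit 3]))))) (.node (nat_lit 3800) (.node (nat_lit 3797) (.node (nat_lit 3796) (.leaf (nat_lit 3783) (nat_lit 3) [nat_lit 1, nat_lit 3, nat_lit 2, nat_lit 3, nat_lit 2, nat_lit 3, nat_lit 1, nat_lit 3, nat_lit 2, nat_lit 3, nat_lit 2, nat_lit 3, nat_lit 1, nat_lit 3, nat_lit 2, nat_lit 3, nat_lit 2]) (.leaf (nat_lit 3784) (nat_lit 2) [nat_lit 3, nat_lit 1, nat_lit 3, nat_lit 2, nat_lit 3, nat_lit 2, nat_lit 3, nat_lit 1, nat_lit 3, nat_lit 2, nat_lit 3, nat_lit 2, nat_lit 3, nat_lit 1, nat_lit 3, nat_lit 2, nat_lit 3])) (.node (nat_lit 3798) (.leaf (nat_lit 3785) (nat_lit 3) [nat_lit 2, nat_lit 3, nat_lit 1, nat_lit 3, nat_lit 2, nat_lit 3, nat_lit 2, nat_lit 3, nat_lit 1, nat_lit 3, nat_lit 2, nat_lit 3, nat_lit 2, nat_lit 3, nat_lit 1, nat_lit 3, nat_lit 2]) (.node (nat_lit 3799) (.leaf (nat_lit 3785) (nat_lit 3) [nat_lit 2, nat_lit 3, nat_lit 1, nat_lit 3, nat_lit 2, nat_lit 3, nat_lit 2, nat_lit 3, nat_lit 1, nat_lit 3, nat_lit 2, nat_lit 3, nat_lit 2, nat_lit 3, nat_lit 1, nat_lit 3, nat_lit 2]) (.leaf (nat_lit 3780) (nat_lit 2) [nat_lit 3, nat_lit 2, nat_lit 3, nat_lit 1, nat_lit 3, nat_lit 2, nat_lit 3, nat_lit 2, nat_lit 3, nat_lit 1, nat_lit 3, nat_lit 2, nat_lit 3, nat_lit 2, nat_lit 3, nat_lit 1, nat_lit 3])))) (.node (nat_lit 3802) (.node (nat_lit 3801) (.leaf (nat_lit 3781) (nat_lit 3) [nat_lit 2, nat_lit 3, nat_lit 2, nat_lit 3, nat_lit 1, nat_lit 3, nat_lit 2, nat_lit 3, nat_lit 2, nat_lit 3, nat_lit 1, nat_lit 3, nat_lit 2, nat_lit 3, nat_lit 2, nat_lit 3, nat_lit 1]) (.leaf (nat_lit 3782) (nat_lit 1) [nat_lit 3, nat_lit 2, nat_lit 3, nat_lit 2, nat_lit 3, nat_lit 1, nat_lit 3, nat_lit 2, nat_lit 3, nat_lit 2, nat_lit 3, nat_lit 1, nat_lit 3, nat_lit 2, nat_lit 3, nat_lit 2, nat_lit 3])) (.node (nat_lit 3803) (.leaf (nat_lit 3783) (nat_lit 3) [nat_lit 1, nat_lit 3, nat_lit 2, nat_lit 3, nat_lit 2, nat_lit 3, nat_lit 1, nat_lit 3, nat_lit 2, nat_lit 3, nat_lit 2, nat_lit 3, nat_lit 1, nat_lit 3, nat_lit 2, nat_lit 3, nat_lit 2]) (.node (nat_lit 3804) (.leaf (nat_lit 3784) (nat_lit 2) [nat_lit 3, nat_lit 1, nat_lit 3, nat_lit 2, nat_lit 3, nat_lit 2, nat_lit 3, nat_lit 1, nat_lit 3, nat_lit 2, nat_lit 3, nat_lit 2, nat_lit 3, nat_lit 1, nat_lit 3, nat_lit 2, nat_lit 3]) (.leaf (nat_lit 3785) (nat_lit 3) [nat_lit 2, nat_lit 3, nat_lit 1, nat_lit 3, nat_lit 2, nat_lit 3, nat_lit 2, nat_lit 3, nat_lit 1, nat_lit 3, nat_lit 2, nat_lit 3, nat_lit 2, nat_lit 3, nat_lit 1, nat_lit 3, nat_lit 2]))))))) (.node (nat_lit 3824) (.node (nat_lit 3814) (.node (nat_lit 3809) (.node (nat_lit 3807) (.node (nat_lit 3806) (.leaf (nat_lit 3780) (nat_lit 2) [nat_lit 3, nat_lit 2, nat_lit 3, nat_lit 1, nat_lit 3, nat_lit 2, nat_lit 3, nat_lit 2, nat_lit 3, nat_lit 1, nat_lit 3, nat_lit 2, nat_lit 3, nat_lit 2, nat_lit 3, nat_lit 1, nat_lit 3]) (.leaf (nat_lit 3781) (nat_lit 3) [nat_lit 2, nat_lit 3, nat_lit 2, nat_lit 3, nat_lit 1, nat_lit 3, nat_lit 2, nat_lit 3, nat_lit 2, nat_lit 3, nat_lit 1, nat_lit 3, nat_lit 2, nat_lit 3, nat_lit 2, nat_lit 3, nat_lit 1])) (.node (nat_lit 3808) (.leaf (nat_lit 3782) (nat_lit 1) [nat_lit 3, nat_lit 2, nat_lit 3, nat_lit 2, nat_lit 3, nat_lit 1, nat_lit 3, nat_lit 2, nat_lit 3, nat_lit 2, nat_lit 3, nat_lit 1, nat_lit 3, nat_lit 2, nat_lit 3, nat_lit 2, nat_lit 3]) (.leaf (nat_lit 3783) (nat_lit 3) [nat_lit 1, nat_lit 3, nat_lit 2, nat_lit 3, nat_lit 2, nat_lit 3, nat_lit 1, nat_lit 3, nat_lit 2, nat_lit 3, nat_lit 2, nat_lit 3, nat_lit 1, nat_lit 3, nat_lit 2, nat_lit 3, nat_lit 2]))) (.node (nat_lit 3811) (.node (nat_lit 3810) (.leaf (nat_lit 3784) (nat_lit 2) [nat_lit 3, nat_lit 1, nat_lit 3, nat_lit 2, nat_lit 3, nat_lit 2, nat_lit 3, nat_lit 1, nat_lit 3, nat_lit 2, nat_lit 3, nat_lit 2, nat_lit 3, nat_lit 1, nat_lit 3, nat_lit 2, nat_lit 3]) (.leaf (nat_lit 3785) (nat_lit 3) [nat_lit 2, nat_lit 3, nat_lit 1, nat_lit 3, nat_lit 2, nat_lit 3, nat_lit 2, nat_lit 3, nat_lit 1, nat_lit 3, nat_lit 2, nat_lit 3, nat_lit 2, nat_lit 3, nat_lit 1, nat_lit 3, nat_lit 2])) (.node (nat_lit 3812) (.leaf (nat_lit 3780) (nat_lit 2) [nat_lit 3, nat_lit 2, nat_lit 3, nat_lit 1, nat_lit 3, nat_lit 2, nat_lit 3, nat_lit 2, nat_lit 3, nat_lit 1, nat_lit 3, nat_lit 2, nat_lit 3, nat_lit 2, nat_lit 3, nat_lit 1, nat_lit 3]) (.node (nat_lit 3813) (.leaf (nat_lit 3781) (nat_lit 3) [nat_lit 2, nat_lit 3, nat_lit 2, nat_lit 3, nat_lit 1, nat_lit 3, nat_lit 2, nat_lit 3, nat_lit 2, nat_lit 3, nat_lit 1, nat_lit 3, nat_lit 2, nat_lit 3, nat_lit 2, nat_lit 3, nat_lit 1]) (.leaf (nat_lit 3782) (nat_lit 1) [nat_lit 3, nat_lit 2, nat_lit 3, nat_lit 2, nat_lit 3, nat_lit 1, nat_lit 3, nat_lit 2, nat_lit 3, nat_lit 2, nat_lit 3, nat_lit 1, nat_lit 3, nat_lit 2, nat_lit 3, nat_lit 2, nat_lit 3]))))) (.node (nat_lit 3819) (.node (nat_lit 3816) (.node (nat_lit 3815) (.leaf (nat_lit 3783) (nat_lit 3) [nat_lit 1, nat_lit 3, nat_lit 2, nat_lit 3, nat_lit 2, nat_lit 3, nat_lit 1, nat_lit 3, nat_lit 2, nat_lit 3, nat_lit 2, nat_lit 3, nat_lit 1, nat_lit 3, nat_lit 2, nat_lit 3, nat_lit 2]) (.leaf (nat_lit 3784) (nat_lit 2) [nat_lit 3, nat_lit 1, nat_lit 3, nat_lit 2, nat_lit 3, nat_lit 2, nat_lit 3, nat_lit 1, nat_lit 3, nat_lit 2, nat_lit 3, nat_lit 2, nat_lit 3, nat_lit 1, nat_lit 3, nat_lit 2, nat_lit 3])) (.node (nat_lit 3817) (.leaf (nat_lit 3816) (nat_lit 2) [nat_lit 3, nat_lit 2, nat_lit 3, nat_lit 2, nat_lit 3, nat_lit 2, nat_lit 3, nat_lit 2, nat_lit 3, nat_lit 2, nat_lit 3, nat_lit 2, nat_lit 3, nat_lit 2, nat_lit 3, nat_lit 2, nat_lit 3]) (.node (nat_lit 3818) (.leaf (nat_lit 3817) (nat_lit 3) [nat_lit 2, nat_lit 3, nat_lit 2, nat_lit 3, nat_lit 2, nat_lit 3, nat_lit 2, nat_lit 3, nat_lit 2, nat_lit 3, nat_lit 2, nat_lit 3, nat_lit 2, nat_lit 3, nat_lit 2, nat_lit 3, nat_lit 2]) (.leaf (nat_lit 3816) (nat_lit 2) [nat_lit 3, nat_lit 2, nat_lit 3, nat_lit 2, nat_lit 3, nat_lit 2, nat_lit 3, nat_lit 2, nat_lit 3, nat_lit 2, nat_lit 3, nat_lit 2, nat_lit 3, nat_lit 2, nat_lit 3, nat_lit 2, nat_lit 3])))) (.node (nat_lit 3821) (.node (nat_lit 3820) (.leaf (nat_lit 3817) (nat_lit 3) [nat_lit 2, nat_lit 3, nat_lit 2, nat_lit 3, nat_lit 2, nat_lit 3, nat_lit 2, nat_lit 3, nat_lit 2, nat_lit 3, nat_lit 2, nat_lit 3, nat_lit 2, nat_lit 3, nat_lit 2, nat_lit 3, nat_lit 2]) (.leaf (nat_lit 3816) (nat_lit 2) [nat_lit 3, nat_lit 2, nat_lit 3, nat_lit 2, nat_lit 3, nat_lit 2, nat_lit 3, nat_lit 2, nat_lit 3, nat_lit 2, nat_lit 3, nat_lit 2, nat_lit 3, nat_lit 2, nat_lit 3, nat_lit 2, nat_lit 3])) (.node (nat_lit 3822) (.leaf (nat_lit 3817) (nat_lit 3) [nat_lit 2, nat_lit 3, nat_lit 2, nat_lit 3, nat_lit 2, nat_lit 3, nat_lit 2, nat_lit 3, nat_lit 2, nat_lit 3, nat_lit 2, nat_lit 3, nat_lit 2, nat_lit 3, nat_lit 2, nat_lit 3, nat_lit 2]) (.node (nat_lit 3823) (.leaf (nat_lit 3816) (nat_lit 2) [nat_lit 3, nat_lit 2, nat_lit 3, nat_lit 2, nat_lit 3, nat_lit 2, nat_lit 3, nat_lit 2, nat_lit 3, nat_lit 2, nat_lit 3, nat_lit 2, nat_lit 3, nat_lit 2, nat_lit 3, nat_lit 2, nat_lit 3]) (.leaf (nat_lit 3817) (nat_lit 3) [nat_lit 2, nat_lit 3, nat_lit 2, nat_lit 3, nat_lit 2, nat_lit 3, nat_lit 2, nat_lit 3, nat_lit 2, nat_lit 3, nat_lit 2, nat_lit 3, nat_lit 2, nat_lit 3, nat_lit 2, nat_lit 3, nat_lit 2])))))) (.node (nat_lit 3833) (.node (nat_lit 3828) (.node (nat_lit 3826) (.node (nat_lit 3825) (.leaf (nat_lit 3816) (nat_lit 2) [nat_lit 3, nat_lit 2, nat_lit 3, nat_lit 2, nat_lit 3, nat_lit 2, nat_lit 3, nat_lit 2, nat_lit 3, nat_lit 2, nat_lit 3, nat_lit 2, nat_lit 3, nat_lit 2, nat_lit 3, nat_lit 2, nat_lit 3]) (.leaf (nat_lit 3817) (nat_lit 3) [nat_lit 2, nat_lit 3, nat_lit 2, nat_lit 3, nat_lit 2, nat_lit 3, nat_lit 2, nat_lit 3, nat_lit 2, nat_lit 3, nat_lit 2, nat_lit 3, nat_lit 2, nat_lit 3, nat_lit 2, nat_lit 3, nat_lit 2])) (.node (nat_lit 3827) (.leaf (nat_lit 3816) (nat_lit 2) [nat_lit 3, nat_lit 2, nat_lit 3, nat_lit 2, nat_lit 3, nat_lit 2, nat_lit 3, nat_lit 2, nat_lit 3, nat_lit 2, nat_lit 3, nat_lit 2, nat_lit 3, nat_lit 2, nat_lit 3, nat_lit 2, nat_lit 3]) (.leaf (nat_lit 3817) (nat_lit 3) [nat_lit 2, nat_lit 3, nat_lit 2, nat_lit 3, nat_lit 2, nat_lit 3, nat_lit 2, nat_lit 3, nat_lit 2, nat_lit 3, nat_lit 2, nat_lit 3, nat_lit 2, nat_lit 3, nat_lit 2, nat_lit 3, nat_lit 2]))) (.node (nat_lit 3830) (.node (nat_lit 3829) (.leaf (nat_lit 3816) (nat_lit 2) [nat_lit 3, nat_lit 2, nat_lit 3, nat_lit 2, nat_lit 3, nat_lit 2, nat_lit 3, nat_lit 2, nat_lit 3, nat_lit 2, nat_lit 3, nat_lit 2, nat_lit 3, nat_lit 2, nat_lit 3, nat_lit 2, nat_lit 3]) (.leaf (nat_lit 3817) (nat_lit 3) [nat_lit 2, nat_lit 3, nat_lit 2, nat_lit 3, nat_lit 2, nat_lit 3, nat_lit 2, nat_lit 3, nat_lit 2, nat_lit 3, nat_lit 2, nat_lit 3, nat_lit 2, nat_lit 3, nat_lit 2, nat_lit 3, nat_lit 2])) (.node (nat_lit 3831) (.leaf (nat_lit 3816) (nat_lit 2) [nat_lit 3, nat_lit 2, nat_lit 3, nat_lit 2, nat_lit 3, nat_lit 2, nat_lit 3, nat_lit 2, nat_lit 3, nat_lit 2, nat_lit 3, nat_lit 2, nat_lit 3, nat_lit 2, nat_lit 3, nat_lit 2, nat_lit 3]) (.node (nat_lit 3832) (.leaf (nat_lit 3817) (nat_lit 3) [nat_lit 2, nat_lit 3, nat_lit 2, nat_lit 3, nat_lit 2, nat_lit 3, nat_lit 2, nat_lit 3, nat_lit 2, nat_lit 3, nat_lit 2, nat_lit 3, nat_lit 2, nat_lit 3, nat_lit 2, nat_lit 3, nat_lit 2]) (.leaf (nat_lit 3816) (nat_lit 2) [nat_lit 3, nat_lit 2, nat_lit 3, nat_lit 2, nat_lit 3, nat_lit 2, nat_lit 3, nat_lit 2, nat_lit 3, nat_lit 2, nat_lit 3, nat_lit 2, nat_lit 3, nat_lit 2, nat_lit 3, nat_lit 2, nat_lit 3]))))) (.node (nat_lit 3838) (.node (nat_lit 3835) (.node (nat_lit 3834) (.leaf (nat_lit 3817) (nat_lit 3) [nat_lit 2, nat_lit 3, nat_lit 2, nat_lit 3, nat_lit 2, nat_lit 3, nat_lit 2, nat_lit 3, nat_lit 2, nat_lit 3, nat_lit 2, nat_lit 3, nat_lit 2, nat_lit 3, nat_lit 2, nat_lit 3, nat_lit 2]) (.leaf (nat_lit 3817) (nat_lit 3) [nat_lit 2, nat_lit 3, nat_lit 2, nat_lit 3, nat_lit 2, nat_lit 3, nat_lit 2, nat_lit 3, nat_lit 2, nat_lit 3, nat_lit 2, nat_lit 3, nat_lit 2, nat_lit 3, nat_lit 2, nat_lit 3, nat_lit 2])) (.node (nat_lit 3836) (.leaf (nat_lit 3816) (nat_lit 2) [nat_lit 3, nat_lit 2, nat_lit 3, nat_lit 2, nat_lit 3, nat_lit 2, nat_lit 3, nat_lit 2, nat_lit 3, nat_lit 2, nat_lit 3, nat_lit 2, nat_lit 3, nat_lit 2, nat_lit 3, nat_lit 2, nat_lit 3]) (.node (nat_lit 3837) (.leaf (nat_lit 3817) (nat_lit 3) [nat_lit 2, nat_lit 3, nat_lit 2, nat_lit 3, nat_lit 2, nat_lit 3, nat_lit 2, nat_lit 3, nat_lit 2, nat_lit 3, nat_lit 2, nat_lit 3, nat_lit 2, nat_lit 3, nat_lit 2, nat_lit 3, nat_lit 2]) (.leaf (nat_lit 3816) (nat_lit 2) [nat_lit 3, nat_lit 2, nat_lit 3, nat_lit 2, nat_lit 3, nat_lit 2, nat_lit 3, nat_lit 2, nat_lit 3, nat_lit 2, nat_lit 3, nat_lit 2, nat_lit 3, nat_lit 2, nat_lit 3, nat_lit 2, nat_lit 3])))) (.node (nat_lit 3840) (.node (nat_lit 3839) (.leaf (nat_lit 3817) (nat_lit 3) [nat_lit 2, nat_lit 3, nat_lit 2, nat_lit 3, nat_lit 2, nat_lit 3, nat_lit 2, nat_lit 3, nat_lit 2, nat_lit 3, nat_lit 2, nat_lit 3, nat_lit 2, nat_lit 3, nat_lit 2, nat_lit 3, nat_lit 2]) (.leaf (nat_lit 3816) (nat_lit 2) [nat_lit 3, nat_lit 2, nat_lit 3, nat_lit 2, nat_lit 3, nat_lit 2, nat_lit 3, nat_lit 2, nat_lit 3, nat_lit 2, nat_lit 3, nat_lit 2, nat_lit 3, nat_lit 2, nat_lit 3, nat_lit 2, nat_lit 3])) (.node (nat_lit 3841) (.leaf (nat_lit 3817) (nat_lit 3) [nat_lit 2, nat_lit 3, nat_lit 2, nat_lit 3, nat_lit 2, nat_lit 3, nat_lit 2, nat_lit 3, nat_lit 2, nat_lit 3, nat_lit 2, nat_lit 3, nat_lit 2, nat_lit 3, nat_lit 2, nat_lit 3, nat_lit 2]) (.node (nat_lit 3842) (.leaf (nat_lit 3816) (nat_lit 2) [nat_lit 3, nat_lit 2, nat_lit 3, nat_lit 2, nat_lit 3, nat_lit 2, nat_lit 3, nat_lit 2, nat_lit 3, nat_lit 2, nat_lit 3, nat_lit 2, nat_lit 3, nat_lit 2, nat_lit 3, nat_lit 2, nat_lit 3]) (.leaf (nat_lit 3817) (nat_lit 3) [nat_lit 2, nat_lit 3, nat_lit 2, nat_lit 3, nat_lit 2, nat_lit 3, nat_lit 2, nat_lit 3, nat_lit 2, nat_lit 3, nat_lit 2, nat_lit 3, nat_lit 2, nat_lit 3, nat_lit 2, nat_lit 3, nat_lit 2])))))))) (.node (nat_lit 3881) (.node (nat_lit 3862) (.node (nat_lit 3852) (.node (nat_lit 3847) (.node (nat_lit 3845) (.node (nat_lit 3844) (.leaf (nat_lit 3816) (nat_lit 2) [nat_lit 3, nat_lit 2, nat_lit 3, nat_lit 2, nat_lit 3, nat_lit 2, nat_lit 3, nat_lit 2, nat_lit 3, nat_lit 2, nat_lit 3, nat_lit 2, nat_lit 3, nat_lit 2, nat_lit 3, nat_lit 2, nat_lit 3]) (.leaf (nat_lit 3817) (nat_lit 3) [nat_lit 2, nat_lit 3, nat_lit 2, nat_lit 3, nat_lit 2, nat_lit 3, nat_lit 2, nat_lit 3, nat_lit 2, nat_lit 3, nat_lit 2, nat_lit 3, nat_lit 2, nat_lit 3, nat_lit 2, nat_lit 3, nat_lit 2])) (.node (nat_lit 3846) (.leaf (nat_lit 3816) (nat_lit 2) [nat_lit 3, nat_lit 2, nat_lit 3, nat_lit 2, nat_lit 3, nat_lit 2, nat_lit 3, nat_lit 2, nat_lit 3, nat_lit 2, nat_lit 3, nat_lit 2, nat_lit 3, nat_lit 2, nat_lit 3, nat_lit 2, nat_lit 3]) (.leaf (nat_lit 3817) (nat_lit 3) [nat_lit 2, nat_lit 3, nat_lit 2, nat_lit 3, nat_lit 2, nat_lit 3, nat_lit 2, nat_lit 3, nat_lit 2, nat_lit 3, nat_lit 2, nat_lit 3, nat_lit 2, nat_lit 3, nat_lit 2, nat_lit 3, nat_lit 2]))) (.node (nat_lit 3849) (.node (nat_lit 3848) (.leaf (nat_lit 3816) (nat_lit 2) [nat_lit 3, nat_lit 2, nat_lit 3, nat_lit 2, nat_lit 3, nat_lit 2, nat_lit 3, nat_lit 2, nat_lit 3, nat_lit 2, nat_lit 3, nat_lit 2, nat_lit 3, nat_lit 2, nat_lit 3, nat_lit 2, nat_lit 3]) (.leaf (nat_lit 3817) (nat_lit 3) [nat_lit 2, nat_lit 3, nat_lit 2, nat_lit 3, nat_lit 2, nat_lit 3, nat_lit 2, nat_lit 3, nat_lit 2, nat_lit 3, nat_lit 2, nat_lit 3, nat_lit 2, nat_lit 3, nat_lit 2, nat_lit 3, nat_lit 2])) (.node (nat_lit 3850) (.leaf (nat_lit 3816) (nat_lit 2) [nat_lit 3, nat_lit 2, nat_lit 3, nat_lit 2, nat_lit 3, nat_lit 2, nat_lit 3, nat_lit 2, nat_lit 3, nat_lit 2, nat_lit 3, nat_lit 2, nat_lit 3, nat_lit 2, nat_lit 3, nat_lit 2, nat_lit 3]) (.node (nat_lit 3851) (.leaf (nat_lit 3817) (nat_lit 3) [nat_lit 2, nat_lit 3, nat_lit 2, nat_lit 3, nat_lit 2, nat_lit 3, nat_lit 2, nat_lit 3, nat_lit 2, nat_lit 3, nat_lit 2, nat_lit 3, nat_lit 2, nat_lit 3, nat_lit 2, nat_lit 3, nat_lit 2]) (.leaf (nat_lit 3816) (nat_lit 2) [nat_lit 3, nat_lit 2, nat_lit 3, nat_lit 2, nat_lit 3, nat_lit 2, nat_lit 3, nat_lit 2, nat_lit 3, nat_lit 2, nat_lit 3, nat_lit 2, nat_lit 3, nat_lit 2, nat_lit 3, nat_lit 2, nat_lit 3]))))) (.node (nat_lit 3857) (.node (nat_lit 3854) (.node (nat_lit 3853) (.leaf (nat_lit 1587) (nat_lit 3) [nat_lit 0, nat_lit 3, nat_lit 0, nat_lit 1, nat_lit 0, nat_lit 3, nat_lit 0, nat_lit 3, nat_lit 0, nat_lit 1, nat_lit 0, nat_lit 3, nat_lit 0, nat_lit 3, nat_lit 0, nat_lit 1, nat_lit 0]) (.leaf (nat_lit 1588) (nat_lit 0) [nat_lit 3, nat_lit 0, nat_lit 3, nat_lit 0, nat_lit 1, nat_lit 0, nat_lit 3, nat_lit 0, nat_lit 3, nat_lit 0, nat_lit 1, nat_lit 0, nat_lit 3, nat_lit 0, nat_lit 3, nat_lit 0, nat_lit 1])) (.node (nat_lit 3855) (.leaf (nat_lit 1589) (nat_lit 1) [nat_lit 0, nat_lit 3, nat_lit 0, nat_lit 3, nat_lit 0, nat_lit 1, nat_lit 0, nat_lit 3, nat_lit 0, nat_lit 3, nat_lit 0, nat_lit 1, nat_lit 0, nat_lit 3, nat_lit 0, nat_lit 3, nat_lit 0]) (.node (nat_lit 3856) (.leaf (nat_lit 1584) (nat_lit 0) [nat_lit 1, nat_lit 0, nat_lit 3, nat_lit 0, nat_lit 3, nat_lit 0, nat_lit 1, nat_lit 0, nat_lit 3, nat_lit 0, nat_lit 3, nat_lit 0, nat_lit 1, nat_lit 0, nat_lit 3, nat_lit 0, nat_lit 3]) (.leaf (nat_lit 1585) (nat_lit 3) [nat_lit 0, nat_lit 1, nat_lit 0, nat_lit 3, nat_lit 0, nat_lit 3, nat_lit 0, nat_lit 1, nat_lit 0, nat_lit 3, nat_lit 0, nat_lit 3, nat_lit 0, nat_lit 1, nat_lit 0, nat_lit 3, nat_lit 0])))) (.node (nat_lit 3859) (.node (nat_lit 3858) (.leaf (nat_lit 1586) (nat_lit 0) [nat_lit 3, nat_lit 0, nat_lit 1, nat_lit 0, nat_lit 3, nat_lit 0, nat_lit 3, nat_lit 0, nat_lit 1, nat_lit 0, nat_lit 3, nat_lit 0, nat_lit 3, nat_lit 0, nat_lit 1, nat_lit 0, nat_lit 3]) (.leaf (nat_lit 1587) (nat_lit 3) [nat_lit 0, nat_lit 3, nat_lit 0, nat_lit 1, nat_lit 0, nat_lit 3, nat_lit 0, nat_lit 3, nat_lit 0, nat_lit 1, nat_lit 0, nat_lit 3, nat_lit 0, nat_lit 3, nat_lit 0, nat_lit 1, nat_lit 0])) (.node (nat_lit 3860) (.leaf (nat_lit 1588) (nat_lit 0) [nat_lit 3, nat_lit 0, nat_lit 3, nat_lit 0, nat_lit 1, nat_lit 0, nat_lit 3, nat_lit 0, nat_lit 3, nat_lit 0, nat_lit 1, nat_lit 0, nat_lit 3, nat_lit 0, nat_lit 3, nat_lit 0, nat_lit 1]) (.node (nat_lit 3861) (.leaf (nat_lit 1589) (nat_lit 1) [nat_lit 0, nat_lit 3, nat_lit 0, nat_lit 3, nat_lit 0, nat_lit 1, nat_lit 0, nat_lit 3, nat_lit 0, nat_lit 3, nat_lit 0, nat_lit 1, nat_lit 0, nat_lit 3, nat_lit 0, nat_lit 3, nat_lit 0]) (.leaf (nat_lit 1584) (nat_lit 0) [nat_lit 1, nat_lit 0, nat_lit 3, nat_lit 0, nat_lit 3, nat_lit 0, nat_lit 1, nat_lit 0, nat_lit 3, nat_lit 0, nat_lit 3, nat_lit 0, nat_lit 1, nat_lit 0, nat_lit 3, nat_lit 0, nat_lit 3])))))) (.node (nat_lit 3871) (.node (nat_lit 3866) (.node (nat_lit 3864) (.node (nat_lit 3863) (.leaf (nat_lit 1585) (nat_lit 3) [nat_lit 0, nat_lit 1, nat_lit 0, nat_lit 3, nat_lit 0, nat_lit 3, nat_lit 0, nat_lit 1, nat_lit 0, nat_lit 3, nat_lit 0, nat_lit 3, nat_lit 0, nat_lit 1, nat_lit 0, nat_lit 3, nat_lit 0]) (.leaf (nat_lit 1586) (nat_lit 0) [nat_lit 3, nat_lit 0, nat_lit 1, nat_lit 0, nat_lit 3, nat_lit 0, nat_lit 3, nat_lit 0, nat_lit 1, nat_lit 0, nat_lit 3, nat_lit 0, nat_lit 3, nat_lit 0, nat_lit 1, nat_lit 0, nat_lit 3])) (.node (nat_lit 3865) (.leaf (nat_lit 1587) (nat_lit 3) [nat_lit 0, nat_lit 3, nat_lit 0, nat_lit 1, nat_lit 0, nat_lit 3, nat_lit 0, nat_lit 3, nat_lit 0, nat_lit 1, nat_lit 0, nat_lit 3, nat_lit 0, nat_lit 3, nat_lit 0, nat_lit 1, nat_lit 0]) (.leaf (nat_lit 1588) (nat_lit 0) [nat_lit 3, nat_lit 0, nat_lit 3, nat_lit 0, nat_lit 1, nat_lit 0, nat_lit 3, nat_lit 0, nat_lit 3, nat_lit 0, nat_lit 1, nat_lit 0, nat_lit 3, nat_lit 0, nat_lit 3, nat_lit 0, nat_lit 1]))) (.node (nat_lit 3868) (.node (nat_lit 3867) (.leaf (nat_lit 1589) (nat_lit 1) [nat_lit 0, nat_lit 3, nat_lit 0, nat_lit 3, nat_lit 0, nat_lit 1, nat_lit 0, nat_lit 3, nat_lit 0, nat_lit 3, nat_lit 0, nat_lit 1, nat_lit 0, nat_lit 3, nat_lit 0, nat_lit 3, nat_lit 0]) (.leaf (nat_lit 1584) (nat_lit 0) [nat_lit 1, nat_lit 0, nat_lit 3, nat_lit 0, nat_lit 3, nat_lit 0, nat_lit 1, nat_lit 0, nat_lit 3, nat_lit 0, nat_lit 3, nat_lit 0, nat_lit 1, nat_lit 0, nat_lit 3, nat_lit 0, nat_lit 3])) (.node (nat_lit 3869) (.leaf (nat_lit 1585) (nat_lit 3) [nat_lit 0, nat_lit 1, nat_lit 0, nat_lit 3, nat_lit 0, nat_lit 3, nat_lit 0, nat_lit 1, nat_lit 0, nat_lit 3, nat_lit 0, nat_lit 3, nat_lit 0, nat_lit 1, nat_lit 0, nat_lit 3, nat_lit 0]) (.node (nat_lit 3870) (.leaf (nat_lit 1586) (nat_lit 0) [nat_lit 3, nat_lit 0, nat_lit 1, nat_lit 0, nat_lit 3, nat_lit 0, nat_lit 3, nat_lit 0, nat_lit 1, nat_lit 0, nat_lit 3, nat_lit 0, nat_lit 3, nat_lit 0, nat_lit 1, nat_lit 0, nat_lit 3]) (.leaf (nat_lit 1586) (nat_lit 0) [nat_lit 3, nat_lit 0, nat_lit 1, nat_lit 0, nat_lit 3, nat_lit 0, nat_lit 3, nat_lit 0, nat_lit 1, nat_lit 0, nat_lit 3, nat_lit 0, nat_lit 3, nat_lit 0, nat_lit 1, nat_lit 0, nat_lit 3]))))) (.node (nat_lit 3876) (.node (nat_lit 3873) (.node (nat_lit 3872) (.leaf (nat_lit 1587) (nat_lit 3) [nat_lit 0, nat_lit 3, nat_lit 0, nat_lit 1, nat_lit 0, nat_lit 3, nat_lit 0, nat_lit 3, nat_lit 0, nat_lit 1, nat_lit 0, nat_lit 3, nat_lit 0, nat_lit 3, nat_lit 0, nat_lit 1, nat_lit 0]) (.leaf (nat_lit 1588) (nat_lit 0) [nat_lit 3, nat_lit 0, nat_lit 3, nat_lit 0, nat_lit 1, nat_lit 0, nat_lit 3, nat_lit 0, nat_lit 3, nat_lit 0, nat_lit 1, nat_lit 0, nat_lit 3, nat_lit 0, nat_lit 3, nat_lit 0, nat_lit 1])) (.node (nat_lit 3874) (.leaf (nat_lit 1589) (nat_lit 1) [nat_lit 0, nat_lit 3, nat_lit 0, nat_lit 3, nat_lit 0, nat_lit 1, nat_lit 0, nat_lit 3, nat_lit 0, nat_lit 3, nat_lit 0, nat_lit 1, nat_lit 0, nat_lit 3, nat_lit 0, nat_lit 3, nat_lit 0]) (.node (nat_lit 3875) (.leaf (nat_lit 1584) (nat_lit 0) [nat_lit 1, nat_lit 0, nat_lit 3, nat_lit 0, nat_lit 3, nat_lit 0, nat_lit 1, nat_lit 0, nat_lit 3, nat_lit 0, nat_lit 3, nat_lit 0, nat_lit 1, nat_lit 0, nat_lit 3, nat_lit 0, nat_lit 3]) (.leaf (nat_lit 1585) (nat_lit 3) [nat_lit 0, nat_lit 1, nat_lit 0, nat_lit 3, nat_lit 0, nat_lit 3, nat_lit 0, nat_lit 1, nat_lit 0, nat_lit 3, nat_lit 0, nat_lit 3, nat_lit 0, nat_lit 1, nat_lit 0, nat_lit 3, nat_lit 0])))) (.node (nat_lit 3878) (.node (nat_lit 3877) (.leaf (nat_lit 1586) (nat_lit 0) [nat_lit 3, nat_lit 0, nat_lit 1, nat_lit 0, nat_lit 3, nat_lit 0, nat_lit 3, nat_lit 0, nat_lit 1, nat_lit 0, nat_lit 3, nat_lit 0, nat_lit 3, nat_lit 0, nat_lit 1, nat_lit 0, nat_lit 3]) (.leaf (nat_lit 1587) (nat_lit 3) [nat_lit 0, nat_lit 3, nat_lit 0, nat_lit 1, nat_lit 0, nat_lit 3, nat_lit 0, nat_lit 3, nat_lit 0, nat_lit 1, nat_lit 0, nat_lit 3, nat_lit 0, nat_lit 3, nat_lit 0, nat_lit 1, nat_lit 0])) (.node (nat_lit 3879) (.leaf (nat_lit 1588) (nat_lit 0) [nat_lit 3, nat_lit 0, nat_lit 3, nat_lit 0, nat_lit 1, nat_lit 0, nat_lit 3, nat_lit 0, nat_lit 3, nat_lit 0, nat_lit 1, nat_lit 0, nat_lit 3, nat_lit 0, nat_lit 3, nat_lit 0, nat_lit 1]) (.node (nat_lit 3880) (.leaf (nat_lit 1589) (nat_lit 1) [nat_lit 0, nat_lit 3, nat_lit 0, nat_lit 3, nat_lit 0, nat_lit 1, nat_lit 0, nat_lit 3, nat_lit 0, nat_lit 3, nat_lit 0, nat_lit 1, nat_lit 0, nat_lit 3, nat_lit 0, nat_lit 3, nat_lit 0]) (.leaf (nat_lit 1584) (nat_lit 0) [nat_lit 1, nat_lit 0, nat_lit 3, nat_lit 0, nat_lit 3, nat_lit 0, nat_lit 1, nat_lit 0, nat_lit 3, nat_lit 0, nat_lit 3, nat_lit 0, nat_lit 1, nat_lit 0, nat_lit 3, nat_lit 0, nat_lit 3]))))))) (.node (nat_lit 3900) (.node (nat_lit 3890) (.node (nat_lit 3885) (.node (nat_lit 3883) (.node (nat_lit 3882) (.leaf (nat_lit 1585) (nat_lit 3) [nat_lit 0, nat_lit 1, nat_lit 0, nat_lit 3, nat_lit 0, nat_lit 3, nat_lit 0, nat_lit 1, nat_lit 0, nat_lit 3, nat_lit 0, nat_lit 3, nat_lit 0, nat_lit 1, nat_lit 0, nat_lit 3, nat_lit 0]) (.leaf (nat_lit 1586) (nat_lit 0) [nat_lit 3, nat_lit 0, nat_lit 1, nat_lit 0, nat_lit 3, nat_lit 0, nat_lit 3, nat_lit 0, nat_lit 1, nat_lit 0, nat_lit 3, nat_lit 0, nat_lit 3, nat_lit 0, nat_lit 1, nat_lit 0, nat_lit 3])) (.node (nat_lit 3884) (.leaf (nat_lit 1587) (nat_lit 3) [nat_lit 0, nat_lit 3, nat_lit 0, nat_lit 1, nat_lit 0, nat_lit 3, nat_lit 0, nat_lit 3, nat_lit 0, nat_lit 1, nat_lit 0, nat_lit 3, nat_lit 0, nat_lit 3, nat_lit 0, nat_lit 1, nat_lit 0]) (.leaf (nat_lit 1588) (nat_lit 0) [nat_lit 3, nat_lit 0, nat_lit 3, nat_lit 0, nat_lit 1, nat_lit 0, nat_lit 3, nat_lit 0, nat_lit 3, nat_lit 0, nat_lit 1, nat_lit 0, nat_lit 3, nat_lit 0, nat_lit 3, nat_lit 0, nat_lit 1]))) (.node (nat_lit 3887) (.node (nat_lit 3886) (.leaf (nat_lit 1589) (nat_lit 1) [nat_lit 0, nat_lit 3, nat_lit 0, nat_lit 3, nat_lit 0, nat_lit 1, nat_lit 0, nat_lit 3, nat_lit 0, nat_lit 3, nat_lit 0, nat_lit 1, nat_lit 0, nat_lit 3, nat_lit 0, nat_lit 3, nat_lit 0]) (.leaf (nat_lit 1584) (nat_lit 0) [nat_lit 1, nat_lit 0, nat_lit 3, nat_lit 0, nat_lit 3, nat_lit 0, nat_lit 1, nat_lit 0, nat_lit 3, nat_lit 0, nat_lit 3, nat_lit 0, nat_lit 1, nat_lit 0, nat_lit 3, nat_lit 0, nat_lit 3])) (.node (nat_lit 3888) (.leaf (nat_lit 1585) (nat_lit 3) [nat_lit 0, nat_lit 1, nat_lit 0, nat_lit 3, nat_lit 0, nat_lit 3, nat_lit 0, nat_lit 1, nat_lit 0, nat_lit 3, nat_lit 0, nat_lit 3, nat_lit 0, nat_lit 1, nat_lit 0, nat_lit 3, nat_lit 0]) (.node (nat_lit 3889) (.leaf (nat_lit 1695) (nat_lit 3) [nat_lit 0, nat_lit 3, nat_lit 0, nat_lit 2, nat_lit 0, nat_lit 3, nat_lit 0, nat_lit 3, nat_lit 0, nat_lit 2, nat_lit 0, nat_lit 3, nat_lit 0, nat_lit 3, nat_lit 0, nat_lit 2, nat_lit 0]) (.leaf (nat_lit 1696) (nat_lit 0) [nat_lit 3, nat_lit 0, nat_lit 3, nat_lit 0, nat_lit 2, nat_lit 0, nat_lit 3, nat_lit 0, nat_lit 3, nat_lit 0, nat_lit 2, nat_lit 0, nat_lit 3, nat_lit 0, nat_lit 3, nat_lit 0, nat_lit 2]))))) (.node (nat_lit 3895) (.node (nat_lit 3892) (.node (nat_lit 3891) (.leaf (nat_lit 1697) (nat_lit 2) [nat_lit 0, nat_lit 3, nat_lit 0, nat_lit 3, nat_lit 0, nat_lit 2, nat_lit 0, nat_lit 3, nat_lit 0, nat_lit 3, nat_lit 0, nat_lit 2, nat_lit 0, nat_lit 3, nat_lit 0, nat_lit 3, nat_lit 0]) (.leaf (nat_lit 1692) (nat_lit 0) [nat_lit 2, nat_lit 0, nat_lit 3, nat_lit 0, nat_lit 3, nat_lit 0, nat_lit 2, nat_lit 0, nat_lit 3, nat_lit 0, nat_lit 3, nat_lit 0, nat_lit 2, nat_lit 0, nat_lit 3, nat_lit 0, nat_lit 3])) (.node (nat_lit 3893) (.leaf (nat_lit 1693) (nat_lit 3) [nat_lit 0, nat_lit 2, nat_lit 0, nat_lit 3, nat_lit 0, nat_lit 3, nat_lit 0, nat_lit 2, nat_lit 0, nat_lit 3, nat_lit 0, nat_lit 3, nat_lit 0, nat_lit 2, nat_lit 0, nat_lit 3, nat_lit 0]) (.node (nat_lit 3894) (.leaf (nat_lit 1694) (nat_lit 0) [nat_lit 3, nat_lit 0, nat_lit 2, nat_lit 0, nat_lit 3, nat_lit 0, nat_lit 3, nat_lit 0, nat_lit 2, nat_lit 0, nat_lit 3, nat_lit 0, nat_lit 3, nat_lit 0, nat_lit 2, nat_lit 0, nat_lit 3]) (.leaf (nat_lit 1695) (nat_lit 3) [nat_lit 0, nat_lit 3, nat_lit 0, nat_lit 2, nat_lit 0, nat_lit 3, nat_lit 0, nat_lit 3, nat_lit 0, nat_lit 2, nat_lit 0, nat_lit 3, nat_lit 0, nat_lit 3, nat_lit 0, nat_lit 2, nat_lit 0])))) (.node (nat_lit 3897) (.node (nat_lit 3896) (.leaf (nat_lit 1696) (nat_lit 0) [nat_lit 3, nat_lit 0, nat_lit 3, nat_lit 0, nat_lit 2, nat_lit 0, nat_lit 3, nat_lit 0, nat_lit 3, nat_lit 0, nat_lit 2, nat_lit 0, nat_lit 3, nat_lit 0, nat_lit 3, nat_lit 0, nat_lit 2]) (.leaf (nat_lit 1697) (nat_lit 2) [nat_lit 0, nat_lit 3, nat_lit 0, nat_lit 3, nat_lit 0, nat_lit 2, nat_lit 0, nat_lit 3, nat_lit 0, nat_lit 3, nat_lit 0, nat_lit 2, nat_lit 0, nat_lit 3, nat_lit 0, nat_lit 3, nat_lit 0])) (.node (nat_lit 3898) (.leaf (nat_lit 1692) (nat_lit 0) [nat_lit 2, nat_lit 0, nat_lit 3, nat_lit 0, nat_lit 3, nat_lit 0, nat_lit 2, nat_lit 0, nat_lit 3, nat_lit 0, nat_lit 3, nat_lit 0, nat_lit 2, nat_lit 0, nat_lit 3, nat_lit 0, nat_lit 3]) (.node (nat_lit 3899) (.leaf (nat_lit 1693) (nat_lit 3) [nat_lit 0, nat_lit 2, nat_lit 0, nat_lit 3, nat_lit 0, nat_lit 3, nat_lit 0, nat_lit 2, nat_lit 0, nat_lit 3, nat_lit 0, nat_lit 3, nat_lit 0, nat_lit 2, nat_lit 0, nat_lit 3, nat_lit 0]) (.leaf (nat_lit 1694) (nat_lit 0) [nat_lit 3, nat_lit 0, nat_lit 2, nat_lit 0, nat_lit 3, nat_lit 0, nat_lit 3, nat_lit 0, nat_lit 2, nat_lit 0, nat_lit 3, nat_lit 0, nat_lit 3, nat_lit 0, nat_lit 2, nat_lit 0, nat_lit 3])))))) (.node (nat_lit 3909) (.node (nat_lit 3904) (.node (nat_lit 3902) (.node (nat_lit 3901) (.leaf (nat_lit 1695) (nat_lit 3) [nat_lit 0, nat_lit 3, nat_lit 0, nat_lit 2, nat_lit 0, nat_lit 3, nat_lit 0, nat_lit 3, nat_lit 0, nat_lit 2, nat_lit 0, nat_lit 3, nat_lit 0, nat_lit 3, nat_lit 0, nat_lit 2, nat_lit 0]) (.leaf (nat_lit 1696) (nat_lit 0) [nat_lit 3, nat_lit 0, nat_lit 3, nat_lit 0, nat_lit 2, nat_lit 0, nat_lit 3, nat_lit 0, nat_lit 3, nat_lit 0, nat_lit 2, nat_lit 0, nat_lit 3, nat_lit 0, nat_lit 3, nat_lit 0, nat_lit 2])) (.node (nat_lit 3903) (.leaf (nat_lit 1697) (nat_lit 2) [nat_lit 0, nat_lit 3, nat_lit 0, nat_lit 3, nat_lit 0, nat_lit 2, nat_lit 0, nat_lit 3, nat_lit 0, nat_lit 3, nat_lit 0, nat_lit 2, nat_lit 0, nat_lit 3, nat_lit 0, nat_lit 3, nat_lit 0]) (.leaf (nat_lit 1692) (nat_lit 0) [nat_lit 2, nat_lit 0, nat_lit 3, nat_lit 0, nat_lit 3, nat_lit 0, nat_lit 2, nat_lit 0, nat_lit 3, nat_lit 0, nat_lit 3, nat_lit 0, nat_lit 2, nat_lit 0, nat_lit 3, nat_lit 0, nat_lit 3]))) (.node (nat_lit 3906) (.node (nat_lit 3905) (.leaf (nat_lit 1693) (nat_lit 3) [nat_lit 0, nat_lit 2, nat_lit 0, nat_lit 3, nat_lit 0, nat_lit 3, nat_lit 0, nat_lit 2, nat_lit 0, nat_lit 3, nat_lit 0, nat_lit 3, nat_lit 0, nat_lit 2, nat_lit 0, nat_lit 3, nat_lit 0]) (.leaf (nat_lit 1694) (nat_lit 0) [nat_lit 3, nat_lit 0, nat_lit 2, nat_lit 0, nat_lit 3, nat_lit 0, nat_lit 3, nat_lit 0, nat_lit 2, nat_lit 0, nat_lit 3, nat_lit 0, nat_lit 3, nat_lit 0, nat_lit 2, nat_lit 0, nat_lit 3])) (.node (nat_lit 3907) (.leaf (nat_lit 1694) (nat_lit 0) [nat_lit 3, nat_lit 0, nat_lit 2, nat_lit 0, nat_lit 3, nat_lit 0, nat_lit 3, nat_lit 0, nat_lit 2, nat_lit 0, nat_lit 3, nat_lit 0, nat_lit 3, nat_lit 0, nat_lit 2, nat_lit 0, nat_lit 3]) (.node (nat_lit 3908) (.leaf (nat_lit 1695) (nat_lit 3) [nat_lit 0, nat_lit 3, nat_lit 0, nat_lit 2, nat_lit 0, nat_lit 3, nat_lit 0, nat_lit 3, nat_lit 0, nat_lit 2, nat_lit 0, nat_lit 3, nat_lit 0, nat_lit 3, nat_lit 0, nat_lit 2, nat_lit 0]) (.leaf (nat_lit 1696) (nat_lit 0) [nat_lit 3, nat_lit 0, nat_lit 3, nat_lit 0, nat_lit 2, nat_lit 0, nat_lit 3, nat_lit 0, nat_lit 3, nat_lit 0, nat_lit 2, nat_lit 0, nat_lit 3, nat_lit 0, nat_lit 3, nat_lit 0, nat_lit 2]))))) (.node (nat_lit 3914) (.node (nat_lit 3911) (.node (nat_lit 3910) (.leaf (nat_lit 1697) (nat_lit 2) [nat_lit 0, nat_lit 3, nat_lit 0, nat_lit 3, nat_lit 0, nat_lit 2, nat_lit 0, nat_lit 3, nat_lit 0, nat_lit 3, nat_lit 0, nat_lit 2, nat_lit 0, nat_lit 3, nat_lit 0, nat_lit 3, nat_lit 0]) (.leaf (nat_lit 1692) (nat_lit 0) [nat_lit 2, nat_lit 0, nat_lit 3, nat_lit 0, nat_lit 3, nat_lit 0, nat_lit 2, nat_lit 0, nat_lit 3, nat_lit 0, nat_lit 3, nat_lit 0, nat_lit 2, nat_lit 0, nat_lit 3, nat_lit 0, nat_lit 3])) (.node (nat_lit 3912) (.leaf (nat_lit 1693) (nat_lit 3) [nat_lit 0, nat_lit 2, nat_lit 0, nat_lit 3, nat_lit 0, nat_lit 3, nat_lit 0, nat_lit 2, nat_lit 0, nat_lit 3, nat_lit 0, nat_lit 3, nat_lit 0, nat_lit 2, nat_lit 0, nat_lit 3, nat_lit 0]) (.node (nat_lit 3913) (.leaf (nat_lit 1694) (nat_lit 0) [nat_lit 3, nat_lit 0, nat_lit 2, nat_lit 0, nat_lit 3, nat_lit 0, nat_lit 3, nat_lit 0, nat_lit 2, nat_lit 0, nat_lit 3, nat_lit 0, nat_lit 3, nat_lit 0, nat_lit 2, nat_lit 0, nat_lit 3]) (.leaf (nat_lit 1695) (nat_lit 3) [nat_lit 0, nat_lit 3, nat_lit 0, nat_lit 2, nat_lit 0, nat_lit 3, nat_lit 0, nat_lit 3, nat_lit 0, nat_lit 2, nat_lit 0, nat_lit 3, nat_lit 0, nat_lit 3, nat_lit 0, nat_lit 2, nat_lit 0])))) (.node (nat_lit 3916) (.node (nat_lit 3915) (.leaf (nat_lit 1696) (nat_lit 0) [nat_lit 3, nat_lit 0, nat_lit 3, nat_lit 0, nat_lit 2, nat_lit 0, nat_lit 3, nat_lit 0, nat_lit 3, nat_lit 0, nat_lit 2, nat_lit 0, nat_lit 3, nat_lit 0, nat_lit 3, nat_lit 0, nat_lit 2]) (.leaf (nat_lit 1697) (nat_lit 2) [nat_lit 0, nat_lit 3, nat_lit 0, nat_lit 3, nat_lit 0, nat_lit 2, nat_lit 0, nat_lit 3, nat_lit 0, nat_lit 3, nat_lit 0, nat_lit 2, nat_lit 0, nat_lit 3, nat_lit 0, nat_lit 3, nat_lit 0])) (.node (nat_lit 3917) (.leaf (nat_lit 1692) (nat_lit 0) [nat_lit 2, nat_lit 0, nat_lit 3, nat_lit 0, nat_lit 3, nat_lit 0, nat_lit 2, nat_lit 0, nat_lit 3, nat_lit 0, nat_lit 3, nat_lit 0, nat_lit 2, nat_lit 0, nat_lit 3, nat_lit 0, nat_lit 3]) (.node (nat_lit 3918) (.leaf (nat_lit 1693) (nat_lit 3) [nat_lit 0, nat_lit 2, nat_lit 0, nat_lit 3, nat_lit 0, nat_lit 3, nat_lit 0, nat_lit 2, nat_lit 0, nat_lit 3, nat_lit 0, nat_lit 3, nat_lit 0, nat_lit 2, nat_lit 0, nat_lit 3, nat_lit 0]) (.leaf (nat_lit 1694) (nat_lit 0) [nat_lit 3, nat_lit 0, nat_lit 2, nat_lit 0, nat_lit 3, nat_lit 0, nat_lit 3, nat_lit 0, nat_lit 2, nat_lit 0, nat_lit 3, nat_lit 0, nat_lit 3, nat_lit 0, nat_lit 2, nat_lit 0, nat_lit 3])))))))))) (.node (nat_lit 4070) (.node (nat_lit 3994) (.node (nat_lit 3956) (.node (nat_lit 3937) (.node (nat_lit 3928) (.node (nat_lit 3923) (.node (nat_lit 3921) (.node (nat_lit 3920) (.leaf (nat_lit 1695) (nat_lit 3) [nat_lit 0, nat_lit 3, nat_lit 0, nat_lit 2, nat_lit 0, nat_lit 3, nat_lit 0, nat_lit 3, nat_lit 0, nat_lit 2, nat_lit 0, nat_lit 3, nat_lit 0, nat_lit 3, nat_lit 0, nat_lit 2, nat_lit 0]) (.leaf (nat_lit 1696) (nat_lit 0) [nat_lit 3, nat_lit 0, nat_lit 3, nat_lit 0, nat_lit 2, nat_lit 0, nat_lit 3, nat_lit 0, nat_lit 3, nat_lit 0, nat_lit 2, nat_lit 0, nat_lit 3, nat_lit 0, nat_lit 3, nat_lit 0, nat_lit 2])) (.node (nat_lit 3922) (.leaf (nat_lit 1697) (nat_lit 2) [nat_lit 0, nat_lit 3, nat_lit 0, nat_lit 3, nat_lit 0, nat_lit 2, nat_lit 0, nat_lit 3, nat_lit 0, nat_lit 3, nat_lit 0, nat_lit 2, nat_lit 0, nat_lit 3, nat_lit 0, nat_lit 3, nat_lit 0]) (.leaf (nat_lit 1692) (nat_lit 0) [nat_lit 2, nat_lit 0, nat_lit 3, nat_lit 0, nat_lit 3, nat_lit 0, nat_lit 2, nat_lit 0, nat_lit 3, nat_lit 0, nat_lit 3, nat_lit 0, nat_lit 2, nat_lit 0, nat_lit 3, nat_lit 0, nat_lit 3]))) (.node (nat_lit 3925) (.node (nat_lit 3924) (.leaf (nat_lit 1693) (nat_lit 3) [nat_lit 0, nat_lit 2, nat_lit 0, nat_lit 3, nat_lit 0, nat_lit 3, nat_lit 0, nat_lit 2, nat_lit 0, nat_lit 3, nat_lit 0, nat_lit 3, nat_lit 0, nat_lit 2, nat_lit 0, nat_lit 3, nat_lit 0]) (.leaf (nat_lit 1801) (nat_lit 3) [nat_lit 0, nat_lit 3, nat_lit 0, nat_lit 3, nat_lit 0, nat_lit 3, nat_lit 0, nat_lit 3, nat_lit 0, nat_lit 3, nat_lit 0, nat_lit 3, nat_lit 0, nat_lit 3, nat_lit 0, nat_lit 3, nat_lit 0])) (.node (nat_lit 3926) (.leaf (nat_lit 1800) (nat_lit 0) [nat_lit 3, nat_lit 0, nat_lit 3, nat_lit 0, nat_lit 3, nat_lit 0, nat_lit 3, nat_lit 0, nat_lit 3, nat_lit 0, nat_lit 3, nat_lit 0, nat_lit 3, nat_lit 0, nat_lit 3, nat_lit 0, nat_lit 3]) (.node (nat_lit 3927) (.leaf (nat_lit 1801) (nat_lit 3) [nat_lit 0, nat_lit 3, nat_lit 0, nat_lit 3, nat_lit 0, nat_lit 3, nat_lit 0, nat_lit 3, nat_lit 0, nat_lit 3, nat_lit 0, nat_lit 3, nat_lit 0, nat_lit 3, nat_lit 0, nat_lit 3, nat_lit 0]) (.leaf (nat_lit 1800) (nat_lit 0) [nat_lit 3, nat_lit 0, nat_lit 3, nat_lit 0, nat_lit 3, nat_lit 0, nat_lit 3, nat_lit 0, nat_lit 3, nat_lit 0, nat_lit 3, nat_lit 0, nat_lit 3, nat_lit 0, nat_lit 3, nat_lit 0, nat_lit 3]))))) (.node (nat_lit 3932) (.node (nat_lit 3930) (.node (nat_lit 3929) (.leaf (nat_lit 1801) (nat_lit 3) [nat_lit 0, nat_lit 3, nat_lit 0, nat_lit 3, nat_lit 0, nat_lit 3, nat_lit 0, nat_lit 3, nat_lit 0, nat_lit 3, nat_lit 0, nat_lit 3, nat_lit 0, nat_lit 3, nat_lit 0, nat_lit 3, nat_lit 0]) (.leaf (nat_lit 1800) (nat_lit 0) [nat_lit 3, nat_lit 0, nat_lit 3, nat_lit 0, nat_lit 3, nat_lit 0, nat_lit 3, nat_lit 0, nat_lit 3, nat_lit 0, nat_lit 3, nat_lit 0, nat_lit 3, nat_lit 0, nat_lit 3, nat_lit 0, nat_lit 3])) (.node (nat_lit 3931) (.leaf (nat_lit 1801) (nat_lit 3) [nat_lit 0, nat_lit 3, nat_lit 0, nat_lit 3, nat_lit 0, nat_lit 3, nat_lit 0, nat_lit 3, nat_lit 0, nat_lit 3, nat_lit 0, nat_lit 3, nat_lit 0, nat_lit 3, nat_lit 0, nat_lit 3, nat_lit 0]) (.leaf (nat_lit 1800) (nat_lit 0) [nat_lit 3, nat_lit 0, nat_lit 3, nat_lit 0, nat_lit 3, nat_lit 0, nat_lit 3, nat_lit 0, nat_lit 3, nat_lit 0, nat_lit 3, nat_lit 0, nat_lit 3, nat_lit 0, nat_lit 3, nat_lit 0, nat_lit 3]))) (.node (nat_lit 3934) (.node (nat_lit 3933) (.leaf (nat_lit 1801) (nat_lit 3) [nat_lit 0, nat_lit 3, nat_lit 0, nat_lit 3, nat_lit 0, nat_lit 3, nat_lit 0, nat_lit 3, nat_lit 0, nat_lit 3, nat_lit 0, nat_lit 3, nat_lit 0, nat_lit 3, nat_lit 0, nat_lit 3, nat_lit 0]) (.leaf (nat_lit 1800) (nat_lit 0) [nat_lit 3, nat_lit 0, nat_lit 3, nat_lit 0, nat_lit 3, nat_lit 0, nat_lit 3, nat_lit 0, nat_lit 3, nat_lit 0, nat_lit 3, nat_lit 0, nat_lit 3, nat_lit 0, nat_lit 3, nat_lit 0, nat_lit 3])) (.node (nat_lit 3935) (.leaf (nat_lit 1801) (nat_lit 3) [nat_lit 0, nat_lit 3, nat_lit 0, nat_lit 3, nat_lit 0, nat_lit 3, nat_lit 0, nat_lit 3, nat_lit 0, nat_lit 3, nat_lit 0, nat_lit 3, nat_lit 0, nat_lit 3, nat_lit 0, nat_lit 3, nat_lit 0]) (.node (nat_lit 3936) (.leaf (nat_lit 1800) (nat_lit 0) [nat_lit 3, nat_lit 0, nat_lit 3, nat_lit 0, nat_lit 3, nat_lit 0, nat_lit 3, nat_lit 0, nat_lit 3, nat_lit 0, nat_lit 3, nat_lit 0, nat_lit 3, nat_lit 0, nat_lit 3, nat_lit 0, nat_lit 3]) (.leaf (nat_lit 1801) (nat_lit 3) [nat_lit 0, nat_lit 3, nat_lit 0, nat_lit 3, nat_lit 0, nat_lit 3, nat_lit 0, nat_lit 3, nat_lit 0, nat_lit 3, nat_lit 0, nat_lit 3, nat_lit 0, nat_lit 3, nat_lit 0, nat_lit 3, nat_lit 0])))))) (.node (nat_lit 3946) (.node (nat_lit 3941) (.node (nat_lit 3939) (.node (nat_lit 3938) (.leaf (nat_lit 1800) (nat_lit 0) [nat_lit 3, nat_lit 0, nat_lit 3, nat_lit 0, nat_lit 3, nat_lit 0, nat_lit 3, nat_lit 0, nat_lit 3, nat_lit 0, nat_lit 3, nat_lit 0, nat_lit 3, nat_lit 0, nat_lit 3, nat_lit 0, nat_lit 3]) (.leaf (nat_lit 1801) (nat_lit 3) [nat_lit 0, nat_lit 3, nat_lit 0, nat_lit 3, nat_lit 0, nat_lit 3, nat_lit 0, nat_lit 3, nat_lit 0, nat_lit 3, nat_lit 0, nat_lit 3, nat_lit 0, nat_lit 3, nat_lit 0, nat_lit 3, nat_lit 0])) (.node (nat_lit 3940) (.leaf (nat_lit 1800) (nat_lit 0) [nat_lit 3, nat_lit 0, nat_lit 3, nat_lit 0, nat_lit 3, nat_lit 0, nat_lit 3, nat_lit 0, nat_lit 3, nat_lit 0, nat_lit 3, nat_lit 0, nat_lit 3, nat_lit 0, nat_lit 3, nat_lit 0, nat_lit 3]) (.leaf (nat_lit 1801) (nat_lit 3) [nat_lit 0, nat_lit 3, nat_lit 0, nat_lit 3, nat_lit 0, nat_lit 3, nat_lit 0, nat_lit 3, nat_lit 0, nat_lit 3, nat_lit 0, nat_lit 3, nat_lit 0, nat_lit 3, nat_lit 0, nat_lit 3, nat_lit 0]))) (.node (nat_lit 3943) (.node (nat_lit 3942) (.leaf (nat_lit 1800) (nat_lit 0) [nat_lit 3, nat_lit 0, nat_lit 3, nat_lit 0, nat_lit 3, nat_lit 0, nat_lit 3, nat_lit 0, nat_lit 3, nat_lit 0, nat_lit 3, nat_lit 0, nat_lit 3, nat_lit 0, nat_lit 3, nat_lit 0, nat_lit 3]) (.leaf (nat_lit 1800) (nat_lit 0) [nat_lit 3, nat_lit 0, nat_lit 3, nat_lit 0, nat_lit 3, nat_lit 0, nat_lit 3, nat_lit 0, nat_lit 3, nat_lit 0, nat_lit 3, nat_lit 0, nat_lit 3, nat_lit 0, nat_lit 3, nat_lit 0, nat_lit 3])) (.node (nat_lit 3944) (.leaf (nat_lit 1801) (nat_lit 3) [nat_lit 0, nat_lit 3, nat_lit 0, nat_lit 3, nat_lit 0, nat_lit 3, nat_lit 0, nat_lit 3, nat_lit 0, nat_lit 3, nat_lit 0, nat_lit 3, nat_lit 0, nat_lit 3, nat_lit 0, nat_lit 3, nat_lit 0]) (.node (nat_lit 3945) (.leaf (nat_lit 1800) (nat_lit 0) [nat_lit 3, nat_lit 0, nat_lit 3, nat_lit 0, nat_lit 3, nat_lit 0, nat_lit 3, nat_lit 0, nat_lit 3, nat_lit 0, nat_lit 3, nat_lit 0, nat_lit 3, nat_lit 0, nat_lit 3, nat_lit 0, nat_lit 3]) (.leaf (nat_lit 1801) (nat_lit 3) [nat_lit 0, nat_lit 3, nat_lit 0, nat_lit 3, nat_lit 0, nat_lit 3, nat_lit 0, nat_lit 3, nat_lit 0, nat_lit 3, nat_lit 0, nat_lit 3, nat_lit 0, nat_lit 3, nat_lit 0, nat_lit 3, nat_lit 0]))))) (.node (nat_lit 3951) (.node (nat_lit 3948) (.node (nat_lit 3947) (.leaf (nat_lit 1800) (nat_lit 0) [nat_lit 3, nat_lit 0, nat_lit 3, nat_lit 0, nat_lit 3, nat_lit 0, nat_lit 3, nat_lit 0, nat_lit 3, nat_lit 0, nat_lit 3, nat_lit 0, nat_lit 3, nat_lit 0, nat_lit 3, nat_lit 0, nat_lit 3]) (.leaf (nat_lit 1801) (nat_lit 3) [nat_lit 0, nat_lit 3, nat_lit 0, nat_lit 3, nat_lit 0, nat_lit 3, nat_lit 0, nat_lit 3, nat_lit 0, nat_lit 3, nat_lit 0, nat_lit 3, nat_lit 0, nat_lit 3, nat_lit 0, nat_lit 3, nat_lit 0])) (.node (nat_lit 3949) (.leaf (nat_lit 1800) (nat_lit 0) [nat_lit 3, nat_lit 0, nat_lit 3, nat_lit 0, nat_lit 3, nat_lit 0, nat_lit 3, nat_lit 0, nat_lit 3, nat_lit 0, nat_lit 3, nat_lit 0, nat_lit 3, nat_lit 0, nat_lit 3, nat_lit 0, nat_lit 3]) (.node (nat_lit 3950) (.leaf (nat_lit 1801) (nat_lit 3) [nat_lit 0, nat_lit 3, nat_lit 0, nat_lit 3, nat_lit 0, nat_lit 3, nat_lit 0, nat_lit 3, nat_lit 0, nat_lit 3, nat_lit 0, nat_lit 3, nat_lit 0, nat_lit 3, nat_lit 0, nat_lit 3, nat_lit 0]) (.leaf (nat_lit 1800) (nat_lit 0) [nat_lit 3, nat_lit 0, nat_lit 3, nat_lit 0, nat_lit 3, nat_lit 0, nat_lit 3, nat_lit 0, nat_lit 3, nat_lit 0, nat_lit 3, nat_lit 0, nat_lit 3, nat_lit 0, nat_lit 3, nat_lit 0, nat_lit 3])))) (.node (nat_lit 3953) (.node (nat_lit 3952) (.leaf (nat_lit 1801) (nat_lit 3) [nat_lit 0, nat_lit 3, nat_lit 0, nat_lit 3, nat_lit 0, nat_lit 3, nat_lit 0, nat_lit 3, nat_lit 0, nat_lit 3, nat_lit 0, nat_lit 3, nat_lit 0, nat_lit 3, nat_lit 0, nat_lit 3, nat_lit 0]) (.leaf (nat_lit 1800) (nat_lit 0) [nat_lit 3, nat_lit 0, nat_lit 3, nat_lit 0, nat_lit 3, nat_lit 0, nat_lit 3, nat_lit 0, nat_lit 3, nat_lit 0, nat_lit 3, nat_lit 0, nat_lit 3, nat_lit 0, nat_lit 3, nat_lit 0, nat_lit 3])) (.node (nat_lit 3954) (.leaf (nat_lit 1801) (nat_lit 3) [nat_lit 0, nat_lit 3, nat_lit 0, nat_lit 3, nat_lit 0, nat_lit 3, nat_lit 0, nat_lit 3, nat_lit 0, nat_lit 3, nat_lit 0, nat_lit 3, nat_lit 0, nat_lit 3, nat_lit 0, nat_lit 3, nat_lit 0]) (.node (nat_lit 3955) (.leaf (nat_lit 1800) (nat_lit 0) [nat_lit 3, nat_lit 0, nat_lit 3, nat_lit 0, nat_lit 3, nat_lit 0, nat_lit 3, nat_lit 0, nat_lit 3, nat_lit 0, nat_lit 3, nat_lit 0, nat_lit 3, nat_lit 0, nat_lit 3, nat_lit 0, nat_lit 3]) (.leaf (nat_lit 1801) (nat_lit 3) [nat_lit 0, nat_lit 3, nat_lit 0, nat_lit 3, nat_lit 0, nat_lit 3, nat_lit 0, nat_lit 3, nat_lit 0, nat_lit 3, nat_lit 0, nat_lit 3, nat_lit 0, nat_lit 3, nat_lit 0, nat_lit 3, nat_lit 0]))))))) (.node (nat_lit 3975) (.node (nat_lit 3965) (.node (nat_lit 3960) (.node (nat_lit 3958) (.node (nat_lit 3957) (.leaf (nat_lit 1800) (nat_lit 0) [nat_lit 3, nat_lit 0, nat_lit 3, nat_lit 0, nat_lit 3, nat_lit 0, nat_lit 3, nat_lit 0, nat_lit 3, nat_lit 0, nat_lit 3, nat_lit 0, nat_lit 3, nat_lit 0, nat_lit 3, nat_lit 0, nat_lit 3]) (.leaf (nat_lit 1801) (nat_lit 3) [nat_lit 0, nat_lit 3, nat_lit 0, nat_lit 3, nat_lit 0, nat_lit 3, nat_lit 0, nat_lit 3, nat_lit 0, nat_lit 3, nat_lit 0, nat_lit 3, nat_lit 0, nat_lit 3, nat_lit 0, nat_lit 3, nat_lit 0])) (.node (nat_lit 3959) (.leaf (nat_lit 1800) (nat_lit 0) [nat_lit 3, nat_lit 0, nat_lit 3, nat_lit 0, nat_lit 3, nat_lit 0, nat_lit 3, nat_lit 0, nat_lit 3, nat_lit 0, nat_lit 3, nat_lit 0, nat_lit 3, nat_lit 0, nat_lit 3, nat_lit 0, nat_lit 3]) (.leaf (nat_lit 1801) (nat_lit 3) [nat_lit 0, nat_lit 3, nat_lit 0, nat_lit 3, nat_lit 0, nat_lit 3, nat_lit 0, nat_lit 3, nat_lit 0, nat_lit 3, nat_lit 0, nat_lit 3, nat_lit 0, nat_lit 3, nat_lit 0, nat_lit 3, nat_lit 0]))) (.node (nat_lit 3962) (.node (nat_lit 3961) (.leaf (nat_lit 1623) (nat_lit 3) [nat_lit 1, nat_lit 3, nat_lit 0, nat_lit 1, nat_lit 0, nat_lit 3, nat_lit 1, nat_lit 3, nat_lit 0, nat_lit 1, nat_lit 0, nat_lit 3, nat_lit 1, nat_lit 3, nat_lit 0, nat_lit 1, nat_lit 0]) (.leaf (nat_lit 1624) (nat_lit 0) [nat_lit 3, nat_lit 1, nat_lit 3, nat_lit 0, nat_lit 1, nat_lit 0, nat_lit 3, nat_lit 1, nat_lit 3, nat_lit 0, nat_lit 1, nat_lit 0, nat_lit 3, nat_lit 1, nat_lit 3, nat_lit 0, nat_lit 1])) (.node (nat_lit 3963) (.leaf (nat_lit 1625) (nat_lit 1) [nat_lit 0, nat_lit 3, nat_lit 1, nat_lit 3, nat_lit 0, nat_lit 1, nat_lit 0, nat_lit 3, nat_lit 1, nat_lit 3, nat_lit 0, nat_lit 1, nat_lit 0, nat_lit 3, nat_lit 1, nat_lit 3, nat_lit 0]) (.node (nat_lit 3964) (.leaf (nat_lit 1620) (nat_lit 0) [nat_lit 1, nat_lit 0, nat_lit 3, nat_lit 1, nat_lit 3, nat_lit 0, nat_lit 1, nat_lit 0, nat_lit 3, nat_lit 1, nat_lit 3, nat_lit 0, nat_lit 1, nat_lit 0, nat_lit 3, nat_lit 1, nat_lit 3]) (.leaf (nat_lit 1621) (nat_lit 3) [nat_lit 0, nat_lit 1, nat_lit 0, nat_lit 3, nat_lit 1, nat_lit 3, nat_lit 0, nat_lit 1, nat_lit 0, nat_lit 3, nat_lit 1, nat_lit 3, nat_lit 0, nat_lit 1, nat_lit 0, nat_lit 3, nat_lit 1]))))) (.node (nat_lit 3970) (.node (nat_lit 3967) (.node (nat_lit 3966) (.leaf (nat_lit 1622) (nat_lit 1) [nat_lit 3, nat_lit 0, nat_lit 1, nat_lit 0, nat_lit 3, nat_lit 1, nat_lit 3, nat_lit 0, nat_lit 1, nat_lit 0, nat_lit 3, nat_lit 1, nat_lit 3, nat_lit 0, nat_lit 1, nat_lit 0, nat_lit 3]) (.leaf (nat_lit 1623) (nat_lit 3) [nat_lit 1, nat_lit 3, nat_lit 0, nat_lit 1, nat_lit 0, nat_lit 3, nat_lit 1, nat_lit 3, nat_lit 0, nat_lit 1, nat_lit 0, nat_lit 3, nat_lit 1, nat_lit 3, nat_lit 0, nat_lit 1, nat_lit 0])) (.node (nat_lit 3968) (.leaf (nat_lit 1624) (nat_lit 0) [nat_lit 3, nat_lit 1, nat_lit 3, nat_lit 0, nat_lit 1, nat_lit 0, nat_lit 3, nat_lit 1, nat_lit 3, nat_lit 0, nat_lit 1, nat_lit 0, nat_lit 3, nat_lit 1, nat_lit 3, nat_lit 0, nat_lit 1]) (.node (nat_lit 3969) (.leaf (nat_lit 1625) (nat_lit 1) [nat_lit 0, nat_lit 3, nat_lit 1, nat_lit 3, nat_lit 0, nat_lit 1, nat_lit 0, nat_lit 3, nat_lit 1, nat_lit 3, nat_lit 0, nat_lit 1, nat_lit 0, nat_lit 3, nat_lit 1, nat_lit 3, nat_lit 0]) (.leaf (nat_lit 1620) (nat_lit 0) [nat_lit 1, nat_lit 0, nat_lit 3, nat_lit 1, nat_lit 3, nat_lit 0, nat_lit 1, nat_lit 0, nat_lit 3, nat_lit 1, nat_lit 3, nat_lit 0, nat_lit 1, nat_lit 0, nat_lit 3, nat_lit 1, nat_lit 3])))) (.node (nat_lit 3972) (.node (nat_lit 3971) (.leaf (nat_lit 1621) (nat_lit 3) [nat_lit 0, nat_lit 1, nat_lit 0, nat_lit 3, nat_lit 1, nat_lit 3, nat_lit 0, nat_lit 1, nat_lit 0, nat_lit 3, nat_lit 1, nat_lit 3, nat_lit 0, nat_lit 1, nat_lit 0, nat_lit 3, nat_lit 1]) (.leaf (nat_lit 1622) (nat_lit 1) [nat_lit 3, nat_lit 0, nat_lit 1, nat_lit 0, nat_lit 3, nat_lit 1, nat_lit 3, nat_lit 0, nat_lit 1, nat_lit 0, nat_lit 3, nat_lit 1, nat_lit 3, nat_lit 0, nat_lit 1, nat_lit 0, nat_lit 3])) (.node (nat_lit 3973) (.leaf (nat_lit 1623) (nat_lit 3) [nat_lit 1, nat_lit 3, nat_lit 0, nat_lit 1, nat_lit 0, nat_lit 3, nat_lit 1, nat_lit 3, nat_lit 0, nat_lit 1, nat_lit 0, nat_lit 3, nat_lit 1, nat_lit 3, nat_lit 0, nat_lit 1, nat_lit 0]) (.node (nat_lit 3974) (.leaf (nat_lit 1624) (nat_lit 0) [nat_lit 3, nat_lit 1, nat_lit 3, nat_lit 0, nat_lit 1, nat_lit 0, nat_lit 3, nat_lit 1, nat_lit 3, nat_lit 0, nat_lit 1, nat_lit 0, nat_lit 3, nat_lit 1, nat_lit 3, nat_lit 0, nat_lit 1]) (.leaf (nat_lit 1625) (nat_lit 1) [nat_lit 0, nat_lit 3, nat_lit 1, nat_lit 3, nat_lit 0, nat_lit 1, nat_lit 0, nat_lit 3, nat_lit 1, nat_lit 3, nat_lit 0, nat_lit 1, nat_lit 0, nat_lit 3, nat_lit 1, nat_lit 3, nat_lit 0])))))) (.node (nat_lit 3984) (.node (nat_lit 3979) (.node (nat_lit 3977) (.node (nat_lit 3976) (.leaf (nat_lit 1620) (nat_lit 0) [nat_lit 1, nat_lit 0, nat_lit 3, nat_lit 1, nat_lit 3, nat_lit 0, nat_lit 1, nat_lit 0, nat_lit 3, nat_lit 1, nat_lit 3, nat_lit 0, nat_lit 1, nat_lit 0, nat_lit 3, nat_lit 1, nat_lit 3]) (.leaf (nat_lit 1621) (nat_lit 3) [nat_lit 0, nat_lit 1, nat_lit 0, nat_lit 3, nat_lit 1, nat_lit 3, nat_lit 0, nat_lit 1, nat_lit 0, nat_lit 3, nat_lit 1, nat_lit 3, nat_lit 0, nat_lit 1, nat_lit 0, nat_lit 3, nat_lit 1])) (.node (nat_lit 3978) (.leaf (nat_lit 1622) (nat_lit 1) [nat_lit 3, nat_lit 0, nat_lit 1, nat_lit 0, nat_lit 3, nat_lit 1, nat_lit 3, nat_lit 0, nat_lit 1, nat_lit 0, nat_lit 3, nat_lit 1, nat_lit 3, nat_lit 0, nat_lit 1, nat_lit 0, nat_lit 3]) (.leaf (nat_lit 1622) (nat_lit 1) [nat_lit 3, nat_lit 0, nat_lit 1, nat_lit 0, nat_lit 3, nat_lit 1, nat_lit 3, nat_lit 0, nat_lit 1, nat_lit 0, nat_lit 3, nat_lit 1, nat_lit 3, nat_lit 0, nat_lit 1, nat_lit 0, nat_lit 3]))) (.node (nat_lit 3981) (.node (nat_lit 3980) (.leaf (nat_lit 1623) (nat_lit 3) [nat_lit 1, nat_lit 3, nat_lit 0, nat_lit 1, nat_lit 0, nat_lit 3, nat_lit 1, nat_lit 3, nat_lit 0, nat_lit 1, nat_lit 0, nat_lit 3, nat_lit 1, nat_lit 3, nat_lit 0, nat_lit 1, nat_lit 0]) (.leaf (nat_lit 1624) (nat_lit 0) [nat_lit 3, nat_lit 1, nat_lit 3, nat_lit 0, nat_lit 1, nat_lit 0, nat_lit 3, nat_lit 1, nat_lit 3, nat_lit 0, nat_lit 1, nat_lit 0, nat_lit 3, nat_lit 1, nat_lit 3, nat_lit 0, nat_lit 1])) (.node (nat_lit 3982) (.leaf (nat_lit 1625) (nat_lit 1) [nat_lit 0, nat_lit 3, nat_lit 1, nat_lit 3, nat_lit 0, nat_lit 1, nat_lit 0, nat_lit 3, nat_lit 1, nat_lit 3, nat_lit 0, nat_lit 1, nat_lit 0, nat_lit 3, nat_lit 1, nat_lit 3, nat_lit 0]) (.node (nat_lit 3983) (.leaf (nat_lit 1620) (nat_lit 0) [nat_lit 1, nat_lit 0, nat_lit 3, nat_lit 1, nat_lit 3, nat_lit 0, nat_lit 1, nat_lit 0, nat_lit 3, nat_lit 1, nat_lit 3, nat_lit 0, nat_lit 1, nat_lit 0, nat_lit 3, nat_lit 1, nat_lit 3]) (.leaf (nat_lit 1621) (nat_lit 3) [nat_lit 0, nat_lit 1, nat_lit 0, nat_lit 3, nat_lit 1, nat_lit 3, nat_lit 0, nat_lit 1, nat_lit 0, nat_lit 3, nat_lit 1, nat_lit 3, nat_lit 0, nat_lit 1, nat_lit 0, nat_lit 3, nat_lit 1]))))) (.node (nat_lit 3989) (.node (nat_lit 3986) (.node (nat_lit 3985) (.leaf (nat_lit 1622) (nat_lit 1) [nat_lit 3, nat_lit 0, nat_lit 1, nat_lit 0, nat_lit 3, nat_lit 1, nat_lit 3, nat_lit 0, nat_lit 1, nat_lit 0, nat_lit 3, nat_lit 1, nat_lit 3, nat_lit 0, nat_lit 1, nat_lit 0, nat_lit 3]) (.leaf (nat_lit 1623) (nat_lit 3) [nat_lit 1, nat_lit 3, nat_lit 0, nat_lit 1, nat_lit 0, nat_lit 3, nat_lit 1, nat_lit 3, nat_lit 0, nat_lit 1, nat_lit 0, nat_lit 3, nat_lit 1, nat_lit 3, nat_lit 0, nat_lit 1, nat_lit 0])) (.node (nat_lit 3987) (.leaf (nat_lit 1624) (nat_lit 0) [nat_lit 3, nat_lit 1, nat_lit 3, nat_lit 0, nat_lit 1, nat_lit 0, nat_lit 3, nat_lit 1, nat_lit 3, nat_lit 0, nat_lit 1, nat_lit 0, nat_lit 3, nat_lit 1, nat_lit 3, nat_lit 0, nat_lit 1]) (.node (nat_lit 3988) (.leaf (nat_lit 1625) (nat_lit 1) [nat_lit 0, nat_lit 3, nat_lit 1, nat_lit 3, nat_lit 0, nat_lit 1, nat_lit 0, nat_lit 3, nat_lit 1, nat_lit 3, nat_lit 0, nat_lit 1, nat_lit 0, nat_lit 3, nat_lit 1, nat_lit 3, nat_lit 0]) (.leaf (nat_lit 1620) (nat_lit 0) [nat_lit 1, nat_lit 0, nat_lit 3, nat_lit 1, nat_lit 3, nat_lit 0, nat_lit 1, nat_lit 0, nat_lit 3, nat_lit 1, nat_lit 3, nat_lit 0, nat_lit 1, nat_lit 0, nat_lit 3, nat_lit 1, nat_lit 3])))) (.node (nat_lit 3991) (.node (nat_lit 3990) (.leaf (nat_lit 1621) (nat_lit 3) [nat_lit 0, nat_lit 1, nat_lit 0, nat_lit 3, nat_lit 1, nat_lit 3, nat_lit 0, nat_lit 1, nat_lit 0, nat_lit 3, nat_lit 1, nat_lit 3, nat_lit 0, nat_lit 1, nat_lit 0, nat_lit 3, nat_lit 1]) (.leaf (nat_lit 1622) (nat_lit 1) [nat_lit 3, nat_lit 0, nat_lit 1, nat_lit 0, nat_lit 3, nat_lit 1, nat_lit 3, nat_lit 0, nat_lit 1, nat_lit 0, nat_lit 3, nat_lit 1, nat_lit 3, nat_lit 0, nat_lit 1, nat_lit 0, nat_lit 3])) (.node (nat_lit 3992) (.leaf (nat_lit 1623) (nat_lit 3) [nat_lit 1, nat_lit 3, nat_lit 0, nat_lit 1, nat_lit 0, nat_lit 3, nat_lit 1, nat_lit 3, nat_lit 0, nat_lit 1, nat_lit 0, nat_lit 3, nat_lit 1, nat_lit 3, nat_lit 0, nat_lit 1, nat_lit 0]) (.node (nat_lit 3993) (.leaf (nat_lit 1624) (nat_lit 0) [nat_lit 3, nat_lit 1, nat_lit 3, nat_lit 0, nat_lit 1, nat_lit 0, nat_lit 3, nat_lit 1, nat_lit 3, nat_lit 0, nat_lit 1, nat_lit 0, nat_lit 3, nat_lit 1, nat_lit 3, nat_lit 0, nat_lit 1]) (.leaf (nat_lit 1625) (nat_lit 1) [nat_lit 0, nat_lit 3, nat_lit 1, nat_lit 3, nat_lit 0, nat_lit 1, nat_lit 0, nat_lit 3, nat_lit 1, nat_lit 3, nat_lit 0, nat_lit 1, nat_lit 0, nat_lit 3, nat_lit 1, nat_lit 3, nat_lit 0])))))))) (.node (nat_lit 4032) (.node (nat_lit 4013) (.node (nat_lit 4003) (.node (nat_lit 3998) (.node (nat_lit 3996) (.node (nat_lit 3995) (.leaf (nat_lit 1620) (nat_lit 0) [nat_lit 1, nat_lit 0, nat_lit 3, nat_lit 1, nat_lit 3, nat_lit 0, nat_lit 1, nat_lit 0, nat_lit 3, nat_lit 1, nat_lit 3, nat_lit 0, nat_lit 1, nat_lit 0, nat_lit 3, nat_lit 1, nat_lit 3]) (.leaf (nat_lit 1621) (nat_lit 3) [nat_lit 0, nat_lit 1, nat_lit 0, nat_lit 3, nat_lit 1, nat_lit 3, nat_lit 0, nat_lit 1, nat_lit 0, nat_lit 3, nat_lit 1, nat_lit 3, nat_lit 0, nat_lit 1, nat_lit 0, nat_lit 3, nat_lit 1])) (.node (nat_lit 3997) (.leaf (nat_lit 1731) (nat_lit 3) [nat_lit 1, nat_lit 3, nat_lit 0, nat_lit 2, nat_lit 0, nat_lit 3, nat_lit 1, nat_lit 3, nat_lit 0, nat_lit 2, nat_lit 0, nat_lit 3, nat_lit 1, nat_lit 3, nat_lit 0, nat_lit 2, nat_lit 0]) (.leaf (nat_lit 1732) (nat_lit 0) [nat_lit 3, nat_lit 1, nat_lit 3, nat_lit 0, nat_lit 2, nat_lit 0, nat_lit 3, nat_lit 1, nat_lit 3, nat_lit 0, nat_lit 2, nat_lit 0, nat_lit 3, nat_lit 1, nat_lit 3, nat_lit 0, nat_lit 2]))) (.node (nat_lit 4000) (.node (nat_lit 3999) (.leaf (nat_lit 1733) (nat_lit 2) [nat_lit 0, nat_lit 3, nat_lit 1, nat_lit 3, nat_lit 0, nat_lit 2, nat_lit 0, nat_lit 3, nat_lit 1, nat_lit 3, nat_lit 0, nat_lit 2, nat_lit 0, nat_lit 3, nat_lit 1, nat_lit 3, nat_lit 0]) (.leaf (nat_lit 1728) (nat_lit 0) [nat_lit 2, nat_lit 0, nat_lit 3, nat_lit 1, nat_lit 3, nat_lit 0, nat_lit 2, nat_lit 0, nat_lit 3, nat_lit 1, nat_lit 3, nat_lit 0, nat_lit 2, nat_lit 0, nat_lit 3, nat_lit 1, nat_lit 3])) (.node (nat_lit 4001) (.leaf (nat_lit 1729) (nat_lit 3) [nat_lit 0, nat_lit 2, nat_lit 0, nat_lit 3, nat_lit 1, nat_lit 3, nat_lit 0, nat_lit 2, nat_lit 0, nat_lit 3, nat_lit 1, nat_lit 3, nat_lit 0, nat_lit 2, nat_lit 0, nat_lit 3, nat_lit 1]) (.node (nat_lit 4002) (.leaf (nat_lit 1730) (nat_lit 1) [nat_lit 3, nat_lit 0, nat_lit 2, nat_lit 0, nat_lit 3, nat_lit 1, nat_lit 3, nat_lit 0, nat_lit 2, nat_lit 0, nat_lit 3, nat_lit 1, nat_lit 3, nat_lit 0, nat_lit 2, nat_lit 0, nat_lit 3]) (.leaf (nat_lit 1731) (nat_lit 3) [nat_lit 1, nat_lit 3, nat_lit 0, nat_lit 2, nat_lit 0, nat_lit 3, nat_lit 1, nat_lit 3, nat_lit 0, nat_lit 2, nat_lit 0, nat_lit 3, nat_lit 1, nat_lit 3, nat_lit 0, nat_lit 2, nat_lit 0]))))) (.node (nat_lit 4008) (.node (nat_lit 4005) (.node (nat_lit 4004) (.leaf (nat_lit 1732) (nat_lit 0) [nat_lit 3, nat_lit 1, nat_lit 3, nat_lit 0, nat_lit 2, nat_lit 0, nat_lit 3, nat_lit 1, nat_lit 3, nat_lit 0, nat_lit 2, nat_lit 0, nat_lit 3, nat_lit 1, nat_lit 3, nat_lit 0, nat_lit 2]) (.leaf (nat_lit 1733) (nat_lit 2) [nat_lit 0, nat_lit 3, nat_lit 1, nat_lit 3, nat_lit 0, nat_lit 2, nat_lit 0, nat_lit 3, nat_lit 1, nat_lit 3, nat_lit 0, nat_lit 2, nat_lit 0, nat_lit 3, nat_lit 1, nat_lit 3, nat_lit 0])) (.node (nat_lit 4006) (.leaf (nat_lit 1728) (nat_lit 0) [nat_lit 2, nat_lit 0, nat_lit 3, nat_lit 1, nat_lit 3, nat_lit 0, nat_lit 2, nat_lit 0, nat_lit 3, nat_lit 1, nat_lit 3, nat_lit 0, nat_lit 2, nat_lit 0, nat_lit 3, nat_lit 1, nat_lit 3]) (.node (nat_lit 4007) (.leaf (nat_lit 1729) (nat_lit 3) [nat_lit 0, nat_lit 2, nat_lit 0, nat_lit 3, nat_lit 1, nat_lit 3, nat_lit 0, nat_lit 2, nat_lit 0, nat_lit 3, nat_lit 1, nat_lit 3, nat_lit 0, nat_lit 2, nat_lit 0, nat_lit 3, nat_lit 1]) (.leaf (nat_lit 1730) (nat_lit 1) [nat_lit 3, nat_lit 0, nat_lit 2, nat_lit 0, nat_lit 3, nat_lit 1, nat_lit 3, nat_lit 0, nat_lit 2, nat_lit 0, nat_lit 3, nat_lit 1, nat_lit 3, nat_lit 0, nat_lit 2, nat_lit 0, nat_lit 3])))) (.node (nat_lit 4010) (.node (nat_lit 4009) (.leaf (nat_lit 1731) (nat_lit 3) [nat_lit 1, nat_lit 3, nat_lit 0, nat_lit 2, nat_lit 0, nat_lit 3, nat_lit 1, nat_lit 3, nat_lit 0, nat_lit 2, nat_lit 0, nat_lit 3, nat_lit 1, nat_lit 3, nat_lit 0, nat_lit 2, nat_lit 0]) (.leaf (nat_lit 1732) (nat_lit 0) [nat_lit 3, nat_lit 1, nat_lit 3, nat_lit 0, nat_lit 2, nat_lit 0, nat_lit 3, nat_lit 1, nat_lit 3, nat_lit 0, nat_lit 2, nat_lit 0, nat_lit 3, nat_lit 1, nat_lit 3, nat_lit 0, nat_lit 2])) (.node (nat_lit 4011) (.leaf (nat_lit 1733) (nat_lit 2) [nat_lit 0, nat_lit 3, nat_lit 1, nat_lit 3, nat_lit 0, nat_lit 2, nat_lit 0, nat_lit 3, nat_lit 1, nat_lit 3, nat_lit 0, nat_lit 2, nat_lit 0, nat_lit 3, nat_lit 1, nat_lit 3, nat_lit 0]) (.node (nat_lit 4012) (.leaf (nat_lit 1728) (nat_lit 0) [nat_lit 2, nat_lit 0, nat_lit 3, nat_lit 1, nat_lit 3, nat_lit 0, nat_lit 2, nat_lit 0, nat_lit 3, nat_lit 1, nat_lit 3, nat_lit 0, nat_lit 2, nat_lit 0, nat_lit 3, nat_lit 1, nat_lit 3]) (.leaf (nat_lit 1729) (nat_lit 3) [nat_lit 0, nat_lit 2, nat_lit 0, nat_lit 3, nat_lit 1, nat_lit 3, nat_lit 0, nat_lit 2, nat_lit 0, nat_lit 3, nat_lit 1, nat_lit 3, nat_lit 0, nat_lit 2, nat_lit 0, nat_lit 3, nat_lit 1])))))) (.node (nat_lit 4022) (.node (nat_lit 4017) (.node (nat_lit 4015) (.node (nat_lit 4014) (.leaf (nat_lit 1730) (nat_lit 1) [nat_lit 3, nat_lit 0, nat_lit 2, nat_lit 0, nat_lit 3, nat_lit 1, nat_lit 3, nat_lit 0, nat_lit 2, nat_lit 0, nat_lit 3, nat_lit 1, nat_lit 3, nat_lit 0, nat_lit 2, nat_lit 0, nat_lit 3]) (.leaf (nat_lit 1730) (nat_lit 1) [nat_lit 3, nat_lit 0, nat_lit 2, nat_lit 0, nat_lit 3, nat_lit 1, nat_lit 3, nat_lit 0, nat_lit 2, nat_lit 0, nat_lit 3, nat_lit 1, nat_lit 3, nat_lit 0, nat_lit 2, nat_lit 0, nat_lit 3])) (.node (nat_lit 4016) (.leaf (nat_lit 1731) (nat_lit 3) [nat_lit 1, nat_lit 3, nat_lit 0, nat_lit 2, nat_lit 0, nat_lit 3, nat_lit 1, nat_lit 3, nat_lit 0, nat_lit 2, nat_lit 0, nat_lit 3, nat_lit 1, nat_lit 3, nat_lit 0, nat_lit 2, nat_lit 0]) (.leaf (nat_lit 1732) (nat_lit 0) [nat_lit 3, nat_lit 1, nat_lit 3, nat_lit 0, nat_lit 2, nat_lit 0, nat_lit 3, nat_lit 1, nat_lit 3, nat_lit 0, nat_lit 2, nat_lit 0, nat_lit 3, nat_lit 1, nat_lit 3, nat_lit 0, nat_lit 2]))) (.node (nat_lit 4019) (.node (nat_lit 4018) (.leaf (nat_lit 1733) (nat_lit 2) [nat_lit 0, nat_lit 3, nat_lit 1, nat_lit 3, nat_lit 0, nat_lit 2, nat_lit 0, nat_lit 3, nat_lit 1, nat_lit 3, nat_lit 0, nat_lit 2, nat_lit 0, nat_lit 3, nat_lit 1, nat_lit 3, nat_lit 0]) (.leaf (nat_lit 1728) (nat_lit 0) [nat_lit 2, nat_lit 0, nat_lit 3, nat_lit 1, nat_lit 3, nat_lit 0, nat_lit 2, nat_lit 0, nat_lit 3, nat_lit 1, nat_lit 3, nat_lit 0, nat_lit 2, nat_lit 0, nat_lit 3, nat_lit 1, nat_lit 3])) (.node (nat_lit 4020) (.leaf (nat_lit 1729) (nat_lit 3) [nat_lit 0, nat_lit 2, nat_lit 0, nat_lit 3, nat_lit 1, nat_lit 3, nat_lit 0, nat_lit 2, nat_lit 0, nat_lit 3, nat_lit 1, nat_lit 3, nat_lit 0, nat_lit 2, nat_lit 0, nat_lit 3, nat_lit 1]) (.node (nat_lit 4021) (.leaf (nat_lit 1730) (nat_lit 1) [nat_lit 3, nat_lit 0, nat_lit 2, nat_lit 0, nat_lit 3, nat_lit 1, nat_lit 3, nat_lit 0, nat_lit 2, nat_lit 0, nat_lit 3, nat_lit 1, nat_lit 3, nat_lit 0, nat_lit 2, nat_lit 0, nat_lit 3]) (.leaf (nat_lit 1731) (nat_lit 3) [nat_lit 1, nat_lit 3, nat_lit 0, nat_lit 2, nat_lit 0, nat_lit 3, nat_lit 1, nat_lit 3, nat_lit 0, nat_lit 2, nat_lit 0, nat_lit 3, nat_lit 1, nat_lit 3, nat_lit 0, nat_lit 2, nat_lit 0]))))) (.node (nat_lit 4027) (.node (nat_lit 4024) (.node (nat_lit 4023) (.leaf (nat_lit 1732) (nat_lit 0) [nat_lit 3, nat_lit 1, nat_lit 3, nat_lit 0, nat_lit 2, nat_lit 0, nat_lit 3, nat_lit 1, nat_lit 3, nat_lit 0, nat_lit 2, nat_lit 0, nat_lit 3, nat_lit 1, nat_lit 3, nat_lit 0, nat_lit 2]) (.leaf (nat_lit 1733) (nat_lit 2) [nat_lit 0, nat_lit 3, nat_lit 1, nat_lit 3, nat_lit 0, nat_lit 2, nat_lit 0, nat_lit 3, nat_lit 1, nat_lit 3, nat_lit 0, nat_lit 2, nat_lit 0, nat_lit 3, nat_lit 1, nat_lit 3, nat_lit 0])) (.node (nat_lit 4025) (.leaf (nat_lit 1728) (nat_lit 0) [nat_lit 2, nat_lit 0, nat_lit 3, nat_lit 1, nat_lit 3, nat_lit 0, nat_lit 2, nat_lit 0, nat_lit 3, nat_lit 1, nat_lit 3, nat_lit 0, nat_lit 2, nat_lit 0, nat_lit 3, nat_lit 1, nat_lit 3]) (.node (nat_lit 4026) (.leaf (nat_lit 1729) (nat_lit 3) [nat_lit 0, nat_lit 2, nat_lit 0, nat_lit 3, nat_lit 1, nat_lit 3, nat_lit 0, nat_lit 2, nat_lit 0, nat_lit 3, nat_lit 1, nat_lit 3, nat_lit 0, nat_lit 2, nat_lit 0, nat_lit 3, nat_lit 1]) (.leaf (nat_lit 1730) (nat_lit 1) [nat_lit 3, nat_lit 0, nat_lit 2, nat_lit 0, nat_lit 3, nat_lit 1, nat_lit 3, nat_lit 0, nat_lit 2, nat_lit 0, nat_lit 3, nat_lit 1, nat_lit 3, nat_lit 0, nat_lit 2, nat_lit 0, nat_lit 3])))) (.node (nat_lit 4029) (.node (nat_lit 4028) (.leaf (nat_lit 1731) (nat_lit 3) [nat_lit 1, nat_lit 3, nat_lit 0, nat_lit 2, nat_lit 0, nat_lit 3, nat_lit 1, nat_lit 3, nat_lit 0, nat_lit 2, nat_lit 0, nat_lit 3, nat_lit 1, nat_lit 3, nat_lit 0, nat_lit 2, nat_lit 0]) (.leaf (nat_lit 1732) (nat_lit 0) [nat_lit 3, nat_lit 1, nat_lit 3, nat_lit 0, nat_lit 2, nat_lit 0, nat_lit 3, nat_lit 1, nat_lit 3, nat_lit 0, nat_lit 2, nat_lit 0, nat_lit 3, nat_lit 1, nat_lit 3, nat_lit 0, nat_lit 2])) (.node (nat_lit 4030) (.leaf (nat_lit 1733) (nat_lit 2) [nat_lit 0, nat_lit 3, nat_lit 1, nat_lit 3, nat_lit 0, nat_lit 2, nat_lit 0, nat_lit 3, nat_lit 1, nat_lit 3, nat_lit 0, nat_lit 2, nat_lit 0, nat_lit 3, nat_lit 1, nat_lit 3, nat_lit 0]) (.node (nat_lit 4031) (.leaf (nat_lit 1728) (nat_lit 0) [nat_lit 2, nat_lit 0, nat_lit 3, nat_lit 1, nat_lit 3, nat_lit 0, nat_lit 2, nat_lit 0, nat_lit 3, nat_lit 1, nat_lit 3, nat_lit 0, nat_lit 2, nat_lit 0, nat_lit 3, nat_lit 1, nat_lit 3]) (.leaf (nat_lit 1729) (nat_lit 3) [nat_lit 0, nat_lit 2, nat_lit 0, nat_lit 3, nat_lit 1, nat_lit 3, nat_lit 0, nat_lit 2, nat_lit 0, nat_lit 3, nat_lit 1, nat_lit 3, nat_lit 0, nat_lit 2, nat_lit 0, nat_lit 3, nat_lit 1]))))))) (.node (nat_lit 4051) (.node (nat_lit 4041) (.node (nat_lit 4036) (.node (nat_lit 4034) (.node (nat_lit 4033) (.leaf (nat_lit 1839) (nat_lit 3) [nat_lit 1, nat_lit 3, nat_lit 0, nat_lit 3, nat_lit 0, nat_lit 3, nat_lit 1, nat_lit 3, nat_lit 0, nat_lit 3, nat_lit 0, nat_lit 3, nat_lit 1, nat_lit 3, nat_lit 0, nat_lit 3, nat_lit 0]) (.leaf (nat_lit 1840) (nat_lit 0) [nat_lit 3, nat_lit 1, nat_lit 3, nat_lit 0, nat_lit 3, nat_lit 0, nat_lit 3, nat_lit 1, nat_lit 3, nat_lit 0, nat_lit 3, nat_lit 0, nat_lit 3, nat_lit 1, nat_lit 3, nat_lit 0, nat_lit 3])) (.node (nat_lit 4035) (.leaf (nat_lit 1841) (nat_lit 3) [nat_lit 0, nat_lit 3, nat_lit 1, nat_lit 3, nat_lit 0, nat_lit 3, nat_lit 0, nat_lit 3, nat_lit 1, nat_lit 3, nat_lit 0, nat_lit 3, nat_lit 0, nat_lit 3, nat_lit 1, nat_lit 3, nat_lit 0]) (.leaf (nat_lit 1836) (nat_lit 0) [nat_lit 3, nat_lit 0, nat_lit 3, nat_lit 1, nat_lit 3, nat_lit 0, nat_lit 3, nat_lit 0, nat_lit 3, nat_lit 1, nat_lit 3, nat_lit 0, nat_lit 3, nat_lit 0, nat_lit 3, nat_lit 1, nat_lit 3]))) (.node (nat_lit 4038) (.node (nat_lit 4037) (.leaf (nat_lit 1837) (nat_lit 3) [nat_lit 0, nat_lit 3, nat_lit 0, nat_lit 3, nat_lit 1, nat_lit 3, nat_lit 0, nat_lit 3, nat_lit 0, nat_lit 3, nat_lit 1, nat_lit 3, nat_lit 0, nat_lit 3, nat_lit 0, nat_lit 3, nat_lit 1]) (.leaf (nat_lit 1838) (nat_lit 1) [nat_lit 3, nat_lit 0, nat_lit 3, nat_lit 0, nat_lit 3, nat_lit 1, nat_lit 3, nat_lit 0, nat_lit 3, nat_lit 0, nat_lit 3, nat_lit 1, nat_lit 3, nat_lit 0, nat_lit 3, nat_lit 0, nat_lit 3])) (.node (nat_lit 4039) (.leaf (nat_lit 1839) (nat_lit 3) [nat_lit 1, nat_lit 3, nat_lit 0, nat_lit 3, nat_lit 0, nat_lit 3, nat_lit 1, nat_lit 3, nat_lit 0, nat_lit 3, nat_lit 0, nat_lit 3, nat_lit 1, nat_lit 3, nat_lit 0, nat_lit 3, nat_lit 0]) (.node (nat_lit 4040) (.leaf (nat_lit 1840) (nat_lit 0) [nat_lit 3, nat_lit 1, nat_lit 3, nat_lit 0, nat_lit 3, nat_lit 0, nat_lit 3, nat_lit 1, nat_lit 3, nat_lit 0, nat_lit 3, nat_lit 0, nat_lit 3, nat_lit 1, nat_lit 3, nat_lit 0, nat_lit 3]) (.leaf (nat_lit 1841) (nat_lit 3) [nat_lit 0, nat_lit 3, nat_lit 1, nat_lit 3, nat_lit 0, nat_lit 3, nat_lit 0, nat_lit 3, nat_lit 1, nat_lit 3, nat_lit 0, nat_lit 3, nat_lit 0, nat_lit 3, nat_lit 1, nat_lit 3, nat_lit 0]))))) (.node (nat_lit 4046) (.node (nat_lit 4043) (.node (nat_lit 4042) (.leaf (nat_lit 1836) (nat_lit 0) [nat_lit 3, nat_lit 0, nat_lit 3, nat_lit 1, nat_lit 3, nat_lit 0, nat_lit 3, nat_lit 0, nat_lit 3, nat_lit 1, nat_lit 3, nat_lit 0, nat_lit 3, nat_lit 0, nat_lit 3, nat_lit 1, nat_lit 3]) (.leaf (nat_lit 1837) (nat_lit 3) [nat_lit 0, nat_lit 3, nat_lit 0, nat_lit 3, nat_lit 1, nat_lit 3, nat_lit 0, nat_lit 3, nat_lit 0, nat_lit 3, nat_lit 1, nat_lit 3, nat_lit 0, nat_lit 3, nat_lit 0, nat_lit 3, nat_lit 1])) (.node (nat_lit 4044) (.leaf (nat_lit 1838) (nat_lit 1) [nat_lit 3, nat_lit 0, nat_lit 3, nat_lit 0, nat_lit 3, nat_lit 1, nat_lit 3, nat_lit 0, nat_lit 3, nat_lit 0, nat_lit 3, nat_lit 1, nat_lit 3, nat_lit 0, nat_lit 3, nat_lit 0, nat_lit 3]) (.node (nat_lit 4045) (.leaf (nat_lit 1839) (nat_lit 3) [nat_lit 1, nat_lit 3, nat_lit 0, nat_lit 3, nat_lit 0, nat_lit 3, nat_lit 1, nat_lit 3, nat_lit 0, nat_lit 3, nat_lit 0, nat_lit 3, nat_lit 1, nat_lit 3, nat_lit 0, nat_lit 3, nat_lit 0]) (.leaf (nat_lit 1840) (nat_lit 0) [nat_lit 3, nat_lit 1, nat_lit 3, nat_lit 0, nat_lit 3, nat_lit 0, nat_lit 3, nat_lit 1, nat_lit 3, nat_lit 0, nat_lit 3, nat_lit 0, nat_lit 3, nat_lit 1, nat_lit 3, nat_lit 0, nat_lit 3])))) (.node (nat_lit 4048) (.node (nat_lit 4047) (.leaf (nat_lit 1841) (nat_lit 3) [nat_lit 0, nat_lit 3, nat_lit 1, nat_lit 3, nat_lit 0, nat_lit 3, nat_lit 0, nat_lit 3, nat_lit 1, nat_lit 3, nat_lit 0, nat_lit 3, nat_lit 0, nat_lit 3, nat_lit 1, nat_lit 3, nat_lit 0]) (.leaf (nat_lit 1836) (nat_lit 0) [nat_lit 3, nat_lit 0, nat_lit 3, nat_lit 1, nat_lit 3, nat_lit 0, nat_lit 3, nat_lit 0, nat_lit 3, nat_lit 1, nat_lit 3, nat_lit 0, nat_lit 3, nat_lit 0, nat_lit 3, nat_lit 1, nat_lit 3])) (.node (nat_lit 4049) (.leaf (nat_lit 1837) (nat_lit 3) [nat_lit 0, nat_lit 3, nat_lit 0, nat_lit 3, nat_lit 1, nat_lit 3, nat_lit 0, nat_lit 3, nat_lit 0, nat_lit 3, nat_lit 1, nat_lit 3, nat_lit 0, nat_lit 3, nat_lit 0, nat_lit 3, nat_lit 1]) (.node (nat_lit 4050) (.leaf (nat_lit 1838) (nat_lit 1) [nat_lit 3, nat_lit 0, nat_lit 3, nat_lit 0, nat_lit 3, nat_lit 1, nat_lit 3, nat_lit 0, nat_lit 3, nat_lit 0, nat_lit 3, nat_lit 1, nat_lit 3, nat_lit 0, nat_lit 3, nat_lit 0, nat_lit 3]) (.leaf (nat_lit 1838) (nat_lit 1) [nat_lit 3, nat_lit 0, nat_lit 3, nat_lit 0, nat_lit 3, nat_lit 1, nat_lit 3, nat_lit 0, nat_lit 3, nat_lit 0, nat_lit 3, nat_lit 1, nat_lit 3, nat_lit 0, nat_lit 3, nat_lit 0, nat_lit 3])))))) (.node (nat_lit 4060) (.node (nat_lit 4055) (.node (nat_lit 4053) (.node (nat_lit 4052) (.leaf (nat_lit 1839) (nat_lit 3) [nat_lit 1, nat_lit 3, nat_lit 0, nat_lit 3, nat_lit 0, nat_lit 3, nat_lit 1, nat_lit 3, nat_lit 0, nat_lit 3, nat_lit 0, nat_lit 3, nat_lit 1, nat_lit 3, nat_lit 0, nat_lit 3, nat_lit 0]) (.leaf (nat_lit 1840) (nat_lit 0) [nat_lit 3, nat_lit 1, nat_lit 3, nat_lit 0, nat_lit 3, nat_lit 0, nat_lit 3, nat_lit 1, nat_lit 3, nat_lit 0, nat_lit 3, nat_lit 0, nat_lit 3, nat_lit 1, nat_lit 3, nat_lit 0, nat_lit 3])) (.node (nat_lit 4054) (.leaf (nat_lit 1841) (nat_lit 3) [nat_lit 0, nat_lit 3, nat_lit 1, nat_lit 3, nat_lit 0, nat_lit 3, nat_lit 0, nat_lit 3, nat_lit 1, nat_lit 3, nat_lit 0, nat_lit 3, nat_lit 0, nat_lit 3, nat_lit 1, nat_lit 3, nat_lit 0]) (.leaf (nat_lit 1836) (nat_lit 0) [nat_lit 3, nat_lit 0, nat_lit 3, nat_lit 1, nat_lit 3, nat_lit 0, nat_lit 3, nat_lit 0, nat_lit 3, nat_lit 1, nat_lit 3, nat_lit 0, nat_lit 3, nat_lit 0, nat_lit 3, nat_lit 1, nat_lit 3]))) (.node (nat_lit 4057) (.node (nat_lit 4056) (.leaf (nat_lit 1837) (nat_lit 3) [nat_lit 0, nat_lit 3, nat_lit 0, nat_lit 3, nat_lit 1, nat_lit 3, nat_lit 0, nat_lit 3, nat_lit 0, nat_lit 3, nat_lit 1, nat_lit 3, nat_lit 0, nat_lit 3, nat_lit 0, nat_lit 3, nat_lit 1]) (.leaf (nat_lit 1838) (nat_lit 1) [nat_lit 3, nat_lit 0, nat_lit 3, nat_lit 0, nat_lit 3, nat_lit 1, nat_lit 3, nat_lit 0, nat_lit 3, nat_lit 0, nat_lit 3, nat_lit 1, nat_lit 3, nat_lit 0, nat_lit 3, nat_lit 0, nat_lit 3])) (.node (nat_lit 4058) (.leaf (nat_lit 1839) (nat_lit 3) [nat_lit 1, nat_lit 3, nat_lit 0, nat_lit 3, nat_lit 0, nat_lit 3, nat_lit 1, nat_lit 3, nat_lit 0, nat_lit 3, nat_lit 0, nat_lit 3, nat_lit 1, nat_lit 3, nat_lit 0, nat_lit 3, nat_lit 0]) (.node (nat_lit 4059) (.leaf (nat_lit 1840) (nat_lit 0) [nat_lit 3, nat_lit 1, nat_lit 3, nat_lit 0, nat_lit 3, nat_lit 0, nat_lit 3, nat_lit 1, nat_lit 3, nat_lit 0, nat_lit 3, nat_lit 0, nat_lit 3, nat_lit 1, nat_lit 3, nat_lit 0, nat_lit 3]) (.leaf (nat_lit 1841) (nat_lit 3) [nat_lit 0, nat_lit 3, nat_lit 1, nat_lit 3, nat_lit 0, nat_lit 3, nat_lit 0, nat_lit 3, nat_lit 1, nat_lit 3, nat_lit 0, nat_lit 3, nat_lit 0, nat_lit 3, nat_lit 1, nat_lit 3, nat_lit 0]))))) (.node (nat_lit 4065) (.node (nat_lit 4062) (.node (nat_lit 4061) (.leaf (nat_lit 1836) (nat_lit 0) [nat_lit 3, nat_lit 0, nat_lit 3, nat_lit 1, nat_lit 3, nat_lit 0, nat_lit 3, nat_lit 0, nat_lit 3, nat_lit 1, nat_lit 3, nat_lit 0, nat_lit 3, nat_lit 0, nat_lit 3, nat_lit 1, nat_lit 3]) (.leaf (nat_lit 1837) (nat_lit 3) [nat_lit 0, nat_lit 3, nat_lit 0, nat_lit 3, nat_lit 1, nat_lit 3, nat_lit 0, nat_lit 3, nat_lit 0, nat_lit 3, nat_lit 1, nat_lit 3, nat_lit 0, nat_lit 3, nat_lit 0, nat_lit 3, nat_lit 1])) (.node (nat_lit 4063) (.leaf (nat_lit 1838) (nat_lit 1) [nat_lit 3, nat_lit 0, nat_lit 3, nat_lit 0, nat_lit 3, nat_lit 1, nat_lit 3, nat_lit 0, nat_lit 3, nat_lit 0, nat_lit 3, nat_lit 1, nat_lit 3, nat_lit 0, nat_lit 3, nat_lit 0, nat_lit 3]) (.node (nat_lit 4064) (.leaf (nat_lit 1839) (nat_lit 3) [nat_lit 1, nat_lit 3, nat_lit 0, nat_lit 3, nat_lit 0, nat_lit 3, nat_lit 1, nat_lit 3, nat_lit 0, nat_lit 3, nat_lit 0, nat_lit 3, nat_lit 1, nat_lit 3, nat_lit 0, nat_lit 3, nat_lit 0]) (.leaf (nat_lit 1840) (nat_lit 0) [nat_lit 3, nat_lit 1, nat_lit 3, nat_lit 0, nat_lit 3, nat_lit 0, nat_lit 3, nat_lit 1, nat_lit 3, nat_lit 0, nat_lit 3, nat_lit 0, nat_lit 3, nat_lit 1, nat_lit 3, nat_lit 0, nat_lit 3])))) (.node (nat_lit 4067) (.node (nat_lit 4066) (.leaf (nat_lit 1841) (nat_lit 3) [nat_lit 0, nat_lit 3, nat_lit 1, nat_lit 3, nat_lit 0, nat_lit 3, nat_lit 0, nat_lit 3, nat_lit 1, nat_lit 3, nat_lit 0, nat_lit 3, nat_lit 0, nat_lit 3, nat_lit 1, nat_lit 3, nat_lit 0]) (.leaf (nat_lit 1836) (nat_lit 0) [nat_lit 3, nat_lit 0, nat_lit 3, nat_lit 1, nat_lit 3, nat_lit 0, nat_lit 3, nat_lit 0, nat_lit 3, nat_lit 1, nat_lit 3, nat_lit 0, nat_lit 3, nat_lit 0, nat_lit 3, nat_lit 1, nat_lit 3])) (.node (nat_lit 4068) (.leaf (nat_lit 1837) (nat_lit 3) [nat_lit 0, nat_lit 3, nat_lit 0, nat_lit 3, nat_lit 1, nat_lit 3, nat_lit 0, nat_lit 3, nat_lit 0, nat_lit 3, nat_lit 1, nat_lit 3, nat_lit 0, nat_lit 3, nat_lit 0, nat_lit 3, nat_lit 1]) (.node (nat_lit 4069) (.leaf (nat_lit 1659) (nat_lit 3) [nat_lit 2, nat_lit 3, nat_lit 0, nat_lit 1, nat_lit 0, nat_lit 3, nat_lit 2, nat_lit 3, nat_lit 0, nat_lit 1, nat_lit 0, nat_lit 3, nat_lit 2, nat_lit 3, nat_lit 0, nat_lit 1, nat_lit 0]) (.leaf (nat_lit 1660) (nat_lit 0) [nat_lit 3, nat_lit 2, nat_lit 3, nat_lit 0, nat_lit 1, nat_lit 0, nat_lit 3, nat_lit 2, nat_lit 3, nat_lit 0, nat_lit 1, nat_lit 0, nat_lit 3, nat_lit 2, nat_lit 3, nat_lit 0, nat_lit 1]))))))))) (.node (nat_lit 4145) (.node (nat_lit 4107) (.node (nat_lit 4088) (.node (nat_lit 4079) (.node (nat_lit 4074) (.node (nat_lit 4072) (.node (nat_lit 4071) (.leaf (nat_lit 1661) (nat_lit 1) [nat_lit 0, nat_lit 3, nat_lit 2, nat_lit 3, nat_lit 0, nat_lit 1, nat_lit 0, nat_lit 3, nat_lit 2, nat_lit 3, nat_lit 0, nat_lit 1, nat_lit 0, nat_lit 3, nat_lit 2, nat_lit 3, nat_lit 0]) (.leaf (nat_lit 1656) (nat_lit 0) [nat_lit 1, nat_lit 0, nat_lit 3, nat_lit 2, nat_lit 3, nat_lit 0, nat_lit 1, nat_lit 0, nat_lit 3, nat_lit 2, nat_lit 3, nat_lit 0, nat_lit 1, nat_lit 0, nat_lit 3, nat_lit 2, nat_lit 3])) (.node (nat_lit 4073) (.leaf (nat_lit 1657) (nat_lit 3) [nat_lit 0, nat_lit 1, nat_lit 0, nat_lit 3, nat_lit 2, nat_lit 3, nat_lit 0, nat_lit 1, nat_lit 0, nat_lit 3, nat_lit 2, nat_lit 3, nat_lit 0, nat_lit 1, nat_lit 0, nat_lit 3, nat_lit 2]) (.leaf (nat_lit 1658) (nat_lit 2) [nat_lit 3, nat_lit 0, nat_lit 1, nat_lit 0, nat_lit 3, nat_lit 2, nat_lit 3, nat_lit 0, nat_lit 1, nat_lit 0, nat_lit 3, nat_lit 2, nat_lit 3, nat_lit 0, nat_lit 1, nat_lit 0, nat_lit 3]))) (.node (nat_lit 4076) (.node (nat_lit 4075) (.leaf (nat_lit 1659) (nat_lit 3) [nat_lit 2, nat_lit 3, nat_lit 0, nat_lit 1, nat_lit 0, nat_lit 3, nat_lit 2, nat_lit 3, nat_lit 0, nat_lit 1, nat_lit 0, nat_lit 3, nat_lit 2, nat_lit 3, nat_lit 0, nat_lit 1, nat_lit 0]) (.leaf (nat_lit 1660) (nat_lit 0) [nat_lit 3, nat_lit 2, nat_lit 3, nat_lit 0, nat_lit 1, nat_lit 0, nat_lit 3, nat_lit 2, nat_lit 3, nat_lit 0, nat_lit 1, nat_lit 0, nat_lit 3, nat_lit 2, nat_lit 3, nat_lit 0, nat_lit 1])) (.node (nat_lit 4077) (.leaf (nat_lit 1661) (nat_lit 1) [nat_lit 0, nat_lit 3, nat_lit 2, nat_lit 3, nat_lit 0, nat_lit 1, nat_lit 0, nat_lit 3, nat_lit 2, nat_lit 3, nat_lit 0, nat_lit 1, nat_lit 0, nat_lit 3, nat_lit 2, nat_lit 3, nat_lit 0]) (.node (nat_lit 4078) (.leaf (nat_lit 1656) (nat_lit 0) [nat_lit 1, nat_lit 0, nat_lit 3, nat_lit 2, nat_lit 3, nat_lit 0, nat_lit 1, nat_lit 0, nat_lit 3, nat_lit 2, nat_lit 3, nat_lit 0, nat_lit 1, nat_lit 0, nat_lit 3, nat_lit 2, nat_lit 3]) (.leaf (nat_lit 1657) (nat_lit 3) [nat_lit 0, nat_lit 1, nat_lit 0, nat_lit 3, nat_lit 2, nat_lit 3, nat_lit 0, nat_lit 1, nat_lit 0, nat_lit 3, nat_lit 2, nat_lit 3, nat_lit 0, nat_lit 1, nat_lit 0, nat_lit 3, nat_lit 2]))))) (.node (nat_lit 4083) (.node (nat_lit 4081) (.node (nat_lit 4080) (.leaf (nat_lit 1658) (nat_lit 2) [nat_lit 3, nat_lit 0, nat_lit 1, nat_lit 0, nat_lit 3, nat_lit 2, nat_lit 3, nat_lit 0, nat_lit 1, nat_lit 0, nat_lit 3, nat_lit 2, nat_lit 3, nat_lit 0, nat_lit 1, nat_lit 0, nat_lit 3]) (.leaf (nat_lit 1659) (nat_lit 3) [nat_lit 2, nat_lit 3, nat_lit 0, nat_lit 1, nat_lit 0, nat_lit 3, nat_lit 2, nat_lit 3, nat_lit 0, nat_lit 1, nat_lit 0, nat_lit 3, nat_lit 2, nat_lit 3, nat_lit 0, nat_lit 1, nat_lit 0])) (.node (nat_lit 4082) (.leaf (nat_lit 1660) (nat_lit 0) [nat_lit 3, nat_lit 2, nat_lit 3, nat_lit 0, nat_lit 1, nat_lit 0, nat_lit 3, nat_lit 2, nat_lit 3, nat_lit 0, nat_lit 1, nat_lit 0, nat_lit 3, nat_lit 2, nat_lit 3, nat_lit 0, nat_lit 1]) (.leaf (nat_lit 1661) (nat_lit 1) [nat_lit 0, nat_lit 3, nat_lit 2, nat_lit 3, nat_lit 0, nat_lit 1, nat_lit 0, nat_lit 3, nat_lit 2, nat_lit 3, nat_lit 0, nat_lit 1, nat_lit 0, nat_lit 3, nat_lit 2, nat_lit 3, nat_lit 0]))) (.node (nat_lit 4085) (.node (nat_lit 4084) (.leaf (nat_lit 1656) (nat_lit 0) [nat_lit 1, nat_lit 0, nat_lit 3, nat_lit 2, nat_lit 3, nat_lit 0, nat_lit 1, nat_lit 0, nat_lit 3, nat_lit 2, nat_lit 3, nat_lit 0, nat_lit 1, nat_lit 0, nat_lit 3, nat_lit 2, nat_lit 3]) (.leaf (nat_lit 1657) (nat_lit 3) [nat_lit 0, nat_lit 1, nat_lit 0, nat_lit 3, nat_lit 2, nat_lit 3, nat_lit 0, nat_lit 1, nat_lit 0, nat_lit 3, nat_lit 2, nat_lit 3, nat_lit 0, nat_lit 1, nat_lit 0, nat_lit 3, nat_lit 2])) (.node (nat_lit 4086) (.leaf (nat_lit 1658) (nat_lit 2) [nat_lit 3, nat_lit 0, nat_lit 1, nat_lit 0, nat_lit 3, nat_lit 2, nat_lit 3, nat_lit 0, nat_lit 1, nat_lit 0, nat_lit 3, nat_lit 2, nat_lit 3, nat_lit 0, nat_lit 1, nat_lit 0, nat_lit 3]) (.node (nat_lit 4087) (.leaf (nat_lit 1658) (nat_lit 2) [nat_lit 3, nat_lit 0, nat_lit 1, nat_lit 0, nat_lit 3, nat_lit 2, nat_lit 3, nat_lit 0, nat_lit 1, nat_lit 0, nat_lit 3, nat_lit 2, nat_lit 3, nat_lit 0, nat_lit 1, nat_lit 0, nat_lit 3]) (.leaf (nat_lit 1659) (nat_lit 3) [nat_lit 2, nat_lit 3, nat_lit 0, nat_lit 1, nat_lit 0, nat_lit 3, nat_lit 2, nat_lit 3, nat_lit 0, nat_lit 1, nat_lit 0, nat_lit 3, nat_lit 2, nat_lit 3, nat_lit 0, nat_lit 1, nat_lit 0])))))) (.node (nat_lit 4097) (.node (nat_lit 4092) (.node (nat_lit 4090) (.node (nat_lit 4089) (.leaf (nat_lit 1660) (nat_lit 0) [nat_lit 3, nat_lit 2, nat_lit 3, nat_lit 0, nat_lit 1, nat_lit 0, nat_lit 3, nat_lit 2, nat_lit 3, nat_lit 0, nat_lit 1, nat_lit 0, nat_lit 3, nat_lit 2, nat_lit 3, nat_lit 0, nat_lit 1]) (.leaf (nat_lit 1661) (nat_lit 1) [nat_lit 0, nat_lit 3, nat_lit 2, nat_lit 3, nat_lit 0, nat_lit 1, nat_lit 0, nat_lit 3, nat_lit 2, nat_lit 3, nat_lit 0, nat_lit 1, nat_lit 0, nat_lit 3, nat_lit 2, nat_lit 3, nat_lit 0])) (.node (nat_lit 4091) (.leaf (nat_lit 1656) (nat_lit 0) [nat_lit 1, nat_lit 0, nat_lit 3, nat_lit 2, nat_lit 3, nat_lit 0, nat_lit 1, nat_lit 0, nat_lit 3, nat_lit 2, nat_lit 3, nat_lit 0, nat_lit 1, nat_lit 0, nat_lit 3, nat_lit 2, nat_lit 3]) (.leaf (nat_lit 1657) (nat_lit 3) [nat_lit 0, nat_lit 1, nat_lit 0, nat_lit 3, nat_lit 2, nat_lit 3, nat_lit 0, nat_lit 1, nat_lit 0, nat_lit 3, nat_lit 2, nat_lit 3, nat_lit 0, nat_lit 1, nat_lit 0, nat_lit 3, nat_lit 2]))) (.node (nat_lit 4094) (.node (nat_lit 4093) (.leaf (nat_lit 1658) (nat_lit 2) [nat_lit 3, nat_lit 0, nat_lit 1, nat_lit 0, nat_lit 3, nat_lit 2, nat_lit 3, nat_lit 0, nat_lit 1, nat_lit 0, nat_lit 3, nat_lit 2, nat_lit 3, nat_lit 0, nat_lit 1, nat_lit 0, nat_lit 3]) (.leaf (nat_lit 1659) (nat_lit 3) [nat_lit 2, nat_lit 3, nat_lit 0, nat_lit 1, nat_lit 0, nat_lit 3, nat_lit 2, nat_lit 3, nat_lit 0, nat_lit 1, nat_lit 0, nat_lit 3, nat_lit 2, nat_lit 3, nat_lit 0, nat_lit 1, nat_lit 0])) (.node (nat_lit 4095) (.leaf (nat_lit 1660) (nat_lit 0) [nat_lit 3, nat_lit 2, nat_lit 3, nat_lit 0, nat_lit 1, nat_lit 0, nat_lit 3, nat_lit 2, nat_lit 3, nat_lit 0, nat_lit 1, nat_lit 0, nat_lit 3, nat_lit 2, nat_lit 3, nat_lit 0, nat_lit 1]) (.node (nat_lit 4096) (.leaf (nat_lit 1661) (nat_lit 1) [nat_lit 0, nat_lit 3, nat_lit 2, nat_lit 3, nat_lit 0, nat_lit 1, nat_lit 0, nat_lit 3, nat_lit 2, nat_lit 3, nat_lit 0, nat_lit 1, nat_lit 0, nat_lit 3, nat_lit 2, nat_lit 3, nat_lit 0]) (.leaf (nat_lit 1656) (nat_lit 0) [nat_lit 1, nat_lit 0, nat_lit 3, nat_lit 2, nat_lit 3, nat_lit 0, nat_lit 1, nat_lit 0, nat_lit 3, nat_lit 2, nat_lit 3, nat_lit 0, nat_lit 1, nat_lit 0, nat_lit 3, nat_lit 2, nat_lit 3]))))) (.node (nat_lit 4102) (.node (nat_lit 4099) (.node (nat_lit 4098) (.leaf (nat_lit 1657) (nat_lit 3) [nat_lit 0, nat_lit 1, nat_lit 0, nat_lit 3, nat_lit 2, nat_lit 3, nat_lit 0, nat_lit 1, nat_lit 0, nat_lit 3, nat_lit 2, nat_lit 3, nat_lit 0, nat_lit 1, nat_lit 0, nat_lit 3, nat_lit 2]) (.leaf (nat_lit 1658) (nat_lit 2) [nat_lit 3, nat_lit 0, nat_lit 1, nat_lit 0, nat_lit 3, nat_lit 2, nat_lit 3, nat_lit 0, nat_lit 1, nat_lit 0, nat_lit 3, nat_lit 2, nat_lit 3, nat_lit 0, nat_lit 1, nat_lit 0, nat_lit 3])) (.node (nat_lit 4100) (.leaf (nat_lit 1659) (nat_lit 3) [nat_lit 2, nat_lit 3, nat_lit 0, nat_lit 1, nat_lit 0, nat_lit 3, nat_lit 2, nat_lit 3, nat_lit 0, nat_lit 1, nat_lit 0, nat_lit 3, nat_lit 2, nat_lit 3, nat_lit 0, nat_lit 1, nat_lit 0]) (.node (nat_lit 4101) (.leaf (nat_lit 1660) (nat_lit 0) [nat_lit 3, nat_lit 2, nat_lit 3, nat_lit 0, nat_lit 1, nat_lit 0, nat_lit 3, nat_lit 2, nat_lit 3, nat_lit 0, nat_lit 1, nat_lit 0, nat_lit 3, nat_lit 2, nat_lit 3, nat_lit 0, nat_lit 1]) (.leaf (nat_lit 1661) (nat_lit 1) [nat_lit 0, nat_lit 3, nat_lit 2, nat_lit 3, nat_lit 0, nat_lit 1, nat_lit 0, nat_lit 3, nat_lit 2, nat_lit 3, nat_lit 0, nat_lit 1, nat_lit 0, nat_lit 3, nat_lit 2, nat_lit 3, nat_lit 0])))) (.node (nat_lit 4104) (.node (nat_lit 4103) (.leaf (nat_lit 1656) (nat_lit 0) [nat_lit 1, nat_lit 0, nat_lit 3, nat_lit 2, nat_lit 3, nat_lit 0, nat_lit 1, nat_lit 0, nat_lit 3, nat_lit 2, nat_lit 3, nat_lit 0, nat_lit 1, nat_lit 0, nat_lit 3, nat_lit 2, nat_lit 3]) (.leaf (nat_lit 1657) (nat_lit 3) [nat_lit 0, nat_lit 1, nat_lit 0, nat_lit 3, nat_lit 2, nat_lit 3, nat_lit 0, nat_lit 1, nat_lit 0, nat_lit 3, nat_lit 2, nat_lit 3, nat_lit 0, nat_lit 1, nat_lit 0, nat_lit 3, nat_lit 2])) (.node (nat_lit 4105) (.leaf (nat_lit 1767) (nat_lit 3) [nat_lit 2, nat_lit 3, nat_lit 0, nat_lit 2, nat_lit 0, nat_lit 3, nat_lit 2, nat_lit 3, nat_lit 0, nat_lit 2, nat_lit 0, nat_lit 3, nat_lit 2, nat_lit 3, nat_lit 0, nat_lit 2, nat_lit 0]) (.node (nat_lit 4106) (.leaf (nat_lit 1768) (nat_lit 0) [nat_lit 3, nat_lit 2, nat_lit 3, nat_lit 0, nat_lit 2, nat_lit 0, nat_lit 3, nat_lit 2, nat_lit 3, nat_lit 0, nat_lit 2, nat_lit 0, nat_lit 3, nat_lit 2, nat_lit 3, nat_lit 0, nat_lit 2]) (.leaf (nat_lit 1769) (nat_lit 2) [nat_lit 0, nat_lit 3, nat_lit 2, nat_lit 3, nat_lit 0, nat_lit 2, nat_lit 0, nat_lit 3, nat_lit 2, nat_lit 3, nat_lit 0, nat_lit 2, nat_lit 0, nat_lit 3, nat_lit 2, nat_lit 3, nat_lit 0]))))))) (.node (nat_lit 4126) (.node (nat_lit 4116) (.node (nat_lit 4111) (.node (nat_lit 4109) (.node (nat_lit 4108) (.leaf (nat_lit 1764) (nat_lit 0) [nat_lit 2, nat_lit 0, nat_lit 3, nat_lit 2, nat_lit 3, nat_lit 0, nat_lit 2, nat_lit 0, nat_lit 3, nat_lit 2, nat_lit 3, nat_lit 0, nat_lit 2, nat_lit 0, nat_lit 3, nat_lit 2, nat_lit 3]) (.leaf (nat_lit 1765) (nat_lit 3) [nat_lit 0, nat_lit 2, nat_lit 0, nat_lit 3, nat_lit 2, nat_lit 3, nat_lit 0, nat_lit 2, nat_lit 0, nat_lit 3, nat_lit 2, nat_lit 3, nat_lit 0, nat_lit 2, nat_lit 0, nat_lit 3, nat_lit 2])) (.node (nat_lit 4110) (.leaf (nat_lit 1766) (nat_lit 2) [nat_lit 3, nat_lit 0, nat_lit 2, nat_lit 0, nat_lit 3, nat_lit 2, nat_lit 3, nat_lit 0, nat_lit 2, nat_lit 0, nat_lit 3, nat_lit 2, nat_lit 3, nat_lit 0, nat_lit 2, nat_lit 0, nat_lit 3]) (.leaf (nat_lit 1767) (nat_lit 3) [nat_lit 2, nat_lit 3, nat_lit 0, nat_lit 2, nat_lit 0, nat_lit 3, nat_lit 2, nat_lit 3, nat_lit 0, nat_lit 2, nat_lit 0, nat_lit 3, nat_lit 2, nat_lit 3, nat_lit 0, nat_lit 2, nat_lit 0]))) (.node (nat_lit 4113) (.node (nat_lit 4112) (.leaf (nat_lit 1768) (nat_lit 0) [nat_lit 3, nat_lit 2, nat_lit 3, nat_lit 0, nat_lit 2, nat_lit 0, nat_lit 3, nat_lit 2, nat_lit 3, nat_lit 0, nat_lit 2, nat_lit 0, nat_lit 3, nat_lit 2, nat_lit 3, nat_lit 0, nat_lit 2]) (.leaf (nat_lit 1769) (nat_lit 2) [nat_lit 0, nat_lit 3, nat_lit 2, nat_lit 3, nat_lit 0, nat_lit 2, nat_lit 0, nat_lit 3, nat_lit 2, nat_lit 3, nat_lit 0, nat_lit 2, nat_lit 0, nat_lit 3, nat_lit 2, nat_lit 3, nat_lit 0])) (.node (nat_lit 4114) (.leaf (nat_lit 1764) (nat_lit 0) [nat_lit 2, nat_lit 0, nat_lit 3, nat_lit 2, nat_lit 3, nat_lit 0, nat_lit 2, nat_lit 0, nat_lit 3, nat_lit 2, nat_lit 3, nat_lit 0, nat_lit 2, nat_lit 0, nat_lit 3, nat_lit 2, nat_lit 3]) (.node (nat_lit 4115) (.leaf (nat_lit 1765) (nat_lit 3) [nat_lit 0, nat_lit 2, nat_lit 0, nat_lit 3, nat_lit 2, nat_lit 3, nat_lit 0, nat_lit 2, nat_lit 0, nat_lit 3, nat_lit 2, nat_lit 3, nat_lit 0, nat_lit 2, nat_lit 0, nat_lit 3, nat_lit 2]) (.leaf (nat_lit 1766) (nat_lit 2) [nat_lit 3, nat_lit 0, nat_lit 2, nat_lit 0, nat_lit 3, nat_lit 2, nat_lit 3, nat_lit 0, nat_lit 2, nat_lit 0, nat_lit 3, nat_lit 2, nat_lit 3, nat_lit 0, nat_lit 2, nat_lit 0, nat_lit 3]))))) (.node (nat_lit 4121) (.node (nat_lit 4118) (.node (nat_lit 4117) (.leaf (nat_lit 1767) (nat_lit 3) [nat_lit 2, nat_lit 3, nat_lit 0, nat_lit 2, nat_lit 0, nat_lit 3, nat_lit 2, nat_lit 3, nat_lit 0, nat_lit 2, nat_lit 0, nat_lit 3, nat_lit 2, nat_lit 3, nat_lit 0, nat_lit 2, nat_lit 0]) (.leaf (nat_lit 1768) (nat_lit 0) [nat_lit 3, nat_lit 2, nat_lit 3, nat_lit 0, nat_lit 2, nat_lit 0, nat_lit 3, nat_lit 2, nat_lit 3, nat_lit 0, nat_lit 2, nat_lit 0, nat_lit 3, nat_lit 2, nat_lit 3, nat_lit 0, nat_lit 2])) (.node (nat_lit 4119) (.leaf (nat_lit 1769) (nat_lit 2) [nat_lit 0, nat_lit 3, nat_lit 2, nat_lit 3, nat_lit 0, nat_lit 2, nat_lit 0, nat_lit 3, nat_lit 2, nat_lit 3, nat_lit 0, nat_lit 2, nat_lit 0, nat_lit 3, nat_lit 2, nat_lit 3, nat_lit 0]) (.node (nat_lit 4120) (.leaf (nat_lit 1764) (nat_lit 0) [nat_lit 2, nat_lit 0, nat_lit 3, nat_lit 2, nat_lit 3, nat_lit 0, nat_lit 2, nat_lit 0, nat_lit 3, nat_lit 2, nat_lit 3, nat_lit 0, nat_lit 2, nat_lit 0, nat_lit 3, nat_lit 2, nat_lit 3]) (.leaf (nat_lit 1765) (nat_lit 3) [nat_lit 0, nat_lit 2, nat_lit 0, nat_lit 3, nat_lit 2, nat_lit 3, nat_lit 0, nat_lit 2, nat_lit 0, nat_lit 3, nat_lit 2, nat_lit 3, nat_lit 0, nat_lit 2, nat_lit 0, nat_lit 3, nat_lit 2])))) (.node (nat_lit 4123) (.node (nat_lit 4122) (.leaf (nat_lit 1766) (nat_lit 2) [nat_lit 3, nat_lit 0, nat_lit 2, nat_lit 0, nat_lit 3, nat_lit 2, nat_lit 3, nat_lit 0, nat_lit 2, nat_lit 0, nat_lit 3, nat_lit 2, nat_lit 3, nat_lit 0, nat_lit 2, nat_lit 0, nat_lit 3]) (.leaf (nat_lit 1766) (nat_lit 2) [nat_lit 3, nat_lit 0, nat_lit 2, nat_lit 0, nat_lit 3, nat_lit 2, nat_lit 3, nat_lit 0, nat_lit 2, nat_lit 0, nat_lit 3, nat_lit 2, nat_lit 3, nat_lit 0, nat_lit 2, nat_lit 0, nat_lit 3])) (.node (nat_lit 4124) (.leaf (nat_lit 1767) (nat_lit 3) [nat_lit 2, nat_lit 3, nat_lit 0, nat_lit 2, nat_lit 0, nat_lit 3, nat_lit 2, nat_lit 3, nat_lit 0, nat_lit 2, nat_lit 0, nat_lit 3, nat_lit 2, nat_lit 3, nat_lit 0, nat_lit 2, nat_lit 0]) (.node (nat_lit 4125) (.leaf (nat_lit 1768) (nat_lit 0) [nat_lit 3, nat_lit 2, nat_lit 3, nat_lit 0, nat_lit 2, nat_lit 0, nat_lit 3, nat_lit 2, nat_lit 3, nat_lit 0, nat_lit 2, nat_lit 0, nat_lit 3, nat_lit 2, nat_lit 3, nat_lit 0, nat_lit 2]) (.leaf (nat_lit 1769) (nat_lit 2) [nat_lit 0, nat_lit 3, nat_lit 2, nat_lit 3, nat_lit 0, nat_lit 2, nat_lit 0, nat_lit 3, nat_lit 2, nat_lit 3, nat_lit 0, nat_lit 2, nat_lit 0, nat_lit 3, nat_lit 2, nat_lit 3, nat_lit 0])))))) (.node (nat_lit 4135) (.node (nat_lit 4130) (.node (nat_lit 4128) (.node (nat_lit 4127) (.leaf (nat_lit 1764) (nat_lit 0) [nat_lit 2, nat_lit 0, nat_lit 3, nat_lit 2, nat_lit 3, nat_lit 0, nat_lit 2, nat_lit 0, nat_lit 3, nat_lit 2, nat_lit 3, nat_lit 0, nat_lit 2, nat_lit 0, nat_lit 3, nat_lit 2, nat_lit 3]) (.leaf (nat_lit 1765) (nat_lit 3) [nat_lit 0, nat_lit 2, nat_lit 0, nat_lit 3, nat_lit 2, nat_lit 3, nat_lit 0, nat_lit 2, nat_lit 0, nat_lit 3, nat_lit 2, nat_lit 3, nat_lit 0, nat_lit 2, nat_lit 0, nat_lit 3, nat_lit 2])) (.node (nat_lit 4129) (.leaf (nat_lit 1766) (nat_lit 2) [nat_lit 3, nat_lit 0, nat_lit 2, nat_lit 0, nat_lit 3, nat_lit 2, nat_lit 3, nat_lit 0, nat_lit 2, nat_lit 0, nat_lit 3, nat_lit 2, nat_lit 3, nat_lit 0, nat_lit 2, nat_lit 0, nat_lit 3]) (.leaf (nat_lit 1767) (nat_lit 3) [nat_lit 2, nat_lit 3, nat_lit 0, nat_lit 2, nat_lit 0, nat_lit 3, nat_lit 2, nat_lit 3, nat_lit 0, nat_lit 2, nat_lit 0, nat_lit 3, nat_lit 2, nat_lit 3, nat_lit 0, nat_lit 2, nat_lit 0]))) (.node (nat_lit 4132) (.node (nat_lit 4131) (.leaf (nat_lit 1768) (nat_lit 0) [nat_lit 3, nat_lit 2, nat_lit 3, nat_lit 0, nat_lit 2, nat_lit 0, nat_lit 3, nat_lit 2, nat_lit 3, nat_lit 0, nat_lit 2, nat_lit 0, nat_lit 3, nat_lit 2, nat_lit 3, nat_lit 0, nat_lit 2]) (.leaf (nat_lit 1769) (nat_lit 2) [nat_lit 0, nat_lit 3, nat_lit 2, nat_lit 3, nat_lit 0, nat_lit 2, nat_lit 0, nat_lit 3, nat_lit 2, nat_lit 3, nat_lit 0, nat_lit 2, nat_lit 0, nat_lit 3, nat_lit 2, nat_lit 3, nat_lit 0])) (.node (nat_lit 4133) (.leaf (nat_lit 1764) (nat_lit 0) [nat_lit 2, nat_lit 0, nat_lit 3, nat_lit 2, nat_lit 3, nat_lit 0, nat_lit 2, nat_lit 0, nat_lit 3, nat_lit 2, nat_lit 3, nat_lit 0, nat_lit 2, nat_lit 0, nat_lit 3, nat_lit 2, nat_lit 3]) (.node (nat_lit 4134) (.leaf (nat_lit 1765) (nat_lit 3) [nat_lit 0, nat_lit 2, nat_lit 0, nat_lit 3, nat_lit 2, nat_lit 3, nat_lit 0, nat_lit 2, nat_lit 0, nat_lit 3, nat_lit 2, nat_lit 3, nat_lit 0, nat_lit 2, nat_lit 0, nat_lit 3, nat_lit 2]) (.leaf (nat_lit 1766) (nat_lit 2) [nat_lit 3, nat_lit 0, nat_lit 2, nat_lit 0, nat_lit 3, nat_lit 2, nat_lit 3, nat_lit 0, nat_lit 2, nat_lit 0, nat_lit 3, nat_lit 2, nat_lit 3, nat_lit 0, nat_lit 2, nat_lit 0, nat_lit 3]))))) (.node (nat_lit 4140) (.node (nat_lit 4137) (.node (nat_lit 4136) (.leaf (nat_lit 1767) (nat_lit 3) [nat_lit 2, nat_lit 3, nat_lit 0, nat_lit 2, nat_lit 0, nat_lit 3, nat_lit 2, nat_lit 3, nat_lit 0, nat_lit 2, nat_lit 0, nat_lit 3, nat_lit 2, nat_lit 3, nat_lit 0, nat_lit 2, nat_lit 0]) (.leaf (nat_lit 1768) (nat_lit 0) [nat_lit 3, nat_lit 2, nat_lit 3, nat_lit 0, nat_lit 2, nat_lit 0, nat_lit 3, nat_lit 2, nat_lit 3, nat_lit 0, nat_lit 2, nat_lit 0, nat_lit 3, nat_lit 2, nat_lit 3, nat_lit 0, nat_lit 2])) (.node (nat_lit 4138) (.leaf (nat_lit 1769) (nat_lit 2) [nat_lit 0, nat_lit 3, nat_lit 2, nat_lit 3, nat_lit 0, nat_lit 2, nat_lit 0, nat_lit 3, nat_lit 2, nat_lit 3, nat_lit 0, nat_lit 2, nat_lit 0, nat_lit 3, nat_lit 2, nat_lit 3, nat_lit 0]) (.node (nat_lit 4139) (.leaf (nat_lit 1764) (nat_lit 0) [nat_lit 2, nat_lit 0, nat_lit 3, nat_lit 2, nat_lit 3, nat_lit 0, nat_lit 2, nat_lit 0, nat_lit 3, nat_lit 2, nat_lit 3, nat_lit 0, nat_lit 2, nat_lit 0, nat_lit 3, nat_lit 2, nat_lit 3]) (.leaf (nat_lit 1765) (nat_lit 3) [nat_lit 0, nat_lit 2, nat_lit 0, nat_lit 3, nat_lit 2, nat_lit 3, nat_lit 0, nat_lit 2, nat_lit 0, nat_lit 3, nat_lit 2, nat_lit 3, nat_lit 0, nat_lit 2, nat_lit 0, nat_lit 3, nat_lit 2])))) (.node (nat_lit 4142) (.node (nat_lit 4141) (.leaf (nat_lit 1875) (nat_lit 3) [nat_lit 2, nat_lit 3, nat_lit 0, nat_lit 3, nat_lit 0, nat_lit 3, nat_lit 2, nat_lit 3, nat_lit 0, nat_lit 3, nat_lit 0, nat_lit 3, nat_lit 2, nat_lit 3, nat_lit 0, nat_lit 3, nat_lit 0]) (.leaf (nat_lit 1876) (nat_lit 0) [nat_lit 3, nat_lit 2, nat_lit 3, nat_lit 0, nat_lit 3, nat_lit 0, nat_lit 3, nat_lit 2, nat_lit 3, nat_lit 0, nat_lit 3, nat_lit 0, nat_lit 3, nat_lit 2, nat_lit 3, nat_lit 0, nat_lit 3])) (.node (nat_lit 4143) (.leaf (nat_lit 1877) (nat_lit 3) [nat_lit 0, nat_lit 3, nat_lit 2, nat_lit 3, nat_lit 0, nat_lit 3, nat_lit 0, nat_lit 3, nat_lit 2, nat_lit 3, nat_lit 0, nat_lit 3, nat_lit 0, nat_lit 3, nat_lit 2, nat_lit 3, nat_lit 0]) (.node (nat_lit 4144) (.leaf (nat_lit 1872) (nat_lit 0) [nat_lit 3, nat_lit 0, nat_lit 3, nat_lit 2, nat_lit 3, nat_lit 0, nat_lit 3, nat_lit 0, nat_lit 3, nat_lit 2, nat_lit 3, nat_lit 0, nat_lit 3, nat_lit 0, nat_lit 3, nat_lit 2, nat_lit 3]) (.leaf (nat_lit 1873) (nat_lit 3) [nat_lit 0, nat_lit 3, nat_lit 0, nat_lit 3, nat_lit 2, nat_lit 3, nat_lit 0, nat_lit 3, nat_lit 0, nat_lit 3, nat_lit 2, nat_lit 3, nat_lit 0, nat_lit 3, nat_lit 0, nat_lit 3, nat_lit 2])))))))) (.node (nat_lit 4183) (.node (nat_lit 4164) (.node (nat_lit 4154) (.node (nat_lit 4149) (.node (nat_lit 4147) (.node (nat_lit 4146) (.leaf (nat_lit 1874) (nat_lit 2) [nat_lit 3, nat_lit 0, nat_lit 3, nat_lit 0, nat_lit 3, nat_lit 2, nat_lit 3, nat_lit 0, nat_lit 3, nat_lit 0, nat_lit 3, nat_lit 2, nat_lit 3, nat_lit 0, nat_lit 3, nat_lit 0, nat_lit 3]) (.leaf (nat_lit 1875) (nat_lit 3) [nat_lit 2, nat_lit 3, nat_lit 0, nat_lit 3, nat_lit 0, nat_lit 3, nat_lit 2, nat_lit 3, nat_lit 0, nat_lit 3, nat_lit 0, nat_lit 3, nat_lit 2, nat_lit 3, nat_lit 0, nat_lit 3, nat_lit 0])) (.node (nat_lit 4148) (.leaf (nat_lit 1876) (nat_lit 0) [nat_lit 3, nat_lit 2, nat_lit 3, nat_lit 0, nat_lit 3, nat_lit 0, nat_lit 3, nat_lit 2, nat_lit 3, nat_lit 0, nat_lit 3, nat_lit 0, nat_lit 3, nat_lit 2, nat_lit 3, nat_lit 0, nat_lit 3]) (.leaf (nat_lit 1877) (nat_lit 3) [nat_lit 0, nat_lit 3, nat_lit 2, nat_lit 3, nat_lit 0, nat_lit 3, nat_lit 0, nat_lit 3, nat_lit 2, nat_lit 3, nat_lit 0, nat_lit 3, nat_lit 0, nat_lit 3, nat_lit 2, nat_lit 3, nat_lit 0]))) (.node (nat_lit 4151) (.node (nat_lit 4150) (.leaf (nat_lit 1872) (nat_lit 0) [nat_lit 3, nat_lit 0, nat_lit 3, nat_lit 2, nat_lit 3, nat_lit 0, nat_lit 3, nat_lit 0, nat_lit 3, nat_lit 2, nat_lit 3, nat_lit 0, nat_lit 3, nat_lit 0, nat_lit 3, nat_lit 2, nat_lit 3]) (.leaf (nat_lit 1873) (nat_lit 3) [nat_lit 0, nat_lit 3, nat_lit 0, nat_lit 3, nat_lit 2, nat_lit 3, nat_lit 0, nat_lit 3, nat_lit 0, nat_lit 3, nat_lit 2, nat_lit 3, nat_lit 0, nat_lit 3, nat_lit 0, nat_lit 3, nat_lit 2])) (.node (nat_lit 4152) (.leaf (nat_lit 1874) (nat_lit 2) [nat_lit 3, nat_lit 0, nat_lit 3, nat_lit 0, nat_lit 3, nat_lit 2, nat_lit 3, nat_lit 0, nat_lit 3, nat_lit 0, nat_lit 3, nat_lit 2, nat_lit 3, nat_lit 0, nat_lit 3, nat_lit 0, nat_lit 3]) (.node (nat_lit 4153) (.leaf (nat_lit 1875) (nat_lit 3) [nat_lit 2, nat_lit 3, nat_lit 0, nat_lit 3, nat_lit 0, nat_lit 3, nat_lit 2, nat_lit 3, nat_lit 0, nat_lit 3, nat_lit 0, nat_lit 3, nat_lit 2, nat_lit 3, nat_lit 0, nat_lit 3, nat_lit 0]) (.leaf (nat_lit 1876) (nat_lit 0) [nat_lit 3, nat_lit 2, nat_lit 3, nat_lit 0, nat_lit 3, nat_lit 0, nat_lit 3, nat_lit 2, nat_lit 3, nat_lit 0, nat_lit 3, nat_lit 0, nat_lit 3, nat_lit 2, nat_lit 3, nat_lit 0, nat_lit 3]))))) (.node (nat_lit 4159) (.node (nat_lit 4156) (.node (nat_lit 4155) (.leaf (nat_lit 1877) (nat_lit 3) [nat_lit 0, nat_lit 3, nat_lit 2, nat_lit 3, nat_lit 0, nat_lit 3, nat_lit 0, nat_lit 3, nat_lit 2, nat_lit 3, nat_lit 0, nat_lit 3, nat_lit 0, nat_lit 3, nat_lit 2, nat_lit 3, nat_lit 0]) (.leaf (nat_lit 1872) (nat_lit 0) [nat_lit 3, nat_lit 0, nat_lit 3, nat_lit 2, nat_lit 3, nat_lit 0, nat_lit 3, nat_lit 0, nat_lit 3, nat_lit 2, nat_lit 3, nat_lit 0, nat_lit 3, nat_lit 0, nat_lit 3, nat_lit 2, nat_lit 3])) (.node (nat_lit 4157) (.leaf (nat_lit 1873) (nat_lit 3) [nat_lit 0, nat_lit 3, nat_lit 0, nat_lit 3, nat_lit 2, nat_lit 3, nat_lit 0, nat_lit 3, nat_lit 0, nat_lit 3, nat_lit 2, nat_lit 3, nat_lit 0, nat_lit 3, nat_lit 0, nat_lit 3, nat_lit 2]) (.node (nat_lit 4158) (.leaf (nat_lit 1874) (nat_lit 2) [nat_lit 3, nat_lit 0, nat_lit 3, nat_lit 0, nat_lit 3, nat_lit 2, nat_lit 3, nat_lit 0, nat_lit 3, nat_lit 0, nat_lit 3, nat_lit 2, nat_lit 3, nat_lit 0, nat_lit 3, nat_lit 0, nat_lit 3]) (.leaf (nat_lit 1874) (nat_lit 2) [nat_lit 3, nat_lit 0, nat_lit 3, nat_lit 0, nat_lit 3, nat_lit 2, nat_lit 3, nat_lit 0, nat_lit 3, nat_lit 0, nat_lit 3, nat_lit 2, nat_lit 3, nat_lit 0, nat_lit 3, nat_lit 0, nat_lit 3])))) (.node (nat_lit 4161) (.node (nat_lit 4160) (.leaf (nat_lit 1875) (nat_lit 3) [nat_lit 2, nat_lit 3, nat_lit 0, nat_lit 3, nat_lit 0, nat_lit 3, nat_lit 2, nat_lit 3, nat_lit 0, nat_lit 3, nat_lit 0, nat_lit 3, nat_lit 2, nat_lit 3, nat_lit 0, nat_lit 3, nat_lit 0]) (.leaf (nat_lit 1876) (nat_lit 0) [nat_lit 3, nat_lit 2, nat_lit 3, nat_lit 0, nat_lit 3, nat_lit 0, nat_lit 3, nat_lit 2, nat_lit 3, nat_lit 0, nat_lit 3, nat_lit 0, nat_lit 3, nat_lit 2, nat_lit 3, nat_lit 0, nat_lit 3])) (.node (nat_lit 4162) (.leaf (nat_lit 1877) (nat_lit 3) [nat_lit 0, nat_lit 3, nat_lit 2, nat_lit 3, nat_lit 0, nat_lit 3, nat_lit 0, nat_lit 3, nat_lit 2, nat_lit 3, nat_lit 0, nat_lit 3, nat_lit 0, nat_lit 3, nat_lit 2, nat_lit 3, nat_lit 0]) (.node (nat_lit 4163) (.leaf (nat_lit 1872) (nat_lit 0) [nat_lit 3, nat_lit 0, nat_lit 3, nat_lit 2, nat_lit 3, nat_lit 0, nat_lit 3, nat_lit 0, nat_lit 3, nat_lit 2, nat_lit 3, nat_lit 0, nat_lit 3, nat_lit 0, nat_lit 3, nat_lit 2, nat_lit 3]) (.leaf (nat_lit 1873) (nat_lit 3) [nat_lit 0, nat_lit 3, nat_lit 0, nat_lit 3, nat_lit 2, nat_lit 3, nat_lit 0, nat_lit 3, nat_lit 0, nat_lit 3, nat_lit 2, nat_lit 3, nat_lit 0, nat_lit 3, nat_lit 0, nat_lit 3, nat_lit 2])))))) (.node (nat_lit 4173) (.node (nat_lit 4168) (.node (nat_lit 4166) (.node (nat_lit 4165) (.leaf (nat_lit 1874) (nat_lit 2) [nat_lit 3, nat_lit 0, nat_lit 3, nat_lit 0, nat_lit 3, nat_lit 2, nat_lit 3, nat_lit 0, nat_lit 3, nat_lit 0, nat_lit 3, nat_lit 2, nat_lit 3, nat_lit 0, nat_lit 3, nat_lit 0, nat_lit 3]) (.leaf (nat_lit 1875) (nat_lit 3) [nat_lit 2, nat_lit 3, nat_lit 0, nat_lit 3, nat_lit 0, nat_lit 3, nat_lit 2, nat_lit 3, nat_lit 0, nat_lit 3, nat_lit 0, nat_lit 3, nat_lit 2, nat_lit 3, nat_lit 0, nat_lit 3, nat_lit 0])) (.node (nat_lit 4167) (.leaf (nat_lit 1876) (nat_lit 0) [nat_lit 3, nat_lit 2, nat_lit 3, nat_lit 0, nat_lit 3, nat_lit 0, nat_lit 3, nat_lit 2, nat_lit 3, nat_lit 0, nat_lit 3, nat_lit 0, nat_lit 3, nat_lit 2, nat_lit 3, nat_lit 0, nat_lit 3]) (.leaf (nat_lit 1877) (nat_lit 3) [nat_lit 0, nat_lit 3, nat_lit 2, nat_lit 3, nat_lit 0, nat_lit 3, nat_lit 0, nat_lit 3, nat_lit 2, nat_lit 3, nat_lit 0, nat_lit 3, nat_lit 0, nat_lit 3, nat_lit 2, nat_lit 3, nat_lit 0]))) (.node (nat_lit 4170) (.node (nat_lit 4169) (.leaf (nat_lit 1872) (nat_lit 0) [nat_lit 3, nat_lit 0, nat_lit 3, nat_lit 2, nat_lit 3, nat_lit 0, nat_lit 3, nat_lit 0, nat_lit 3, nat_lit 2, nat_lit 3, nat_lit 0, nat_lit 3, nat_lit 0, nat_lit 3, nat_lit 2, nat_lit 3]) (.leaf (nat_lit 1873) (nat_lit 3) [nat_lit 0, nat_lit 3, nat_lit 0, nat_lit 3, nat_lit 2, nat_lit 3, nat_lit 0, nat_lit 3, nat_lit 0, nat_lit 3, nat_lit 2, nat_lit 3, nat_lit 0, nat_lit 3, nat_lit 0, nat_lit 3, nat_lit 2])) (.node (nat_lit 4171) (.leaf (nat_lit 1874) (nat_lit 2) [nat_lit 3, nat_lit 0, nat_lit 3, nat_lit 0, nat_lit 3, nat_lit 2, nat_lit 3, nat_lit 0, nat_lit 3, nat_lit 0, nat_lit 3, nat_lit 2, nat_lit 3, nat_lit 0, nat_lit 3, nat_lit 0, nat_lit 3]) (.node (nat_lit 4172) (.leaf (nat_lit 1875) (nat_lit 3) [nat_lit 2, nat_lit 3, nat_lit 0, nat_lit 3, nat_lit 0, nat_lit 3, nat_lit 2, nat_lit 3, nat_lit 0, nat_lit 3, nat_lit 0, nat_lit 3, nat_lit 2, nat_lit 3, nat_lit 0, nat_lit 3, nat_lit 0]) (.leaf (nat_lit 1876) (nat_lit 0) [nat_lit 3, nat_lit 2, nat_lit 3, nat_lit 0, nat_lit 3, nat_lit 0, nat_lit 3, nat_lit 2, nat_lit 3, nat_lit 0, nat_lit 3, nat_lit 0, nat_lit 3, nat_lit 2, nat_lit 3, nat_lit 0, nat_lit 3]))))) (.node (nat_lit 4178) (.node (nat_lit 4175) (.node (nat_lit 4174) (.leaf (nat_lit 1877) (nat_lit 3) [nat_lit 0, nat_lit 3, nat_lit 2, nat_lit 3, nat_lit 0, nat_lit 3, nat_lit 0, nat_lit 3, nat_lit 2, nat_lit 3, nat_lit 0, nat_lit 3, nat_lit 0, nat_lit 3, nat_lit 2, nat_lit 3, nat_lit 0]) (.leaf (nat_lit 1872) (nat_lit 0) [nat_lit 3, nat_lit 0, nat_lit 3, nat_lit 2, nat_lit 3, nat_lit 0, nat_lit 3, nat_lit 0, nat_lit 3, nat_lit 2, nat_lit 3, nat_lit 0, nat_lit 3, nat_lit 0, nat_lit 3, nat_lit 2, nat_lit 3])) (.node (nat_lit 4176) (.leaf (nat_lit 1873) (nat_lit 3) [nat_lit 0, nat_lit 3, nat_lit 0, nat_lit 3, nat_lit 2, nat_lit 3, nat_lit 0, nat_lit 3, nat_lit 0, nat_lit 3, nat_lit 2, nat_lit 3, nat_lit 0, nat_lit 3, nat_lit 0, nat_lit 3, nat_lit 2]) (.node (nat_lit 4177) (.leaf (nat_lit 2559) (nat_lit 3) [nat_lit 0, nat_lit 3, nat_lit 1, nat_lit 0, nat_lit 1, nat_lit 3, nat_lit 0, nat_lit 3, nat_lit 1, nat_lit 0, nat_lit 1, nat_lit 3, nat_lit 0, nat_lit 3, nat_lit 1, nat_lit 0, nat_lit 1]) (.leaf (nat_lit 2560) (nat_lit 1) [nat_lit 3, nat_lit 0, nat_lit 3, nat_lit 1, nat_lit 0, nat_lit 1, nat_lit 3, nat_lit 0, nat_lit 3, nat_lit 1, nat_lit 0, nat_lit 1, nat_lit 3, nat_lit 0, nat_lit 3, nat_lit 1, nat_lit 0])))) (.node (nat_lit 4180) (.node (nat_lit 4179) (.leaf (nat_lit 2561) (nat_lit 0) [nat_lit 1, nat_lit 3, nat_lit 0, nat_lit 3, nat_lit 1, nat_lit 0, nat_lit 1, nat_lit 3, nat_lit 0, nat_lit 3, nat_lit 1, nat_lit 0, nat_lit 1, nat_lit 3, nat_lit 0, nat_lit 3, nat_lit 1]) (.leaf (nat_lit 2556) (nat_lit 1) [nat_lit 0, nat_lit 1, nat_lit 3, nat_lit 0, nat_lit 3, nat_lit 1, nat_lit 0, nat_lit 1, nat_lit 3, nat_lit 0, nat_lit 3, nat_lit 1, nat_lit 0, nat_lit 1, nat_lit 3, nat_lit 0, nat_lit 3])) (.node (nat_lit 4181) (.leaf (nat_lit 2557) (nat_lit 3) [nat_lit 1, nat_lit 0, nat_lit 1, nat_lit 3, nat_lit 0, nat_lit 3, nat_lit 1, nat_lit 0, nat_lit 1, nat_lit 3, nat_lit 0, nat_lit 3, nat_lit 1, nat_lit 0, nat_lit 1, nat_lit 3, nat_lit 0]) (.node (nat_lit 4182) (.leaf (nat_lit 2558) (nat_lit 0) [nat_lit 3, nat_lit 1, nat_lit 0, nat_lit 1, nat_lit 3, nat_lit 0, nat_lit 3, nat_lit 1, nat_lit 0, nat_lit 1, nat_lit 3, nat_lit 0, nat_lit 3, nat_lit 1, nat_lit 0, nat_lit 1, nat_lit 3]) (.leaf (nat_lit 2559) (nat_lit 3) [nat_lit 0, nat_lit 3, nat_lit 1, nat_lit 0, nat_lit 1, nat_lit 3, nat_lit 0, nat_lit 3, nat_lit 1, nat_lit 0, nat_lit 1, nat_lit 3, nat_lit 0, nat_lit 3, nat_lit 1, nat_lit 0, nat_lit 1]))))))) (.node (nat_lit 4202) (.node (nat_lit 4192) (.node (nat_lit 4187) (.node (nat_lit 4185) (.node (nat_lit 4184) (.leaf (nat_lit 2560) (nat_lit 1) [nat_lit 3, nat_lit 0, nat_lit 3, nat_lit 1, nat_lit 0, nat_lit 1, nat_lit 3, nat_lit 0, nat_lit 3, nat_lit 1, nat_lit 0, nat_lit 1, nat_lit 3, nat_lit 0, nat_lit 3, nat_lit 1, nat_lit 0]) (.leaf (nat_lit 2561) (nat_lit 0) [nat_lit 1, nat_lit 3, nat_lit 0, nat_lit 3, nat_lit 1, nat_lit 0, nat_lit 1, nat_lit 3, nat_lit 0, nat_lit 3, nat_lit 1, nat_lit 0, nat_lit 1, nat_lit 3, nat_lit 0, nat_lit 3, nat_lit 1])) (.node (nat_lit 4186) (.leaf (nat_lit 2556) (nat_lit 1) [nat_lit 0, nat_lit 1, nat_lit 3, nat_lit 0, nat_lit 3, nat_lit 1, nat_lit 0, nat_lit 1, nat_lit 3, nat_lit 0, nat_lit 3, nat_lit 1, nat_lit 0, nat_lit 1, nat_lit 3, nat_lit 0, nat_lit 3]) (.leaf (nat_lit 2557) (nat_lit 3) [nat_lit 1, nat_lit 0, nat_lit 1, nat_lit 3, nat_lit 0, nat_lit 3, nat_lit 1, nat_lit 0, nat_lit 1, nat_lit 3, nat_lit 0, nat_lit 3, nat_lit 1, nat_lit 0, nat_lit 1, nat_lit 3, nat_lit 0]))) (.node (nat_lit 4189) (.node (nat_lit 4188) (.leaf (nat_lit 2558) (nat_lit 0) [nat_lit 3, nat_lit 1, nat_lit 0, nat_lit 1, nat_lit 3, nat_lit 0, nat_lit 3, nat_lit 1, nat_lit 0, nat_lit 1, nat_lit 3, nat_lit 0, nat_lit 3, nat_lit 1, nat_lit 0, nat_lit 1, nat_lit 3]) (.leaf (nat_lit 2559) (nat_lit 3) [nat_lit 0, nat_lit 3, nat_lit 1, nat_lit 0, nat_lit 1, nat_lit 3, nat_lit 0, nat_lit 3, nat_lit 1, nat_lit 0, nat_lit 1, nat_lit 3, nat_lit 0, nat_lit 3, nat_lit 1, nat_lit 0, nat_lit 1])) (.node (nat_lit 4190) (.leaf (nat_lit 2560) (nat_lit 1) [nat_lit 3, nat_lit 0, nat_lit 3, nat_lit 1, nat_lit 0, nat_lit 1, nat_lit 3, nat_lit 0, nat_lit 3, nat_lit 1, nat_lit 0, nat_lit 1, nat_lit 3, nat_lit 0, nat_lit 3, nat_lit 1, nat_lit 0]) (.node (nat_lit 4191) (.leaf (nat_lit 2561) (nat_lit 0) [nat_lit 1, nat_lit 3, nat_lit 0, nat_lit 3, nat_lit 1, nat_lit 0, nat_lit 1, nat_lit 3, nat_lit 0, nat_lit 3, nat_lit 1, nat_lit 0, nat_lit 1, nat_lit 3, nat_lit 0, nat_lit 3, nat_lit 1]) (.leaf (nat_lit 2556) (nat_lit 1) [nat_lit 0, nat_lit 1, nat_lit 3, nat_lit 0, nat_lit 3, nat_lit 1, nat_lit 0, nat_lit 1, nat_lit 3, nat_lit 0, nat_lit 3, nat_lit 1, nat_lit 0, nat_lit 1, nat_lit 3, nat_lit 0, nat_lit 3]))))) (.node (nat_lit 4197) (.node (nat_lit 4194) (.node (nat_lit 4193) (.leaf (nat_lit 2557) (nat_lit 3) [nat_lit 1, nat_lit 0, nat_lit 1, nat_lit 3, nat_lit 0, nat_lit 3, nat_lit 1, nat_lit 0, nat_lit 1, nat_lit 3, nat_lit 0, nat_lit 3, nat_lit 1, nat_lit 0, nat_lit 1, nat_lit 3, nat_lit 0]) (.leaf (nat_lit 2558) (nat_lit 0) [nat_lit 3, nat_lit 1, nat_lit 0, nat_lit 1, nat_lit 3, nat_lit 0, nat_lit 3, nat_lit 1, nat_lit 0, nat_lit 1, nat_lit 3, nat_lit 0, nat_lit 3, nat_lit 1, nat_lit 0, nat_lit 1, nat_lit 3])) (.node (nat_lit 4195) (.leaf (nat_lit 2558) (nat_lit 0) [nat_lit 3, nat_lit 1, nat_lit 0, nat_lit 1, nat_lit 3, nat_lit 0, nat_lit 3, nat_lit 1, nat_lit 0, nat_lit 1, nat_lit 3, nat_lit 0, nat_lit 3, nat_lit 1, nat_lit 0, nat_lit 1, nat_lit 3]) (.node (nat_lit 4196) (.leaf (nat_lit 2559) (nat_lit 3) [nat_lit 0, nat_lit 3, nat_lit 1, nat_lit 0, nat_lit 1, nat_lit 3, nat_lit 0, nat_lit 3, nat_lit 1, nat_lit 0, nat_lit 1, nat_lit 3, nat_lit 0, nat_lit 3, nat_lit 1, nat_lit 0, nat_lit 1]) (.leaf (nat_lit 2560) (nat_lit 1) [nat_lit 3, nat_lit 0, nat_lit 3, nat_lit 1, nat_lit 0, nat_lit 1, nat_lit 3, nat_lit 0, nat_lit 3, nat_lit 1, nat_lit 0, nat_lit 1, nat_lit 3, nat_lit 0, nat_lit 3, nat_lit 1, nat_lit 0])))) (.node (nat_lit 4199) (.node (nat_lit 4198) (.leaf (nat_lit 2561) (nat_lit 0) [nat_lit 1, nat_lit 3, nat_lit 0, nat_lit 3, nat_lit 1, nat_lit 0, nat_lit 1, nat_lit 3, nat_lit 0, nat_lit 3, nat_lit 1, nat_lit 0, nat_lit 1, nat_lit 3, nat_lit 0, nat_lit 3, nat_lit 1]) (.leaf (nat_lit 2556) (nat_lit 1) [nat_lit 0, nat_lit 1, nat_lit 3, nat_lit 0, nat_lit 3, nat_lit 1, nat_lit 0, nat_lit 1, nat_lit 3, nat_lit 0, nat_lit 3, nat_lit 1, nat_lit 0, nat_lit 1, nat_lit 3, nat_lit 0, nat_lit 3])) (.node (nat_lit 4200) (.leaf (nat_lit 2557) (nat_lit 3) [nat_lit 1, nat_lit 0, nat_lit 1, nat_lit 3, nat_lit 0, nat_lit 3, nat_lit 1, nat_lit 0, nat_lit 1, nat_lit 3, nat_lit 0, nat_lit 3, nat_lit 1, nat_lit 0, nat_lit 1, nat_lit 3, nat_lit 0]) (.node (nat_lit 4201) (.leaf (nat_lit 2558) (nat_lit 0) [nat_lit 3, nat_lit 1, nat_lit 0, nat_lit 1, nat_lit 3, nat_lit 0, nat_lit 3, nat_lit 1, nat_lit 0, nat_lit 1, nat_lit 3, nat_lit 0, nat_lit 3, nat_lit 1, nat_lit 0, nat_lit 1, nat_lit 3]) (.leaf (nat_lit 2559) (nat_lit 3) [nat_lit 0, nat_lit 3, nat_lit 1, nat_lit 0, nat_lit 1, nat_lit 3, nat_lit 0, nat_lit 3, nat_lit 1, nat_lit 0, nat_lit 1, nat_lit 3, nat_lit 0, nat_lit 3, nat_lit 1, nat_lit 0, nat_lit 1])))))) (.node (nat_lit 4211) (.node (nat_lit 4206) (.node (nat_lit 4204) (.node (nat_lit 4203) (.leaf (nat_lit 2560) (nat_lit 1) [nat_lit 3, nat_lit 0, nat_lit 3, nat_lit 1, nat_lit 0, nat_lit 1, nat_lit 3, nat_lit 0, nat_lit 3, nat_lit 1, nat_lit 0, nat_lit 1, nat_lit 3, nat_lit 0, nat_lit 3, nat_lit 1, nat_lit 0]) (.leaf (nat_lit 2561) (nat_lit 0) [nat_lit 1, nat_lit 3, nat_lit 0, nat_lit 3, nat_lit 1, nat_lit 0, nat_lit 1, nat_lit 3, nat_lit 0, nat_lit 3, nat_lit 1, nat_lit 0, nat_lit 1, nat_lit 3, nat_lit 0, nat_lit 3, nat_lit 1])) (.node (nat_lit 4205) (.leaf (nat_lit 2556) (nat_lit 1) [nat_lit 0, nat_lit 1, nat_lit 3, nat_lit 0, nat_lit 3, nat_lit 1, nat_lit 0, nat_lit 1, nat_lit 3, nat_lit 0, nat_lit 3, nat_lit 1, nat_lit 0, nat_lit 1, nat_lit 3, nat_lit 0, nat_lit 3]) (.leaf (nat_lit 2557) (nat_lit 3) [nat_lit 1, nat_lit 0, nat_lit 1, nat_lit 3, nat_lit 0, nat_lit 3, nat_lit 1, nat_lit 0, nat_lit 1, nat_lit 3, nat_lit 0, nat_lit 3, nat_lit 1, nat_lit 0, nat_lit 1, nat_lit 3, nat_lit 0]))) (.node (nat_lit 4208) (.node (nat_lit 4207) (.leaf (nat_lit 2558) (nat_lit 0) [nat_lit 3, nat_lit 1, nat_lit 0, nat_lit 1, nat_lit 3, nat_lit 0, nat_lit 3, nat_lit 1, nat_lit 0, nat_lit 1, nat_lit 3, nat_lit 0, nat_lit 3, nat_lit 1, nat_lit 0, nat_lit 1, nat_lit 3]) (.leaf (nat_lit 2559) (nat_lit 3) [nat_lit 0, nat_lit 3, nat_lit 1, nat_lit 0, nat_lit 1, nat_lit 3, nat_lit 0, nat_lit 3, nat_lit 1, nat_lit 0, nat_lit 1, nat_lit 3, nat_lit 0, nat_lit 3, nat_lit 1, nat_lit 0, nat_lit 1])) (.node (nat_lit 4209) (.leaf (nat_lit 2560) (nat_lit 1) [nat_lit 3, nat_lit 0, nat_lit 3, nat_lit 1, nat_lit 0, nat_lit 1, nat_lit 3, nat_lit 0, nat_lit 3, nat_lit 1, nat_lit 0, nat_lit 1, nat_lit 3, nat_lit 0, nat_lit 3, nat_lit 1, nat_lit 0]) (.node (nat_lit 4210) (.leaf (nat_lit 2561) (nat_lit 0) [nat_lit 1, nat_lit 3, nat_lit 0, nat_lit 3, nat_lit 1, nat_lit 0, nat_lit 1, nat_lit 3, nat_lit 0, nat_lit 3, nat_lit 1, nat_lit 0, nat_lit 1, nat_lit 3, nat_lit 0, nat_lit 3, nat_lit 1]) (.leaf (nat_lit 2556) (nat_lit 1) [nat_lit 0, nat_lit 1, nat_lit 3, nat_lit 0, nat_lit 3, nat_lit 1, nat_lit 0, nat_lit 1, nat_lit 3, nat_lit 0, nat_lit 3, nat_lit 1, nat_lit 0, nat_lit 1, nat_lit 3, nat_lit 0, nat_lit 3]))))) (.node (nat_lit 4216) (.node (nat_lit 4213) (.node (nat_lit 4212) (.leaf (nat_lit 2557) (nat_lit 3) [nat_lit 1, nat_lit 0, nat_lit 1, nat_lit 3, nat_lit 0, nat_lit 3, nat_lit 1, nat_lit 0, nat_lit 1, nat_lit 3, nat_lit 0, nat_lit 3, nat_lit 1, nat_lit 0, nat_lit 1, nat_lit 3, nat_lit 0]) (.leaf (nat_lit 2667) (nat_lit 3) [nat_lit 0, nat_lit 3, nat_lit 1, nat_lit 2, nat_lit 1, nat_lit 3, nat_lit 0, nat_lit 3, nat_lit 1, nat_lit 2, nat_lit 1, nat_lit 3, nat_lit 0, nat_lit 3, nat_lit 1, nat_lit 2, nat_lit 1])) (.node (nat_lit 4214) (.leaf (nat_lit 2668) (nat_lit 1) [nat_lit 3, nat_lit 0, nat_lit 3, nat_lit 1, nat_lit 2, nat_lit 1, nat_lit 3, nat_lit 0, nat_lit 3, nat_lit 1, nat_lit 2, nat_lit 1, nat_lit 3, nat_lit 0, nat_lit 3, nat_lit 1, nat_lit 2]) (.node (nat_lit 4215) (.leaf (nat_lit 2669) (nat_lit 2) [nat_lit 1, nat_lit 3, nat_lit 0, nat_lit 3, nat_lit 1, nat_lit 2, nat_lit 1, nat_lit 3, nat_lit 0, nat_lit 3, nat_lit 1, nat_lit 2, nat_lit 1, nat_lit 3, nat_lit 0, nat_lit 3, nat_lit 1]) (.leaf (nat_lit 2664) (nat_lit 1) [nat_lit 2, nat_lit 1, nat_lit 3, nat_lit 0, nat_lit 3, nat_lit 1, nat_lit 2, nat_lit 1, nat_lit 3, nat_lit 0, nat_lit 3, nat_lit 1, nat_lit 2, nat_lit 1, nat_lit 3, nat_lit 0, nat_lit 3])))) (.node (nat_lit 4218) (.node (nat_lit 4217) (.leaf (nat_lit 2665) (nat_lit 3) [nat_lit 1, nat_lit 2, nat_lit 1, nat_lit 3, nat_lit 0, nat_lit 3, nat_lit 1, nat_lit 2, nat_lit 1, nat_lit 3, nat_lit 0, nat_lit 3, nat_lit 1, nat_lit 2, nat_lit 1, nat_lit 3, nat_lit 0]) (.leaf (nat_lit 2666) (nat_lit 0) [nat_lit 3, nat_lit 1, nat_lit 2, nat_lit 1, nat_lit 3, nat_lit 0, nat_lit 3, nat_lit 1, nat_lit 2, nat_lit 1, nat_lit 3, nat_lit 0, nat_lit 3, nat_lit 1, nat_lit 2, nat_lit 1, nat_lit 3])) (.node (nat_lit 4219) (.leaf (nat_lit 2667) (nat_lit 3) [nat_lit 0, nat_lit 3, nat_lit 1, nat_lit 2, nat_lit 1, nat_lit 3, nat_lit 0, nat_lit 3, nat_lit 1, nat_lit 2, nat_lit 1, nat_lit 3, nat_lit 0, nat_lit 3, nat_lit 1, nat_lit 2, nat_lit 1]) (.node (nat_lit 4220) (.leaf (nat_lit 2668) (nat_lit 1) [nat_lit 3, nat_lit 0, nat_lit 3, nat_lit 1, nat_lit 2, nat_lit 1, nat_lit 3, nat_lit 0, nat_lit 3, nat_lit 1, nat_lit 2, nat_lit 1, nat_lit 3, nat_lit 0, nat_lit 3, nat_lit 1, nat_lit 2]) (.leaf (nat_lit 2669) (nat_lit 2) [nat_lit 1, nat_lit 3, nat_lit 0, nat_lit 3, nat_lit 1, nat_lit 2, nat_lit 1, nat_lit 3, nat_lit 0, nat_lit 3, nat_lit 1, nat_lit 2, nat_lit 1, nat_lit 3, nat_lit 0, nat_lit 3, nat_lit 1]))))))))))) (.node (nat_lit 4522) (.node (nat_lit 4371) (.node (nat_lit 4296) (.node (nat_lit 4258) (.node (nat_lit 4239) (.node (nat_lit 4230) (.node (nat_lit 4225) (.node (nat_lit 4223) (.node (nat_lit 4222) (.leaf (nat_lit 2664) (nat_lit 1) [nat_lit 2, nat_lit 1, nat_lit 3, nat_lit 0, nat_lit 3, nat_lit 1, nat_lit 2, nat_lit 1, nat_lit 3, nat_lit 0, nat_lit 3, nat_lit 1, nat_lit 2, nat_lit 1, nat_lit 3, nat_lit 0, nat_lit 3]) (.leaf (nat_lit 2665) (nat_lit 3) [nat_lit 1, nat_lit 2, nat_lit 1, nat_lit 3, nat_lit 0, nat_lit 3, nat_lit 1, nat_lit 2, nat_lit 1, nat_lit 3, nat_lit 0, nat_lit 3, nat_lit 1, nat_lit 2, nat_lit 1, nat_lit 3, nat_lit 0])) (.node (nat_lit 4224) (.leaf (nat_lit 2666) (nat_lit 0) [nat_lit 3, nat_lit 1, nat_lit 2, nat_lit 1, nat_lit 3, nat_lit 0, nat_lit 3, nat_lit 1, nat_lit 2, nat_lit 1, nat_lit 3, nat_lit 0, nat_lit 3, nat_lit 1, nat_lit 2, nat_lit 1, nat_lit 3]) (.leaf (nat_lit 2667) (nat_lit 3) [nat_lit 0, nat_lit 3, nat_lit 1, nat_lit 2, nat_lit 1, nat_lit 3, nat_lit 0, nat_lit 3, nat_lit 1, nat_lit 2, nat_lit 1, nat_lit 3, nat_lit 0, nat_lit 3, nat_lit 1, nat_lit 2, nat_lit 1]))) (.node (nat_lit 4227) (.node (nat_lit 4226) (.leaf (nat_lit 2668) (nat_lit 1) [nat_lit 3, nat_lit 0, nat_lit 3, nat_lit 1, nat_lit 2, nat_lit 1, nat_lit 3, nat_lit 0, nat_lit 3, nat_lit 1, nat_lit 2, nat_lit 1, nat_lit 3, nat_lit 0, nat_lit 3, nat_lit 1, nat_lit 2]) (.leaf (nat_lit 2669) (nat_lit 2) [nat_lit 1, nat_lit 3, nat_lit 0, nat_lit 3, nat_lit 1, nat_lit 2, nat_lit 1, nat_lit 3, nat_lit 0, nat_lit 3, nat_lit 1, nat_lit 2, nat_lit 1, nat_lit 3, nat_lit 0, nat_lit 3, nat_lit 1])) (.node (nat_lit 4228) (.leaf (nat_lit 2664) (nat_lit 1) [nat_lit 2, nat_lit 1, nat_lit 3, nat_lit 0, nat_lit 3, nat_lit 1, nat_lit 2, nat_lit 1, nat_lit 3, nat_lit 0, nat_lit 3, nat_lit 1, nat_lit 2, nat_lit 1, nat_lit 3, nat_lit 0, nat_lit 3]) (.node (nat_lit 4229) (.leaf (nat_lit 2665) (nat_lit 3) [nat_lit 1, nat_lit 2, nat_lit 1, nat_lit 3, nat_lit 0, nat_lit 3, nat_lit 1, nat_lit 2, nat_lit 1, nat_lit 3, nat_lit 0, nat_lit 3, nat_lit 1, nat_lit 2, nat_lit 1, nat_lit 3, nat_lit 0]) (.leaf (nat_lit 2666) (nat_lit 0) [nat_lit 3, nat_lit 1, nat_lit 2, nat_lit 1, nat_lit 3, nat_lit 0, nat_lit 3, nat_lit 1, nat_lit 2, nat_lit 1, nat_lit 3, nat_lit 0, nat_lit 3, nat_lit 1, nat_lit 2, nat_lit 1, nat_lit 3]))))) (.node (nat_lit 4234) (.node (nat_lit 4232) (.node (nat_lit 4231) (.leaf (nat_lit 2666) (nat_lit 0) [nat_lit 3, nat_lit 1, nat_lit 2, nat_lit 1, nat_lit 3, nat_lit 0, nat_lit 3, nat_lit 1, nat_lit 2, nat_lit 1, nat_lit 3, nat_lit 0, nat_lit 3, nat_lit 1, nat_lit 2, nat_lit 1, nat_lit 3]) (.leaf (nat_lit 2667) (nat_lit 3) [nat_lit 0, nat_lit 3, nat_lit 1, nat_lit 2, nat_lit 1, nat_lit 3, nat_lit 0, nat_lit 3, nat_lit 1, nat_lit 2, nat_lit 1, nat_lit 3, nat_lit 0, nat_lit 3, nat_lit 1, nat_lit 2, nat_lit 1])) (.node (nat_lit 4233) (.leaf (nat_lit 2668) (nat_lit 1) [nat_lit 3, nat_lit 0, nat_lit 3, nat_lit 1, nat_lit 2, nat_lit 1, nat_lit 3, nat_lit 0, nat_lit 3, nat_lit 1, nat_lit 2, nat_lit 1, nat_lit 3, nat_lit 0, nat_lit 3, nat_lit 1, nat_lit 2]) (.leaf (nat_lit 2669) (nat_lit 2) [nat_lit 1, nat_lit 3, nat_lit 0, nat_lit 3, nat_lit 1, nat_lit 2, nat_lit 1, nat_lit 3, nat_lit 0, nat_lit 3, nat_lit 1, nat_lit 2, nat_lit 1, nat_lit 3, nat_lit 0, nat_lit 3, nat_lit 1]))) (.node (nat_lit 4236) (.node (nat_lit 4235) (.leaf (nat_lit 2664) (nat_lit 1) [nat_lit 2, nat_lit 1, nat_lit 3, nat_lit 0, nat_lit 3, nat_lit 1, nat_lit 2, nat_lit 1, nat_lit 3, nat_lit 0, nat_lit 3, nat_lit 1, nat_lit 2, nat_lit 1, nat_lit 3, nat_lit 0, nat_lit 3]) (.leaf (nat_lit 2665) (nat_lit 3) [nat_lit 1, nat_lit 2, nat_lit 1, nat_lit 3, nat_lit 0, nat_lit 3, nat_lit 1, nat_lit 2, nat_lit 1, nat_lit 3, nat_lit 0, nat_lit 3, nat_lit 1, nat_lit 2, nat_lit 1, nat_lit 3, nat_lit 0])) (.node (nat_lit 4237) (.leaf (nat_lit 2666) (nat_lit 0) [nat_lit 3, nat_lit 1, nat_lit 2, nat_lit 1, nat_lit 3, nat_lit 0, nat_lit 3, nat_lit 1, nat_lit 2, nat_lit 1, nat_lit 3, nat_lit 0, nat_lit 3, nat_lit 1, nat_lit 2, nat_lit 1, nat_lit 3]) (.node (nat_lit 4238) (.leaf (nat_lit 2667) (nat_lit 3) [nat_lit 0, nat_lit 3, nat_lit 1, nat_lit 2, nat_lit 1, nat_lit 3, nat_lit 0, nat_lit 3, nat_lit 1, nat_lit 2, nat_lit 1, nat_lit 3, nat_lit 0, nat_lit 3, nat_lit 1, nat_lit 2, nat_lit 1]) (.leaf (nat_lit 2668) (nat_lit 1) [nat_lit 3, nat_lit 0, nat_lit 3, nat_lit 1, nat_lit 2, nat_lit 1, nat_lit 3, nat_lit 0, nat_lit 3, nat_lit 1, nat_lit 2, nat_lit 1, nat_lit 3, nat_lit 0, nat_lit 3, nat_lit 1, nat_lit 2])))))) (.node (nat_lit 4248) (.node (nat_lit 4243) (.node (nat_lit 4241) (.node (nat_lit 4240) (.leaf (nat_lit 2669) (nat_lit 2) [nat_lit 1, nat_lit 3, nat_lit 0, nat_lit 3, nat_lit 1, nat_lit 2, nat_lit 1, nat_lit 3, nat_lit 0, nat_lit 3, nat_lit 1, nat_lit 2, nat_lit 1, nat_lit 3, nat_lit 0, nat_lit 3, nat_lit 1]) (.leaf (nat_lit 2664) (nat_lit 1) [nat_lit 2, nat_lit 1, nat_lit 3, nat_lit 0, nat_lit 3, nat_lit 1, nat_lit 2, nat_lit 1, nat_lit 3, nat_lit 0, nat_lit 3, nat_lit 1, nat_lit 2, nat_lit 1, nat_lit 3, nat_lit 0, nat_lit 3])) (.node (nat_lit 4242) (.leaf (nat_lit 2665) (nat_lit 3) [nat_lit 1, nat_lit 2, nat_lit 1, nat_lit 3, nat_lit 0, nat_lit 3, nat_lit 1, nat_lit 2, nat_lit 1, nat_lit 3, nat_lit 0, nat_lit 3, nat_lit 1, nat_lit 2, nat_lit 1, nat_lit 3, nat_lit 0]) (.leaf (nat_lit 2666) (nat_lit 0) [nat_lit 3, nat_lit 1, nat_lit 2, nat_lit 1, nat_lit 3, nat_lit 0, nat_lit 3, nat_lit 1, nat_lit 2, nat_lit 1, nat_lit 3, nat_lit 0, nat_lit 3, nat_lit 1, nat_lit 2, nat_lit 1, nat_lit 3]))) (.node (nat_lit 4245) (.node (nat_lit 4244) (.leaf (nat_lit 2667) (nat_lit 3) [nat_lit 0, nat_lit 3, nat_lit 1, nat_lit 2, nat_lit 1, nat_lit 3, nat_lit 0, nat_lit 3, nat_lit 1, nat_lit 2, nat_lit 1, nat_lit 3, nat_lit 0, nat_lit 3, nat_lit 1, nat_lit 2, nat_lit 1]) (.leaf (nat_lit 2668) (nat_lit 1) [nat_lit 3, nat_lit 0, nat_lit 3, nat_lit 1, nat_lit 2, nat_lit 1, nat_lit 3, nat_lit 0, nat_lit 3, nat_lit 1, nat_lit 2, nat_lit 1, nat_lit 3, nat_lit 0, nat_lit 3, nat_lit 1, nat_lit 2])) (.node (nat_lit 4246) (.leaf (nat_lit 2669) (nat_lit 2) [nat_lit 1, nat_lit 3, nat_lit 0, nat_lit 3, nat_lit 1, nat_lit 2, nat_lit 1, nat_lit 3, nat_lit 0, nat_lit 3, nat_lit 1, nat_lit 2, nat_lit 1, nat_lit 3, nat_lit 0, nat_lit 3, nat_lit 1]) (.node (nat_lit 4247) (.leaf (nat_lit 2664) (nat_lit 1) [nat_lit 2, nat_lit 1, nat_lit 3, nat_lit 0, nat_lit 3, nat_lit 1, nat_lit 2, nat_lit 1, nat_lit 3, nat_lit 0, nat_lit 3, nat_lit 1, nat_lit 2, nat_lit 1, nat_lit 3, nat_lit 0, nat_lit 3]) (.leaf (nat_lit 2665) (nat_lit 3) [nat_lit 1, nat_lit 2, nat_lit 1, nat_lit 3, nat_lit 0, nat_lit 3, nat_lit 1, nat_lit 2, nat_lit 1, nat_lit 3, nat_lit 0, nat_lit 3, nat_lit 1, nat_lit 2, nat_lit 1, nat_lit 3, nat_lit 0]))))) (.node (nat_lit 4253) (.node (nat_lit 4250) (.node (nat_lit 4249) (.leaf (nat_lit 2775) (nat_lit 3) [nat_lit 0, nat_lit 3, nat_lit 1, nat_lit 3, nat_lit 1, nat_lit 3, nat_lit 0, nat_lit 3, nat_lit 1, nat_lit 3, nat_lit 1, nat_lit 3, nat_lit 0, nat_lit 3, nat_lit 1, nat_lit 3, nat_lit 1]) (.leaf (nat_lit 2776) (nat_lit 1) [nat_lit 3, nat_lit 0, nat_lit 3, nat_lit 1, nat_lit 3, nat_lit 1, nat_lit 3, nat_lit 0, nat_lit 3, nat_lit 1, nat_lit 3, nat_lit 1, nat_lit 3, nat_lit 0, nat_lit 3, nat_lit 1, nat_lit 3])) (.node (nat_lit 4251) (.leaf (nat_lit 2777) (nat_lit 3) [nat_lit 1, nat_lit 3, nat_lit 0, nat_lit 3, nat_lit 1, nat_lit 3, nat_lit 1, nat_lit 3, nat_lit 0, nat_lit 3, nat_lit 1, nat_lit 3, nat_lit 1, nat_lit 3, nat_lit 0, nat_lit 3, nat_lit 1]) (.node (nat_lit 4252) (.leaf (nat_lit 2772) (nat_lit 1) [nat_lit 3, nat_lit 1, nat_lit 3, nat_lit 0, nat_lit 3, nat_lit 1, nat_lit 3, nat_lit 1, nat_lit 3, nat_lit 0, nat_lit 3, nat_lit 1, nat_lit 3, nat_lit 1, nat_lit 3, nat_lit 0, nat_lit 3]) (.leaf (nat_lit 2773) (nat_lit 3) [nat_lit 1, nat_lit 3, nat_lit 1, nat_lit 3, nat_lit 0, nat_lit 3, nat_lit 1, nat_lit 3, nat_lit 1, nat_lit 3, nat_lit 0, nat_lit 3, nat_lit 1, nat_lit 3, nat_lit 1, nat_lit 3, nat_lit 0])))) (.node (nat_lit 4255) (.node (nat_lit 4254) (.leaf (nat_lit 2774) (nat_lit 0) [nat_lit 3, nat_lit 1, nat_lit 3, nat_lit 1, nat_lit 3, nat_lit 0, nat_lit 3, nat_lit 1, nat_lit 3, nat_lit 1, nat_lit 3, nat_lit 0, nat_lit 3, nat_lit 1, nat_lit 3, nat_lit 1, nat_lit 3]) (.leaf (nat_lit 2775) (nat_lit 3) [nat_lit 0, nat_lit 3, nat_lit 1, nat_lit 3, nat_lit 1, nat_lit 3, nat_lit 0, nat_lit 3, nat_lit 1, nat_lit 3, nat_lit 1, nat_lit 3, nat_lit 0, nat_lit 3, nat_lit 1, nat_lit 3, nat_lit 1])) (.node (nat_lit 4256) (.leaf (nat_lit 2776) (nat_lit 1) [nat_lit 3, nat_lit 0, nat_lit 3, nat_lit 1, nat_lit 3, nat_lit 1, nat_lit 3, nat_lit 0, nat_lit 3, nat_lit 1, nat_lit 3, nat_lit 1, nat_lit 3, nat_lit 0, nat_lit 3, nat_lit 1, nat_lit 3]) (.node (nat_lit 4257) (.leaf (nat_lit 2777) (nat_lit 3) [nat_lit 1, nat_lit 3, nat_lit 0, nat_lit 3, nat_lit 1, nat_lit 3, nat_lit 1, nat_lit 3, nat_lit 0, nat_lit 3, nat_lit 1, nat_lit 3, nat_lit 1, nat_lit 3, nat_lit 0, nat_lit 3, nat_lit 1]) (.leaf (nat_lit 2772) (nat_lit 1) [nat_lit 3, nat_lit 1, nat_lit 3, nat_lit 0, nat_lit 3, nat_lit 1, nat_lit 3, nat_lit 1, nat_lit 3, nat_lit 0, nat_lit 3, nat_lit 1, nat_lit 3, nat_lit 1, nat_lit 3, nat_lit 0, nat_lit 3]))))))) (.node (nat_lit 4277) (.node (nat_lit 4267) (.node (nat_lit 4262) (.node (nat_lit 4260) (.node (nat_lit 4259) (.leaf (nat_lit 2773) (nat_lit 3) [nat_lit 1, nat_lit 3, nat_lit 1, nat_lit 3, nat_lit 0, nat_lit 3, nat_lit 1, nat_lit 3, nat_lit 1, nat_lit 3, nat_lit 0, nat_lit 3, nat_lit 1, nat_lit 3, nat_lit 1, nat_lit 3, nat_lit 0]) (.leaf (nat_lit 2774) (nat_lit 0) [nat_lit 3, nat_lit 1, nat_lit 3, nat_lit 1, nat_lit 3, nat_lit 0, nat_lit 3, nat_lit 1, nat_lit 3, nat_lit 1, nat_lit 3, nat_lit 0, nat_lit 3, nat_lit 1, nat_lit 3, nat_lit 1, nat_lit 3])) (.node (nat_lit 4261) (.leaf (nat_lit 2775) (nat_lit 3) [nat_lit 0, nat_lit 3, nat_lit 1, nat_lit 3, nat_lit 1, nat_lit 3, nat_lit 0, nat_lit 3, nat_lit 1, nat_lit 3, nat_lit 1, nat_lit 3, nat_lit 0, nat_lit 3, nat_lit 1, nat_lit 3, nat_lit 1]) (.leaf (nat_lit 2776) (nat_lit 1) [nat_lit 3, nat_lit 0, nat_lit 3, nat_lit 1, nat_lit 3, nat_lit 1, nat_lit 3, nat_lit 0, nat_lit 3, nat_lit 1, nat_lit 3, nat_lit 1, nat_lit 3, nat_lit 0, nat_lit 3, nat_lit 1, nat_lit 3]))) (.node (nat_lit 4264) (.node (nat_lit 4263) (.leaf (nat_lit 2777) (nat_lit 3) [nat_lit 1, nat_lit 3, nat_lit 0, nat_lit 3, nat_lit 1, nat_lit 3, nat_lit 1, nat_lit 3, nat_lit 0, nat_lit 3, nat_lit 1, nat_lit 3, nat_lit 1, nat_lit 3, nat_lit 0, nat_lit 3, nat_lit 1]) (.leaf (nat_lit 2772) (nat_lit 1) [nat_lit 3, nat_lit 1, nat_lit 3, nat_lit 0, nat_lit 3, nat_lit 1, nat_lit 3, nat_lit 1, nat_lit 3, nat_lit 0, nat_lit 3, nat_lit 1, nat_lit 3, nat_lit 1, nat_lit 3, nat_lit 0, nat_lit 3])) (.node (nat_lit 4265) (.leaf (nat_lit 2773) (nat_lit 3) [nat_lit 1, nat_lit 3, nat_lit 1, nat_lit 3, nat_lit 0, nat_lit 3, nat_lit 1, nat_lit 3, nat_lit 1, nat_lit 3, nat_lit 0, nat_lit 3, nat_lit 1, nat_lit 3, nat_lit 1, nat_lit 3, nat_lit 0]) (.node (nat_lit 4266) (.leaf (nat_lit 2774) (nat_lit 0) [nat_lit 3, nat_lit 1, nat_lit 3, nat_lit 1, nat_lit 3, nat_lit 0, nat_lit 3, nat_lit 1, nat_lit 3, nat_lit 1, nat_lit 3, nat_lit 0, nat_lit 3, nat_lit 1, nat_lit 3, nat_lit 1, nat_lit 3]) (.leaf (nat_lit 2774) (nat_lit 0) [nat_lit 3, nat_lit 1, nat_lit 3, nat_lit 1, nat_lit 3, nat_lit 0, nat_lit 3, nat_lit 1, nat_lit 3, nat_lit 1, nat_lit 3, nat_lit 0, nat_lit 3, nat_lit 1, nat_lit 3, nat_lit 1, nat_lit 3]))))) (.node (nat_lit 4272) (.node (nat_lit 4269) (.node (nat_lit 4268) (.leaf (nat_lit 2775) (nat_lit 3) [nat_lit 0, nat_lit 3, nat_lit 1, nat_lit 3, nat_lit 1, nat_lit 3, nat_lit 0, nat_lit 3, nat_lit 1, nat_lit 3, nat_lit 1, nat_lit 3, nat_lit 0, nat_lit 3, nat_lit 1, nat_lit 3, nat_lit 1]) (.leaf (nat_lit 2776) (nat_lit 1) [nat_lit 3, nat_lit 0, nat_lit 3, nat_lit 1, nat_lit 3, nat_lit 1, nat_lit 3, nat_lit 0, nat_lit 3, nat_lit 1, nat_lit 3, nat_lit 1, nat_lit 3, nat_lit 0, nat_lit 3, nat_lit 1, nat_lit 3])) (.node (nat_lit 4270) (.leaf (nat_lit 2777) (nat_lit 3) [nat_lit 1, nat_lit 3, nat_lit 0, nat_lit 3, nat_lit 1, nat_lit 3, nat_lit 1, nat_lit 3, nat_lit 0, nat_lit 3, nat_lit 1, nat_lit 3, nat_lit 1, nat_lit 3, nat_lit 0, nat_lit 3, nat_lit 1]) (.node (nat_lit 4271) (.leaf (nat_lit 2772) (nat_lit 1) [nat_lit 3, nat_lit 1, nat_lit 3, nat_lit 0, nat_lit 3, nat_lit 1, nat_lit 3, nat_lit 1, nat_lit 3, nat_lit 0, nat_lit 3, nat_lit 1, nat_lit 3, nat_lit 1, nat_lit 3, nat_lit 0, nat_lit 3]) (.leaf (nat_lit 2773) (nat_lit 3) [nat_lit 1, nat_lit 3, nat_lit 1, nat_lit 3, nat_lit 0, nat_lit 3, nat_lit 1, nat_lit 3, nat_lit 1, nat_lit 3, nat_lit 0, nat_lit 3, nat_lit 1, nat_lit 3, nat_lit 1, nat_lit 3, nat_lit 0])))) (.node (nat_lit 4274) (.node (nat_lit 4273) (.leaf (nat_lit 2774) (nat_lit 0) [nat_lit 3, nat_lit 1, nat_lit 3, nat_lit 1, nat_lit 3, nat_lit 0, nat_lit 3, nat_lit 1, nat_lit 3, nat_lit 1, nat_lit 3, nat_lit 0, nat_lit 3, nat_lit 1, nat_lit 3, nat_lit 1, nat_lit 3]) (.leaf (nat_lit 2775) (nat_lit 3) [nat_lit 0, nat_lit 3, nat_lit 1, nat_lit 3, nat_lit 1, nat_lit 3, nat_lit 0, nat_lit 3, nat_lit 1, nat_lit 3, nat_lit 1, nat_lit 3, nat_lit 0, nat_lit 3, nat_lit 1, nat_lit 3, nat_lit 1])) (.node (nat_lit 4275) (.leaf (nat_lit 2776) (nat_lit 1) [nat_lit 3, nat_lit 0, nat_lit 3, nat_lit 1, nat_lit 3, nat_lit 1, nat_lit 3, nat_lit 0, nat_lit 3, nat_lit 1, nat_lit 3, nat_lit 1, nat_lit 3, nat_lit 0, nat_lit 3, nat_lit 1, nat_lit 3]) (.node (nat_lit 4276) (.leaf (nat_lit 2777) (nat_lit 3) [nat_lit 1, nat_lit 3, nat_lit 0, nat_lit 3, nat_lit 1, nat_lit 3, nat_lit 1, nat_lit 3, nat_lit 0, nat_lit 3, nat_lit 1, nat_lit 3, nat_lit 1, nat_lit 3, nat_lit 0, nat_lit 3, nat_lit 1]) (.leaf (nat_lit 2772) (nat_lit 1) [nat_lit 3, nat_lit 1, nat_lit 3, nat_lit 0, nat_lit 3, nat_lit 1, nat_lit 3, nat_lit 1, nat_lit 3, nat_lit 0, nat_lit 3, nat_lit 1, nat_lit 3, nat_lit 1, nat_lit 3, nat_lit 0, nat_lit 3])))))) (.node (nat_lit 4286) (.node (nat_lit 4281) (.node (nat_lit 4279) (.node (nat_lit 4278) (.leaf (nat_lit 2773) (nat_lit 3) [nat_lit 1, nat_lit 3, nat_lit 1, nat_lit 3, nat_lit 0, nat_lit 3, nat_lit 1, nat_lit 3, nat_lit 1, nat_lit 3, nat_lit 0, nat_lit 3, nat_lit 1, nat_lit 3, nat_lit 1, nat_lit 3, nat_lit 0]) (.leaf (nat_lit 2774) (nat_lit 0) [nat_lit 3, nat_lit 1, nat_lit 3, nat_lit 1, nat_lit 3, nat_lit 0, nat_lit 3, nat_lit 1, nat_lit 3, nat_lit 1, nat_lit 3, nat_lit 0, nat_lit 3, nat_lit 1, nat_lit 3, nat_lit 1, nat_lit 3])) (.node (nat_lit 4280) (.leaf (nat_lit 2775) (nat_lit 3) [nat_lit 0, nat_lit 3, nat_lit 1, nat_lit 3, nat_lit 1, nat_lit 3, nat_lit 0, nat_lit 3, nat_lit 1, nat_lit 3, nat_lit 1, nat_lit 3, nat_lit 0, nat_lit 3, nat_lit 1, nat_lit 3, nat_lit 1]) (.leaf (nat_lit 2776) (nat_lit 1) [nat_lit 3, nat_lit 0, nat_lit 3, nat_lit 1, nat_lit 3, nat_lit 1, nat_lit 3, nat_lit 0, nat_lit 3, nat_lit 1, nat_lit 3, nat_lit 1, nat_lit 3, nat_lit 0, nat_lit 3, nat_lit 1, nat_lit 3]))) (.node (nat_lit 4283) (.node (nat_lit 4282) (.leaf (nat_lit 2777) (nat_lit 3) [nat_lit 1, nat_lit 3, nat_lit 0, nat_lit 3, nat_lit 1, nat_lit 3, nat_lit 1, nat_lit 3, nat_lit 0, nat_lit 3, nat_lit 1, nat_lit 3, nat_lit 1, nat_lit 3, nat_lit 0, nat_lit 3, nat_lit 1]) (.leaf (nat_lit 2772) (nat_lit 1) [nat_lit 3, nat_lit 1, nat_lit 3, nat_lit 0, nat_lit 3, nat_lit 1, nat_lit 3, nat_lit 1, nat_lit 3, nat_lit 0, nat_lit 3, nat_lit 1, nat_lit 3, nat_lit 1, nat_lit 3, nat_lit 0, nat_lit 3])) (.node (nat_lit 4284) (.leaf (nat_lit 2773) (nat_lit 3) [nat_lit 1, nat_lit 3, nat_lit 1, nat_lit 3, nat_lit 0, nat_lit 3, nat_lit 1, nat_lit 3, nat_lit 1, nat_lit 3, nat_lit 0, nat_lit 3, nat_lit 1, nat_lit 3, nat_lit 1, nat_lit 3, nat_lit 0]) (.node (nat_lit 4285) (.leaf (nat_lit 2595) (nat_lit 3) [nat_lit 1, nat_lit 3, nat_lit 1, nat_lit 0, nat_lit 1, nat_lit 3, nat_lit 1, nat_lit 3, nat_lit 1, nat_lit 0, nat_lit 1, nat_lit 3, nat_lit 1, nat_lit 3, nat_lit 1, nat_lit 0, nat_lit 1]) (.leaf (nat_lit 2596) (nat_lit 1) [nat_lit 3, nat_lit 1, nat_lit 3, nat_lit 1, nat_lit 0, nat_lit 1, nat_lit 3, nat_lit 1, nat_lit 3, nat_lit 1, nat_lit 0, nat_lit 1, nat_lit 3, nat_lit 1, nat_lit 3, nat_lit 1, nat_lit 0]))))) (.node (nat_lit 4291) (.node (nat_lit 4288) (.node (nat_lit 4287) (.leaf (nat_lit 2597) (nat_lit 0) [nat_lit 1, nat_lit 3, nat_lit 1, nat_lit 3, nat_lit 1, nat_lit 0, nat_lit 1, nat_lit 3, nat_lit 1, nat_lit 3, nat_lit 1, nat_lit 0, nat_lit 1, nat_lit 3, nat_lit 1, nat_lit 3, nat_lit 1]) (.leaf (nat_lit 2592) (nat_lit 1) [nat_lit 0, nat_lit 1, nat_lit 3, nat_lit 1, nat_lit 3, nat_lit 1, nat_lit 0, nat_lit 1, nat_lit 3, nat_lit 1, nat_lit 3, nat_lit 1, nat_lit 0, nat_lit 1, nat_lit 3, nat_lit 1, nat_lit 3])) (.node (nat_lit 4289) (.leaf (nat_lit 2593) (nat_lit 3) [nat_lit 1, nat_lit 0, nat_lit 1, nat_lit 3, nat_lit 1, nat_lit 3, nat_lit 1, nat_lit 0, nat_lit 1, nat_lit 3, nat_lit 1, nat_lit 3, nat_lit 1, nat_lit 0, nat_lit 1, nat_lit 3, nat_lit 1]) (.node (nat_lit 4290) (.leaf (nat_lit 2594) (nat_lit 1) [nat_lit 3, nat_lit 1, nat_lit 0, nat_lit 1, nat_lit 3, nat_lit 1, nat_lit 3, nat_lit 1, nat_lit 0, nat_lit 1, nat_lit 3, nat_lit 1, nat_lit 3, nat_lit 1, nat_lit 0, nat_lit 1, nat_lit 3]) (.leaf (nat_lit 2595) (nat_lit 3) [nat_lit 1, nat_lit 3, nat_lit 1, nat_lit 0, nat_lit 1, nat_lit 3, nat_lit 1, nat_lit 3, nat_lit 1, nat_lit 0, nat_lit 1, nat_lit 3, nat_lit 1, nat_lit 3, nat_lit 1, nat_lit 0, nat_lit 1])))) (.node (nat_lit 4293) (.node (nat_lit 4292) (.leaf (nat_lit 2596) (nat_lit 1) [nat_lit 3, nat_lit 1, nat_lit 3, nat_lit 1, nat_lit 0, nat_lit 1, nat_lit 3, nat_lit 1, nat_lit 3, nat_lit 1, nat_lit 0, nat_lit 1, nat_lit 3, nat_lit 1, nat_lit 3, nat_lit 1, nat_lit 0]) (.leaf (nat_lit 2597) (nat_lit 0) [nat_lit 1, nat_lit 3, nat_lit 1, nat_lit 3, nat_lit 1, nat_lit 0, nat_lit 1, nat_lit 3, nat_lit 1, nat_lit 3, nat_lit 1, nat_lit 0, nat_lit 1, nat_lit 3, nat_lit 1, nat_lit 3, nat_lit 1])) (.node (nat_lit 4294) (.leaf (nat_lit 2592) (nat_lit 1) [nat_lit 0, nat_lit 1, nat_lit 3, nat_lit 1, nat_lit 3, nat_lit 1, nat_lit 0, nat_lit 1, nat_lit 3, nat_lit 1, nat_lit 3, nat_lit 1, nat_lit 0, nat_lit 1, nat_lit 3, nat_lit 1, nat_lit 3]) (.node (nat_lit 4295) (.leaf (nat_lit 2593) (nat_lit 3) [nat_lit 1, nat_lit 0, nat_lit 1, nat_lit 3, nat_lit 1, nat_lit 3, nat_lit 1, nat_lit 0, nat_lit 1, nat_lit 3, nat_lit 1, nat_lit 3, nat_lit 1, nat_lit 0, nat_lit 1, nat_lit 3, nat_lit 1]) (.leaf (nat_lit 2594) (nat_lit 1) [nat_lit 3, nat_lit 1, nat_lit 0, nat_lit 1, nat_lit 3, nat_lit 1, nat_lit 3, nat_lit 1, nat_lit 0, nat_lit 1, nat_lit 3, nat_lit 1, nat_lit 3, nat_lit 1, nat_lit 0, nat_lit 1, nat_lit 3])))))))) (.node (nat_lit 4333) (.node (nat_lit 4314) (.node (nat_lit 4305) (.node (nat_lit 4300) (.node (nat_lit 4298) (.node (nat_lit 4297) (.leaf (nat_lit 2595) (nat_lit 3) [nat_lit 1, nat_lit 3, nat_lit 1, nat_lit 0, nat_lit 1, nat_lit 3, nat_lit 1, nat_lit 3, nat_lit 1, nat_lit 0, nat_lit 1, nat_lit 3, nat_lit 1, nat_lit 3, nat_lit 1, nat_lit 0, nat_lit 1]) (.leaf (nat_lit 2596) (nat_lit 1) [nat_lit 3, nat_lit 1, nat_lit 3, nat_lit 1, nat_lit 0, nat_lit 1, nat_lit 3, nat_lit 1, nat_lit 3, nat_lit 1, nat_lit 0, nat_lit 1, nat_lit 3, nat_lit 1, nat_lit 3, nat_lit 1, nat_lit 0])) (.node (nat_lit 4299) (.leaf (nat_lit 2597) (nat_lit 0) [nat_lit 1, nat_lit 3, nat_lit 1, nat_lit 3, nat_lit 1, nat_lit 0, nat_lit 1, nat_lit 3, nat_lit 1, nat_lit 3, nat_lit 1, nat_lit 0, nat_lit 1, nat_lit 3, nat_lit 1, nat_lit 3, nat_lit 1]) (.leaf (nat_lit 2592) (nat_lit 1) [nat_lit 0, nat_lit 1, nat_lit 3, nat_lit 1, nat_lit 3, nat_lit 1, nat_lit 0, nat_lit 1, nat_lit 3, nat_lit 1, nat_lit 3, nat_lit 1, nat_lit 0, nat_lit 1, nat_lit 3, nat_lit 1, nat_lit 3]))) (.node (nat_lit 4302) (.node (nat_lit 4301) (.leaf (nat_lit 2593) (nat_lit 3) [nat_lit 1, nat_lit 0, nat_lit 1, nat_lit 3, nat_lit 1, nat_lit 3, nat_lit 1, nat_lit 0, nat_lit 1, nat_lit 3, nat_lit 1, nat_lit 3, nat_lit 1, nat_lit 0, nat_lit 1, nat_lit 3, nat_lit 1]) (.leaf (nat_lit 2594) (nat_lit 1) [nat_lit 3, nat_lit 1, nat_lit 0, nat_lit 1, nat_lit 3, nat_lit 1, nat_lit 3, nat_lit 1, nat_lit 0, nat_lit 1, nat_lit 3, nat_lit 1, nat_lit 3, nat_lit 1, nat_lit 0, nat_lit 1, nat_lit 3])) (.node (nat_lit 4303) (.leaf (nat_lit 2594) (nat_lit 1) [nat_lit 3, nat_lit 1, nat_lit 0, nat_lit 1, nat_lit 3, nat_lit 1, nat_lit 3, nat_lit 1, nat_lit 0, nat_lit 1, nat_lit 3, nat_lit 1, nat_lit 3, nat_lit 1, nat_lit 0, nat_lit 1, nat_lit 3]) (.node (nat_lit 4304) (.leaf (nat_lit 2595) (nat_lit 3) [nat_lit 1, nat_lit 3, nat_lit 1, nat_lit 0, nat_lit 1, nat_lit 3, nat_lit 1, nat_lit 3, nat_lit 1, nat_lit 0, nat_lit 1, nat_lit 3, nat_lit 1, nat_lit 3, nat_lit 1, nat_lit 0, nat_lit 1]) (.leaf (nat_lit 2596) (nat_lit 1) [nat_lit 3, nat_lit 1, nat_lit 3, nat_lit 1, nat_lit 0, nat_lit 1, nat_lit 3, nat_lit 1, nat_lit 3, nat_lit 1, nat_lit 0, nat_lit 1, nat_lit 3, nat_lit 1, nat_lit 3, nat_lit 1, nat_lit 0]))))) (.node (nat_lit 4309) (.node (nat_lit 4307) (.node (nat_lit 4306) (.leaf (nat_lit 2597) (nat_lit 0) [nat_lit 1, nat_lit 3, nat_lit 1, nat_lit 3, nat_lit 1, nat_lit 0, nat_lit 1, nat_lit 3, nat_lit 1, nat_lit 3, nat_lit 1, nat_lit 0, nat_lit 1, nat_lit 3, nat_lit 1, nat_lit 3, nat_lit 1]) (.leaf (nat_lit 2592) (nat_lit 1) [nat_lit 0, nat_lit 1, nat_lit 3, nat_lit 1, nat_lit 3, nat_lit 1, nat_lit 0, nat_lit 1, nat_lit 3, nat_lit 1, nat_lit 3, nat_lit 1, nat_lit 0, nat_lit 1, nat_lit 3, nat_lit 1, nat_lit 3])) (.node (nat_lit 4308) (.leaf (nat_lit 2593) (nat_lit 3) [nat_lit 1, nat_lit 0, nat_lit 1, nat_lit 3, nat_lit 1, nat_lit 3, nat_lit 1, nat_lit 0, nat_lit 1, nat_lit 3, nat_lit 1, nat_lit 3, nat_lit 1, nat_lit 0, nat_lit 1, nat_lit 3, nat_lit 1]) (.leaf (nat_lit 2594) (nat_lit 1) [nat_lit 3, nat_lit 1, nat_lit 0, nat_lit 1, nat_lit 3, nat_lit 1, nat_lit 3, nat_lit 1, nat_lit 0, nat_lit 1, nat_lit 3, nat_lit 1, nat_lit 3, nat_lit 1, nat_lit 0, nat_lit 1, nat_lit 3]))) (.node (nat_lit 4311) (.node (nat_lit 4310) (.leaf (nat_lit 2595) (nat_lit 3) [nat_lit 1, nat_lit 3, nat_lit 1, nat_lit 0, nat_lit 1, nat_lit 3, nat_lit 1, nat_lit 3, nat_lit 1, nat_lit 0, nat_lit 1, nat_lit 3, nat_lit 1, nat_lit 3, nat_lit 1, nat_lit 0, nat_lit 1]) (.leaf (nat_lit 2596) (nat_lit 1) [nat_lit 3, nat_lit 1, nat_lit 3, nat_lit 1, nat_lit 0, nat_lit 1, nat_lit 3, nat_lit 1, nat_lit 3, nat_lit 1, nat_lit 0, nat_lit 1, nat_lit 3, nat_lit 1, nat_lit 3, nat_lit 1, nat_lit 0])) (.node (nat_lit 4312) (.leaf (nat_lit 2597) (nat_lit 0) [nat_lit 1, nat_lit 3, nat_lit 1, nat_lit 3, nat_lit 1, nat_lit 0, nat_lit 1, nat_lit 3, nat_lit 1, nat_lit 3, nat_lit 1, nat_lit 0, nat_lit 1, nat_lit 3, nat_lit 1, nat_lit 3, nat_lit 1]) (.node (nat_lit 4313) (.leaf (nat_lit 2592) (nat_lit 1) [nat_lit 0, nat_lit 1, nat_lit 3, nat_lit 1, nat_lit 3, nat_lit 1, nat_lit 0, nat_lit 1, nat_lit 3, nat_lit 1, nat_lit 3, nat_lit 1, nat_lit 0, nat_lit 1, nat_lit 3, nat_lit 1, nat_lit 3]) (.leaf (nat_lit 2593) (nat_lit 3) [nat_lit 1, nat_lit 0, nat_lit 1, nat_lit 3, nat_lit 1, nat_lit 3, nat_lit 1, nat_lit 0, nat_lit 1, nat_lit 3, nat_lit 1, nat_lit 3, nat_lit 1, nat_lit 0, nat_lit 1, nat_lit 3, nat_lit 1])))))) (.node (nat_lit 4323) (.node (nat_lit 4318) (.node (nat_lit 4316) (.node (nat_lit 4315) (.leaf (nat_lit 2594) (nat_lit 1) [nat_lit 3, nat_lit 1, nat_lit 0, nat_lit 1, nat_lit 3, nat_lit 1, nat_lit 3, nat_lit 1, nat_lit 0, nat_lit 1, nat_lit 3, nat_lit 1, nat_lit 3, nat_lit 1, nat_lit 0, nat_lit 1, nat_lit 3]) (.leaf (nat_lit 2595) (nat_lit 3) [nat_lit 1, nat_lit 3, nat_lit 1, nat_lit 0, nat_lit 1, nat_lit 3, nat_lit 1, nat_lit 3, nat_lit 1, nat_lit 0, nat_lit 1, nat_lit 3, nat_lit 1, nat_lit 3, nat_lit 1, nat_lit 0, nat_lit 1])) (.node (nat_lit 4317) (.leaf (nat_lit 2596) (nat_lit 1) [nat_lit 3, nat_lit 1, nat_lit 3, nat_lit 1, nat_lit 0, nat_lit 1, nat_lit 3, nat_lit 1, nat_lit 3, nat_lit 1, nat_lit 0, nat_lit 1, nat_lit 3, nat_lit 1, nat_lit 3, nat_lit 1, nat_lit 0]) (.leaf (nat_lit 2597) (nat_lit 0) [nat_lit 1, nat_lit 3, nat_lit 1, nat_lit 3, nat_lit 1, nat_lit 0, nat_lit 1, nat_lit 3, nat_lit 1, nat_lit 3, nat_lit 1, nat_lit 0, nat_lit 1, nat_lit 3, nat_lit 1, nat_lit 3, nat_lit 1]))) (.node (nat_lit 4320) (.node (nat_lit 4319) (.leaf (nat_lit 2592) (nat_lit 1) [nat_lit 0, nat_lit 1, nat_lit 3, nat_lit 1, nat_lit 3, nat_lit 1, nat_lit 0, nat_lit 1, nat_lit 3, nat_lit 1, nat_lit 3, nat_lit 1, nat_lit 0, nat_lit 1, nat_lit 3, nat_lit 1, nat_lit 3]) (.leaf (nat_lit 2593) (nat_lit 3) [nat_lit 1, nat_lit 0, nat_lit 1, nat_lit 3, nat_lit 1, nat_lit 3, nat_lit 1, nat_lit 0, nat_lit 1, nat_lit 3, nat_lit 1, nat_lit 3, nat_lit 1, nat_lit 0, nat_lit 1, nat_lit 3, nat_lit 1])) (.node (nat_lit 4321) (.leaf (nat_lit 2703) (nat_lit 3) [nat_lit 1, nat_lit 3, nat_lit 1, nat_lit 2, nat_lit 1, nat_lit 3, nat_lit 1, nat_lit 3, nat_lit 1, nat_lit 2, nat_lit 1, nat_lit 3, nat_lit 1, nat_lit 3, nat_lit 1, nat_lit 2, nat_lit 1]) (.node (nat_lit 4322) (.leaf (nat_lit 2704) (nat_lit 1) [nat_lit 3, nat_lit 1, nat_lit 3, nat_lit 1, nat_lit 2, nat_lit 1, nat_lit 3, nat_lit 1, nat_lit 3, nat_lit 1, nat_lit 2, nat_lit 1, nat_lit 3, nat_lit 1, nat_lit 3, nat_lit 1, nat_lit 2]) (.leaf (nat_lit 2705) (nat_lit 2) [nat_lit 1, nat_lit 3, nat_lit 1, nat_lit 3, nat_lit 1, nat_lit 2, nat_lit 1, nat_lit 3, nat_lit 1, nat_lit 3, nat_lit 1, nat_lit 2, nat_lit 1, nat_lit 3, nat_lit 1, nat_lit 3, nat_lit 1]))))) (.node (nat_lit 4328) (.node (nat_lit 4325) (.node (nat_lit 4324) (.leaf (nat_lit 2700) (nat_lit 1) [nat_lit 2, nat_lit 1, nat_lit 3, nat_lit 1, nat_lit 3, nat_lit 1, nat_lit 2, nat_lit 1, nat_lit 3, nat_lit 1, nat_lit 3, nat_lit 1, nat_lit 2, nat_lit 1, nat_lit 3, nat_lit 1, nat_lit 3]) (.leaf (nat_lit 2701) (nat_lit 3) [nat_lit 1, nat_lit 2, nat_lit 1, nat_lit 3, nat_lit 1, nat_lit 3, nat_lit 1, nat_lit 2, nat_lit 1, nat_lit 3, nat_lit 1, nat_lit 3, nat_lit 1, nat_lit 2, nat_lit 1, nat_lit 3, nat_lit 1])) (.node (nat_lit 4326) (.leaf (nat_lit 2702) (nat_lit 1) [nat_lit 3, nat_lit 1, nat_lit 2, nat_lit 1, nat_lit 3, nat_lit 1, nat_lit 3, nat_lit 1, nat_lit 2, nat_lit 1, nat_lit 3, nat_lit 1, nat_lit 3, nat_lit 1, nat_lit 2, nat_lit 1, nat_lit 3]) (.node (nat_lit 4327) (.leaf (nat_lit 2703) (nat_lit 3) [nat_lit 1, nat_lit 3, nat_lit 1, nat_lit 2, nat_lit 1, nat_lit 3, nat_lit 1, nat_lit 3, nat_lit 1, nat_lit 2, nat_lit 1, nat_lit 3, nat_lit 1, nat_lit 3, nat_lit 1, nat_lit 2, nat_lit 1]) (.leaf (nat_lit 2704) (nat_lit 1) [nat_lit 3, nat_lit 1, nat_lit 3, nat_lit 1, nat_lit 2, nat_lit 1, nat_lit 3, nat_lit 1, nat_lit 3, nat_lit 1, nat_lit 2, nat_lit 1, nat_lit 3, nat_lit 1, nat_lit 3, nat_lit 1, nat_lit 2])))) (.node (nat_lit 4330) (.node (nat_lit 4329) (.leaf (nat_lit 2705) (nat_lit 2) [nat_lit 1, nat_lit 3, nat_lit 1, nat_lit 3, nat_lit 1, nat_lit 2, nat_lit 1, nat_lit 3, nat_lit 1, nat_lit 3, nat_lit 1, nat_lit 2, nat_lit 1, nat_lit 3, nat_lit 1, nat_lit 3, nat_lit 1]) (.leaf (nat_lit 2700) (nat_lit 1) [nat_lit 2, nat_lit 1, nat_lit 3, nat_lit 1, nat_lit 3, nat_lit 1, nat_lit 2, nat_lit 1, nat_lit 3, nat_lit 1, nat_lit 3, nat_lit 1, nat_lit 2, nat_lit 1, nat_lit 3, nat_lit 1, nat_lit 3])) (.node (nat_lit 4331) (.leaf (nat_lit 2701) (nat_lit 3) [nat_lit 1, nat_lit 2, nat_lit 1, nat_lit 3, nat_lit 1, nat_lit 3, nat_lit 1, nat_lit 2, nat_lit 1, nat_lit 3, nat_lit 1, nat_lit 3, nat_lit 1, nat_lit 2, nat_lit 1, nat_lit 3, nat_lit 1]) (.node (nat_lit 4332) (.leaf (nat_lit 2702) (nat_lit 1) [nat_lit 3, nat_lit 1, nat_lit 2, nat_lit 1, nat_lit 3, nat_lit 1, nat_lit 3, nat_lit 1, nat_lit 2, nat_lit 1, nat_lit 3, nat_lit 1, nat_lit 3, nat_lit 1, nat_lit 2, nat_lit 1, nat_lit 3]) (.leaf (nat_lit 2703) (nat_lit 3) [nat_lit 1, nat_lit 3, nat_lit 1, nat_lit 2, nat_lit 1, nat_lit 3, nat_lit 1, nat_lit 3, nat_lit 1, nat_lit 2, nat_lit 1, nat_lit 3, nat_lit 1, nat_lit 3, nat_lit 1, nat_lit 2, nat_lit 1]))))))) (.node (nat_lit 4352) (.node (nat_lit 4342) (.node (nat_lit 4337) (.node (nat_lit 4335) (.node (nat_lit 4334) (.leaf (nat_lit 2704) (nat_lit 1) [nat_lit 3, nat_lit 1, nat_lit 3, nat_lit 1, nat_lit 2, nat_lit 1, nat_lit 3, nat_lit 1, nat_lit 3, nat_lit 1, nat_lit 2, nat_lit 1, nat_lit 3, nat_lit 1, nat_lit 3, nat_lit 1, nat_lit 2]) (.leaf (nat_lit 2705) (nat_lit 2) [nat_lit 1, nat_lit 3, nat_lit 1, nat_lit 3, nat_lit 1, nat_lit 2, nat_lit 1, nat_lit 3, nat_lit 1, nat_lit 3, nat_lit 1, nat_lit 2, nat_lit 1, nat_lit 3, nat_lit 1, nat_lit 3, nat_lit 1])) (.node (nat_lit 4336) (.leaf (nat_lit 2700) (nat_lit 1) [nat_lit 2, nat_lit 1, nat_lit 3, nat_lit 1, nat_lit 3, nat_lit 1, nat_lit 2, nat_lit 1, nat_lit 3, nat_lit 1, nat_lit 3, nat_lit 1, nat_lit 2, nat_lit 1, nat_lit 3, nat_lit 1, nat_lit 3]) (.leaf (nat_lit 2701) (nat_lit 3) [nat_lit 1, nat_lit 2, nat_lit 1, nat_lit 3, nat_lit 1, nat_lit 3, nat_lit 1, nat_lit 2, nat_lit 1, nat_lit 3, nat_lit 1, nat_lit 3, nat_lit 1, nat_lit 2, nat_lit 1, nat_lit 3, nat_lit 1]))) (.node (nat_lit 4339) (.node (nat_lit 4338) (.leaf (nat_lit 2702) (nat_lit 1) [nat_lit 3, nat_lit 1, nat_lit 2, nat_lit 1, nat_lit 3, nat_lit 1, nat_lit 3, nat_lit 1, nat_lit 2, nat_lit 1, nat_lit 3, nat_lit 1, nat_lit 3, nat_lit 1, nat_lit 2, nat_lit 1, nat_lit 3]) (.leaf (nat_lit 2702) (nat_lit 1) [nat_lit 3, nat_lit 1, nat_lit 2, nat_lit 1, nat_lit 3, nat_lit 1, nat_lit 3, nat_lit 1, nat_lit 2, nat_lit 1, nat_lit 3, nat_lit 1, nat_lit 3, nat_lit 1, nat_lit 2, nat_lit 1, nat_lit 3])) (.node (nat_lit 4340) (.leaf (nat_lit 2703) (nat_lit 3) [nat_lit 1, nat_lit 3, nat_lit 1, nat_lit 2, nat_lit 1, nat_lit 3, nat_lit 1, nat_lit 3, nat_lit 1, nat_lit 2, nat_lit 1, nat_lit 3, nat_lit 1, nat_lit 3, nat_lit 1, nat_lit 2, nat_lit 1]) (.node (nat_lit 4341) (.leaf (nat_lit 2704) (nat_lit 1) [nat_lit 3, nat_lit 1, nat_lit 3, nat_lit 1, nat_lit 2, nat_lit 1, nat_lit 3, nat_lit 1, nat_lit 3, nat_lit 1, nat_lit 2, nat_lit 1, nat_lit 3, nat_lit 1, nat_lit 3, nat_lit 1, nat_lit 2]) (.leaf (nat_lit 2705) (nat_lit 2) [nat_lit 1, nat_lit 3, nat_lit 1, nat_lit 3, nat_lit 1, nat_lit 2, nat_lit 1, nat_lit 3, nat_lit 1, nat_lit 3, nat_lit 1, nat_lit 2, nat_lit 1, nat_lit 3, nat_lit 1, nat_lit 3, nat_lit 1]))))) (.node (nat_lit 4347) (.node (nat_lit 4344) (.node (nat_lit 4343) (.leaf (nat_lit 2700) (nat_lit 1) [nat_lit 2, nat_lit 1, nat_lit 3, nat_lit 1, nat_lit 3, nat_lit 1, nat_lit 2, nat_lit 1, nat_lit 3, nat_lit 1, nat_lit 3, nat_lit 1, nat_lit 2, nat_lit 1, nat_lit 3, nat_lit 1, nat_lit 3]) (.leaf (nat_lit 2701) (nat_lit 3) [nat_lit 1, nat_lit 2, nat_lit 1, nat_lit 3, nat_lit 1, nat_lit 3, nat_lit 1, nat_lit 2, nat_lit 1, nat_lit 3, nat_lit 1, nat_lit 3, nat_lit 1, nat_lit 2, nat_lit 1, nat_lit 3, nat_lit 1])) (.node (nat_lit 4345) (.leaf (nat_lit 2702) (nat_lit 1) [nat_lit 3, nat_lit 1, nat_lit 2, nat_lit 1, nat_lit 3, nat_lit 1, nat_lit 3, nat_lit 1, nat_lit 2, nat_lit 1, nat_lit 3, nat_lit 1, nat_lit 3, nat_lit 1, nat_lit 2, nat_lit 1, nat_lit 3]) (.node (nat_lit 4346) (.leaf (nat_lit 2703) (nat_lit 3) [nat_lit 1, nat_lit 3, nat_lit 1, nat_lit 2, nat_lit 1, nat_lit 3, nat_lit 1, nat_lit 3, nat_lit 1, nat_lit 2, nat_lit 1, nat_lit 3, nat_lit 1, nat_lit 3, nat_lit 1, nat_lit 2, nat_lit 1]) (.leaf (nat_lit 2704) (nat_lit 1) [nat_lit 3, nat_lit 1, nat_lit 3, nat_lit 1, nat_lit 2, nat_lit 1, nat_lit 3, nat_lit 1, nat_lit 3, nat_lit 1, nat_lit 2, nat_lit 1, nat_lit 3, nat_lit 1, nat_lit 3, nat_lit 1, nat_lit 2])))) (.node (nat_lit 4349) (.node (nat_lit 4348) (.leaf (nat_lit 2705) (nat_lit 2) [nat_lit 1, nat_lit 3, nat_lit 1, nat_lit 3, nat_lit 1, nat_lit 2, nat_lit 1, nat_lit 3, nat_lit 1, nat_lit 3, nat_lit 1, nat_lit 2, nat_lit 1, nat_lit 3, nat_lit 1, nat_lit 3, nat_lit 1]) (.leaf (nat_lit 2700) (nat_lit 1) [nat_lit 2, nat_lit 1, nat_lit 3, nat_lit 1, nat_lit 3, nat_lit 1, nat_lit 2, nat_lit 1, nat_lit 3, nat_lit 1, nat_lit 3, nat_lit 1, nat_lit 2, nat_lit 1, nat_lit 3, nat_lit 1, nat_lit 3])) (.node (nat_lit 4350) (.leaf (nat_lit 2701) (nat_lit 3) [nat_lit 1, nat_lit 2, nat_lit 1, nat_lit 3, nat_lit 1, nat_lit 3, nat_lit 1, nat_lit 2, nat_lit 1, nat_lit 3, nat_lit 1, nat_lit 3, nat_lit 1, nat_lit 2, nat_lit 1, nat_lit 3, nat_lit 1]) (.node (nat_lit 4351) (.leaf (nat_lit 2702) (nat_lit 1) [nat_lit 3, nat_lit 1, nat_lit 2, nat_lit 1, nat_lit 3, nat_lit 1, nat_lit 3, nat_lit 1, nat_lit 2, nat_lit 1, nat_lit 3, nat_lit 1, nat_lit 3, nat_lit 1, nat_lit 2, nat_lit 1, nat_lit 3]) (.leaf (nat_lit 2703) (nat_lit 3) [nat_lit 1, nat_lit 3, nat_lit 1, nat_lit 2, nat_lit 1, nat_lit 3, nat_lit 1, nat_lit 3, nat_lit 1, nat_lit 2, nat_lit 1, nat_lit 3, nat_lit 1, nat_lit 3, nat_lit 1, nat_lit 2, nat_lit 1])))))) (.node (nat_lit 4361) (.node (nat_lit 4356) (.node (nat_lit 4354) (.node (nat_lit 4353) (.leaf (nat_lit 2704) (nat_lit 1) [nat_lit 3, nat_lit 1, nat_lit 3, nat_lit 1, nat_lit 2, nat_lit 1, nat_lit 3, nat_lit 1, nat_lit 3, nat_lit 1, nat_lit 2, nat_lit 1, nat_lit 3, nat_lit 1, nat_lit 3, nat_lit 1, nat_lit 2]) (.leaf (nat_lit 2705) (nat_lit 2) [nat_lit 1, nat_lit 3, nat_lit 1, nat_lit 3, nat_lit 1, nat_lit 2, nat_lit 1, nat_lit 3, nat_lit 1, nat_lit 3, nat_lit 1, nat_lit 2, nat_lit 1, nat_lit 3, nat_lit 1, nat_lit 3, nat_lit 1])) (.node (nat_lit 4355) (.leaf (nat_lit 2700) (nat_lit 1) [nat_lit 2, nat_lit 1, nat_lit 3, nat_lit 1, nat_lit 3, nat_lit 1, nat_lit 2, nat_lit 1, nat_lit 3, nat_lit 1, nat_lit 3, nat_lit 1, nat_lit 2, nat_lit 1, nat_lit 3, nat_lit 1, nat_lit 3]) (.leaf (nat_lit 2701) (nat_lit 3) [nat_lit 1, nat_lit 2, nat_lit 1, nat_lit 3, nat_lit 1, nat_lit 3, nat_lit 1, nat_lit 2, nat_lit 1, nat_lit 3, nat_lit 1, nat_lit 3, nat_lit 1, nat_lit 2, nat_lit 1, nat_lit 3, nat_lit 1]))) (.node (nat_lit 4358) (.node (nat_lit 4357) (.leaf (nat_lit 2809) (nat_lit 3) [nat_lit 1, nat_lit 3, nat_lit 1, nat_lit 3, nat_lit 1, nat_lit 3, nat_lit 1, nat_lit 3, nat_lit 1, nat_lit 3, nat_lit 1, nat_lit 3, nat_lit 1, nat_lit 3, nat_lit 1, nat_lit 3, nat_lit 1]) (.leaf (nat_lit 2808) (nat_lit 1) [nat_lit 3, nat_lit 1, nat_lit 3, nat_lit 1, nat_lit 3, nat_lit 1, nat_lit 3, nat_lit 1, nat_lit 3, nat_lit 1, nat_lit 3, nat_lit 1, nat_lit 3, nat_lit 1, nat_lit 3, nat_lit 1, nat_lit 3])) (.node (nat_lit 4359) (.leaf (nat_lit 2809) (nat_lit 3) [nat_lit 1, nat_lit 3, nat_lit 1, nat_lit 3, nat_lit 1, nat_lit 3, nat_lit 1, nat_lit 3, nat_lit 1, nat_lit 3, nat_lit 1, nat_lit 3, nat_lit 1, nat_lit 3, nat_lit 1, nat_lit 3, nat_lit 1]) (.node (nat_lit 4360) (.leaf (nat_lit 2808) (nat_lit 1) [nat_lit 3, nat_lit 1, nat_lit 3, nat_lit 1, nat_lit 3, nat_lit 1, nat_lit 3, nat_lit 1, nat_lit 3, nat_lit 1, nat_lit 3, nat_lit 1, nat_lit 3, nat_lit 1, nat_lit 3, nat_lit 1, nat_lit 3]) (.leaf (nat_lit 2809) (nat_lit 3) [nat_lit 1, nat_lit 3, nat_lit 1, nat_lit 3, nat_lit 1, nat_lit 3, nat_lit 1, nat_lit 3, nat_lit 1, nat_lit 3, nat_lit 1, nat_lit 3, nat_lit 1, nat_lit 3, nat_lit 1, nat_lit 3, nat_lit 1]))))) (.node (nat_lit 4366) (.node (nat_lit 4363) (.node (nat_lit 4362) (.leaf (nat_lit 2808) (nat_lit 1) [nat_lit 3, nat_lit 1, nat_lit 3, nat_lit 1, nat_lit 3, nat_lit 1, nat_lit 3, nat_lit 1, nat_lit 3, nat_lit 1, nat_lit 3, nat_lit 1, nat_lit 3, nat_lit 1, nat_lit 3, nat_lit 1, nat_lit 3]) (.leaf (nat_lit 2809) (nat_lit 3) [nat_lit 1, nat_lit 3, nat_lit 1, nat_lit 3, nat_lit 1, nat_lit 3, nat_lit 1, nat_lit 3, nat_lit 1, nat_lit 3, nat_lit 1, nat_lit 3, nat_lit 1, nat_lit 3, nat_lit 1, nat_lit 3, nat_lit 1])) (.node (nat_lit 4364) (.leaf (nat_lit 2808) (nat_lit 1) [nat_lit 3, nat_lit 1, nat_lit 3, nat_lit 1, nat_lit 3, nat_lit 1, nat_lit 3, nat_lit 1, nat_lit 3, nat_lit 1, nat_lit 3, nat_lit 1, nat_lit 3, nat_lit 1, nat_lit 3, nat_lit 1, nat_lit 3]) (.node (nat_lit 4365) (.leaf (nat_lit 2809) (nat_lit 3) [nat_lit 1, nat_lit 3, nat_lit 1, nat_lit 3, nat_lit 1, nat_lit 3, nat_lit 1, nat_lit 3, nat_lit 1, nat_lit 3, nat_lit 1, nat_lit 3, nat_lit 1, nat_lit 3, nat_lit 1, nat_lit 3, nat_lit 1]) (.leaf (nat_lit 2808) (nat_lit 1) [nat_lit 3, nat_lit 1, nat_lit 3, nat_lit 1, nat_lit 3, nat_lit 1, nat_lit 3, nat_lit 1, nat_lit 3, nat_lit 1, nat_lit 3, nat_lit 1, nat_lit 3, nat_lit 1, nat_lit 3, nat_lit 1, nat_lit 3])))) (.node (nat_lit 4368) (.node (nat_lit 4367) (.leaf (nat_lit 2809) (nat_lit 3) [nat_lit 1, nat_lit 3, nat_lit 1, nat_lit 3, nat_lit 1, nat_lit 3, nat_lit 1, nat_lit 3, nat_lit 1, nat_lit 3, nat_lit 1, nat_lit 3, nat_lit 1, nat_lit 3, nat_lit 1, nat_lit 3, nat_lit 1]) (.leaf (nat_lit 2808) (nat_lit 1) [nat_lit 3, nat_lit 1, nat_lit 3, nat_lit 1, nat_lit 3, nat_lit 1, nat_lit 3, nat_lit 1, nat_lit 3, nat_lit 1, nat_lit 3, nat_lit 1, nat_lit 3, nat_lit 1, nat_lit 3, nat_lit 1, nat_lit 3])) (.node (nat_lit 4369) (.leaf (nat_lit 2809) (nat_lit 3) [nat_lit 1, nat_lit 3, nat_lit 1, nat_lit 3, nat_lit 1, nat_lit 3, nat_lit 1, nat_lit 3, nat_lit 1, nat_lit 3, nat_lit 1, nat_lit 3, nat_lit 1, nat_lit 3, nat_lit 1, nat_lit 3, nat_lit 1]) (.node (nat_lit 4370) (.leaf (nat_lit 2808) (nat_lit 1) [nat_lit 3, nat_lit 1, nat_lit 3, nat_lit 1, nat_lit 3, nat_lit 1, nat_lit 3, nat_lit 1, nat_lit 3, nat_lit 1, nat_lit 3, nat_lit 1, nat_lit 3, nat_lit 1, nat_lit 3, nat_lit 1, nat_lit 3]) (.leaf (nat_lit 2809) (nat_lit 3) [nat_lit 1, nat_lit 3, nat_lit 1, nat_lit 3, nat_lit 1, nat_lit 3, nat_lit 1, nat_lit 3, nat_lit 1, nat_lit 3, nat_lit 1, nat_lit 3, nat_lit 1, nat_lit 3, nat_lit 1, nat_lit 3, nat_lit 1]))))))))) (.node (nat_lit 4446) (.node (nat_lit 4408) (.node (nat_lit 4389) (.node (nat_lit 4380) (.node (nat_lit 4375) (.node (nat_lit 4373) (.node (nat_lit 4372) (.leaf (nat_lit 2808) (nat_lit 1) [nat_lit 3, nat_lit 1, nat_lit 3, nat_lit 1, nat_lit 3, nat_lit 1, nat_lit 3, nat_lit 1, nat_lit 3, nat_lit 1, nat_lit 3, nat_lit 1, nat_lit 3, nat_lit 1, nat_lit 3, nat_lit 1, nat_lit 3]) (.leaf (nat_lit 2809) (nat_lit 3) [nat_lit 1, nat_lit 3, nat_lit 1, nat_lit 3, nat_lit 1, nat_lit 3, nat_lit 1, nat_lit 3, nat_lit 1, nat_lit 3, nat_lit 1, nat_lit 3, nat_lit 1, nat_lit 3, nat_lit 1, nat_lit 3, nat_lit 1])) (.node (nat_lit 4374) (.leaf (nat_lit 2808) (nat_lit 1) [nat_lit 3, nat_lit 1, nat_lit 3, nat_lit 1, nat_lit 3, nat_lit 1, nat_lit 3, nat_lit 1, nat_lit 3, nat_lit 1, nat_lit 3, nat_lit 1, nat_lit 3, nat_lit 1, nat_lit 3, nat_lit 1, nat_lit 3]) (.leaf (nat_lit 2808) (nat_lit 1) [nat_lit 3, nat_lit 1, nat_lit 3, nat_lit 1, nat_lit 3, nat_lit 1, nat_lit 3, nat_lit 1, nat_lit 3, nat_lit 1, nat_lit 3, nat_lit 1, nat_lit 3, nat_lit 1, nat_lit 3, nat_lit 1, nat_lit 3]))) (.node (nat_lit 4377) (.node (nat_lit 4376) (.leaf (nat_lit 2809) (nat_lit 3) [nat_lit 1, nat_lit 3, nat_lit 1, nat_lit 3, nat_lit 1, nat_lit 3, nat_lit 1, nat_lit 3, nat_lit 1, nat_lit 3, nat_lit 1, nat_lit 3, nat_lit 1, nat_lit 3, nat_lit 1, nat_lit 3, nat_lit 1]) (.leaf (nat_lit 2808) (nat_lit 1) [nat_lit 3, nat_lit 1, nat_lit 3, nat_lit 1, nat_lit 3, nat_lit 1, nat_lit 3, nat_lit 1, nat_lit 3, nat_lit 1, nat_lit 3, nat_lit 1, nat_lit 3, nat_lit 1, nat_lit 3, nat_lit 1, nat_lit 3])) (.node (nat_lit 4378) (.leaf (nat_lit 2809) (nat_lit 3) [nat_lit 1, nat_lit 3, nat_lit 1, nat_lit 3, nat_lit 1, nat_lit 3, nat_lit 1, nat_lit 3, nat_lit 1, nat_lit 3, nat_lit 1, nat_lit 3, nat_lit 1, nat_lit 3, nat_lit 1, nat_lit 3, nat_lit 1]) (.node (nat_lit 4379) (.leaf (nat_lit 2808) (nat_lit 1) [nat_lit 3, nat_lit 1, nat_lit 3, nat_lit 1, nat_lit 3, nat_lit 1, nat_lit 3, nat_lit 1, nat_lit 3, nat_lit 1, nat_lit 3, nat_lit 1, nat_lit 3, nat_lit 1, nat_lit 3, nat_lit 1, nat_lit 3]) (.leaf (nat_lit 2809) (nat_lit 3) [nat_lit 1, nat_lit 3, nat_lit 1, nat_lit 3, nat_lit 1, nat_lit 3, nat_lit 1, nat_lit 3, nat_lit 1, nat_lit 3, nat_lit 1, nat_lit 3, nat_lit 1, nat_lit 3, nat_lit 1, nat_lit 3, nat_lit 1]))))) (.node (nat_lit 4384) (.node (nat_lit 4382) (.node (nat_lit 4381) (.leaf (nat_lit 2808) (nat_lit 1) [nat_lit 3, nat_lit 1, nat_lit 3, nat_lit 1, nat_lit 3, nat_lit 1, nat_lit 3, nat_lit 1, nat_lit 3, nat_lit 1, nat_lit 3, nat_lit 1, nat_lit 3, nat_lit 1, nat_lit 3, nat_lit 1, nat_lit 3]) (.leaf (nat_lit 2809) (nat_lit 3) [nat_lit 1, nat_lit 3, nat_lit 1, nat_lit 3, nat_lit 1, nat_lit 3, nat_lit 1, nat_lit 3, nat_lit 1, nat_lit 3, nat_lit 1, nat_lit 3, nat_lit 1, nat_lit 3, nat_lit 1, nat_lit 3, nat_lit 1])) (.node (nat_lit 4383) (.leaf (nat_lit 2808) (nat_lit 1) [nat_lit 3, nat_lit 1, nat_lit 3, nat_lit 1, nat_lit 3, nat_lit 1, nat_lit 3, nat_lit 1, nat_lit 3, nat_lit 1, nat_lit 3, nat_lit 1, nat_lit 3, nat_lit 1, nat_lit 3, nat_lit 1, nat_lit 3]) (.leaf (nat_lit 2809) (nat_lit 3) [nat_lit 1, nat_lit 3, nat_lit 1, nat_lit 3, nat_lit 1, nat_lit 3, nat_lit 1, nat_lit 3, nat_lit 1, nat_lit 3, nat_lit 1, nat_lit 3, nat_lit 1, nat_lit 3, nat_lit 1, nat_lit 3, nat_lit 1]))) (.node (nat_lit 4386) (.node (nat_lit 4385) (.leaf (nat_lit 2808) (nat_lit 1) [nat_lit 3, nat_lit 1, nat_lit 3, nat_lit 1, nat_lit 3, nat_lit 1, nat_lit 3, nat_lit 1, nat_lit 3, nat_lit 1, nat_lit 3, nat_lit 1, nat_lit 3, nat_lit 1, nat_lit 3, nat_lit 1, nat_lit 3]) (.leaf (nat_lit 2809) (nat_lit 3) [nat_lit 1, nat_lit 3, nat_lit 1, nat_lit 3, nat_lit 1, nat_lit 3, nat_lit 1, nat_lit 3, nat_lit 1, nat_lit 3, nat_lit 1, nat_lit 3, nat_lit 1, nat_lit 3, nat_lit 1, nat_lit 3, nat_lit 1])) (.node (nat_lit 4387) (.leaf (nat_lit 2808) (nat_lit 1) [nat_lit 3, nat_lit 1, nat_lit 3, nat_lit 1, nat_lit 3, nat_lit 1, nat_lit 3, nat_lit 1, nat_lit 3, nat_lit 1, nat_lit 3, nat_lit 1, nat_lit 3, nat_lit 1, nat_lit 3, nat_lit 1, nat_lit 3]) (.node (nat_lit 4388) (.leaf (nat_lit 2809) (nat_lit 3) [nat_lit 1, nat_lit 3, nat_lit 1, nat_lit 3, nat_lit 1, nat_lit 3, nat_lit 1, nat_lit 3, nat_lit 1, nat_lit 3, nat_lit 1, nat_lit 3, nat_lit 1, nat_lit 3, nat_lit 1, nat_lit 3, nat_lit 1]) (.leaf (nat_lit 2808) (nat_lit 1) [nat_lit 3, nat_lit 1, nat_lit 3, nat_lit 1, nat_lit 3, nat_lit 1, nat_lit 3, nat_lit 1, nat_lit 3, nat_lit 1, nat_lit 3, nat_lit 1, nat_lit 3, nat_lit 1, nat_lit 3, nat_lit 1, nat_lit 3])))))) (.node (nat_lit 4398) (.node (nat_lit 4393) (.node (nat_lit 4391) (.node (nat_lit 4390) (.leaf (nat_lit 2809) (nat_lit 3) [nat_lit 1, nat_lit 3, nat_lit 1, nat_lit 3, nat_lit 1, nat_lit 3, nat_lit 1, nat_lit 3, nat_lit 1, nat_lit 3, nat_lit 1, nat_lit 3, nat_lit 1, nat_lit 3, nat_lit 1, nat_lit 3, nat_lit 1]) (.leaf (nat_lit 2808) (nat_lit 1) [nat_lit 3, nat_lit 1, nat_lit 3, nat_lit 1, nat_lit 3, nat_lit 1, nat_lit 3, nat_lit 1, nat_lit 3, nat_lit 1, nat_lit 3, nat_lit 1, nat_lit 3, nat_lit 1, nat_lit 3, nat_lit 1, nat_lit 3])) (.node (nat_lit 4392) (.leaf (nat_lit 2809) (nat_lit 3) [nat_lit 1, nat_lit 3, nat_lit 1, nat_lit 3, nat_lit 1, nat_lit 3, nat_lit 1, nat_lit 3, nat_lit 1, nat_lit 3, nat_lit 1, nat_lit 3, nat_lit 1, nat_lit 3, nat_lit 1, nat_lit 3, nat_lit 1]) (.leaf (nat_lit 2631) (nat_lit 3) [nat_lit 2, nat_lit 3, nat_lit 1, nat_lit 0, nat_lit 1, nat_lit 3, nat_lit 2, nat_lit 3, nat_lit 1, nat_lit 0, nat_lit 1, nat_lit 3, nat_lit 2, nat_lit 3, nat_lit 1, nat_lit 0, nat_lit 1]))) (.node (nat_lit 4395) (.node (nat_lit 4394) (.leaf (nat_lit 2632) (nat_lit 1) [nat_lit 3, nat_lit 2, nat_lit 3, nat_lit 1, nat_lit 0, nat_lit 1, nat_lit 3, nat_lit 2, nat_lit 3, nat_lit 1, nat_lit 0, nat_lit 1, nat_lit 3, nat_lit 2, nat_lit 3, nat_lit 1, nat_lit 0]) (.leaf (nat_lit 2633) (nat_lit 0) [nat_lit 1, nat_lit 3, nat_lit 2, nat_lit 3, nat_lit 1, nat_lit 0, nat_lit 1, nat_lit 3, nat_lit 2, nat_lit 3, nat_lit 1, nat_lit 0, nat_lit 1, nat_lit 3, nat_lit 2, nat_lit 3, nat_lit 1])) (.node (nat_lit 4396) (.leaf (nat_lit 2628) (nat_lit 1) [nat_lit 0, nat_lit 1, nat_lit 3, nat_lit 2, nat_lit 3, nat_lit 1, nat_lit 0, nat_lit 1, nat_lit 3, nat_lit 2, nat_lit 3, nat_lit 1, nat_lit 0, nat_lit 1, nat_lit 3, nat_lit 2, nat_lit 3]) (.node (nat_lit 4397) (.leaf (nat_lit 2629) (nat_lit 3) [nat_lit 1, nat_lit 0, nat_lit 1, nat_lit 3, nat_lit 2, nat_lit 3, nat_lit 1, nat_lit 0, nat_lit 1, nat_lit 3, nat_lit 2, nat_lit 3, nat_lit 1, nat_lit 0, nat_lit 1, nat_lit 3, nat_lit 2]) (.leaf (nat_lit 2630) (nat_lit 2) [nat_lit 3, nat_lit 1, nat_lit 0, nat_lit 1, nat_lit 3, nat_lit 2, nat_lit 3, nat_lit 1, nat_lit 0, nat_lit 1, nat_lit 3, nat_lit 2, nat_lit 3, nat_lit 1, nat_lit 0, nat_lit 1, nat_lit 3]))))) (.node (nat_lit 4403) (.node (nat_lit 4400) (.node (nat_lit 4399) (.leaf (nat_lit 2631) (nat_lit 3) [nat_lit 2, nat_lit 3, nat_lit 1, nat_lit 0, nat_lit 1, nat_lit 3, nat_lit 2, nat_lit 3, nat_lit 1, nat_lit 0, nat_lit 1, nat_lit 3, nat_lit 2, nat_lit 3, nat_lit 1, nat_lit 0, nat_lit 1]) (.leaf (nat_lit 2632) (nat_lit 1) [nat_lit 3, nat_lit 2, nat_lit 3, nat_lit 1, nat_lit 0, nat_lit 1, nat_lit 3, nat_lit 2, nat_lit 3, nat_lit 1, nat_lit 0, nat_lit 1, nat_lit 3, nat_lit 2, nat_lit 3, nat_lit 1, nat_lit 0])) (.node (nat_lit 4401) (.leaf (nat_lit 2633) (nat_lit 0) [nat_lit 1, nat_lit 3, nat_lit 2, nat_lit 3, nat_lit 1, nat_lit 0, nat_lit 1, nat_lit 3, nat_lit 2, nat_lit 3, nat_lit 1, nat_lit 0, nat_lit 1, nat_lit 3, nat_lit 2, nat_lit 3, nat_lit 1]) (.node (nat_lit 4402) (.leaf (nat_lit 2628) (nat_lit 1) [nat_lit 0, nat_lit 1, nat_lit 3, nat_lit 2, nat_lit 3, nat_lit 1, nat_lit 0, nat_lit 1, nat_lit 3, nat_lit 2, nat_lit 3, nat_lit 1, nat_lit 0, nat_lit 1, nat_lit 3, nat_lit 2, nat_lit 3]) (.leaf (nat_lit 2629) (nat_lit 3) [nat_lit 1, nat_lit 0, nat_lit 1, nat_lit 3, nat_lit 2, nat_lit 3, nat_lit 1, nat_lit 0, nat_lit 1, nat_lit 3, nat_lit 2, nat_lit 3, nat_lit 1, nat_lit 0, nat_lit 1, nat_lit 3, nat_lit 2])))) (.node (nat_lit 4405) (.node (nat_lit 4404) (.leaf (nat_lit 2630) (nat_lit 2) [nat_lit 3, nat_lit 1, nat_lit 0, nat_lit 1, nat_lit 3, nat_lit 2, nat_lit 3, nat_lit 1, nat_lit 0, nat_lit 1, nat_lit 3, nat_lit 2, nat_lit 3, nat_lit 1, nat_lit 0, nat_lit 1, nat_lit 3]) (.leaf (nat_lit 2631) (nat_lit 3) [nat_lit 2, nat_lit 3, nat_lit 1, nat_lit 0, nat_lit 1, nat_lit 3, nat_lit 2, nat_lit 3, nat_lit 1, nat_lit 0, nat_lit 1, nat_lit 3, nat_lit 2, nat_lit 3, nat_lit 1, nat_lit 0, nat_lit 1])) (.node (nat_lit 4406) (.leaf (nat_lit 2632) (nat_lit 1) [nat_lit 3, nat_lit 2, nat_lit 3, nat_lit 1, nat_lit 0, nat_lit 1, nat_lit 3, nat_lit 2, nat_lit 3, nat_lit 1, nat_lit 0, nat_lit 1, nat_lit 3, nat_lit 2, nat_lit 3, nat_lit 1, nat_lit 0]) (.node (nat_lit 4407) (.leaf (nat_lit 2633) (nat_lit 0) [nat_lit 1, nat_lit 3, nat_lit 2, nat_lit 3, nat_lit 1, nat_lit 0, nat_lit 1, nat_lit 3, nat_lit 2, nat_lit 3, nat_lit 1, nat_lit 0, nat_lit 1, nat_lit 3, nat_lit 2, nat_lit 3, nat_lit 1]) (.leaf (nat_lit 2628) (nat_lit 1) [nat_lit 0, nat_lit 1, nat_lit 3, nat_lit 2, nat_lit 3, nat_lit 1, nat_lit 0, nat_lit 1, nat_lit 3, nat_lit 2, nat_lit 3, nat_lit 1, nat_lit 0, nat_lit 1, nat_lit 3, nat_lit 2, nat_lit 3]))))))) (.node (nat_lit 4427) (.node (nat_lit 4417) (.node (nat_lit 4412) (.node (nat_lit 4410) (.node (nat_lit 4409) (.leaf (nat_lit 2629) (nat_lit 3) [nat_lit 1, nat_lit 0, nat_lit 1, nat_lit 3, nat_lit 2, nat_lit 3, nat_lit 1, nat_lit 0, nat_lit 1, nat_lit 3, nat_lit 2, nat_lit 3, nat_lit 1, nat_lit 0, nat_lit 1, nat_lit 3, nat_lit 2]) (.leaf (nat_lit 2630) (nat_lit 2) [nat_lit 3, nat_lit 1, nat_lit 0, nat_lit 1, nat_lit 3, nat_lit 2, nat_lit 3, nat_lit 1, nat_lit 0, nat_lit 1, nat_lit 3, nat_lit 2, nat_lit 3, nat_lit 1, nat_lit 0, nat_lit 1, nat_lit 3])) (.node (nat_lit 4411) (.leaf (nat_lit 2630) (nat_lit 2) [nat_lit 3, nat_lit 1, nat_lit 0, nat_lit 1, nat_lit 3, nat_lit 2, nat_lit 3, nat_lit 1, nat_lit 0, nat_lit 1, nat_lit 3, nat_lit 2, nat_lit 3, nat_lit 1, nat_lit 0, nat_lit 1, nat_lit 3]) (.leaf (nat_lit 2631) (nat_lit 3) [nat_lit 2, nat_lit 3, nat_lit 1, nat_lit 0, nat_lit 1, nat_lit 3, nat_lit 2, nat_lit 3, nat_lit 1, nat_lit 0, nat_lit 1, nat_lit 3, nat_lit 2, nat_lit 3, nat_lit 1, nat_lit 0, nat_lit 1]))) (.node (nat_lit 4414) (.node (nat_lit 4413) (.leaf (nat_lit 2632) (nat_lit 1) [nat_lit 3, nat_lit 2, nat_lit 3, nat_lit 1, nat_lit 0, nat_lit 1, nat_lit 3, nat_lit 2, nat_lit 3, nat_lit 1, nat_lit 0, nat_lit 1, nat_lit 3, nat_lit 2, nat_lit 3, nat_lit 1, nat_lit 0]) (.leaf (nat_lit 2633) (nat_lit 0) [nat_lit 1, nat_lit 3, nat_lit 2, nat_lit 3, nat_lit 1, nat_lit 0, nat_lit 1, nat_lit 3, nat_lit 2, nat_lit 3, nat_lit 1, nat_lit 0, nat_lit 1, nat_lit 3, nat_lit 2, nat_lit 3, nat_lit 1])) (.node (nat_lit 4415) (.leaf (nat_lit 2628) (nat_lit 1) [nat_lit 0, nat_lit 1, nat_lit 3, nat_lit 2, nat_lit 3, nat_lit 1, nat_lit 0, nat_lit 1, nat_lit 3, nat_lit 2, nat_lit 3, nat_lit 1, nat_lit 0, nat_lit 1, nat_lit 3, nat_lit 2, nat_lit 3]) (.node (nat_lit 4416) (.leaf (nat_lit 2629) (nat_lit 3) [nat_lit 1, nat_lit 0, nat_lit 1, nat_lit 3, nat_lit 2, nat_lit 3, nat_lit 1, nat_lit 0, nat_lit 1, nat_lit 3, nat_lit 2, nat_lit 3, nat_lit 1, nat_lit 0, nat_lit 1, nat_lit 3, nat_lit 2]) (.leaf (nat_lit 2630) (nat_lit 2) [nat_lit 3, nat_lit 1, nat_lit 0, nat_lit 1, nat_lit 3, nat_lit 2, nat_lit 3, nat_lit 1, nat_lit 0, nat_lit 1, nat_lit 3, nat_lit 2, nat_lit 3, nat_lit 1, nat_lit 0, nat_lit 1, nat_lit 3]))))) (.node (nat_lit 4422) (.node (nat_lit 4419) (.node (nat_lit 4418) (.leaf (nat_lit 2631) (nat_lit 3) [nat_lit 2, nat_lit 3, nat_lit 1, nat_lit 0, nat_lit 1, nat_lit 3, nat_lit 2, nat_lit 3, nat_lit 1, nat_lit 0, nat_lit 1, nat_lit 3, nat_lit 2, nat_lit 3, nat_lit 1, nat_lit 0, nat_lit 1]) (.leaf (nat_lit 2632) (nat_lit 1) [nat_lit 3, nat_lit 2, nat_lit 3, nat_lit 1, nat_lit 0, nat_lit 1, nat_lit 3, nat_lit 2, nat_lit 3, nat_lit 1, nat_lit 0, nat_lit 1, nat_lit 3, nat_lit 2, nat_lit 3, nat_lit 1, nat_lit 0])) (.node (nat_lit 4420) (.leaf (nat_lit 2633) (nat_lit 0) [nat_lit 1, nat_lit 3, nat_lit 2, nat_lit 3, nat_lit 1, nat_lit 0, nat_lit 1, nat_lit 3, nat_lit 2, nat_lit 3, nat_lit 1, nat_lit 0, nat_lit 1, nat_lit 3, nat_lit 2, nat_lit 3, nat_lit 1]) (.node (nat_lit 4421) (.leaf (nat_lit 2628) (nat_lit 1) [nat_lit 0, nat_lit 1, nat_lit 3, nat_lit 2, nat_lit 3, nat_lit 1, nat_lit 0, nat_lit 1, nat_lit 3, nat_lit 2, nat_lit 3, nat_lit 1, nat_lit 0, nat_lit 1, nat_lit 3, nat_lit 2, nat_lit 3]) (.leaf (nat_lit 2629) (nat_lit 3) [nat_lit 1, nat_lit 0, nat_lit 1, nat_lit 3, nat_lit 2, nat_lit 3, nat_lit 1, nat_lit 0, nat_lit 1, nat_lit 3, nat_lit 2, nat_lit 3, nat_lit 1, nat_lit 0, nat_lit 1, nat_lit 3, nat_lit 2])))) (.node (nat_lit 4424) (.node (nat_lit 4423) (.leaf (nat_lit 2630) (nat_lit 2) [nat_lit 3, nat_lit 1, nat_lit 0, nat_lit 1, nat_lit 3, nat_lit 2, nat_lit 3, nat_lit 1, nat_lit 0, nat_lit 1, nat_lit 3, nat_lit 2, nat_lit 3, nat_lit 1, nat_lit 0, nat_lit 1, nat_lit 3]) (.leaf (nat_lit 2631) (nat_lit 3) [nat_lit 2, nat_lit 3, nat_lit 1, nat_lit 0, nat_lit 1, nat_lit 3, nat_lit 2, nat_lit 3, nat_lit 1, nat_lit 0, nat_lit 1, nat_lit 3, nat_lit 2, nat_lit 3, nat_lit 1, nat_lit 0, nat_lit 1])) (.node (nat_lit 4425) (.leaf (nat_lit 2632) (nat_lit 1) [nat_lit 3, nat_lit 2, nat_lit 3, nat_lit 1, nat_lit 0, nat_lit 1, nat_lit 3, nat_lit 2, nat_lit 3, nat_lit 1, nat_lit 0, nat_lit 1, nat_lit 3, nat_lit 2, nat_lit 3, nat_lit 1, nat_lit 0]) (.node (nat_lit 4426) (.leaf (nat_lit 2633) (nat_lit 0) [nat_lit 1, nat_lit 3, nat_lit 2, nat_lit 3, nat_lit 1, nat_lit 0, nat_lit 1, nat_lit 3, nat_lit 2, nat_lit 3, nat_lit 1, nat_lit 0, nat_lit 1, nat_lit 3, nat_lit 2, nat_lit 3, nat_lit 1]) (.leaf (nat_lit 2628) (nat_lit 1) [nat_lit 0, nat_lit 1, nat_lit 3, nat_lit 2, nat_lit 3, nat_lit 1, nat_lit 0, nat_lit 1, nat_lit 3, nat_lit 2, nat_lit 3, nat_lit 1, nat_lit 0, nat_lit 1, nat_lit 3, nat_lit 2, nat_lit 3])))))) (.node (nat_lit 4436) (.node (nat_lit 4431) (.node (nat_lit 4429) (.node (nat_lit 4428) (.leaf (nat_lit 2629) (nat_lit 3) [nat_lit 1, nat_lit 0, nat_lit 1, nat_lit 3, nat_lit 2, nat_lit 3, nat_lit 1, nat_lit 0, nat_lit 1, nat_lit 3, nat_lit 2, nat_lit 3, nat_lit 1, nat_lit 0, nat_lit 1, nat_lit 3, nat_lit 2]) (.leaf (nat_lit 2739) (nat_lit 3) [nat_lit 2, nat_lit 3, nat_lit 1, nat_lit 2, nat_lit 1, nat_lit 3, nat_lit 2, nat_lit 3, nat_lit 1, nat_lit 2, nat_lit 1, nat_lit 3, nat_lit 2, nat_lit 3, nat_lit 1, nat_lit 2, nat_lit 1])) (.node (nat_lit 4430) (.leaf (nat_lit 2740) (nat_lit 1) [nat_lit 3, nat_lit 2, nat_lit 3, nat_lit 1, nat_lit 2, nat_lit 1, nat_lit 3, nat_lit 2, nat_lit 3, nat_lit 1, nat_lit 2, nat_lit 1, nat_lit 3, nat_lit 2, nat_lit 3, nat_lit 1, nat_lit 2]) (.leaf (nat_lit 2741) (nat_lit 2) [nat_lit 1, nat_lit 3, nat_lit 2, nat_lit 3, nat_lit 1, nat_lit 2, nat_lit 1, nat_lit 3, nat_lit 2, nat_lit 3, nat_lit 1, nat_lit 2, nat_lit 1, nat_lit 3, nat_lit 2, nat_lit 3, nat_lit 1]))) (.node (nat_lit 4433) (.node (nat_lit 4432) (.leaf (nat_lit 2736) (nat_lit 1) [nat_lit 2, nat_lit 1, nat_lit 3, nat_lit 2, nat_lit 3, nat_lit 1, nat_lit 2, nat_lit 1, nat_lit 3, nat_lit 2, nat_lit 3, nat_lit 1, nat_lit 2, nat_lit 1, nat_lit 3, nat_lit 2, nat_lit 3]) (.leaf (nat_lit 2737) (nat_lit 3) [nat_lit 1, nat_lit 2, nat_lit 1, nat_lit 3, nat_lit 2, nat_lit 3, nat_lit 1, nat_lit 2, nat_lit 1, nat_lit 3, nat_lit 2, nat_lit 3, nat_lit 1, nat_lit 2, nat_lit 1, nat_lit 3, nat_lit 2])) (.node (nat_lit 4434) (.leaf (nat_lit 2738) (nat_lit 2) [nat_lit 3, nat_lit 1, nat_lit 2, nat_lit 1, nat_lit 3, nat_lit 2, nat_lit 3, nat_lit 1, nat_lit 2, nat_lit 1, nat_lit 3, nat_lit 2, nat_lit 3, nat_lit 1, nat_lit 2, nat_lit 1, nat_lit 3]) (.node (nat_lit 4435) (.leaf (nat_lit 2739) (nat_lit 3) [nat_lit 2, nat_lit 3, nat_lit 1, nat_lit 2, nat_lit 1, nat_lit 3, nat_lit 2, nat_lit 3, nat_lit 1, nat_lit 2, nat_lit 1, nat_lit 3, nat_lit 2, nat_lit 3, nat_lit 1, nat_lit 2, nat_lit 1]) (.leaf (nat_lit 2740) (nat_lit 1) [nat_lit 3, nat_lit 2, nat_lit 3, nat_lit 1, nat_lit 2, nat_lit 1, nat_lit 3, nat_lit 2, nat_lit 3, nat_lit 1, nat_lit 2, nat_lit 1, nat_lit 3, nat_lit 2, nat_lit 3, nat_lit 1, nat_lit 2]))))) (.node (nat_lit 4441) (.node (nat_lit 4438) (.node (nat_lit 4437) (.leaf (nat_lit 2741) (nat_lit 2) [nat_lit 1, nat_lit 3, nat_lit 2, nat_lit 3, nat_lit 1, nat_lit 2, nat_lit 1, nat_lit 3, nat_lit 2, nat_lit 3, nat_lit 1, nat_lit 2, nat_lit 1, nat_lit 3, nat_lit 2, nat_lit 3, nat_lit 1]) (.leaf (nat_lit 2736) (nat_lit 1) [nat_lit 2, nat_lit 1, nat_lit 3, nat_lit 2, nat_lit 3, nat_lit 1, nat_lit 2, nat_lit 1, nat_lit 3, nat_lit 2, nat_lit 3, nat_lit 1, nat_lit 2, nat_lit 1, nat_lit 3, nat_lit 2, nat_lit 3])) (.node (nat_lit 4439) (.leaf (nat_lit 2737) (nat_lit 3) [nat_lit 1, nat_lit 2, nat_lit 1, nat_lit 3, nat_lit 2, nat_lit 3, nat_lit 1, nat_lit 2, nat_lit 1, nat_lit 3, nat_lit 2, nat_lit 3, nat_lit 1, nat_lit 2, nat_lit 1, nat_lit 3, nat_lit 2]) (.node (nat_lit 4440) (.leaf (nat_lit 2738) (nat_lit 2) [nat_lit 3, nat_lit 1, nat_lit 2, nat_lit 1, nat_lit 3, nat_lit 2, nat_lit 3, nat_lit 1, nat_lit 2, nat_lit 1, nat_lit 3, nat_lit 2, nat_lit 3, nat_lit 1, nat_lit 2, nat_lit 1, nat_lit 3]) (.leaf (nat_lit 2739) (nat_lit 3) [nat_lit 2, nat_lit 3, nat_lit 1, nat_lit 2, nat_lit 1, nat_lit 3, nat_lit 2, nat_lit 3, nat_lit 1, nat_lit 2, nat_lit 1, nat_lit 3, nat_lit 2, nat_lit 3, nat_lit 1, nat_lit 2, nat_lit 1])))) (.node (nat_lit 4443) (.node (nat_lit 4442) (.leaf (nat_lit 2740) (nat_lit 1) [nat_lit 3, nat_lit 2, nat_lit 3, nat_lit 1, nat_lit 2, nat_lit 1, nat_lit 3, nat_lit 2, nat_lit 3, nat_lit 1, nat_lit 2, nat_lit 1, nat_lit 3, nat_lit 2, nat_lit 3, nat_lit 1, nat_lit 2]) (.leaf (nat_lit 2741) (nat_lit 2) [nat_lit 1, nat_lit 3, nat_lit 2, nat_lit 3, nat_lit 1, nat_lit 2, nat_lit 1, nat_lit 3, nat_lit 2, nat_lit 3, nat_lit 1, nat_lit 2, nat_lit 1, nat_lit 3, nat_lit 2, nat_lit 3, nat_lit 1])) (.node (nat_lit 4444) (.leaf (nat_lit 2736) (nat_lit 1) [nat_lit 2, nat_lit 1, nat_lit 3, nat_lit 2, nat_lit 3, nat_lit 1, nat_lit 2, nat_lit 1, nat_lit 3, nat_lit 2, nat_lit 3, nat_lit 1, nat_lit 2, nat_lit 1, nat_lit 3, nat_lit 2, nat_lit 3]) (.node (nat_lit 4445) (.leaf (nat_lit 2737) (nat_lit 3) [nat_lit 1, nat_lit 2, nat_lit 1, nat_lit 3, nat_lit 2, nat_lit 3, nat_lit 1, nat_lit 2, nat_lit 1, nat_lit 3, nat_lit 2, nat_lit 3, nat_lit 1, nat_lit 2, nat_lit 1, nat_lit 3, nat_lit 2]) (.leaf (nat_lit 2738) (nat_lit 2) [nat_lit 3, nat_lit 1, nat_lit 2, nat_lit 1, nat_lit 3, nat_lit 2, nat_lit 3, nat_lit 1, nat_lit 2, nat_lit 1, nat_lit 3, nat_lit 2, nat_lit 3, nat_lit 1, nat_lit 2, nat_lit 1, nat_lit 3])))))))) (.node (nat_lit 4484) (.node (nat_lit 4465) (.node (nat_lit 4455) (.node (nat_lit 4450) (.node (nat_lit 4448) (.node (nat_lit 4447) (.leaf (nat_lit 2738) (nat_lit 2) [nat_lit 3, nat_lit 1, nat_lit 2, nat_lit 1, nat_lit 3, nat_lit 2, nat_lit 3, nat_lit 1, nat_lit 2, nat_lit 1, nat_lit 3, nat_lit 2, nat_lit 3, nat_lit 1, nat_lit 2, nat_lit 1, nat_lit 3]) (.leaf (nat_lit 2739) (nat_lit 3) [nat_lit 2, nat_lit 3, nat_lit 1, nat_lit 2, nat_lit 1, nat_lit 3, nat_lit 2, nat_lit 3, nat_lit 1, nat_lit 2, nat_lit 1, nat_lit 3, nat_lit 2, nat_lit 3, nat_lit 1, nat_lit 2, nat_lit 1])) (.node (nat_lit 4449) (.leaf (nat_lit 2740) (nat_lit 1) [nat_lit 3, nat_lit 2, nat_lit 3, nat_lit 1, nat_lit 2, nat_lit 1, nat_lit 3, nat_lit 2, nat_lit 3, nat_lit 1, nat_lit 2, nat_lit 1, nat_lit 3, nat_lit 2, nat_lit 3, nat_lit 1, nat_lit 2]) (.leaf (nat_lit 2741) (nat_lit 2) [nat_lit 1, nat_lit 3, nat_lit 2, nat_lit 3, nat_lit 1, nat_lit 2, nat_lit 1, nat_lit 3, nat_lit 2, nat_lit 3, nat_lit 1, nat_lit 2, nat_lit 1, nat_lit 3, nat_lit 2, nat_lit 3, nat_lit 1]))) (.node (nat_lit 4452) (.node (nat_lit 4451) (.leaf (nat_lit 2736) (nat_lit 1) [nat_lit 2, nat_lit 1, nat_lit 3, nat_lit 2, nat_lit 3, nat_lit 1, nat_lit 2, nat_lit 1, nat_lit 3, nat_lit 2, nat_lit 3, nat_lit 1, nat_lit 2, nat_lit 1, nat_lit 3, nat_lit 2, nat_lit 3]) (.leaf (nat_lit 2737) (nat_lit 3) [nat_lit 1, nat_lit 2, nat_lit 1, nat_lit 3, nat_lit 2, nat_lit 3, nat_lit 1, nat_lit 2, nat_lit 1, nat_lit 3, nat_lit 2, nat_lit 3, nat_lit 1, nat_lit 2, nat_lit 1, nat_lit 3, nat_lit 2])) (.node (nat_lit 4453) (.leaf (nat_lit 2738) (nat_lit 2) [nat_lit 3, nat_lit 1, nat_lit 2, nat_lit 1, nat_lit 3, nat_lit 2, nat_lit 3, nat_lit 1, nat_lit 2, nat_lit 1, nat_lit 3, nat_lit 2, nat_lit 3, nat_lit 1, nat_lit 2, nat_lit 1, nat_lit 3]) (.node (nat_lit 4454) (.leaf (nat_lit 2739) (nat_lit 3) [nat_lit 2, nat_lit 3, nat_lit 1, nat_lit 2, nat_lit 1, nat_lit 3, nat_lit 2, nat_lit 3, nat_lit 1, nat_lit 2, nat_lit 1, nat_lit 3, nat_lit 2, nat_lit 3, nat_lit 1, nat_lit 2, nat_lit 1]) (.leaf (nat_lit 2740) (nat_lit 1) [nat_lit 3, nat_lit 2, nat_lit 3, nat_lit 1, nat_lit 2, nat_lit 1, nat_lit 3, nat_lit 2, nat_lit 3, nat_lit 1, nat_lit 2, nat_lit 1, nat_lit 3, nat_lit 2, nat_lit 3, nat_lit 1, nat_lit 2]))))) (.node (nat_lit 4460) (.node (nat_lit 4457) (.node (nat_lit 4456) (.leaf (nat_lit 2741) (nat_lit 2) [nat_lit 1, nat_lit 3, nat_lit 2, nat_lit 3, nat_lit 1, nat_lit 2, nat_lit 1, nat_lit 3, nat_lit 2, nat_lit 3, nat_lit 1, nat_lit 2, nat_lit 1, nat_lit 3, nat_lit 2, nat_lit 3, nat_lit 1]) (.leaf (nat_lit 2736) (nat_lit 1) [nat_lit 2, nat_lit 1, nat_lit 3, nat_lit 2, nat_lit 3, nat_lit 1, nat_lit 2, nat_lit 1, nat_lit 3, nat_lit 2, nat_lit 3, nat_lit 1, nat_lit 2, nat_lit 1, nat_lit 3, nat_lit 2, nat_lit 3])) (.node (nat_lit 4458) (.leaf (nat_lit 2737) (nat_lit 3) [nat_lit 1, nat_lit 2, nat_lit 1, nat_lit 3, nat_lit 2, nat_lit 3, nat_lit 1, nat_lit 2, nat_lit 1, nat_lit 3, nat_lit 2, nat_lit 3, nat_lit 1, nat_lit 2, nat_lit 1, nat_lit 3, nat_lit 2]) (.node (nat_lit 4459) (.leaf (nat_lit 2738) (nat_lit 2) [nat_lit 3, nat_lit 1, nat_lit 2, nat_lit 1, nat_lit 3, nat_lit 2, nat_lit 3, nat_lit 1, nat_lit 2, nat_lit 1, nat_lit 3, nat_lit 2, nat_lit 3, nat_lit 1, nat_lit 2, nat_lit 1, nat_lit 3]) (.leaf (nat_lit 2739) (nat_lit 3) [nat_lit 2, nat_lit 3, nat_lit 1, nat_lit 2, nat_lit 1, nat_lit 3, nat_lit 2, nat_lit 3, nat_lit 1, nat_lit 2, nat_lit 1, nat_lit 3, nat_lit 2, nat_lit 3, nat_lit 1, nat_lit 2, nat_lit 1])))) (.node (nat_lit 4462) (.node (nat_lit 4461) (.leaf (nat_lit 2740) (nat_lit 1) [nat_lit 3, nat_lit 2, nat_lit 3, nat_lit 1, nat_lit 2, nat_lit 1, nat_lit 3, nat_lit 2, nat_lit 3, nat_lit 1, nat_lit 2, nat_lit 1, nat_lit 3, nat_lit 2, nat_lit 3, nat_lit 1, nat_lit 2]) (.leaf (nat_lit 2741) (nat_lit 2) [nat_lit 1, nat_lit 3, nat_lit 2, nat_lit 3, nat_lit 1, nat_lit 2, nat_lit 1, nat_lit 3, nat_lit 2, nat_lit 3, nat_lit 1, nat_lit 2, nat_lit 1, nat_lit 3, nat_lit 2, nat_lit 3, nat_lit 1])) (.node (nat_lit 4463) (.leaf (nat_lit 2736) (nat_lit 1) [nat_lit 2, nat_lit 1, nat_lit 3, nat_lit 2, nat_lit 3, nat_lit 1, nat_lit 2, nat_lit 1, nat_lit 3, nat_lit 2, nat_lit 3, nat_lit 1, nat_lit 2, nat_lit 1, nat_lit 3, nat_lit 2, nat_lit 3]) (.node (nat_lit 4464) (.leaf (nat_lit 2737) (nat_lit 3) [nat_lit 1, nat_lit 2, nat_lit 1, nat_lit 3, nat_lit 2, nat_lit 3, nat_lit 1, nat_lit 2, nat_lit 1, nat_lit 3, nat_lit 2, nat_lit 3, nat_lit 1, nat_lit 2, nat_lit 1, nat_lit 3, nat_lit 2]) (.leaf (nat_lit 2847) (nat_lit 3) [nat_lit 2, nat_lit 3, nat_lit 1, nat_lit 3, nat_lit 1, nat_lit 3, nat_lit 2, nat_lit 3, nat_lit 1, nat_lit 3, nat_lit 1, nat_lit 3, nat_lit 2, nat_lit 3, nat_lit 1, nat_lit 3, nat_lit 1])))))) (.node (nat_lit 4474) (.node (nat_lit 4469) (.node (nat_lit 4467) (.node (nat_lit 4466) (.leaf (nat_lit 2848) (nat_lit 1) [nat_lit 3, nat_lit 2, nat_lit 3, nat_lit 1, nat_lit 3, nat_lit 1, nat_lit 3, nat_lit 2, nat_lit 3, nat_lit 1, nat_lit 3, nat_lit 1, nat_lit 3, nat_lit 2, nat_lit 3, nat_lit 1, nat_lit 3]) (.leaf (nat_lit 2849) (nat_lit 3) [nat_lit 1, nat_lit 3, nat_lit 2, nat_lit 3, nat_lit 1, nat_lit 3, nat_lit 1, nat_lit 3, nat_lit 2, nat_lit 3, nat_lit 1, nat_lit 3, nat_lit 1, nat_lit 3, nat_lit 2, nat_lit 3, nat_lit 1])) (.node (nat_lit 4468) (.leaf (nat_lit 2844) (nat_lit 1) [nat_lit 3, nat_lit 1, nat_lit 3, nat_lit 2, nat_lit 3, nat_lit 1, nat_lit 3, nat_lit 1, nat_lit 3, nat_lit 2, nat_lit 3, nat_lit 1, nat_lit 3, nat_lit 1, nat_lit 3, nat_lit 2, nat_lit 3]) (.leaf (nat_lit 2845) (nat_lit 3) [nat_lit 1, nat_lit 3, nat_lit 1, nat_lit 3, nat_lit 2, nat_lit 3, nat_lit 1, nat_lit 3, nat_lit 1, nat_lit 3, nat_lit 2, nat_lit 3, nat_lit 1, nat_lit 3, nat_lit 1, nat_lit 3, nat_lit 2]))) (.node (nat_lit 4471) (.node (nat_lit 4470) (.leaf (nat_lit 2846) (nat_lit 2) [nat_lit 3, nat_lit 1, nat_lit 3, nat_lit 1, nat_lit 3, nat_lit 2, nat_lit 3, nat_lit 1, nat_lit 3, nat_lit 1, nat_lit 3, nat_lit 2, nat_lit 3, nat_lit 1, nat_lit 3, nat_lit 1, nat_lit 3]) (.leaf (nat_lit 2847) (nat_lit 3) [nat_lit 2, nat_lit 3, nat_lit 1, nat_lit 3, nat_lit 1, nat_lit 3, nat_lit 2, nat_lit 3, nat_lit 1, nat_lit 3, nat_lit 1, nat_lit 3, nat_lit 2, nat_lit 3, nat_lit 1, nat_lit 3, nat_lit 1])) (.node (nat_lit 4472) (.leaf (nat_lit 2848) (nat_lit 1) [nat_lit 3, nat_lit 2, nat_lit 3, nat_lit 1, nat_lit 3, nat_lit 1, nat_lit 3, nat_lit 2, nat_lit 3, nat_lit 1, nat_lit 3, nat_lit 1, nat_lit 3, nat_lit 2, nat_lit 3, nat_lit 1, nat_lit 3]) (.node (nat_lit 4473) (.leaf (nat_lit 2849) (nat_lit 3) [nat_lit 1, nat_lit 3, nat_lit 2, nat_lit 3, nat_lit 1, nat_lit 3, nat_lit 1, nat_lit 3, nat_lit 2, nat_lit 3, nat_lit 1, nat_lit 3, nat_lit 1, nat_lit 3, nat_lit 2, nat_lit 3, nat_lit 1]) (.leaf (nat_lit 2844) (nat_lit 1) [nat_lit 3, nat_lit 1, nat_lit 3, nat_lit 2, nat_lit 3, nat_lit 1, nat_lit 3, nat_lit 1, nat_lit 3, nat_lit 2, nat_lit 3, nat_lit 1, nat_lit 3, nat_lit 1, nat_lit 3, nat_lit 2, nat_lit 3]))))) (.node (nat_lit 4479) (.node (nat_lit 4476) (.node (nat_lit 4475) (.leaf (nat_lit 2845) (nat_lit 3) [nat_lit 1, nat_lit 3, nat_lit 1, nat_lit 3, nat_lit 2, nat_lit 3, nat_lit 1, nat_lit 3, nat_lit 1, nat_lit 3, nat_lit 2, nat_lit 3, nat_lit 1, nat_lit 3, nat_lit 1, nat_lit 3, nat_lit 2]) (.leaf (nat_lit 2846) (nat_lit 2) [nat_lit 3, nat_lit 1, nat_lit 3, nat_lit 1, nat_lit 3, nat_lit 2, nat_lit 3, nat_lit 1, nat_lit 3, nat_lit 1, nat_lit 3, nat_lit 2, nat_lit 3, nat_lit 1, nat_lit 3, nat_lit 1, nat_lit 3])) (.node (nat_lit 4477) (.leaf (nat_lit 2847) (nat_lit 3) [nat_lit 2, nat_lit 3, nat_lit 1, nat_lit 3, nat_lit 1, nat_lit 3, nat_lit 2, nat_lit 3, nat_lit 1, nat_lit 3, nat_lit 1, nat_lit 3, nat_lit 2, nat_lit 3, nat_lit 1, nat_lit 3, nat_lit 1]) (.node (nat_lit 4478) (.leaf (nat_lit 2848) (nat_lit 1) [nat_lit 3, nat_lit 2, nat_lit 3, nat_lit 1, nat_lit 3, nat_lit 1, nat_lit 3, nat_lit 2, nat_lit 3, nat_lit 1, nat_lit 3, nat_lit 1, nat_lit 3, nat_lit 2, nat_lit 3, nat_lit 1, nat_lit 3]) (.leaf (nat_lit 2849) (nat_lit 3) [nat_lit 1, nat_lit 3, nat_lit 2, nat_lit 3, nat_lit 1, nat_lit 3, nat_lit 1, nat_lit 3, nat_lit 2, nat_lit 3, nat_lit 1, nat_lit 3, nat_lit 1, nat_lit 3, nat_lit 2, nat_lit 3, nat_lit 1])))) (.node (nat_lit 4481) (.node (nat_lit 4480) (.leaf (nat_lit 2844) (nat_lit 1) [nat_lit 3, nat_lit 1, nat_lit 3, nat_lit 2, nat_lit 3, nat_lit 1, nat_lit 3, nat_lit 1, nat_lit 3, nat_lit 2, nat_lit 3, nat_lit 1, nat_lit 3, nat_lit 1, nat_lit 3, nat_lit 2, nat_lit 3]) (.leaf (nat_lit 2845) (nat_lit 3) [nat_lit 1, nat_lit 3, nat_lit 1, nat_lit 3, nat_lit 2, nat_lit 3, nat_lit 1, nat_lit 3, nat_lit 1, nat_lit 3, nat_lit 2, nat_lit 3, nat_lit 1, nat_lit 3, nat_lit 1, nat_lit 3, nat_lit 2])) (.node (nat_lit 4482) (.leaf (nat_lit 2846) (nat_lit 2) [nat_lit 3, nat_lit 1, nat_lit 3, nat_lit 1, nat_lit 3, nat_lit 2, nat_lit 3, nat_lit 1, nat_lit 3, nat_lit 1, nat_lit 3, nat_lit 2, nat_lit 3, nat_lit 1, nat_lit 3, nat_lit 1, nat_lit 3]) (.node (nat_lit 4483) (.leaf (nat_lit 2846) (nat_lit 2) [nat_lit 3, nat_lit 1, nat_lit 3, nat_lit 1, nat_lit 3, nat_lit 2, nat_lit 3, nat_lit 1, nat_lit 3, nat_lit 1, nat_lit 3, nat_lit 2, nat_lit 3, nat_lit 1, nat_lit 3, nat_lit 1, nat_lit 3]) (.leaf (nat_lit 2847) (nat_lit 3) [nat_lit 2, nat_lit 3, nat_lit 1, nat_lit 3, nat_lit 1, nat_lit 3, nat_lit 2, nat_lit 3, nat_lit 1, nat_lit 3, nat_lit 1, nat_lit 3, nat_lit 2, nat_lit 3, nat_lit 1, nat_lit 3, nat_lit 1]))))))) (.node (nat_lit 4503) (.node (nat_lit 4493) (.node (nat_lit 4488) (.node (nat_lit 4486) (.node (nat_lit 4485) (.leaf (nat_lit 2848) (nat_lit 1) [nat_lit 3, nat_lit 2, nat_lit 3, nat_lit 1, nat_lit 3, nat_lit 1, nat_lit 3, nat_lit 2, nat_lit 3, nat_lit 1, nat_lit 3, nat_lit 1, nat_lit 3, nat_lit 2, nat_lit 3, nat_lit 1, nat_lit 3]) (.leaf (nat_lit 2849) (nat_lit 3) [nat_lit 1, nat_lit 3, nat_lit 2, nat_lit 3, nat_lit 1, nat_lit 3, nat_lit 1, nat_lit 3, nat_lit 2, nat_lit 3, nat_lit 1, nat_lit 3, nat_lit 1, nat_lit 3, nat_lit 2, nat_lit 3, nat_lit 1])) (.node (nat_lit 4487) (.leaf (nat_lit 2844) (nat_lit 1) [nat_lit 3, nat_lit 1, nat_lit 3, nat_lit 2, nat_lit 3, nat_lit 1, nat_lit 3, nat_lit 1, nat_lit 3, nat_lit 2, nat_lit 3, nat_lit 1, nat_lit 3, nat_lit 1, nat_lit 3, nat_lit 2, nat_lit 3]) (.leaf (nat_lit 2845) (nat_lit 3) [nat_lit 1, nat_lit 3, nat_lit 1, nat_lit 3, nat_lit 2, nat_lit 3, nat_lit 1, nat_lit 3, nat_lit 1, nat_lit 3, nat_lit 2, nat_lit 3, nat_lit 1, nat_lit 3, nat_lit 1, nat_lit 3, nat_lit 2]))) (.node (nat_lit 4490) (.node (nat_lit 4489) (.leaf (nat_lit 2846) (nat_lit 2) [nat_lit 3, nat_lit 1, nat_lit 3, nat_lit 1, nat_lit 3, nat_lit 2, nat_lit 3, nat_lit 1, nat_lit 3, nat_lit 1, nat_lit 3, nat_lit 2, nat_lit 3, nat_lit 1, nat_lit 3, nat_lit 1, nat_lit 3]) (.leaf (nat_lit 2847) (nat_lit 3) [nat_lit 2, nat_lit 3, nat_lit 1, nat_lit 3, nat_lit 1, nat_lit 3, nat_lit 2, nat_lit 3, nat_lit 1, nat_lit 3, nat_lit 1, nat_lit 3, nat_lit 2, nat_lit 3, nat_lit 1, nat_lit 3, nat_lit 1])) (.node (nat_lit 4491) (.leaf (nat_lit 2848) (nat_lit 1) [nat_lit 3, nat_lit 2, nat_lit 3, nat_lit 1, nat_lit 3, nat_lit 1, nat_lit 3, nat_lit 2, nat_lit 3, nat_lit 1, nat_lit 3, nat_lit 1, nat_lit 3, nat_lit 2, nat_lit 3, nat_lit 1, nat_lit 3]) (.node (nat_lit 4492) (.leaf (nat_lit 2849) (nat_lit 3) [nat_lit 1, nat_lit 3, nat_lit 2, nat_lit 3, nat_lit 1, nat_lit 3, nat_lit 1, nat_lit 3, nat_lit 2, nat_lit 3, nat_lit 1, nat_lit 3, nat_lit 1, nat_lit 3, nat_lit 2, nat_lit 3, nat_lit 1]) (.leaf (nat_lit 2844) (nat_lit 1) [nat_lit 3, nat_lit 1, nat_lit 3, nat_lit 2, nat_lit 3, nat_lit 1, nat_lit 3, nat_lit 1, nat_lit 3, nat_lit 2, nat_lit 3, nat_lit 1, nat_lit 3, nat_lit 1, nat_lit 3, nat_lit 2, nat_lit 3]))))) (.node (nat_lit 4498) (.node (nat_lit 4495) (.node (nat_lit 4494) (.leaf (nat_lit 2845) (nat_lit 3) [nat_lit 1, nat_lit 3, nat_lit 1, nat_lit 3, nat_lit 2, nat_lit 3, nat_lit 1, nat_lit 3, nat_lit 1, nat_lit 3, nat_lit 2, nat_lit 3, nat_lit 1, nat_lit 3, nat_lit 1, nat_lit 3, nat_lit 2]) (.leaf (nat_lit 2846) (nat_lit 2) [nat_lit 3, nat_lit 1, nat_lit 3, nat_lit 1, nat_lit 3, nat_lit 2, nat_lit 3, nat_lit 1, nat_lit 3, nat_lit 1, nat_lit 3, nat_lit 2, nat_lit 3, nat_lit 1, nat_lit 3, nat_lit 1, nat_lit 3])) (.node (nat_lit 4496) (.leaf (nat_lit 2847) (nat_lit 3) [nat_lit 2, nat_lit 3, nat_lit 1, nat_lit 3, nat_lit 1, nat_lit 3, nat_lit 2, nat_lit 3, nat_lit 1, nat_lit 3, nat_lit 1, nat_lit 3, nat_lit 2, nat_lit 3, nat_lit 1, nat_lit 3, nat_lit 1]) (.node (nat_lit 4497) (.leaf (nat_lit 2848) (nat_lit 1) [nat_lit 3, nat_lit 2, nat_lit 3, nat_lit 1, nat_lit 3, nat_lit 1, nat_lit 3, nat_lit 2, nat_lit 3, nat_lit 1, nat_lit 3, nat_lit 1, nat_lit 3, nat_lit 2, nat_lit 3, nat_lit 1, nat_lit 3]) (.leaf (nat_lit 2849) (nat_lit 3) [nat_lit 1, nat_lit 3, nat_lit 2, nat_lit 3, nat_lit 1, nat_lit 3, nat_lit 1, nat_lit 3, nat_lit 2, nat_lit 3, nat_lit 1, nat_lit 3, nat_lit 1, nat_lit 3, nat_lit 2, nat_lit 3, nat_lit 1])))) (.node (nat_lit 4500) (.node (nat_lit 4499) (.leaf (nat_lit 2844) (nat_lit 1) [nat_lit 3, nat_lit 1, nat_lit 3, nat_lit 2, nat_lit 3, nat_lit 1, nat_lit 3, nat_lit 1, nat_lit 3, nat_lit 2, nat_lit 3, nat_lit 1, nat_lit 3, nat_lit 1, nat_lit 3, nat_lit 2, nat_lit 3]) (.leaf (nat_lit 2845) (nat_lit 3) [nat_lit 1, nat_lit 3, nat_lit 1, nat_lit 3, nat_lit 2, nat_lit 3, nat_lit 1, nat_lit 3, nat_lit 1, nat_lit 3, nat_lit 2, nat_lit 3, nat_lit 1, nat_lit 3, nat_lit 1, nat_lit 3, nat_lit 2])) (.node (nat_lit 4501) (.leaf (nat_lit 3531) (nat_lit 3) [nat_lit 0, nat_lit 3, nat_lit 2, nat_lit 0, nat_lit 2, nat_lit 3, nat_lit 0, nat_lit 3, nat_lit 2, nat_lit 0, nat_lit 2, nat_lit 3, nat_lit 0, nat_lit 3, nat_lit 2, nat_lit 0, nat_lit 2]) (.node (nat_lit 4502) (.leaf (nat_lit 3532) (nat_lit 2) [nat_lit 3, nat_lit 0, nat_lit 3, nat_lit 2, nat_lit 0, nat_lit 2, nat_lit 3, nat_lit 0, nat_lit 3, nat_lit 2, nat_lit 0, nat_lit 2, nat_lit 3, nat_lit 0, nat_lit 3, nat_lit 2, nat_lit 0]) (.leaf (nat_lit 3533) (nat_lit 0) [nat_lit 2, nat_lit 3, nat_lit 0, nat_lit 3, nat_lit 2, nat_lit 0, nat_lit 2, nat_lit 3, nat_lit 0, nat_lit 3, nat_lit 2, nat_lit 0, nat_lit 2, nat_lit 3, nat_lit 0, nat_lit 3, nat_lit 2])))))) (.node (nat_lit 4512) (.node (nat_lit 4507) (.node (nat_lit 4505) (.node (nat_lit 4504) (.leaf (nat_lit 3528) (nat_lit 2) [nat_lit 0, nat_lit 2, nat_lit 3, nat_lit 0, nat_lit 3, nat_lit 2, nat_lit 0, nat_lit 2, nat_lit 3, nat_lit 0, nat_lit 3, nat_lit 2, nat_lit 0, nat_lit 2, nat_lit 3, nat_lit 0, nat_lit 3]) (.leaf (nat_lit 3529) (nat_lit 3) [nat_lit 2, nat_lit 0, nat_lit 2, nat_lit 3, nat_lit 0, nat_lit 3, nat_lit 2, nat_lit 0, nat_lit 2, nat_lit 3, nat_lit 0, nat_lit 3, nat_lit 2, nat_lit 0, nat_lit 2, nat_lit 3, nat_lit 0])) (.node (nat_lit 4506) (.leaf (nat_lit 3530) (nat_lit 0) [nat_lit 3, nat_lit 2, nat_lit 0, nat_lit 2, nat_lit 3, nat_lit 0, nat_lit 3, nat_lit 2, nat_lit 0, nat_lit 2, nat_lit 3, nat_lit 0, nat_lit 3, nat_lit 2, nat_lit 0, nat_lit 2, nat_lit 3]) (.leaf (nat_lit 3531) (nat_lit 3) [nat_lit 0, nat_lit 3, nat_lit 2, nat_lit 0, nat_lit 2, nat_lit 3, nat_lit 0, nat_lit 3, nat_lit 2, nat_lit 0, nat_lit 2, nat_lit 3, nat_lit 0, nat_lit 3, nat_lit 2, nat_lit 0, nat_lit 2]))) (.node (nat_lit 4509) (.node (nat_lit 4508) (.leaf (nat_lit 3532) (nat_lit 2) [nat_lit 3, nat_lit 0, nat_lit 3, nat_lit 2, nat_lit 0, nat_lit 2, nat_lit 3, nat_lit 0, nat_lit 3, nat_lit 2, nat_lit 0, nat_lit 2, nat_lit 3, nat_lit 0, nat_lit 3, nat_lit 2, nat_lit 0]) (.leaf (nat_lit 3533) (nat_lit 0) [nat_lit 2, nat_lit 3, nat_lit 0, nat_lit 3, nat_lit 2, nat_lit 0, nat_lit 2, nat_lit 3, nat_lit 0, nat_lit 3, nat_lit 2, nat_lit 0, nat_lit 2, nat_lit 3, nat_lit 0, nat_lit 3, nat_lit 2])) (.node (nat_lit 4510) (.leaf (nat_lit 3528) (nat_lit 2) [nat_lit 0, nat_lit 2, nat_lit 3, nat_lit 0, nat_lit 3, nat_lit 2, nat_lit 0, nat_lit 2, nat_lit 3, nat_lit 0, nat_lit 3, nat_lit 2, nat_lit 0, nat_lit 2, nat_lit 3, nat_lit 0, nat_lit 3]) (.node (nat_lit 4511) (.leaf (nat_lit 3529) (nat_lit 3) [nat_lit 2, nat_lit 0, nat_lit 2, nat_lit 3, nat_lit 0, nat_lit 3, nat_lit 2, nat_lit 0, nat_lit 2, nat_lit 3, nat_lit 0, nat_lit 3, nat_lit 2, nat_lit 0, nat_lit 2, nat_lit 3, nat_lit 0]) (.leaf (nat_lit 3530) (nat_lit 0) [nat_lit 3, nat_lit 2, nat_lit 0, nat_lit 2, nat_lit 3, nat_lit 0, nat_lit 3, nat_lit 2, nat_lit 0, nat_lit 2, nat_lit 3, nat_lit 0, nat_lit 3, nat_lit 2, nat_lit 0, nat_lit 2, nat_lit 3]))))) (.node (nat_lit 4517) (.node (nat_lit 4514) (.node (nat_lit 4513) (.leaf (nat_lit 3531) (nat_lit 3) [nat_lit 0, nat_lit 3, nat_lit 2, nat_lit 0, nat_lit 2, nat_lit 3, nat_lit 0, nat_lit 3, nat_lit 2, nat_lit 0, nat_lit 2, nat_lit 3, nat_lit 0, nat_lit 3, nat_lit 2, nat_lit 0, nat_lit 2]) (.leaf (nat_lit 3532) (nat_lit 2) [nat_lit 3, nat_lit 0, nat_lit 3, nat_lit 2, nat_lit 0, nat_lit 2, nat_lit 3, nat_lit 0, nat_lit 3, nat_lit 2, nat_lit 0, nat_lit 2, nat_lit 3, nat_lit 0, nat_lit 3, nat_lit 2, nat_lit 0])) (.node (nat_lit 4515) (.leaf (nat_lit 3533) (nat_lit 0) [nat_lit 2, nat_lit 3, nat_lit 0, nat_lit 3, nat_lit 2, nat_lit 0, nat_lit 2, nat_lit 3, nat_lit 0, nat_lit 3, nat_lit 2, nat_lit 0, nat_lit 2, nat_lit 3, nat_lit 0, nat_lit 3, nat_lit 2]) (.node (nat_lit 4516) (.leaf (nat_lit 3528) (nat_lit 2) [nat_lit 0, nat_lit 2, nat_lit 3, nat_lit 0, nat_lit 3, nat_lit 2, nat_lit 0, nat_lit 2, nat_lit 3, nat_lit 0, nat_lit 3, nat_lit 2, nat_lit 0, nat_lit 2, nat_lit 3, nat_lit 0, nat_lit 3]) (.leaf (nat_lit 3529) (nat_lit 3) [nat_lit 2, nat_lit 0, nat_lit 2, nat_lit 3, nat_lit 0, nat_lit 3, nat_lit 2, nat_lit 0, nat_lit 2, nat_lit 3, nat_lit 0, nat_lit 3, nat_lit 2, nat_lit 0, nat_lit 2, nat_lit 3, nat_lit 0])))) (.node (nat_lit 4519) (.node (nat_lit 4518) (.leaf (nat_lit 3530) (nat_lit 0) [nat_lit 3, nat_lit 2, nat_lit 0, nat_lit 2, nat_lit 3, nat_lit 0, nat_lit 3, nat_lit 2, nat_lit 0, nat_lit 2, nat_lit 3, nat_lit 0, nat_lit 3, nat_lit 2, nat_lit 0, nat_lit 2, nat_lit 3]) (.leaf (nat_lit 3530) (nat_lit 0) [nat_lit 3, nat_lit 2, nat_lit 0, nat_lit 2, nat_lit 3, nat_lit 0, nat_lit 3, nat_lit 2, nat_lit 0, nat_lit 2, nat_lit 3, nat_lit 0, nat_lit 3, nat_lit 2, nat_lit 0, nat_lit 2, nat_lit 3])) (.node (nat_lit 4520) (.leaf (nat_lit 3531) (nat_lit 3) [nat_lit 0, nat_lit 3, nat_lit 2, nat_lit 0, nat_lit 2, nat_lit 3, nat_lit 0, nat_lit 3, nat_lit 2, nat_lit 0, nat_lit 2, nat_lit 3, nat_lit 0, nat_lit 3, nat_lit 2, nat_lit 0, nat_lit 2]) (.node (nat_lit 4521) (.leaf (nat_lit 3532) (nat_lit 2) [nat_lit 3, nat_lit 0, nat_lit 3, nat_lit 2, nat_lit 0, nat_lit 2, nat_lit 3, nat_lit 0, nat_lit 3, nat_lit 2, nat_lit 0, nat_lit 2, nat_lit 3, nat_lit 0, nat_lit 3, nat_lit 2, nat_lit 0]) (.leaf (nat_lit 3533) (nat_lit 0) [nat_lit 2, nat_lit 3, nat_lit 0, nat_lit 3, nat_lit 2, nat_lit 0, nat_lit 2, nat_lit 3, nat_lit 0, nat_lit 3, nat_lit 2, nat_lit 0, nat_lit 2, nat_lit 3, nat_lit 0, nat_lit 3, nat_lit 2])))))))))) (.node (nat_lit 4673) (.node (nat_lit 4597) (.node (nat_lit 4559) (.node (nat_lit 4540) (.node (nat_lit 4531) (.node (nat_lit 4526) (.node (nat_lit 4524) (.node (nat_lit 4523) (.leaf (nat_lit 3528) (nat_lit 2) [nat_lit 0, nat_lit 2, nat_lit 3, nat_lit 0, nat_lit 3, nat_lit 2, nat_lit 0, nat_lit 2, nat_lit 3, nat_lit 0, nat_lit 3, nat_lit 2, nat_lit 0, nat_lit 2, nat_lit 3, nat_lit 0, nat_lit 3]) (.leaf (nat_lit 3529) (nat_lit 3) [nat_lit 2, nat_lit 0, nat_lit 2, nat_lit 3, nat_lit 0, nat_lit 3, nat_lit 2, nat_lit 0, nat_lit 2, nat_lit 3, nat_lit 0, nat_lit 3, nat_lit 2, nat_lit 0, nat_lit 2, nat_lit 3, nat_lit 0])) (.node (nat_lit 4525) (.leaf (nat_lit 3530) (nat_lit 0) [nat_lit 3, nat_lit 2, nat_lit 0, nat_lit 2, nat_lit 3, nat_lit 0, nat_lit 3, nat_lit 2, nat_lit 0, nat_lit 2, nat_lit 3, nat_lit 0, nat_lit 3, nat_lit 2, nat_lit 0, nat_lit 2, nat_lit 3]) (.leaf (nat_lit 3531) (nat_lit 3) [nat_lit 0, nat_lit 3, nat_lit 2, nat_lit 0, nat_lit 2, nat_lit 3, nat_lit 0, nat_lit 3, nat_lit 2, nat_lit 0, nat_lit 2, nat_lit 3, nat_lit 0, nat_lit 3, nat_lit 2, nat_lit 0, nat_lit 2]))) (.node (nat_lit 4528) (.node (nat_lit 4527) (.leaf (nat_lit 3532) (nat_lit 2) [nat_lit 3, nat_lit 0, nat_lit 3, nat_lit 2, nat_lit 0, nat_lit 2, nat_lit 3, nat_lit 0, nat_lit 3, nat_lit 2, nat_lit 0, nat_lit 2, nat_lit 3, nat_lit 0, nat_lit 3, nat_lit 2, nat_lit 0]) (.leaf (nat_lit 3533) (nat_lit 0) [nat_lit 2, nat_lit 3, nat_lit 0, nat_lit 3, nat_lit 2, nat_lit 0, nat_lit 2, nat_lit 3, nat_lit 0, nat_lit 3, nat_lit 2, nat_lit 0, nat_lit 2, nat_lit 3, nat_lit 0, nat_lit 3, nat_lit 2])) (.node (nat_lit 4529) (.leaf (nat_lit 3528) (nat_lit 2) [nat_lit 0, nat_lit 2, nat_lit 3, nat_lit 0, nat_lit 3, nat_lit 2, nat_lit 0, nat_lit 2, nat_lit 3, nat_lit 0, nat_lit 3, nat_lit 2, nat_lit 0, nat_lit 2, nat_lit 3, nat_lit 0, nat_lit 3]) (.node (nat_lit 4530) (.leaf (nat_lit 3529) (nat_lit 3) [nat_lit 2, nat_lit 0, nat_lit 2, nat_lit 3, nat_lit 0, nat_lit 3, nat_lit 2, nat_lit 0, nat_lit 2, nat_lit 3, nat_lit 0, nat_lit 3, nat_lit 2, nat_lit 0, nat_lit 2, nat_lit 3, nat_lit 0]) (.leaf (nat_lit 3530) (nat_lit 0) [nat_lit 3, nat_lit 2, nat_lit 0, nat_lit 2, nat_lit 3, nat_lit 0, nat_lit 3, nat_lit 2, nat_lit 0, nat_lit 2, nat_lit 3, nat_lit 0, nat_lit 3, nat_lit 2, nat_lit 0, nat_lit 2, nat_lit 3]))))) (.node (nat_lit 4535) (.node (nat_lit 4533) (.node (nat_lit 4532) (.leaf (nat_lit 3531) (nat_lit 3) [nat_lit 0, nat_lit 3, nat_lit 2, nat_lit 0, nat_lit 2, nat_lit 3, nat_lit 0, nat_lit 3, nat_lit 2, nat_lit 0, nat_lit 2, nat_lit 3, nat_lit 0, nat_lit 3, nat_lit 2, nat_lit 0, nat_lit 2]) (.leaf (nat_lit 3532) (nat_lit 2) [nat_lit 3, nat_lit 0, nat_lit 3, nat_lit 2, nat_lit 0, nat_lit 2, nat_lit 3, nat_lit 0, nat_lit 3, nat_lit 2, nat_lit 0, nat_lit 2, nat_lit 3, nat_lit 0, nat_lit 3, nat_lit 2, nat_lit 0])) (.node (nat_lit 4534) (.leaf (nat_lit 3533) (nat_lit 0) [nat_lit 2, nat_lit 3, nat_lit 0, nat_lit 3, nat_lit 2, nat_lit 0, nat_lit 2, nat_lit 3, nat_lit 0, nat_lit 3, nat_lit 2, nat_lit 0, nat_lit 2, nat_lit 3, nat_lit 0, nat_lit 3, nat_lit 2]) (.leaf (nat_lit 3528) (nat_lit 2) [nat_lit 0, nat_lit 2, nat_lit 3, nat_lit 0, nat_lit 3, nat_lit 2, nat_lit 0, nat_lit 2, nat_lit 3, nat_lit 0, nat_lit 3, nat_lit 2, nat_lit 0, nat_lit 2, nat_lit 3, nat_lit 0, nat_lit 3]))) (.node (nat_lit 4537) (.node (nat_lit 4536) (.leaf (nat_lit 3529) (nat_lit 3) [nat_lit 2, nat_lit 0, nat_lit 2, nat_lit 3, nat_lit 0, nat_lit 3, nat_lit 2, nat_lit 0, nat_lit 2, nat_lit 3, nat_lit 0, nat_lit 3, nat_lit 2, nat_lit 0, nat_lit 2, nat_lit 3, nat_lit 0]) (.leaf (nat_lit 3639) (nat_lit 3) [nat_lit 0, nat_lit 3, nat_lit 2, nat_lit 1, nat_lit 2, nat_lit 3, nat_lit 0, nat_lit 3, nat_lit 2, nat_lit 1, nat_lit 2, nat_lit 3, nat_lit 0, nat_lit 3, nat_lit 2, nat_lit 1, nat_lit 2])) (.node (nat_lit 4538) (.leaf (nat_lit 3640) (nat_lit 2) [nat_lit 3, nat_lit 0, nat_lit 3, nat_lit 2, nat_lit 1, nat_lit 2, nat_lit 3, nat_lit 0, nat_lit 3, nat_lit 2, nat_lit 1, nat_lit 2, nat_lit 3, nat_lit 0, nat_lit 3, nat_lit 2, nat_lit 1]) (.node (nat_lit 4539) (.leaf (nat_lit 3641) (nat_lit 1) [nat_lit 2, nat_lit 3, nat_lit 0, nat_lit 3, nat_lit 2, nat_lit 1, nat_lit 2, nat_lit 3, nat_lit 0, nat_lit 3, nat_lit 2, nat_lit 1, nat_lit 2, nat_lit 3, nat_lit 0, nat_lit 3, nat_lit 2]) (.leaf (nat_lit 3636) (nat_lit 2) [nat_lit 1, nat_lit 2, nat_lit 3, nat_lit 0, nat_lit 3, nat_lit 2, nat_lit 1, nat_lit 2, nat_lit 3, nat_lit 0, nat_lit 3, nat_lit 2, nat_lit 1, nat_lit 2, nat_lit 3, nat_lit 0, nat_lit 3])))))) (.node (nat_lit 4549) (.node (nat_lit 4544) (.node (nat_lit 4542) (.node (nat_lit 4541) (.leaf (nat_lit 3637) (nat_lit 3) [nat_lit 2, nat_lit 1, nat_lit 2, nat_lit 3, nat_lit 0, nat_lit 3, nat_lit 2, nat_lit 1, nat_lit 2, nat_lit 3, nat_lit 0, nat_lit 3, nat_lit 2, nat_lit 1, nat_lit 2, nat_lit 3, nat_lit 0]) (.leaf (nat_lit 3638) (nat_lit 0) [nat_lit 3, nat_lit 2, nat_lit 1, nat_lit 2, nat_lit 3, nat_lit 0, nat_lit 3, nat_lit 2, nat_lit 1, nat_lit 2, nat_lit 3, nat_lit 0, nat_lit 3, nat_lit 2, nat_lit 1, nat_lit 2, nat_lit 3])) (.node (nat_lit 4543) (.leaf (nat_lit 3639) (nat_lit 3) [nat_lit 0, nat_lit 3, nat_lit 2, nat_lit 1, nat_lit 2, nat_lit 3, nat_lit 0, nat_lit 3, nat_lit 2, nat_lit 1, nat_lit 2, nat_lit 3, nat_lit 0, nat_lit 3, nat_lit 2, nat_lit 1, nat_lit 2]) (.leaf (nat_lit 3640) (nat_lit 2) [nat_lit 3, nat_lit 0, nat_lit 3, nat_lit 2, nat_lit 1, nat_lit 2, nat_lit 3, nat_lit 0, nat_lit 3, nat_lit 2, nat_lit 1, nat_lit 2, nat_lit 3, nat_lit 0, nat_lit 3, nat_lit 2, nat_lit 1]))) (.node (nat_lit 4546) (.node (nat_lit 4545) (.leaf (nat_lit 3641) (nat_lit 1) [nat_lit 2, nat_lit 3, nat_lit 0, nat_lit 3, nat_lit 2, nat_lit 1, nat_lit 2, nat_lit 3, nat_lit 0, nat_lit 3, nat_lit 2, nat_lit 1, nat_lit 2, nat_lit 3, nat_lit 0, nat_lit 3, nat_lit 2]) (.leaf (nat_lit 3636) (nat_lit 2) [nat_lit 1, nat_lit 2, nat_lit 3, nat_lit 0, nat_lit 3, nat_lit 2, nat_lit 1, nat_lit 2, nat_lit 3, nat_lit 0, nat_lit 3, nat_lit 2, nat_lit 1, nat_lit 2, nat_lit 3, nat_lit 0, nat_lit 3])) (.node (nat_lit 4547) (.leaf (nat_lit 3637) (nat_lit 3) [nat_lit 2, nat_lit 1, nat_lit 2, nat_lit 3, nat_lit 0, nat_lit 3, nat_lit 2, nat_lit 1, nat_lit 2, nat_lit 3, nat_lit 0, nat_lit 3, nat_lit 2, nat_lit 1, nat_lit 2, nat_lit 3, nat_lit 0]) (.node (nat_lit 4548) (.leaf (nat_lit 3638) (nat_lit 0) [nat_lit 3, nat_lit 2, nat_lit 1, nat_lit 2, nat_lit 3, nat_lit 0, nat_lit 3, nat_lit 2, nat_lit 1, nat_lit 2, nat_lit 3, nat_lit 0, nat_lit 3, nat_lit 2, nat_lit 1, nat_lit 2, nat_lit 3]) (.leaf (nat_lit 3639) (nat_lit 3) [nat_lit 0, nat_lit 3, nat_lit 2, nat_lit 1, nat_lit 2, nat_lit 3, nat_lit 0, nat_lit 3, nat_lit 2, nat_lit 1, nat_lit 2, nat_lit 3, nat_lit 0, nat_lit 3, nat_lit 2, nat_lit 1, nat_lit 2]))))) (.node (nat_lit 4554) (.node (nat_lit 4551) (.node (nat_lit 4550) (.leaf (nat_lit 3640) (nat_lit 2) [nat_lit 3, nat_lit 0, nat_lit 3, nat_lit 2, nat_lit 1, nat_lit 2, nat_lit 3, nat_lit 0, nat_lit 3, nat_lit 2, nat_lit 1, nat_lit 2, nat_lit 3, nat_lit 0, nat_lit 3, nat_lit 2, nat_lit 1]) (.leaf (nat_lit 3641) (nat_lit 1) [nat_lit 2, nat_lit 3, nat_lit 0, nat_lit 3, nat_lit 2, nat_lit 1, nat_lit 2, nat_lit 3, nat_lit 0, nat_lit 3, nat_lit 2, nat_lit 1, nat_lit 2, nat_lit 3, nat_lit 0, nat_lit 3, nat_lit 2])) (.node (nat_lit 4552) (.leaf (nat_lit 3636) (nat_lit 2) [nat_lit 1, nat_lit 2, nat_lit 3, nat_lit 0, nat_lit 3, nat_lit 2, nat_lit 1, nat_lit 2, nat_lit 3, nat_lit 0, nat_lit 3, nat_lit 2, nat_lit 1, nat_lit 2, nat_lit 3, nat_lit 0, nat_lit 3]) (.node (nat_lit 4553) (.leaf (nat_lit 3637) (nat_lit 3) [nat_lit 2, nat_lit 1, nat_lit 2, nat_lit 3, nat_lit 0, nat_lit 3, nat_lit 2, nat_lit 1, nat_lit 2, nat_lit 3, nat_lit 0, nat_lit 3, nat_lit 2, nat_lit 1, nat_lit 2, nat_lit 3, nat_lit 0]) (.leaf (nat_lit 3638) (nat_lit 0) [nat_lit 3, nat_lit 2, nat_lit 1, nat_lit 2, nat_lit 3, nat_lit 0, nat_lit 3, nat_lit 2, nat_lit 1, nat_lit 2, nat_lit 3, nat_lit 0, nat_lit 3, nat_lit 2, nat_lit 1, nat_lit 2, nat_lit 3])))) (.node (nat_lit 4556) (.node (nat_lit 4555) (.leaf (nat_lit 3638) (nat_lit 0) [nat_lit 3, nat_lit 2, nat_lit 1, nat_lit 2, nat_lit 3, nat_lit 0, nat_lit 3, nat_lit 2, nat_lit 1, nat_lit 2, nat_lit 3, nat_lit 0, nat_lit 3, nat_lit 2, nat_lit 1, nat_lit 2, nat_lit 3]) (.leaf (nat_lit 3639) (nat_lit 3) [nat_lit 0, nat_lit 3, nat_lit 2, nat_lit 1, nat_lit 2, nat_lit 3, nat_lit 0, nat_lit 3, nat_lit 2, nat_lit 1, nat_lit 2, nat_lit 3, nat_lit 0, nat_lit 3, nat_lit 2, nat_lit 1, nat_lit 2])) (.node (nat_lit 4557) (.leaf (nat_lit 3640) (nat_lit 2) [nat_lit 3, nat_lit 0, nat_lit 3, nat_lit 2, nat_lit 1, nat_lit 2, nat_lit 3, nat_lit 0, nat_lit 3, nat_lit 2, nat_lit 1, nat_lit 2, nat_lit 3, nat_lit 0, nat_lit 3, nat_lit 2, nat_lit 1]) (.node (nat_lit 4558) (.leaf (nat_lit 3641) (nat_lit 1) [nat_lit 2, nat_lit 3, nat_lit 0, nat_lit 3, nat_lit 2, nat_lit 1, nat_lit 2, nat_lit 3, nat_lit 0, nat_lit 3, nat_lit 2, nat_lit 1, nat_lit 2, nat_lit 3, nat_lit 0, nat_lit 3, nat_lit 2]) (.leaf (nat_lit 3636) (nat_lit 2) [nat_lit 1, nat_lit 2, nat_lit 3, nat_lit 0, nat_lit 3, nat_lit 2, nat_lit 1, nat_lit 2, nat_lit 3, nat_lit 0, nat_lit 3, nat_lit 2, nat_lit 1, nat_lit 2, nat_lit 3, nat_lit 0, nat_lit 3]))))))) (.node (nat_lit 4578) (.node (nat_lit 4568) (.node (nat_lit 4563) (.node (nat_lit 4561) (.node (nat_lit 4560) (.leaf (nat_lit 3637) (nat_lit 3) [nat_lit 2, nat_lit 1, nat_lit 2, nat_lit 3, nat_lit 0, nat_lit 3, nat_lit 2, nat_lit 1, nat_lit 2, nat_lit 3, nat_lit 0, nat_lit 3, nat_lit 2, nat_lit 1, nat_lit 2, nat_lit 3, nat_lit 0]) (.leaf (nat_lit 3638) (nat_lit 0) [nat_lit 3, nat_lit 2, nat_lit 1, nat_lit 2, nat_lit 3, nat_lit 0, nat_lit 3, nat_lit 2, nat_lit 1, nat_lit 2, nat_lit 3, nat_lit 0, nat_lit 3, nat_lit 2, nat_lit 1, nat_lit 2, nat_lit 3])) (.node (nat_lit 4562) (.leaf (nat_lit 3639) (nat_lit 3) [nat_lit 0, nat_lit 3, nat_lit 2, nat_lit 1, nat_lit 2, nat_lit 3, nat_lit 0, nat_lit 3, nat_lit 2, nat_lit 1, nat_lit 2, nat_lit 3, nat_lit 0, nat_lit 3, nat_lit 2, nat_lit 1, nat_lit 2]) (.leaf (nat_lit 3640) (nat_lit 2) [nat_lit 3, nat_lit 0, nat_lit 3, nat_lit 2, nat_lit 1, nat_lit 2, nat_lit 3, nat_lit 0, nat_lit 3, nat_lit 2, nat_lit 1, nat_lit 2, nat_lit 3, nat_lit 0, nat_lit 3, nat_lit 2, nat_lit 1]))) (.node (nat_lit 4565) (.node (nat_lit 4564) (.leaf (nat_lit 3641) (nat_lit 1) [nat_lit 2, nat_lit 3, nat_lit 0, nat_lit 3, nat_lit 2, nat_lit 1, nat_lit 2, nat_lit 3, nat_lit 0, nat_lit 3, nat_lit 2, nat_lit 1, nat_lit 2, nat_lit 3, nat_lit 0, nat_lit 3, nat_lit 2]) (.leaf (nat_lit 3636) (nat_lit 2) [nat_lit 1, nat_lit 2, nat_lit 3, nat_lit 0, nat_lit 3, nat_lit 2, nat_lit 1, nat_lit 2, nat_lit 3, nat_lit 0, nat_lit 3, nat_lit 2, nat_lit 1, nat_lit 2, nat_lit 3, nat_lit 0, nat_lit 3])) (.node (nat_lit 4566) (.leaf (nat_lit 3637) (nat_lit 3) [nat_lit 2, nat_lit 1, nat_lit 2, nat_lit 3, nat_lit 0, nat_lit 3, nat_lit 2, nat_lit 1, nat_lit 2, nat_lit 3, nat_lit 0, nat_lit 3, nat_lit 2, nat_lit 1, nat_lit 2, nat_lit 3, nat_lit 0]) (.node (nat_lit 4567) (.leaf (nat_lit 3638) (nat_lit 0) [nat_lit 3, nat_lit 2, nat_lit 1, nat_lit 2, nat_lit 3, nat_lit 0, nat_lit 3, nat_lit 2, nat_lit 1, nat_lit 2, nat_lit 3, nat_lit 0, nat_lit 3, nat_lit 2, nat_lit 1, nat_lit 2, nat_lit 3]) (.leaf (nat_lit 3639) (nat_lit 3) [nat_lit 0, nat_lit 3, nat_lit 2, nat_lit 1, nat_lit 2, nat_lit 3, nat_lit 0, nat_lit 3, nat_lit 2, nat_lit 1, nat_lit 2, nat_lit 3, nat_lit 0, nat_lit 3, nat_lit 2, nat_lit 1, nat_lit 2]))))) (.node (nat_lit 4573) (.node (nat_lit 4570) (.node (nat_lit 4569) (.leaf (nat_lit 3640) (nat_lit 2) [nat_lit 3, nat_lit 0, nat_lit 3, nat_lit 2, nat_lit 1, nat_lit 2, nat_lit 3, nat_lit 0, nat_lit 3, nat_lit 2, nat_lit 1, nat_lit 2, nat_lit 3, nat_lit 0, nat_lit 3, nat_lit 2, nat_lit 1]) (.leaf (nat_lit 3641) (nat_lit 1) [nat_lit 2, nat_lit 3, nat_lit 0, nat_lit 3, nat_lit 2, nat_lit 1, nat_lit 2, nat_lit 3, nat_lit 0, nat_lit 3, nat_lit 2, nat_lit 1, nat_lit 2, nat_lit 3, nat_lit 0, nat_lit 3, nat_lit 2])) (.node (nat_lit 4571) (.leaf (nat_lit 3636) (nat_lit 2) [nat_lit 1, nat_lit 2, nat_lit 3, nat_lit 0, nat_lit 3, nat_lit 2, nat_lit 1, nat_lit 2, nat_lit 3, nat_lit 0, nat_lit 3, nat_lit 2, nat_lit 1, nat_lit 2, nat_lit 3, nat_lit 0, nat_lit 3]) (.node (nat_lit 4572) (.leaf (nat_lit 3637) (nat_lit 3) [nat_lit 2, nat_lit 1, nat_lit 2, nat_lit 3, nat_lit 0, nat_lit 3, nat_lit 2, nat_lit 1, nat_lit 2, nat_lit 3, nat_lit 0, nat_lit 3, nat_lit 2, nat_lit 1, nat_lit 2, nat_lit 3, nat_lit 0]) (.leaf (nat_lit 3747) (nat_lit 3) [nat_lit 0, nat_lit 3, nat_lit 2, nat_lit 3, nat_lit 2, nat_lit 3, nat_lit 0, nat_lit 3, nat_lit 2, nat_lit 3, nat_lit 2, nat_lit 3, nat_lit 0, nat_lit 3, nat_lit 2, nat_lit 3, nat_lit 2])))) (.node (nat_lit 4575) (.node (nat_lit 4574) (.leaf (nat_lit 3748) (nat_lit 2) [nat_lit 3, nat_lit 0, nat_lit 3, nat_lit 2, nat_lit 3, nat_lit 2, nat_lit 3, nat_lit 0, nat_lit 3, nat_lit 2, nat_lit 3, nat_lit 2, nat_lit 3, nat_lit 0, nat_lit 3, nat_lit 2, nat_lit 3]) (.leaf (nat_lit 3749) (nat_lit 3) [nat_lit 2, nat_lit 3, nat_lit 0, nat_lit 3, nat_lit 2, nat_lit 3, nat_lit 2, nat_lit 3, nat_lit 0, nat_lit 3, nat_lit 2, nat_lit 3, nat_lit 2, nat_lit 3, nat_lit 0, nat_lit 3, nat_lit 2])) (.node (nat_lit 4576) (.leaf (nat_lit 3744) (nat_lit 2) [nat_lit 3, nat_lit 2, nat_lit 3, nat_lit 0, nat_lit 3, nat_lit 2, nat_lit 3, nat_lit 2, nat_lit 3, nat_lit 0, nat_lit 3, nat_lit 2, nat_lit 3, nat_lit 2, nat_lit 3, nat_lit 0, nat_lit 3]) (.node (nat_lit 4577) (.leaf (nat_lit 3745) (nat_lit 3) [nat_lit 2, nat_lit 3, nat_lit 2, nat_lit 3, nat_lit 0, nat_lit 3, nat_lit 2, nat_lit 3, nat_lit 2, nat_lit 3, nat_lit 0, nat_lit 3, nat_lit 2, nat_lit 3, nat_lit 2, nat_lit 3, nat_lit 0]) (.leaf (nat_lit 3746) (nat_lit 0) [nat_lit 3, nat_lit 2, nat_lit 3, nat_lit 2, nat_lit 3, nat_lit 0, nat_lit 3, nat_lit 2, nat_lit 3, nat_lit 2, nat_lit 3, nat_lit 0, nat_lit 3, nat_lit 2, nat_lit 3, nat_lit 2, nat_lit 3])))))) (.node (nat_lit 4587) (.node (nat_lit 4582) (.node (nat_lit 4580) (.node (nat_lit 4579) (.leaf (nat_lit 3747) (nat_lit 3) [nat_lit 0, nat_lit 3, nat_lit 2, nat_lit 3, nat_lit 2, nat_lit 3, nat_lit 0, nat_lit 3, nat_lit 2, nat_lit 3, nat_lit 2, nat_lit 3, nat_lit 0, nat_lit 3, nat_lit 2, nat_lit 3, nat_lit 2]) (.leaf (nat_lit 3748) (nat_lit 2) [nat_lit 3, nat_lit 0, nat_lit 3, nat_lit 2, nat_lit 3, nat_lit 2, nat_lit 3, nat_lit 0, nat_lit 3, nat_lit 2, nat_lit 3, nat_lit 2, nat_lit 3, nat_lit 0, nat_lit 3, nat_lit 2, nat_lit 3])) (.node (nat_lit 4581) (.leaf (nat_lit 3749) (nat_lit 3) [nat_lit 2, nat_lit 3, nat_lit 0, nat_lit 3, nat_lit 2, nat_lit 3, nat_lit 2, nat_lit 3, nat_lit 0, nat_lit 3, nat_lit 2, nat_lit 3, nat_lit 2, nat_lit 3, nat_lit 0, nat_lit 3, nat_lit 2]) (.leaf (nat_lit 3744) (nat_lit 2) [nat_lit 3, nat_lit 2, nat_lit 3, nat_lit 0, nat_lit 3, nat_lit 2, nat_lit 3, nat_lit 2, nat_lit 3, nat_lit 0, nat_lit 3, nat_lit 2, nat_lit 3, nat_lit 2, nat_lit 3, nat_lit 0, nat_lit 3]))) (.node (nat_lit 4584) (.node (nat_lit 4583) (.leaf (nat_lit 3745) (nat_lit 3) [nat_lit 2, nat_lit 3, nat_lit 2, nat_lit 3, nat_lit 0, nat_lit 3, nat_lit 2, nat_lit 3, nat_lit 2, nat_lit 3, nat_lit 0, nat_lit 3, nat_lit 2, nat_lit 3, nat_lit 2, nat_lit 3, nat_lit 0]) (.leaf (nat_lit 3746) (nat_lit 0) [nat_lit 3, nat_lit 2, nat_lit 3, nat_lit 2, nat_lit 3, nat_lit 0, nat_lit 3, nat_lit 2, nat_lit 3, nat_lit 2, nat_lit 3, nat_lit 0, nat_lit 3, nat_lit 2, nat_lit 3, nat_lit 2, nat_lit 3])) (.node (nat_lit 4585) (.leaf (nat_lit 3747) (nat_lit 3) [nat_lit 0, nat_lit 3, nat_lit 2, nat_lit 3, nat_lit 2, nat_lit 3, nat_lit 0, nat_lit 3, nat_lit 2, nat_lit 3, nat_lit 2, nat_lit 3, nat_lit 0, nat_lit 3, nat_lit 2, nat_lit 3, nat_lit 2]) (.node (nat_lit 4586) (.leaf (nat_lit 3748) (nat_lit 2) [nat_lit 3, nat_lit 0, nat_lit 3, nat_lit 2, nat_lit 3, nat_lit 2, nat_lit 3, nat_lit 0, nat_lit 3, nat_lit 2, nat_lit 3, nat_lit 2, nat_lit 3, nat_lit 0, nat_lit 3, nat_lit 2, nat_lit 3]) (.leaf (nat_lit 3749) (nat_lit 3) [nat_lit 2, nat_lit 3, nat_lit 0, nat_lit 3, nat_lit 2, nat_lit 3, nat_lit 2, nat_lit 3, nat_lit 0, nat_lit 3, nat_lit 2, nat_lit 3, nat_lit 2, nat_lit 3, nat_lit 0, nat_lit 3, nat_lit 2]))))) (.node (nat_lit 4592) (.node (nat_lit 4589) (.node (nat_lit 4588) (.leaf (nat_lit 3744) (nat_lit 2) [nat_lit 3, nat_lit 2, nat_lit 3, nat_lit 0, nat_lit 3, nat_lit 2, nat_lit 3, nat_lit 2, nat_lit 3, nat_lit 0, nat_lit 3, nat_lit 2, nat_lit 3, nat_lit 2, nat_lit 3, nat_lit 0, nat_lit 3]) (.leaf (nat_lit 3745) (nat_lit 3) [nat_lit 2, nat_lit 3, nat_lit 2, nat_lit 3, nat_lit 0, nat_lit 3, nat_lit 2, nat_lit 3, nat_lit 2, nat_lit 3, nat_lit 0, nat_lit 3, nat_lit 2, nat_lit 3, nat_lit 2, nat_lit 3, nat_lit 0])) (.node (nat_lit 4590) (.leaf (nat_lit 3746) (nat_lit 0) [nat_lit 3, nat_lit 2, nat_lit 3, nat_lit 2, nat_lit 3, nat_lit 0, nat_lit 3, nat_lit 2, nat_lit 3, nat_lit 2, nat_lit 3, nat_lit 0, nat_lit 3, nat_lit 2, nat_lit 3, nat_lit 2, nat_lit 3]) (.node (nat_lit 4591) (.leaf (nat_lit 3746) (nat_lit 0) [nat_lit 3, nat_lit 2, nat_lit 3, nat_lit 2, nat_lit 3, nat_lit 0, nat_lit 3, nat_lit 2, nat_lit 3, nat_lit 2, nat_lit 3, nat_lit 0, nat_lit 3, nat_lit 2, nat_lit 3, nat_lit 2, nat_lit 3]) (.leaf (nat_lit 3747) (nat_lit 3) [nat_lit 0, nat_lit 3, nat_lit 2, nat_lit 3, nat_lit 2, nat_lit 3, nat_lit 0, nat_lit 3, nat_lit 2, nat_lit 3, nat_lit 2, nat_lit 3, nat_lit 0, nat_lit 3, nat_lit 2, nat_lit 3, nat_lit 2])))) (.node (nat_lit 4594) (.node (nat_lit 4593) (.leaf (nat_lit 3748) (nat_lit 2) [nat_lit 3, nat_lit 0, nat_lit 3, nat_lit 2, nat_lit 3, nat_lit 2, nat_lit 3, nat_lit 0, nat_lit 3, nat_lit 2, nat_lit 3, nat_lit 2, nat_lit 3, nat_lit 0, nat_lit 3, nat_lit 2, nat_lit 3]) (.leaf (nat_lit 3749) (nat_lit 3) [nat_lit 2, nat_lit 3, nat_lit 0, nat_lit 3, nat_lit 2, nat_lit 3, nat_lit 2, nat_lit 3, nat_lit 0, nat_lit 3, nat_lit 2, nat_lit 3, nat_lit 2, nat_lit 3, nat_lit 0, nat_lit 3, nat_lit 2])) (.node (nat_lit 4595) (.leaf (nat_lit 3744) (nat_lit 2) [nat_lit 3, nat_lit 2, nat_lit 3, nat_lit 0, nat_lit 3, nat_lit 2, nat_lit 3, nat_lit 2, nat_lit 3, nat_lit 0, nat_lit 3, nat_lit 2, nat_lit 3, nat_lit 2, nat_lit 3, nat_lit 0, nat_lit 3]) (.node (nat_lit 4596) (.leaf (nat_lit 3745) (nat_lit 3) [nat_lit 2, nat_lit 3, nat_lit 2, nat_lit 3, nat_lit 0, nat_lit 3, nat_lit 2, nat_lit 3, nat_lit 2, nat_lit 3, nat_lit 0, nat_lit 3, nat_lit 2, nat_lit 3, nat_lit 2, nat_lit 3, nat_lit 0]) (.leaf (nat_lit 3746) (nat_lit 0) [nat_lit 3, nat_lit 2, nat_lit 3, nat_lit 2, nat_lit 3, nat_lit 0, nat_lit 3, nat_lit 2, nat_lit 3, nat_lit 2, nat_lit 3, nat_lit 0, nat_lit 3, nat_lit 2, nat_lit 3, nat_lit 2, nat_lit 3])))))))) (.node (nat_lit 4635) (.node (nat_lit 4616) (.node (nat_lit 4606) (.node (nat_lit 4601) (.node (nat_lit 4599) (.node (nat_lit 4598) (.leaf (nat_lit 3747) (nat_lit 3) [nat_lit 0, nat_lit 3, nat_lit 2, nat_lit 3, nat_lit 2, nat_lit 3, nat_lit 0, nat_lit 3, nat_lit 2, nat_lit 3, nat_lit 2, nat_lit 3, nat_lit 0, nat_lit 3, nat_lit 2, nat_lit 3, nat_lit 2]) (.leaf (nat_lit 3748) (nat_lit 2) [nat_lit 3, nat_lit 0, nat_lit 3, nat_lit 2, nat_lit 3, nat_lit 2, nat_lit 3, nat_lit 0, nat_lit 3, nat_lit 2, nat_lit 3, nat_lit 2, nat_lit 3, nat_lit 0, nat_lit 3, nat_lit 2, nat_lit 3])) (.node (nat_lit 4600) (.leaf (nat_lit 3749) (nat_lit 3) [nat_lit 2, nat_lit 3, nat_lit 0, nat_lit 3, nat_lit 2, nat_lit 3, nat_lit 2, nat_lit 3, nat_lit 0, nat_lit 3, nat_lit 2, nat_lit 3, nat_lit 2, nat_lit 3, nat_lit 0, nat_lit 3, nat_lit 2]) (.leaf (nat_lit 3744) (nat_lit 2) [nat_lit 3, nat_lit 2, nat_lit 3, nat_lit 0, nat_lit 3, nat_lit 2, nat_lit 3, nat_lit 2, nat_lit 3, nat_lit 0, nat_lit 3, nat_lit 2, nat_lit 3, nat_lit 2, nat_lit 3, nat_lit 0, nat_lit 3]))) (.node (nat_lit 4603) (.node (nat_lit 4602) (.leaf (nat_lit 3745) (nat_lit 3) [nat_lit 2, nat_lit 3, nat_lit 2, nat_lit 3, nat_lit 0, nat_lit 3, nat_lit 2, nat_lit 3, nat_lit 2, nat_lit 3, nat_lit 0, nat_lit 3, nat_lit 2, nat_lit 3, nat_lit 2, nat_lit 3, nat_lit 0]) (.leaf (nat_lit 3746) (nat_lit 0) [nat_lit 3, nat_lit 2, nat_lit 3, nat_lit 2, nat_lit 3, nat_lit 0, nat_lit 3, nat_lit 2, nat_lit 3, nat_lit 2, nat_lit 3, nat_lit 0, nat_lit 3, nat_lit 2, nat_lit 3, nat_lit 2, nat_lit 3])) (.node (nat_lit 4604) (.leaf (nat_lit 3747) (nat_lit 3) [nat_lit 0, nat_lit 3, nat_lit 2, nat_lit 3, nat_lit 2, nat_lit 3, nat_lit 0, nat_lit 3, nat_lit 2, nat_lit 3, nat_lit 2, nat_lit 3, nat_lit 0, nat_lit 3, nat_lit 2, nat_lit 3, nat_lit 2]) (.node (nat_lit 4605) (.leaf (nat_lit 3748) (nat_lit 2) [nat_lit 3, nat_lit 0, nat_lit 3, nat_lit 2, nat_lit 3, nat_lit 2, nat_lit 3, nat_lit 0, nat_lit 3, nat_lit 2, nat_lit 3, nat_lit 2, nat_lit 3, nat_lit 0, nat_lit 3, nat_lit 2, nat_lit 3]) (.leaf (nat_lit 3749) (nat_lit 3) [nat_lit 2, nat_lit 3, nat_lit 0, nat_lit 3, nat_lit 2, nat_lit 3, nat_lit 2, nat_lit 3, nat_lit 0, nat_lit 3, nat_lit 2, nat_lit 3, nat_lit 2, nat_lit 3, nat_lit 0, nat_lit 3, nat_lit 2]))))) (.node (nat_lit 4611) (.node (nat_lit 4608) (.node (nat_lit 4607) (.leaf (nat_lit 3744) (nat_lit 2) [nat_lit 3, nat_lit 2, nat_lit 3, nat_lit 0, nat_lit 3, nat_lit 2, nat_lit 3, nat_lit 2, nat_lit 3, nat_lit 0, nat_lit 3, nat_lit 2, nat_lit 3, nat_lit 2, nat_lit 3, nat_lit 0, nat_lit 3]) (.leaf (nat_lit 3745) (nat_lit 3) [nat_lit 2, nat_lit 3, nat_lit 2, nat_lit 3, nat_lit 0, nat_lit 3, nat_lit 2, nat_lit 3, nat_lit 2, nat_lit 3, nat_lit 0, nat_lit 3, nat_lit 2, nat_lit 3, nat_lit 2, nat_lit 3, nat_lit 0])) (.node (nat_lit 4609) (.leaf (nat_lit 3567) (nat_lit 3) [nat_lit 1, nat_lit 3, nat_lit 2, nat_lit 0, nat_lit 2, nat_lit 3, nat_lit 1, nat_lit 3, nat_lit 2, nat_lit 0, nat_lit 2, nat_lit 3, nat_lit 1, nat_lit 3, nat_lit 2, nat_lit 0, nat_lit 2]) (.node (nat_lit 4610) (.leaf (nat_lit 3568) (nat_lit 2) [nat_lit 3, nat_lit 1, nat_lit 3, nat_lit 2, nat_lit 0, nat_lit 2, nat_lit 3, nat_lit 1, nat_lit 3, nat_lit 2, nat_lit 0, nat_lit 2, nat_lit 3, nat_lit 1, nat_lit 3, nat_lit 2, nat_lit 0]) (.leaf (nat_lit 3569) (nat_lit 0) [nat_lit 2, nat_lit 3, nat_lit 1, nat_lit 3, nat_lit 2, nat_lit 0, nat_lit 2, nat_lit 3, nat_lit 1, nat_lit 3, nat_lit 2, nat_lit 0, nat_lit 2, nat_lit 3, nat_lit 1, nat_lit 3, nat_lit 2])))) (.node (nat_lit 4613) (.node (nat_lit 4612) (.leaf (nat_lit 3564) (nat_lit 2) [nat_lit 0, nat_lit 2, nat_lit 3, nat_lit 1, nat_lit 3, nat_lit 2, nat_lit 0, nat_lit 2, nat_lit 3, nat_lit 1, nat_lit 3, nat_lit 2, nat_lit 0, nat_lit 2, nat_lit 3, nat_lit 1, nat_lit 3]) (.leaf (nat_lit 3565) (nat_lit 3) [nat_lit 2, nat_lit 0, nat_lit 2, nat_lit 3, nat_lit 1, nat_lit 3, nat_lit 2, nat_lit 0, nat_lit 2, nat_lit 3, nat_lit 1, nat_lit 3, nat_lit 2, nat_lit 0, nat_lit 2, nat_lit 3, nat_lit 1])) (.node (nat_lit 4614) (.leaf (nat_lit 3566) (nat_lit 1) [nat_lit 3, nat_lit 2, nat_lit 0, nat_lit 2, nat_lit 3, nat_lit 1, nat_lit 3, nat_lit 2, nat_lit 0, nat_lit 2, nat_lit 3, nat_lit 1, nat_lit 3, nat_lit 2, nat_lit 0, nat_lit 2, nat_lit 3]) (.node (nat_lit 4615) (.leaf (nat_lit 3567) (nat_lit 3) [nat_lit 1, nat_lit 3, nat_lit 2, nat_lit 0, nat_lit 2, nat_lit 3, nat_lit 1, nat_lit 3, nat_lit 2, nat_lit 0, nat_lit 2, nat_lit 3, nat_lit 1, nat_lit 3, nat_lit 2, nat_lit 0, nat_lit 2]) (.leaf (nat_lit 3568) (nat_lit 2) [nat_lit 3, nat_lit 1, nat_lit 3, nat_lit 2, nat_lit 0, nat_lit 2, nat_lit 3, nat_lit 1, nat_lit 3, nat_lit 2, nat_lit 0, nat_lit 2, nat_lit 3, nat_lit 1, nat_lit 3, nat_lit 2, nat_lit 0])))))) (.node (nat_lit 4625) (.node (nat_lit 4620) (.node (nat_lit 4618) (.node (nat_lit 4617) (.leaf (nat_lit 3569) (nat_lit 0) [nat_lit 2, nat_lit 3, nat_lit 1, nat_lit 3, nat_lit 2, nat_lit 0, nat_lit 2, nat_lit 3, nat_lit 1, nat_lit 3, nat_lit 2, nat_lit 0, nat_lit 2, nat_lit 3, nat_lit 1, nat_lit 3, nat_lit 2]) (.leaf (nat_lit 3564) (nat_lit 2) [nat_lit 0, nat_lit 2, nat_lit 3, nat_lit 1, nat_lit 3, nat_lit 2, nat_lit 0, nat_lit 2, nat_lit 3, nat_lit 1, nat_lit 3, nat_lit 2, nat_lit 0, nat_lit 2, nat_lit 3, nat_lit 1, nat_lit 3])) (.node (nat_lit 4619) (.leaf (nat_lit 3565) (nat_lit 3) [nat_lit 2, nat_lit 0, nat_lit 2, nat_lit 3, nat_lit 1, nat_lit 3, nat_lit 2, nat_lit 0, nat_lit 2, nat_lit 3, nat_lit 1, nat_lit 3, nat_lit 2, nat_lit 0, nat_lit 2, nat_lit 3, nat_lit 1]) (.leaf (nat_lit 3566) (nat_lit 1) [nat_lit 3, nat_lit 2, nat_lit 0, nat_lit 2, nat_lit 3, nat_lit 1, nat_lit 3, nat_lit 2, nat_lit 0, nat_lit 2, nat_lit 3, nat_lit 1, nat_lit 3, nat_lit 2, nat_lit 0, nat_lit 2, nat_lit 3]))) (.node (nat_lit 4622) (.node (nat_lit 4621) (.leaf (nat_lit 3567) (nat_lit 3) [nat_lit 1, nat_lit 3, nat_lit 2, nat_lit 0, nat_lit 2, nat_lit 3, nat_lit 1, nat_lit 3, nat_lit 2, nat_lit 0, nat_lit 2, nat_lit 3, nat_lit 1, nat_lit 3, nat_lit 2, nat_lit 0, nat_lit 2]) (.leaf (nat_lit 3568) (nat_lit 2) [nat_lit 3, nat_lit 1, nat_lit 3, nat_lit 2, nat_lit 0, nat_lit 2, nat_lit 3, nat_lit 1, nat_lit 3, nat_lit 2, nat_lit 0, nat_lit 2, nat_lit 3, nat_lit 1, nat_lit 3, nat_lit 2, nat_lit 0])) (.node (nat_lit 4623) (.leaf (nat_lit 3569) (nat_lit 0) [nat_lit 2, nat_lit 3, nat_lit 1, nat_lit 3, nat_lit 2, nat_lit 0, nat_lit 2, nat_lit 3, nat_lit 1, nat_lit 3, nat_lit 2, nat_lit 0, nat_lit 2, nat_lit 3, nat_lit 1, nat_lit 3, nat_lit 2]) (.node (nat_lit 4624) (.leaf (nat_lit 3564) (nat_lit 2) [nat_lit 0, nat_lit 2, nat_lit 3, nat_lit 1, nat_lit 3, nat_lit 2, nat_lit 0, nat_lit 2, nat_lit 3, nat_lit 1, nat_lit 3, nat_lit 2, nat_lit 0, nat_lit 2, nat_lit 3, nat_lit 1, nat_lit 3]) (.leaf (nat_lit 3565) (nat_lit 3) [nat_lit 2, nat_lit 0, nat_lit 2, nat_lit 3, nat_lit 1, nat_lit 3, nat_lit 2, nat_lit 0, nat_lit 2, nat_lit 3, nat_lit 1, nat_lit 3, nat_lit 2, nat_lit 0, nat_lit 2, nat_lit 3, nat_lit 1]))))) (.node (nat_lit 4630) (.node (nat_lit 4627) (.node (nat_lit 4626) (.leaf (nat_lit 3566) (nat_lit 1) [nat_lit 3, nat_lit 2, nat_lit 0, nat_lit 2, nat_lit 3, nat_lit 1, nat_lit 3, nat_lit 2, nat_lit 0, nat_lit 2, nat_lit 3, nat_lit 1, nat_lit 3, nat_lit 2, nat_lit 0, nat_lit 2, nat_lit 3]) (.leaf (nat_lit 3566) (nat_lit 1) [nat_lit 3, nat_lit 2, nat_lit 0, nat_lit 2, nat_lit 3, nat_lit 1, nat_lit 3, nat_lit 2, nat_lit 0, nat_lit 2, nat_lit 3, nat_lit 1, nat_lit 3, nat_lit 2, nat_lit 0, nat_lit 2, nat_lit 3])) (.node (nat_lit 4628) (.leaf (nat_lit 3567) (nat_lit 3) [nat_lit 1, nat_lit 3, nat_lit 2, nat_lit 0, nat_lit 2, nat_lit 3, nat_lit 1, nat_lit 3, nat_lit 2, nat_lit 0, nat_lit 2, nat_lit 3, nat_lit 1, nat_lit 3, nat_lit 2, nat_lit 0, nat_lit 2]) (.node (nat_lit 4629) (.leaf (nat_lit 3568) (nat_lit 2) [nat_lit 3, nat_lit 1, nat_lit 3, nat_lit 2, nat_lit 0, nat_lit 2, nat_lit 3, nat_lit 1, nat_lit 3, nat_lit 2, nat_lit 0, nat_lit 2, nat_lit 3, nat_lit 1, nat_lit 3, nat_lit 2, nat_lit 0]) (.leaf (nat_lit 3569) (nat_lit 0) [nat_lit 2, nat_lit 3, nat_lit 1, nat_lit 3, nat_lit 2, nat_lit 0, nat_lit 2, nat_lit 3, nat_lit 1, nat_lit 3, nat_lit 2, nat_lit 0, nat_lit 2, nat_lit 3, nat_lit 1, nat_lit 3, nat_lit 2])))) (.node (nat_lit 4632) (.node (nat_lit 4631) (.leaf (nat_lit 3564) (nat_lit 2) [nat_lit 0, nat_lit 2, nat_lit 3, nat_lit 1, nat_lit 3, nat_lit 2, nat_lit 0, nat_lit 2, nat_lit 3, nat_lit 1, nat_lit 3, nat_lit 2, nat_lit 0, nat_lit 2, nat_lit 3, nat_lit 1, nat_lit 3]) (.leaf (nat_lit 3565) (nat_lit 3) [nat_lit 2, nat_lit 0, nat_lit 2, nat_lit 3, nat_lit 1, nat_lit 3, nat_lit 2, nat_lit 0, nat_lit 2, nat_lit 3, nat_lit 1, nat_lit 3, nat_lit 2, nat_lit 0, nat_lit 2, nat_lit 3, nat_lit 1])) (.node (nat_lit 4633) (.leaf (nat_lit 3566) (nat_lit 1) [nat_lit 3, nat_lit 2, nat_lit 0, nat_lit 2, nat_lit 3, nat_lit 1, nat_lit 3, nat_lit 2, nat_lit 0, nat_lit 2, nat_lit 3, nat_lit 1, nat_lit 3, nat_lit 2, nat_lit 0, nat_lit 2, nat_lit 3]) (.node (nat_lit 4634) (.leaf (nat_lit 3567) (nat_lit 3) [nat_lit 1, nat_lit 3, nat_lit 2, nat_lit 0, nat_lit 2, nat_lit 3, nat_lit 1, nat_lit 3, nat_lit 2, nat_lit 0, nat_lit 2, nat_lit 3, nat_lit 1, nat_lit 3, nat_lit 2, nat_lit 0, nat_lit 2]) (.leaf (nat_lit 3568) (nat_lit 2) [nat_lit 3, nat_lit 1, nat_lit 3, nat_lit 2, nat_lit 0, nat_lit 2, nat_lit 3, nat_lit 1, nat_lit 3, nat_lit 2, nat_lit 0, nat_lit 2, nat_lit 3, nat_lit 1, nat_lit 3, nat_lit 2, nat_lit 0]))))))) (.node (nat_lit 4654) (.node (nat_lit 4644) (.node (nat_lit 4639) (.node (nat_lit 4637) (.node (nat_lit 4636) (.leaf (nat_lit 3569) (nat_lit 0) [nat_lit 2, nat_lit 3, nat_lit 1, nat_lit 3, nat_lit 2, nat_lit 0, nat_lit 2, nat_lit 3, nat_lit 1, nat_lit 3, nat_lit 2, nat_lit 0, nat_lit 2, nat_lit 3, nat_lit 1, nat_lit 3, nat_lit 2]) (.leaf (nat_lit 3564) (nat_lit 2) [nat_lit 0, nat_lit 2, nat_lit 3, nat_lit 1, nat_lit 3, nat_lit 2, nat_lit 0, nat_lit 2, nat_lit 3, nat_lit 1, nat_lit 3, nat_lit 2, nat_lit 0, nat_lit 2, nat_lit 3, nat_lit 1, nat_lit 3])) (.node (nat_lit 4638) (.leaf (nat_lit 3565) (nat_lit 3) [nat_lit 2, nat_lit 0, nat_lit 2, nat_lit 3, nat_lit 1, nat_lit 3, nat_lit 2, nat_lit 0, nat_lit 2, nat_lit 3, nat_lit 1, nat_lit 3, nat_lit 2, nat_lit 0, nat_lit 2, nat_lit 3, nat_lit 1]) (.leaf (nat_lit 3566) (nat_lit 1) [nat_lit 3, nat_lit 2, nat_lit 0, nat_lit 2, nat_lit 3, nat_lit 1, nat_lit 3, nat_lit 2, nat_lit 0, nat_lit 2, nat_lit 3, nat_lit 1, nat_lit 3, nat_lit 2, nat_lit 0, nat_lit 2, nat_lit 3]))) (.node (nat_lit 4641) (.node (nat_lit 4640) (.leaf (nat_lit 3567) (nat_lit 3) [nat_lit 1, nat_lit 3, nat_lit 2, nat_lit 0, nat_lit 2, nat_lit 3, nat_lit 1, nat_lit 3, nat_lit 2, nat_lit 0, nat_lit 2, nat_lit 3, nat_lit 1, nat_lit 3, nat_lit 2, nat_lit 0, nat_lit 2]) (.leaf (nat_lit 3568) (nat_lit 2) [nat_lit 3, nat_lit 1, nat_lit 3, nat_lit 2, nat_lit 0, nat_lit 2, nat_lit 3, nat_lit 1, nat_lit 3, nat_lit 2, nat_lit 0, nat_lit 2, nat_lit 3, nat_lit 1, nat_lit 3, nat_lit 2, nat_lit 0])) (.node (nat_lit 4642) (.leaf (nat_lit 3569) (nat_lit 0) [nat_lit 2, nat_lit 3, nat_lit 1, nat_lit 3, nat_lit 2, nat_lit 0, nat_lit 2, nat_lit 3, nat_lit 1, nat_lit 3, nat_lit 2, nat_lit 0, nat_lit 2, nat_lit 3, nat_lit 1, nat_lit 3, nat_lit 2]) (.node (nat_lit 4643) (.leaf (nat_lit 3564) (nat_lit 2) [nat_lit 0, nat_lit 2, nat_lit 3, nat_lit 1, nat_lit 3, nat_lit 2, nat_lit 0, nat_lit 2, nat_lit 3, nat_lit 1, nat_lit 3, nat_lit 2, nat_lit 0, nat_lit 2, nat_lit 3, nat_lit 1, nat_lit 3]) (.leaf (nat_lit 3565) (nat_lit 3) [nat_lit 2, nat_lit 0, nat_lit 2, nat_lit 3, nat_lit 1, nat_lit 3, nat_lit 2, nat_lit 0, nat_lit 2, nat_lit 3, nat_lit 1, nat_lit 3, nat_lit 2, nat_lit 0, nat_lit 2, nat_lit 3, nat_lit 1]))))) (.node (nat_lit 4649) (.node (nat_lit 4646) (.node (nat_lit 4645) (.leaf (nat_lit 3675) (nat_lit 3) [nat_lit 1, nat_lit 3, nat_lit 2, nat_lit 1, nat_lit 2, nat_lit 3, nat_lit 1, nat_lit 3, nat_lit 2, nat_lit 1, nat_lit 2, nat_lit 3, nat_lit 1, nat_lit 3, nat_lit 2, nat_lit 1, nat_lit 2]) (.leaf (nat_lit 3676) (nat_lit 2) [nat_lit 3, nat_lit 1, nat_lit 3, nat_lit 2, nat_lit 1, nat_lit 2, nat_lit 3, nat_lit 1, nat_lit 3, nat_lit 2, nat_lit 1, nat_lit 2, nat_lit 3, nat_lit 1, nat_lit 3, nat_lit 2, nat_lit 1])) (.node (nat_lit 4647) (.leaf (nat_lit 3677) (nat_lit 1) [nat_lit 2, nat_lit 3, nat_lit 1, nat_lit 3, nat_lit 2, nat_lit 1, nat_lit 2, nat_lit 3, nat_lit 1, nat_lit 3, nat_lit 2, nat_lit 1, nat_lit 2, nat_lit 3, nat_lit 1, nat_lit 3, nat_lit 2]) (.node (nat_lit 4648) (.leaf (nat_lit 3672) (nat_lit 2) [nat_lit 1, nat_lit 2, nat_lit 3, nat_lit 1, nat_lit 3, nat_lit 2, nat_lit 1, nat_lit 2, nat_lit 3, nat_lit 1, nat_lit 3, nat_lit 2, nat_lit 1, nat_lit 2, nat_lit 3, nat_lit 1, nat_lit 3]) (.leaf (nat_lit 3673) (nat_lit 3) [nat_lit 2, nat_lit 1, nat_lit 2, nat_lit 3, nat_lit 1, nat_lit 3, nat_lit 2, nat_lit 1, nat_lit 2, nat_lit 3, nat_lit 1, nat_lit 3, nat_lit 2, nat_lit 1, nat_lit 2, nat_lit 3, nat_lit 1])))) (.node (nat_lit 4651) (.node (nat_lit 4650) (.leaf (nat_lit 3674) (nat_lit 1) [nat_lit 3, nat_lit 2, nat_lit 1, nat_lit 2, nat_lit 3, nat_lit 1, nat_lit 3, nat_lit 2, nat_lit 1, nat_lit 2, nat_lit 3, nat_lit 1, nat_lit 3, nat_lit 2, nat_lit 1, nat_lit 2, nat_lit 3]) (.leaf (nat_lit 3675) (nat_lit 3) [nat_lit 1, nat_lit 3, nat_lit 2, nat_lit 1, nat_lit 2, nat_lit 3, nat_lit 1, nat_lit 3, nat_lit 2, nat_lit 1, nat_lit 2, nat_lit 3, nat_lit 1, nat_lit 3, nat_lit 2, nat_lit 1, nat_lit 2])) (.node (nat_lit 4652) (.leaf (nat_lit 3676) (nat_lit 2) [nat_lit 3, nat_lit 1, nat_lit 3, nat_lit 2, nat_lit 1, nat_lit 2, nat_lit 3, nat_lit 1, nat_lit 3, nat_lit 2, nat_lit 1, nat_lit 2, nat_lit 3, nat_lit 1, nat_lit 3, nat_lit 2, nat_lit 1]) (.node (nat_lit 4653) (.leaf (nat_lit 3677) (nat_lit 1) [nat_lit 2, nat_lit 3, nat_lit 1, nat_lit 3, nat_lit 2, nat_lit 1, nat_lit 2, nat_lit 3, nat_lit 1, nat_lit 3, nat_lit 2, nat_lit 1, nat_lit 2, nat_lit 3, nat_lit 1, nat_lit 3, nat_lit 2]) (.leaf (nat_lit 3672) (nat_lit 2) [nat_lit 1, nat_lit 2, nat_lit 3, nat_lit 1, nat_lit 3, nat_lit 2, nat_lit 1, nat_lit 2, nat_lit 3, nat_lit 1, nat_lit 3, nat_lit 2, nat_lit 1, nat_lit 2, nat_lit 3, nat_lit 1, nat_lit 3])))))) (.node (nat_lit 4663) (.node (nat_lit 4658) (.node (nat_lit 4656) (.node (nat_lit 4655) (.leaf (nat_lit 3673) (nat_lit 3) [nat_lit 2, nat_lit 1, nat_lit 2, nat_lit 3, nat_lit 1, nat_lit 3, nat_lit 2, nat_lit 1, nat_lit 2, nat_lit 3, nat_lit 1, nat_lit 3, nat_lit 2, nat_lit 1, nat_lit 2, nat_lit 3, nat_lit 1]) (.leaf (nat_lit 3674) (nat_lit 1) [nat_lit 3, nat_lit 2, nat_lit 1, nat_lit 2, nat_lit 3, nat_lit 1, nat_lit 3, nat_lit 2, nat_lit 1, nat_lit 2, nat_lit 3, nat_lit 1, nat_lit 3, nat_lit 2, nat_lit 1, nat_lit 2, nat_lit 3])) (.node (nat_lit 4657) (.leaf (nat_lit 3675) (nat_lit 3) [nat_lit 1, nat_lit 3, nat_lit 2, nat_lit 1, nat_lit 2, nat_lit 3, nat_lit 1, nat_lit 3, nat_lit 2, nat_lit 1, nat_lit 2, nat_lit 3, nat_lit 1, nat_lit 3, nat_lit 2, nat_lit 1, nat_lit 2]) (.leaf (nat_lit 3676) (nat_lit 2) [nat_lit 3, nat_lit 1, nat_lit 3, nat_lit 2, nat_lit 1, nat_lit 2, nat_lit 3, nat_lit 1, nat_lit 3, nat_lit 2, nat_lit 1, nat_lit 2, nat_lit 3, nat_lit 1, nat_lit 3, nat_lit 2, nat_lit 1]))) (.node (nat_lit 4660) (.node (nat_lit 4659) (.leaf (nat_lit 3677) (nat_lit 1) [nat_lit 2, nat_lit 3, nat_lit 1, nat_lit 3, nat_lit 2, nat_lit 1, nat_lit 2, nat_lit 3, nat_lit 1, nat_lit 3, nat_lit 2, nat_lit 1, nat_lit 2, nat_lit 3, nat_lit 1, nat_lit 3, nat_lit 2]) (.leaf (nat_lit 3672) (nat_lit 2) [nat_lit 1, nat_lit 2, nat_lit 3, nat_lit 1, nat_lit 3, nat_lit 2, nat_lit 1, nat_lit 2, nat_lit 3, nat_lit 1, nat_lit 3, nat_lit 2, nat_lit 1, nat_lit 2, nat_lit 3, nat_lit 1, nat_lit 3])) (.node (nat_lit 4661) (.leaf (nat_lit 3673) (nat_lit 3) [nat_lit 2, nat_lit 1, nat_lit 2, nat_lit 3, nat_lit 1, nat_lit 3, nat_lit 2, nat_lit 1, nat_lit 2, nat_lit 3, nat_lit 1, nat_lit 3, nat_lit 2, nat_lit 1, nat_lit 2, nat_lit 3, nat_lit 1]) (.node (nat_lit 4662) (.leaf (nat_lit 3674) (nat_lit 1) [nat_lit 3, nat_lit 2, nat_lit 1, nat_lit 2, nat_lit 3, nat_lit 1, nat_lit 3, nat_lit 2, nat_lit 1, nat_lit 2, nat_lit 3, nat_lit 1, nat_lit 3, nat_lit 2, nat_lit 1, nat_lit 2, nat_lit 3]) (.leaf (nat_lit 3674) (nat_lit 1) [nat_lit 3, nat_lit 2, nat_lit 1, nat_lit 2, nat_lit 3, nat_lit 1, nat_lit 3, nat_lit 2, nat_lit 1, nat_lit 2, nat_lit 3, nat_lit 1, nat_lit 3, nat_lit 2, nat_lit 1, nat_lit 2, nat_lit 3]))))) (.node (nat_lit 4668) (.node (nat_lit 4665) (.node (nat_lit 4664) (.leaf (nat_lit 3675) (nat_lit 3) [nat_lit 1, nat_lit 3, nat_lit 2, nat_lit 1, nat_lit 2, nat_lit 3, nat_lit 1, nat_lit 3, nat_lit 2, nat_lit 1, nat_lit 2, nat_lit 3, nat_lit 1, nat_lit 3, nat_lit 2, nat_lit 1, nat_lit 2]) (.leaf (nat_lit 3676) (nat_lit 2) [nat_lit 3, nat_lit 1, nat_lit 3, nat_lit 2, nat_lit 1, nat_lit 2, nat_lit 3, nat_lit 1, nat_lit 3, nat_lit 2, nat_lit 1, nat_lit 2, nat_lit 3, nat_lit 1, nat_lit 3, nat_lit 2, nat_lit 1])) (.node (nat_lit 4666) (.leaf (nat_lit 3677) (nat_lit 1) [nat_lit 2, nat_lit 3, nat_lit 1, nat_lit 3, nat_lit 2, nat_lit 1, nat_lit 2, nat_lit 3, nat_lit 1, nat_lit 3, nat_lit 2, nat_lit 1, nat_lit 2, nat_lit 3, nat_lit 1, nat_lit 3, nat_lit 2]) (.node (nat_lit 4667) (.leaf (nat_lit 3672) (nat_lit 2) [nat_lit 1, nat_lit 2, nat_lit 3, nat_lit 1, nat_lit 3, nat_lit 2, nat_lit 1, nat_lit 2, nat_lit 3, nat_lit 1, nat_lit 3, nat_lit 2, nat_lit 1, nat_lit 2, nat_lit 3, nat_lit 1, nat_lit 3]) (.leaf (nat_lit 3673) (nat_lit 3) [nat_lit 2, nat_lit 1, nat_lit 2, nat_lit 3, nat_lit 1, nat_lit 3, nat_lit 2, nat_lit 1, nat_lit 2, nat_lit 3, nat_lit 1, nat_lit 3, nat_lit 2, nat_lit 1, nat_lit 2, nat_lit 3, nat_lit 1])))) (.node (nat_lit 4670) (.node (nat_lit 4669) (.leaf (nat_lit 3674) (nat_lit 1) [nat_lit 3, nat_lit 2, nat_lit 1, nat_lit 2, nat_lit 3, nat_lit 1, nat_lit 3, nat_lit 2, nat_lit 1, nat_lit 2, nat_lit 3, nat_lit 1, nat_lit 3, nat_lit 2, nat_lit 1, nat_lit 2, nat_lit 3]) (.leaf (nat_lit 3675) (nat_lit 3) [nat_lit 1, nat_lit 3, nat_lit 2, nat_lit 1, nat_lit 2, nat_lit 3, nat_lit 1, nat_lit 3, nat_lit 2, nat_lit 1, nat_lit 2, nat_lit 3, nat_lit 1, nat_lit 3, nat_lit 2, nat_lit 1, nat_lit 2])) (.node (nat_lit 4671) (.leaf (nat_lit 3676) (nat_lit 2) [nat_lit 3, nat_lit 1, nat_lit 3, nat_lit 2, nat_lit 1, nat_lit 2, nat_lit 3, nat_lit 1, nat_lit 3, nat_lit 2, nat_lit 1, nat_lit 2, nat_lit 3, nat_lit 1, nat_lit 3, nat_lit 2, nat_lit 1]) (.node (nat_lit 4672) (.leaf (nat_lit 3677) (nat_lit 1) [nat_lit 2, nat_lit 3, nat_lit 1, nat_lit 3, nat_lit 2, nat_lit 1, nat_lit 2, nat_lit 3, nat_lit 1, nat_lit 3, nat_lit 2, nat_lit 1, nat_lit 2, nat_lit 3, nat_lit 1, nat_lit 3, nat_lit 2]) (.leaf (nat_lit 3672) (nat_lit 2) [nat_lit 1, nat_lit 2, nat_lit 3, nat_lit 1, nat_lit 3, nat_lit 2, nat_lit 1, nat_lit 2, nat_lit 3, nat_lit 1, nat_lit 3, nat_lit 2, nat_lit 1, nat_lit 2, nat_lit 3, nat_lit 1, nat_lit 3]))))))))) (.node (nat_lit 4748) (.node (nat_lit 4710) (.node (nat_lit 4691) (.node (nat_lit 4682) (.node (nat_lit 4677) (.node (nat_lit 4675) (.node (nat_lit 4674) (.leaf (nat_lit 3673) (nat_lit 3) [nat_lit 2, nat_lit 1, nat_lit 2, nat_lit 3, nat_lit 1, nat_lit 3, nat_lit 2, nat_lit 1, nat_lit 2, nat_lit 3, nat_lit 1, nat_lit 3, nat_lit 2, nat_lit 1, nat_lit 2, nat_lit 3, nat_lit 1]) (.leaf (nat_lit 3674) (nat_lit 1) [nat_lit 3, nat_lit 2, nat_lit 1, nat_lit 2, nat_lit 3, nat_lit 1, nat_lit 3, nat_lit 2, nat_lit 1, nat_lit 2, nat_lit 3, nat_lit 1, nat_lit 3, nat_lit 2, nat_lit 1, nat_lit 2, nat_lit 3])) (.node (nat_lit 4676) (.leaf (nat_lit 3675) (nat_lit 3) [nat_lit 1, nat_lit 3, nat_lit 2, nat_lit 1, nat_lit 2, nat_lit 3, nat_lit 1, nat_lit 3, nat_lit 2, nat_lit 1, nat_lit 2, nat_lit 3, nat_lit 1, nat_lit 3, nat_lit 2, nat_lit 1, nat_lit 2]) (.leaf (nat_lit 3676) (nat_lit 2) [nat_lit 3, nat_lit 1, nat_lit 3, nat_lit 2, nat_lit 1, nat_lit 2, nat_lit 3, nat_lit 1, nat_lit 3, nat_lit 2, nat_lit 1, nat_lit 2, nat_lit 3, nat_lit 1, nat_lit 3, nat_lit 2, nat_lit 1]))) (.node (nat_lit 4679) (.node (nat_lit 4678) (.leaf (nat_lit 3677) (nat_lit 1) [nat_lit 2, nat_lit 3, nat_lit 1, nat_lit 3, nat_lit 2, nat_lit 1, nat_lit 2, nat_lit 3, nat_lit 1, nat_lit 3, nat_lit 2, nat_lit 1, nat_lit 2, nat_lit 3, nat_lit 1, nat_lit 3, nat_lit 2]) (.leaf (nat_lit 3672) (nat_lit 2) [nat_lit 1, nat_lit 2, nat_lit 3, nat_lit 1, nat_lit 3, nat_lit 2, nat_lit 1, nat_lit 2, nat_lit 3, nat_lit 1, nat_lit 3, nat_lit 2, nat_lit 1, nat_lit 2, nat_lit 3, nat_lit 1, nat_lit 3])) (.node (nat_lit 4680) (.leaf (nat_lit 3673) (nat_lit 3) [nat_lit 2, nat_lit 1, nat_lit 2, nat_lit 3, nat_lit 1, nat_lit 3, nat_lit 2, nat_lit 1, nat_lit 2, nat_lit 3, nat_lit 1, nat_lit 3, nat_lit 2, nat_lit 1, nat_lit 2, nat_lit 3, nat_lit 1]) (.node (nat_lit 4681) (.leaf (nat_lit 3783) (nat_lit 3) [nat_lit 1, nat_lit 3, nat_lit 2, nat_lit 3, nat_lit 2, nat_lit 3, nat_lit 1, nat_lit 3, nat_lit 2, nat_lit 3, nat_lit 2, nat_lit 3, nat_lit 1, nat_lit 3, nat_lit 2, nat_lit 3, nat_lit 2]) (.leaf (nat_lit 3784) (nat_lit 2) [nat_lit 3, nat_lit 1, nat_lit 3, nat_lit 2, nat_lit 3, nat_lit 2, nat_lit 3, nat_lit 1, nat_lit 3, nat_lit 2, nat_lit 3, nat_lit 2, nat_lit 3, nat_lit 1, nat_lit 3, nat_lit 2, nat_lit 3]))))) (.node (nat_lit 4686) (.node (nat_lit 4684) (.node (nat_lit 4683) (.leaf (nat_lit 3785) (nat_lit 3) [nat_lit 2, nat_lit 3, nat_lit 1, nat_lit 3, nat_lit 2, nat_lit 3, nat_lit 2, nat_lit 3, nat_lit 1, nat_lit 3, nat_lit 2, nat_lit 3, nat_lit 2, nat_lit 3, nat_lit 1, nat_lit 3, nat_lit 2]) (.leaf (nat_lit 3780) (nat_lit 2) [nat_lit 3, nat_lit 2, nat_lit 3, nat_lit 1, nat_lit 3, nat_lit 2, nat_lit 3, nat_lit 2, nat_lit 3, nat_lit 1, nat_lit 3, nat_lit 2, nat_lit 3, nat_lit 2, nat_lit 3, nat_lit 1, nat_lit 3])) (.node (nat_lit 4685) (.leaf (nat_lit 3781) (nat_lit 3) [nat_lit 2, nat_lit 3, nat_lit 2, nat_lit 3, nat_lit 1, nat_lit 3, nat_lit 2, nat_lit 3, nat_lit 2, nat_lit 3, nat_lit 1, nat_lit 3, nat_lit 2, nat_lit 3, nat_lit 2, nat_lit 3, nat_lit 1]) (.leaf (nat_lit 3782) (nat_lit 1) [nat_lit 3, nat_lit 2, nat_lit 3, nat_lit 2, nat_lit 3, nat_lit 1, nat_lit 3, nat_lit 2, nat_lit 3, nat_lit 2, nat_lit 3, nat_lit 1, nat_lit 3, nat_lit 2, nat_lit 3, nat_lit 2, nat_lit 3]))) (.node (nat_lit 4688) (.node (nat_lit 4687) (.leaf (nat_lit 3783) (nat_lit 3) [nat_lit 1, nat_lit 3, nat_lit 2, nat_lit 3, nat_lit 2, nat_lit 3, nat_lit 1, nat_lit 3, nat_lit 2, nat_lit 3, nat_lit 2, nat_lit 3, nat_lit 1, nat_lit 3, nat_lit 2, nat_lit 3, nat_lit 2]) (.leaf (nat_lit 3784) (nat_lit 2) [nat_lit 3, nat_lit 1, nat_lit 3, nat_lit 2, nat_lit 3, nat_lit 2, nat_lit 3, nat_lit 1, nat_lit 3, nat_lit 2, nat_lit 3, nat_lit 2, nat_lit 3, nat_lit 1, nat_lit 3, nat_lit 2, nat_lit 3])) (.node (nat_lit 4689) (.leaf (nat_lit 3785) (nat_lit 3) [nat_lit 2, nat_lit 3, nat_lit 1, nat_lit 3, nat_lit 2, nat_lit 3, nat_lit 2, nat_lit 3, nat_lit 1, nat_lit 3, nat_lit 2, nat_lit 3, nat_lit 2, nat_lit 3, nat_lit 1, nat_lit 3, nat_lit 2]) (.node (nat_lit 4690) (.leaf (nat_lit 3780) (nat_lit 2) [nat_lit 3, nat_lit 2, nat_lit 3, nat_lit 1, nat_lit 3, nat_lit 2, nat_lit 3, nat_lit 2, nat_lit 3, nat_lit 1, nat_lit 3, nat_lit 2, nat_lit 3, nat_lit 2, nat_lit 3, nat_lit 1, nat_lit 3]) (.leaf (nat_lit 3781) (nat_lit 3) [nat_lit 2, nat_lit 3, nat_lit 2, nat_lit 3, nat_lit 1, nat_lit 3, nat_lit 2, nat_lit 3, nat_lit 2, nat_lit 3, nat_lit 1, nat_lit 3, nat_lit 2, nat_lit 3, nat_lit 2, nat_lit 3, nat_lit 1])))))) (.node (nat_lit 4700) (.node (nat_lit 4695) (.node (nat_lit 4693) (.node (nat_lit 4692) (.leaf (nat_lit 3782) (nat_lit 1) [nat_lit 3, nat_lit 2, nat_lit 3, nat_lit 2, nat_lit 3, nat_lit 1, nat_lit 3, nat_lit 2, nat_lit 3, nat_lit 2, nat_lit 3, nat_lit 1, nat_lit 3, nat_lit 2, nat_lit 3, nat_lit 2, nat_lit 3]) (.leaf (nat_lit 3783) (nat_lit 3) [nat_lit 1, nat_lit 3, nat_lit 2, nat_lit 3, nat_lit 2, nat_lit 3, nat_lit 1, nat_lit 3, nat_lit 2, nat_lit 3, nat_lit 2, nat_lit 3, nat_lit 1, nat_lit 3, nat_lit 2, nat_lit 3, nat_lit 2])) (.node (nat_lit 4694) (.leaf (nat_lit 3784) (nat_lit 2) [nat_lit 3, nat_lit 1, nat_lit 3, nat_lit 2, nat_lit 3, nat_lit 2, nat_lit 3, nat_lit 1, nat_lit 3, nat_lit 2, nat_lit 3, nat_lit 2, nat_lit 3, nat_lit 1, nat_lit 3, nat_lit 2, nat_lit 3]) (.leaf (nat_lit 3785) (nat_lit 3) [nat_lit 2, nat_lit 3, nat_lit 1, nat_lit 3, nat_lit 2, nat_lit 3, nat_lit 2, nat_lit 3, nat_lit 1, nat_lit 3, nat_lit 2, nat_lit 3, nat_lit 2, nat_lit 3, nat_lit 1, nat_lit 3, nat_lit 2]))) (.node (nat_lit 4697) (.node (nat_lit 4696) (.leaf (nat_lit 3780) (nat_lit 2) [nat_lit 3, nat_lit 2, nat_lit 3, nat_lit 1, nat_lit 3, nat_lit 2, nat_lit 3, nat_lit 2, nat_lit 3, nat_lit 1, nat_lit 3, nat_lit 2, nat_lit 3, nat_lit 2, nat_lit 3, nat_lit 1, nat_lit 3]) (.leaf (nat_lit 3781) (nat_lit 3) [nat_lit 2, nat_lit 3, nat_lit 2, nat_lit 3, nat_lit 1, nat_lit 3, nat_lit 2, nat_lit 3, nat_lit 2, nat_lit 3, nat_lit 1, nat_lit 3, nat_lit 2, nat_lit 3, nat_lit 2, nat_lit 3, nat_lit 1])) (.node (nat_lit 4698) (.leaf (nat_lit 3782) (nat_lit 1) [nat_lit 3, nat_lit 2, nat_lit 3, nat_lit 2, nat_lit 3, nat_lit 1, nat_lit 3, nat_lit 2, nat_lit 3, nat_lit 2, nat_lit 3, nat_lit 1, nat_lit 3, nat_lit 2, nat_lit 3, nat_lit 2, nat_lit 3]) (.node (nat_lit 4699) (.leaf (nat_lit 3782) (nat_lit 1) [nat_lit 3, nat_lit 2, nat_lit 3, nat_lit 2, nat_lit 3, nat_lit 1, nat_lit 3, nat_lit 2, nat_lit 3, nat_lit 2, nat_lit 3, nat_lit 1, nat_lit 3, nat_lit 2, nat_lit 3, nat_lit 2, nat_lit 3]) (.leaf (nat_lit 3783) (nat_lit 3) [nat_lit 1, nat_lit 3, nat_lit 2, nat_lit 3, nat_lit 2, nat_lit 3, nat_lit 1, nat_lit 3, nat_lit 2, nat_lit 3, nat_lit 2, nat_lit 3, nat_lit 1, nat_lit 3, nat_lit 2, nat_lit 3, nat_lit 2]))))) (.node (nat_lit 4705) (.node (nat_lit 4702) (.node (nat_lit 4701) (.leaf (nat_lit 3784) (nat_lit 2) [nat_lit 3, nat_lit 1, nat_lit 3, nat_lit 2, nat_lit 3, nat_lit 2, nat_lit 3, nat_lit 1, nat_lit 3, nat_lit 2, nat_lit 3, nat_lit 2, nat_lit 3, nat_lit 1, nat_lit 3, nat_lit 2, nat_lit 3]) (.leaf (nat_lit 3785) (nat_lit 3) [nat_lit 2, nat_lit 3, nat_lit 1, nat_lit 3, nat_lit 2, nat_lit 3, nat_lit 2, nat_lit 3, nat_lit 1, nat_lit 3, nat_lit 2, nat_lit 3, nat_lit 2, nat_lit 3, nat_lit 1, nat_lit 3, nat_lit 2])) (.node (nat_lit 4703) (.leaf (nat_lit 3780) (nat_lit 2) [nat_lit 3, nat_lit 2, nat_lit 3, nat_lit 1, nat_lit 3, nat_lit 2, nat_lit 3, nat_lit 2, nat_lit 3, nat_lit 1, nat_lit 3, nat_lit 2, nat_lit 3, nat_lit 2, nat_lit 3, nat_lit 1, nat_lit 3]) (.node (nat_lit 4704) (.leaf (nat_lit 3781) (nat_lit 3) [nat_lit 2, nat_lit 3, nat_lit 2, nat_lit 3, nat_lit 1, nat_lit 3, nat_lit 2, nat_lit 3, nat_lit 2, nat_lit 3, nat_lit 1, nat_lit 3, nat_lit 2, nat_lit 3, nat_lit 2, nat_lit 3, nat_lit 1]) (.leaf (nat_lit 3782) (nat_lit 1) [nat_lit 3, nat_lit 2, nat_lit 3, nat_lit 2, nat_lit 3, nat_lit 1, nat_lit 3, nat_lit 2, nat_lit 3, nat_lit 2, nat_lit 3, nat_lit 1, nat_lit 3, nat_lit 2, nat_lit 3, nat_lit 2, nat_lit 3])))) (.node (nat_lit 4707) (.node (nat_lit 4706) (.leaf (nat_lit 3783) (nat_lit 3) [nat_lit 1, nat_lit 3, nat_lit 2, nat_lit 3, nat_lit 2, nat_lit 3, nat_lit 1, nat_lit 3, nat_lit 2, nat_lit 3, nat_lit 2, nat_lit 3, nat_lit 1, nat_lit 3, nat_lit 2, nat_lit 3, nat_lit 2]) (.leaf (nat_lit 3784) (nat_lit 2) [nat_lit 3, nat_lit 1, nat_lit 3, nat_lit 2, nat_lit 3, nat_lit 2, nat_lit 3, nat_lit 1, nat_lit 3, nat_lit 2, nat_lit 3, nat_lit 2, nat_lit 3, nat_lit 1, nat_lit 3, nat_lit 2, nat_lit 3])) (.node (nat_lit 4708) (.leaf (nat_lit 3785) (nat_lit 3) [nat_lit 2, nat_lit 3, nat_lit 1, nat_lit 3, nat_lit 2, nat_lit 3, nat_lit 2, nat_lit 3, nat_lit 1, nat_lit 3, nat_lit 2, nat_lit 3, nat_lit 2, nat_lit 3, nat_lit 1, nat_lit 3, nat_lit 2]) (.node (nat_lit 4709) (.leaf (nat_lit 3780) (nat_lit 2) [nat_lit 3, nat_lit 2, nat_lit 3, nat_lit 1, nat_lit 3, nat_lit 2, nat_lit 3, nat_lit 2, nat_lit 3, nat_lit 1, nat_lit 3, nat_lit 2, nat_lit 3, nat_lit 2, nat_lit 3, nat_lit 1, nat_lit 3]) (.leaf (nat_lit 3781) (nat_lit 3) [nat_lit 2, nat_lit 3, nat_lit 2, nat_lit 3, nat_lit 1, nat_lit 3, nat_lit 2, nat_lit 3, nat_lit 2, nat_lit 3, nat_lit 1, nat_lit 3, nat_lit 2, nat_lit 3, nat_lit 2, nat_lit 3, nat_lit 1]))))))) (.node (nat_lit 4729) (.node (nat_lit 4719) (.node (nat_lit 4714) (.node (nat_lit 4712) (.node (nat_lit 4711) (.leaf (nat_lit 3782) (nat_lit 1) [nat_lit 3, nat_lit 2, nat_lit 3, nat_lit 2, nat_lit 3, nat_lit 1, nat_lit 3, nat_lit 2, nat_lit 3, nat_lit 2, nat_lit 3, nat_lit 1, nat_lit 3, nat_lit 2, nat_lit 3, nat_lit 2, nat_lit 3]) (.leaf (nat_lit 3783) (nat_lit 3) [nat_lit 1, nat_lit 3, nat_lit 2, nat_lit 3, nat_lit 2, nat_lit 3, nat_lit 1, nat_lit 3, nat_lit 2, nat_lit 3, nat_lit 2, nat_lit 3, nat_lit 1, nat_lit 3, nat_lit 2, nat_lit 3, nat_lit 2])) (.node (nat_lit 4713) (.leaf (nat_lit 3784) (nat_lit 2) [nat_lit 3, nat_lit 1, nat_lit 3, nat_lit 2, nat_lit 3, nat_lit 2, nat_lit 3, nat_lit 1, nat_lit 3, nat_lit 2, nat_lit 3, nat_lit 2, nat_lit 3, nat_lit 1, nat_lit 3, nat_lit 2, nat_lit 3]) (.leaf (nat_lit 3785) (nat_lit 3) [nat_lit 2, nat_lit 3, nat_lit 1, nat_lit 3, nat_lit 2, nat_lit 3, nat_lit 2, nat_lit 3, nat_lit 1, nat_lit 3, nat_lit 2, nat_lit 3, nat_lit 2, nat_lit 3, nat_lit 1, nat_lit 3, nat_lit 2]))) (.node (nat_lit 4716) (.node (nat_lit 4715) (.leaf (nat_lit 3780) (nat_lit 2) [nat_lit 3, nat_lit 2, nat_lit 3, nat_lit 1, nat_lit 3, nat_lit 2, nat_lit 3, nat_lit 2, nat_lit 3, nat_lit 1, nat_lit 3, nat_lit 2, nat_lit 3, nat_lit 2, nat_lit 3, nat_lit 1, nat_lit 3]) (.leaf (nat_lit 3781) (nat_lit 3) [nat_lit 2, nat_lit 3, nat_lit 2, nat_lit 3, nat_lit 1, nat_lit 3, nat_lit 2, nat_lit 3, nat_lit 2, nat_lit 3, nat_lit 1, nat_lit 3, nat_lit 2, nat_lit 3, nat_lit 2, nat_lit 3, nat_lit 1])) (.node (nat_lit 4717) (.leaf (nat_lit 3603) (nat_lit 3) [nat_lit 2, nat_lit 3, nat_lit 2, nat_lit 0, nat_lit 2, nat_lit 3, nat_lit 2, nat_lit 3, nat_lit 2, nat_lit 0, nat_lit 2, nat_lit 3, nat_lit 2, nat_lit 3, nat_lit 2, nat_lit 0, nat_lit 2]) (.node (nat_lit 4718) (.leaf (nat_lit 3604) (nat_lit 2) [nat_lit 3, nat_lit 2, nat_lit 3, nat_lit 2, nat_lit 0, nat_lit 2, nat_lit 3, nat_lit 2, nat_lit 3, nat_lit 2, nat_lit 0, nat_lit 2, nat_lit 3, nat_lit 2, nat_lit 3, nat_lit 2, nat_lit 0]) (.leaf (nat_lit 3605) (nat_lit 0) [nat_lit 2, nat_lit 3, nat_lit 2, nat_lit 3, nat_lit 2, nat_lit 0, nat_lit 2, nat_lit 3, nat_lit 2, nat_lit 3, nat_lit 2, nat_lit 0, nat_lit 2, nat_lit 3, nat_lit 2, nat_lit 3, nat_lit 2]))))) (.node (nat_lit 4724) (.node (nat_lit 4721) (.node (nat_lit 4720) (.leaf (nat_lit 3600) (nat_lit 2) [nat_lit 0, nat_lit 2, nat_lit 3, nat_lit 2, nat_lit 3, nat_lit 2, nat_lit 0, nat_lit 2, nat_lit 3, nat_lit 2, nat_lit 3, nat_lit 2, nat_lit 0, nat_lit 2, nat_lit 3, nat_lit 2, nat_lit 3]) (.leaf (nat_lit 3601) (nat_lit 3) [nat_lit 2, nat_lit 0, nat_lit 2, nat_lit 3, nat_lit 2, nat_lit 3, nat_lit 2, nat_lit 0, nat_lit 2, nat_lit 3, nat_lit 2, nat_lit 3, nat_lit 2, nat_lit 0, nat_lit 2, nat_lit 3, nat_lit 2])) (.node (nat_lit 4722) (.leaf (nat_lit 3602) (nat_lit 2) [nat_lit 3, nat_lit 2, nat_lit 0, nat_lit 2, nat_lit 3, nat_lit 2, nat_lit 3, nat_lit 2, nat_lit 0, nat_lit 2, nat_lit 3, nat_lit 2, nat_lit 3, nat_lit 2, nat_lit 0, nat_lit 2, nat_lit 3]) (.node (nat_lit 4723) (.leaf (nat_lit 3603) (nat_lit 3) [nat_lit 2, nat_lit 3, nat_lit 2, nat_lit 0, nat_lit 2, nat_lit 3, nat_lit 2, nat_lit 3, nat_lit 2, nat_lit 0, nat_lit 2, nat_lit 3, nat_lit 2, nat_lit 3, nat_lit 2, nat_lit 0, nat_lit 2]) (.leaf (nat_lit 3604) (nat_lit 2) [nat_lit 3, nat_lit 2, nat_lit 3, nat_lit 2, nat_lit 0, nat_lit 2, nat_lit 3, nat_lit 2, nat_lit 3, nat_lit 2, nat_lit 0, nat_lit 2, nat_lit 3, nat_lit 2, nat_lit 3, nat_lit 2, nat_lit 0])))) (.node (nat_lit 4726) (.node (nat_lit 4725) (.leaf (nat_lit 3605) (nat_lit 0) [nat_lit 2, nat_lit 3, nat_lit 2, nat_lit 3, nat_lit 2, nat_lit 0, nat_lit 2, nat_lit 3, nat_lit 2, nat_lit 3, nat_lit 2, nat_lit 0, nat_lit 2, nat_lit 3, nat_lit 2, nat_lit 3, nat_lit 2]) (.leaf (nat_lit 3600) (nat_lit 2) [nat_lit 0, nat_lit 2, nat_lit 3, nat_lit 2, nat_lit 3, nat_lit 2, nat_lit 0, nat_lit 2, nat_lit 3, nat_lit 2, nat_lit 3, nat_lit 2, nat_lit 0, nat_lit 2, nat_lit 3, nat_lit 2, nat_lit 3])) (.node (nat_lit 4727) (.leaf (nat_lit 3601) (nat_lit 3) [nat_lit 2, nat_lit 0, nat_lit 2, nat_lit 3, nat_lit 2, nat_lit 3, nat_lit 2, nat_lit 0, nat_lit 2, nat_lit 3, nat_lit 2, nat_lit 3, nat_lit 2, nat_lit 0, nat_lit 2, nat_lit 3, nat_lit 2]) (.node (nat_lit 4728) (.leaf (nat_lit 3602) (nat_lit 2) [nat_lit 3, nat_lit 2, nat_lit 0, nat_lit 2, nat_lit 3, nat_lit 2, nat_lit 3, nat_lit 2, nat_lit 0, nat_lit 2, nat_lit 3, nat_lit 2, nat_lit 3, nat_lit 2, nat_lit 0, nat_lit 2, nat_lit 3]) (.leaf (nat_lit 3603) (nat_lit 3) [nat_lit 2, nat_lit 3, nat_lit 2, nat_lit 0, nat_lit 2, nat_lit 3, nat_lit 2, nat_lit 3, nat_lit 2, nat_lit 0, nat_lit 2, nat_lit 3, nat_lit 2, nat_lit 3, nat_lit 2, nat_lit 0, nat_lit 2])))))) (.node (nat_lit 4738) (.node (nat_lit 4733) (.node (nat_lit 4731) (.node (nat_lit 4730) (.leaf (nat_lit 3604) (nat_lit 2) [nat_lit 3, nat_lit 2, nat_lit 3, nat_lit 2, nat_lit 0, nat_lit 2, nat_lit 3, nat_lit 2, nat_lit 3, nat_lit 2, nat_lit 0, nat_lit 2, nat_lit 3, nat_lit 2, nat_lit 3, nat_lit 2, nat_lit 0]) (.leaf (nat_lit 3605) (nat_lit 0) [nat_lit 2, nat_lit 3, nat_lit 2, nat_lit 3, nat_lit 2, nat_lit 0, nat_lit 2, nat_lit 3, nat_lit 2, nat_lit 3, nat_lit 2, nat_lit 0, nat_lit 2, nat_lit 3, nat_lit 2, nat_lit 3, nat_lit 2])) (.node (nat_lit 4732) (.leaf (nat_lit 3600) (nat_lit 2) [nat_lit 0, nat_lit 2, nat_lit 3, nat_lit 2, nat_lit 3, nat_lit 2, nat_lit 0, nat_lit 2, nat_lit 3, nat_lit 2, nat_lit 3, nat_lit 2, nat_lit 0, nat_lit 2, nat_lit 3, nat_lit 2, nat_lit 3]) (.leaf (nat_lit 3601) (nat_lit 3) [nat_lit 2, nat_lit 0, nat_lit 2, nat_lit 3, nat_lit 2, nat_lit 3, nat_lit 2, nat_lit 0, nat_lit 2, nat_lit 3, nat_lit 2, nat_lit 3, nat_lit 2, nat_lit 0, nat_lit 2, nat_lit 3, nat_lit 2]))) (.node (nat_lit 4735) (.node (nat_lit 4734) (.leaf (nat_lit 3602) (nat_lit 2) [nat_lit 3, nat_lit 2, nat_lit 0, nat_lit 2, nat_lit 3, nat_lit 2, nat_lit 3, nat_lit 2, nat_lit 0, nat_lit 2, nat_lit 3, nat_lit 2, nat_lit 3, nat_lit 2, nat_lit 0, nat_lit 2, nat_lit 3]) (.leaf (nat_lit 3602) (nat_lit 2) [nat_lit 3, nat_lit 2, nat_lit 0, nat_lit 2, nat_lit 3, nat_lit 2, nat_lit 3, nat_lit 2, nat_lit 0, nat_lit 2, nat_lit 3, nat_lit 2, nat_lit 3, nat_lit 2, nat_lit 0, nat_lit 2, nat_lit 3])) (.node (nat_lit 4736) (.leaf (nat_lit 3603) (nat_lit 3) [nat_lit 2, nat_lit 3, nat_lit 2, nat_lit 0, nat_lit 2, nat_lit 3, nat_lit 2, nat_lit 3, nat_lit 2, nat_lit 0, nat_lit 2, nat_lit 3, nat_lit 2, nat_lit 3, nat_lit 2, nat_lit 0, nat_lit 2]) (.node (nat_lit 4737) (.leaf (nat_lit 3604) (nat_lit 2) [nat_lit 3, nat_lit 2, nat_lit 3, nat_lit 2, nat_lit 0, nat_lit 2, nat_lit 3, nat_lit 2, nat_lit 3, nat_lit 2, nat_lit 0, nat_lit 2, nat_lit 3, nat_lit 2, nat_lit 3, nat_lit 2, nat_lit 0]) (.leaf (nat_lit 3605) (nat_lit 0) [nat_lit 2, nat_lit 3, nat_lit 2, nat_lit 3, nat_lit 2, nat_lit 0, nat_lit 2, nat_lit 3, nat_lit 2, nat_lit 3, nat_lit 2, nat_lit 0, nat_lit 2, nat_lit 3, nat_lit 2, nat_lit 3, nat_lit 2]))))) (.node (nat_lit 4743) (.node (nat_lit 4740) (.node (nat_lit 4739) (.leaf (nat_lit 3600) (nat_lit 2) [nat_lit 0, nat_lit 2, nat_lit 3, nat_lit 2, nat_lit 3, nat_lit 2, nat_lit 0, nat_lit 2, nat_lit 3, nat_lit 2, nat_lit 3, nat_lit 2, nat_lit 0, nat_lit 2, nat_lit 3, nat_lit 2, nat_lit 3]) (.leaf (nat_lit 3601) (nat_lit 3) [nat_lit 2, nat_lit 0, nat_lit 2, nat_lit 3, nat_lit 2, nat_lit 3, nat_lit 2, nat_lit 0, nat_lit 2, nat_lit 3, nat_lit 2, nat_lit 3, nat_lit 2, nat_lit 0, nat_lit 2, nat_lit 3, nat_lit 2])) (.node (nat_lit 4741) (.leaf (nat_lit 3602) (nat_lit 2) [nat_lit 3, nat_lit 2, nat_lit 0, nat_lit 2, nat_lit 3, nat_lit 2, nat_lit 3, nat_lit 2, nat_lit 0, nat_lit 2, nat_lit 3, nat_lit 2, nat_lit 3, nat_lit 2, nat_lit 0, nat_lit 2, nat_lit 3]) (.node (nat_lit 4742) (.leaf (nat_lit 3603) (nat_lit 3) [nat_lit 2, nat_lit 3, nat_lit 2, nat_lit 0, nat_lit 2, nat_lit 3, nat_lit 2, nat_lit 3, nat_lit 2, nat_lit 0, nat_lit 2, nat_lit 3, nat_lit 2, nat_lit 3, nat_lit 2, nat_lit 0, nat_lit 2]) (.leaf (nat_lit 3604) (nat_lit 2) [nat_lit 3, nat_lit 2, nat_lit 3, nat_lit 2, nat_lit 0, nat_lit 2, nat_lit 3, nat_lit 2, nat_lit 3, nat_lit 2, nat_lit 0, nat_lit 2, nat_lit 3, nat_lit 2, nat_lit 3, nat_lit 2, nat_lit 0])))) (.node (nat_lit 4745) (.node (nat_lit 4744) (.leaf (nat_lit 3605) (nat_lit 0) [nat_lit 2, nat_lit 3, nat_lit 2, nat_lit 3, nat_lit 2, nat_lit 0, nat_lit 2, nat_lit 3, nat_lit 2, nat_lit 3, nat_lit 2, nat_lit 0, nat_lit 2, nat_lit 3, nat_lit 2, nat_lit 3, nat_lit 2]) (.leaf (nat_lit 3600) (nat_lit 2) [nat_lit 0, nat_lit 2, nat_lit 3, nat_lit 2, nat_lit 3, nat_lit 2, nat_lit 0, nat_lit 2, nat_lit 3, nat_lit 2, nat_lit 3, nat_lit 2, nat_lit 0, nat_lit 2, nat_lit 3, nat_lit 2, nat_lit 3])) (.node (nat_lit 4746) (.leaf (nat_lit 3601) (nat_lit 3) [nat_lit 2, nat_lit 0, nat_lit 2, nat_lit 3, nat_lit 2, nat_lit 3, nat_lit 2, nat_lit 0, nat_lit 2, nat_lit 3, nat_lit 2, nat_lit 3, nat_lit 2, nat_lit 0, nat_lit 2, nat_lit 3, nat_lit 2]) (.node (nat_lit 4747) (.leaf (nat_lit 3602) (nat_lit 2) [nat_lit 3, nat_lit 2, nat_lit 0, nat_lit 2, nat_lit 3, nat_lit 2, nat_lit 3, nat_lit 2, nat_lit 0, nat_lit 2, nat_lit 3, nat_lit 2, nat_lit 3, nat_lit 2, nat_lit 0, nat_lit 2, nat_lit 3]) (.leaf (nat_lit 3603) (nat_lit 3) [nat_lit 2, nat_lit 3, nat_lit 2, nat_lit 0, nat_lit 2, nat_lit 3, nat_lit 2, nat_lit 3, nat_lit 2, nat_lit 0, nat_lit 2, nat_lit 3, nat_lit 2, nat_lit 3, nat_lit 2, nat_lit 0, nat_lit 2])))))))) (.node (nat_lit 4786) (.node (nat_lit 4767) (.node (nat_lit 4757) (.node (nat_lit 4752) (.node (nat_lit 4750) (.node (nat_lit 4749) (.leaf (nat_lit 3604) (nat_lit 2) [nat_lit 3, nat_lit 2, nat_lit 3, nat_lit 2, nat_lit 0, nat_lit 2, nat_lit 3, nat_lit 2, nat_lit 3, nat_lit 2, nat_lit 0, nat_lit 2, nat_lit 3, nat_lit 2, nat_lit 3, nat_lit 2, nat_lit 0]) (.leaf (nat_lit 3605) (nat_lit 0) [nat_lit 2, nat_lit 3, nat_lit 2, nat_lit 3, nat_lit 2, nat_lit 0, nat_lit 2, nat_lit 3, nat_lit 2, nat_lit 3, nat_lit 2, nat_lit 0, nat_lit 2, nat_lit 3, nat_lit 2, nat_lit 3, nat_lit 2])) (.node (nat_lit 4751) (.leaf (nat_lit 3600) (nat_lit 2) [nat_lit 0, nat_lit 2, nat_lit 3, nat_lit 2, nat_lit 3, nat_lit 2, nat_lit 0, nat_lit 2, nat_lit 3, nat_lit 2, nat_lit 3, nat_lit 2, nat_lit 0, nat_lit 2, nat_lit 3, nat_lit 2, nat_lit 3]) (.leaf (nat_lit 3601) (nat_lit 3) [nat_lit 2, nat_lit 0, nat_lit 2, nat_lit 3, nat_lit 2, nat_lit 3, nat_lit 2, nat_lit 0, nat_lit 2, nat_lit 3, nat_lit 2, nat_lit 3, nat_lit 2, nat_lit 0, nat_lit 2, nat_lit 3, nat_lit 2]))) (.node (nat_lit 4754) (.node (nat_lit 4753) (.leaf (nat_lit 3711) (nat_lit 3) [nat_lit 2, nat_lit 3, nat_lit 2, nat_lit 1, nat_lit 2, nat_lit 3, nat_lit 2, nat_lit 3, nat_lit 2, nat_lit 1, nat_lit 2, nat_lit 3, nat_lit 2, nat_lit 3, nat_lit 2, nat_lit 1, nat_lit 2]) (.leaf (nat_lit 3712) (nat_lit 2) [nat_lit 3, nat_lit 2, nat_lit 3, nat_lit 2, nat_lit 1, nat_lit 2, nat_lit 3, nat_lit 2, nat_lit 3, nat_lit 2, nat_lit 1, nat_lit 2, nat_lit 3, nat_lit 2, nat_lit 3, nat_lit 2, nat_lit 1])) (.node (nat_lit 4755) (.leaf (nat_lit 3713) (nat_lit 1) [nat_lit 2, nat_lit 3, nat_lit 2, nat_lit 3, nat_lit 2, nat_lit 1, nat_lit 2, nat_lit 3, nat_lit 2, nat_lit 3, nat_lit 2, nat_lit 1, nat_lit 2, nat_lit 3, nat_lit 2, nat_lit 3, nat_lit 2]) (.node (nat_lit 4756) (.leaf (nat_lit 3708) (nat_lit 2) [nat_lit 1, nat_lit 2, nat_lit 3, nat_lit 2, nat_lit 3, nat_lit 2, nat_lit 1, nat_lit 2, nat_lit 3, nat_lit 2, nat_lit 3, nat_lit 2, nat_lit 1, nat_lit 2, nat_lit 3, nat_lit 2, nat_lit 3]) (.leaf (nat_lit 3709) (nat_lit 3) [nat_lit 2, nat_lit 1, nat_lit 2, nat_lit 3, nat_lit 2, nat_lit 3, nat_lit 2, nat_lit 1, nat_lit 2, nat_lit 3, nat_lit 2, nat_lit 3, nat_lit 2, nat_lit 1, nat_lit 2, nat_lit 3, nat_lit 2]))))) (.node (nat_lit 4762) (.node (nat_lit 4759) (.node (nat_lit 4758) (.leaf (nat_lit 3710) (nat_lit 2) [nat_lit 3, nat_lit 2, nat_lit 1, nat_lit 2, nat_lit 3, nat_lit 2, nat_lit 3, nat_lit 2, nat_lit 1, nat_lit 2, nat_lit 3, nat_lit 2, nat_lit 3, nat_lit 2, nat_lit 1, nat_lit 2, nat_lit 3]) (.leaf (nat_lit 3711) (nat_lit 3) [nat_lit 2, nat_lit 3, nat_lit 2, nat_lit 1, nat_lit 2, nat_lit 3, nat_lit 2, nat_lit 3, nat_lit 2, nat_lit 1, nat_lit 2, nat_lit 3, nat_lit 2, nat_lit 3, nat_lit 2, nat_lit 1, nat_lit 2])) (.node (nat_lit 4760) (.leaf (nat_lit 3712) (nat_lit 2) [nat_lit 3, nat_lit 2, nat_lit 3, nat_lit 2, nat_lit 1, nat_lit 2, nat_lit 3, nat_lit 2, nat_lit 3, nat_lit 2, nat_lit 1, nat_lit 2, nat_lit 3, nat_lit 2, nat_lit 3, nat_lit 2, nat_lit 1]) (.node (nat_lit 4761) (.leaf (nat_lit 3713) (nat_lit 1) [nat_lit 2, nat_lit 3, nat_lit 2, nat_lit 3, nat_lit 2, nat_lit 1, nat_lit 2, nat_lit 3, nat_lit 2, nat_lit 3, nat_lit 2, nat_lit 1, nat_lit 2, nat_lit 3, nat_lit 2, nat_lit 3, nat_lit 2]) (.leaf (nat_lit 3708) (nat_lit 2) [nat_lit 1, nat_lit 2, nat_lit 3, nat_lit 2, nat_lit 3, nat_lit 2, nat_lit 1, nat_lit 2, nat_lit 3, nat_lit 2, nat_lit 3, nat_lit 2, nat_lit 1, nat_lit 2, nat_lit 3, nat_lit 2, nat_lit 3])))) (.node (nat_lit 4764) (.node (nat_lit 4763) (.leaf (nat_lit 3709) (nat_lit 3) [nat_lit 2, nat_lit 1, nat_lit 2, nat_lit 3, nat_lit 2, nat_lit 3, nat_lit 2, nat_lit 1, nat_lit 2, nat_lit 3, nat_lit 2, nat_lit 3, nat_lit 2, nat_lit 1, nat_lit 2, nat_lit 3, nat_lit 2]) (.leaf (nat_lit 3710) (nat_lit 2) [nat_lit 3, nat_lit 2, nat_lit 1, nat_lit 2, nat_lit 3, nat_lit 2, nat_lit 3, nat_lit 2, nat_lit 1, nat_lit 2, nat_lit 3, nat_lit 2, nat_lit 3, nat_lit 2, nat_lit 1, nat_lit 2, nat_lit 3])) (.node (nat_lit 4765) (.leaf (nat_lit 3711) (nat_lit 3) [nat_lit 2, nat_lit 3, nat_lit 2, nat_lit 1, nat_lit 2, nat_lit 3, nat_lit 2, nat_lit 3, nat_lit 2, nat_lit 1, nat_lit 2, nat_lit 3, nat_lit 2, nat_lit 3, nat_lit 2, nat_lit 1, nat_lit 2]) (.node (nat_lit 4766) (.leaf (nat_lit 3712) (nat_lit 2) [nat_lit 3, nat_lit 2, nat_lit 3, nat_lit 2, nat_lit 1, nat_lit 2, nat_lit 3, nat_lit 2, nat_lit 3, nat_lit 2, nat_lit 1, nat_lit 2, nat_lit 3, nat_lit 2, nat_lit 3, nat_lit 2, nat_lit 1]) (.leaf (nat_lit 3713) (nat_lit 1) [nat_lit 2, nat_lit 3, nat_lit 2, nat_lit 3, nat_lit 2, nat_lit 1, nat_lit 2, nat_lit 3, nat_lit 2, nat_lit 3, nat_lit 2, nat_lit 1, nat_lit 2, nat_lit 3, nat_lit 2, nat_lit 3, nat_lit 2])))))) (.node (nat_lit 4776) (.node (nat_lit 4771) (.node (nat_lit 4769) (.node (nat_lit 4768) (.leaf (nat_lit 3708) (nat_lit 2) [nat_lit 1, nat_lit 2, nat_lit 3, nat_lit 2, nat_lit 3, nat_lit 2, nat_lit 1, nat_lit 2, nat_lit 3, nat_lit 2, nat_lit 3, nat_lit 2, nat_lit 1, nat_lit 2, nat_lit 3, nat_lit 2, nat_lit 3]) (.leaf (nat_lit 3709) (nat_lit 3) [nat_lit 2, nat_lit 1, nat_lit 2, nat_lit 3, nat_lit 2, nat_lit 3, nat_lit 2, nat_lit 1, nat_lit 2, nat_lit 3, nat_lit 2, nat_lit 3, nat_lit 2, nat_lit 1, nat_lit 2, nat_lit 3, nat_lit 2])) (.node (nat_lit 4770) (.leaf (nat_lit 3710) (nat_lit 2) [nat_lit 3, nat_lit 2, nat_lit 1, nat_lit 2, nat_lit 3, nat_lit 2, nat_lit 3, nat_lit 2, nat_lit 1, nat_lit 2, nat_lit 3, nat_lit 2, nat_lit 3, nat_lit 2, nat_lit 1, nat_lit 2, nat_lit 3]) (.leaf (nat_lit 3710) (nat_lit 2) [nat_lit 3, nat_lit 2, nat_lit 1, nat_lit 2, nat_lit 3, nat_lit 2, nat_lit 3, nat_lit 2, nat_lit 1, nat_lit 2, nat_lit 3, nat_lit 2, nat_lit 3, nat_lit 2, nat_lit 1, nat_lit 2, nat_lit 3]))) (.node (nat_lit 4773) (.node (nat_lit 4772) (.leaf (nat_lit 3711) (nat_lit 3) [nat_lit 2, nat_lit 3, nat_lit 2, nat_lit 1, nat_lit 2, nat_lit 3, nat_lit 2, nat_lit 3, nat_lit 2, nat_lit 1, nat_lit 2, nat_lit 3, nat_lit 2, nat_lit 3, nat_lit 2, nat_lit 1, nat_lit 2]) (.leaf (nat_lit 3712) (nat_lit 2) [nat_lit 3, nat_lit 2, nat_lit 3, nat_lit 2, nat_lit 1, nat_lit 2, nat_lit 3, nat_lit 2, nat_lit 3, nat_lit 2, nat_lit 1, nat_lit 2, nat_lit 3, nat_lit 2, nat_lit 3, nat_lit 2, nat_lit 1])) (.node (nat_lit 4774) (.leaf (nat_lit 3713) (nat_lit 1) [nat_lit 2, nat_lit 3, nat_lit 2, nat_lit 3, nat_lit 2, nat_lit 1, nat_lit 2, nat_lit 3, nat_lit 2, nat_lit 3, nat_lit 2, nat_lit 1, nat_lit 2, nat_lit 3, nat_lit 2, nat_lit 3, nat_lit 2]) (.node (nat_lit 4775) (.leaf (nat_lit 3708) (nat_lit 2) [nat_lit 1, nat_lit 2, nat_lit 3, nat_lit 2, nat_lit 3, nat_lit 2, nat_lit 1, nat_lit 2, nat_lit 3, nat_lit 2, nat_lit 3, nat_lit 2, nat_lit 1, nat_lit 2, nat_lit 3, nat_lit 2, nat_lit 3]) (.leaf (nat_lit 3709) (nat_lit 3) [nat_lit 2, nat_lit 1, nat_lit 2, nat_lit 3, nat_lit 2, nat_lit 3, nat_lit 2, nat_lit 1, nat_lit 2, nat_lit 3, nat_lit 2, nat_lit 3, nat_lit 2, nat_lit 1, nat_lit 2, nat_lit 3, nat_lit 2]))))) (.node (nat_lit 4781) (.node (nat_lit 4778) (.node (nat_lit 4777) (.leaf (nat_lit 3710) (nat_lit 2) [nat_lit 3, nat_lit 2, nat_lit 1, nat_lit 2, nat_lit 3, nat_lit 2, nat_lit 3, nat_lit 2, nat_lit 1, nat_lit 2, nat_lit 3, nat_lit 2, nat_lit 3, nat_lit 2, nat_lit 1, nat_lit 2, nat_lit 3]) (.leaf (nat_lit 3711) (nat_lit 3) [nat_lit 2, nat_lit 3, nat_lit 2, nat_lit 1, nat_lit 2, nat_lit 3, nat_lit 2, nat_lit 3, nat_lit 2, nat_lit 1, nat_lit 2, nat_lit 3, nat_lit 2, nat_lit 3, nat_lit 2, nat_lit 1, nat_lit 2])) (.node (nat_lit 4779) (.leaf (nat_lit 3712) (nat_lit 2) [nat_lit 3, nat_lit 2, nat_lit 3, nat_lit 2, nat_lit 1, nat_lit 2, nat_lit 3, nat_lit 2, nat_lit 3, nat_lit 2, nat_lit 1, nat_lit 2, nat_lit 3, nat_lit 2, nat_lit 3, nat_lit 2, nat_lit 1]) (.node (nat_lit 4780) (.leaf (nat_lit 3713) (nat_lit 1) [nat_lit 2, nat_lit 3, nat_lit 2, nat_lit 3, nat_lit 2, nat_lit 1, nat_lit 2, nat_lit 3, nat_lit 2, nat_lit 3, nat_lit 2, nat_lit 1, nat_lit 2, nat_lit 3, nat_lit 2, nat_lit 3, nat_lit 2]) (.leaf (nat_lit 3708) (nat_lit 2) [nat_lit 1, nat_lit 2, nat_lit 3, nat_lit 2, nat_lit 3, nat_lit 2, nat_lit 1, nat_lit 2, nat_lit 3, nat_lit 2, nat_lit 3, nat_lit 2, nat_lit 1, nat_lit 2, nat_lit 3, nat_lit 2, nat_lit 3])))) (.node (nat_lit 4783) (.node (nat_lit 4782) (.leaf (nat_lit 3709) (nat_lit 3) [nat_lit 2, nat_lit 1, nat_lit 2, nat_lit 3, nat_lit 2, nat_lit 3, nat_lit 2, nat_lit 1, nat_lit 2, nat_lit 3, nat_lit 2, nat_lit 3, nat_lit 2, nat_lit 1, nat_lit 2, nat_lit 3, nat_lit 2]) (.leaf (nat_lit 3710) (nat_lit 2) [nat_lit 3, nat_lit 2, nat_lit 1, nat_lit 2, nat_lit 3, nat_lit 2, nat_lit 3, nat_lit 2, nat_lit 1, nat_lit 2, nat_lit 3, nat_lit 2, nat_lit 3, nat_lit 2, nat_lit 1, nat_lit 2, nat_lit 3])) (.node (nat_lit 4784) (.leaf (nat_lit 3711) (nat_lit 3) [nat_lit 2, nat_lit 3, nat_lit 2, nat_lit 1, nat_lit 2, nat_lit 3, nat_lit 2, nat_lit 3, nat_lit 2, nat_lit 1, nat_lit 2, nat_lit 3, nat_lit 2, nat_lit 3, nat_lit 2, nat_lit 1, nat_lit 2]) (.node (nat_lit 4785) (.leaf (nat_lit 3712) (nat_lit 2) [nat_lit 3, nat_lit 2, nat_lit 3, nat_lit 2, nat_lit 1, nat_lit 2, nat_lit 3, nat_lit 2, nat_lit 3, nat_lit 2, nat_lit 1, nat_lit 2, nat_lit 3, nat_lit 2, nat_lit 3, nat_lit 2, nat_lit 1]) (.leaf (nat_lit 3713) (nat_lit 1) [nat_lit 2, nat_lit 3, nat_lit 2, nat_lit 3, nat_lit 2, nat_lit 1, nat_lit 2, nat_lit 3, nat_lit 2, nat_lit 3, nat_lit 2, nat_lit 1, nat_lit 2, nat_lit 3, nat_lit 2, nat_lit 3, nat_lit 2]))))))) (.node (nat_lit 4805) (.node (nat_lit 4795) (.node (nat_lit 4790) (.node (nat_lit 4788) (.node (nat_lit 4787) (.leaf (nat_lit 3708) (nat_lit 2) [nat_lit 1, nat_lit 2, nat_lit 3, nat_lit 2, nat_lit 3, nat_lit 2, nat_lit 1, nat_lit 2, nat_lit 3, nat_lit 2, nat_lit 3, nat_lit 2, nat_lit 1, nat_lit 2, nat_lit 3, nat_lit 2, nat_lit 3]) (.leaf (nat_lit 3709) (nat_lit 3) [nat_lit 2, nat_lit 1, nat_lit 2, nat_lit 3, nat_lit 2, nat_lit 3, nat_lit 2, nat_lit 1, nat_lit 2, nat_lit 3, nat_lit 2, nat_lit 3, nat_lit 2, nat_lit 1, nat_lit 2, nat_lit 3, nat_lit 2])) (.node (nat_lit 4789) (.leaf (nat_lit 3817) (nat_lit 3) [nat_lit 2, nat_lit 3, nat_lit 2, nat_lit 3, nat_lit 2, nat_lit 3, nat_lit 2, nat_lit 3, nat_lit 2, nat_lit 3, nat_lit 2, nat_lit 3, nat_lit 2, nat_lit 3, nat_lit 2, nat_lit 3, nat_lit 2]) (.leaf (nat_lit 3816) (nat_lit 2) [nat_lit 3, nat_lit 2, nat_lit 3, nat_lit 2, nat_lit 3, nat_lit 2, nat_lit 3, nat_lit 2, nat_lit 3, nat_lit 2, nat_lit 3, nat_lit 2, nat_lit 3, nat_lit 2, nat_lit 3, nat_lit 2, nat_lit 3]))) (.node (nat_lit 4792) (.node (nat_lit 4791) (.leaf (nat_lit 3817) (nat_lit 3) [nat_lit 2, nat_lit 3, nat_lit 2, nat_lit 3, nat_lit 2, nat_lit 3, nat_lit 2, nat_lit 3, nat_lit 2, nat_lit 3, nat_lit 2, nat_lit 3, nat_lit 2, nat_lit 3, nat_lit 2, nat_lit 3, nat_lit 2]) (.leaf (nat_lit 3816) (nat_lit 2) [nat_lit 3, nat_lit 2, nat_lit 3, nat_lit 2, nat_lit 3, nat_lit 2, nat_lit 3, nat_lit 2, nat_lit 3, nat_lit 2, nat_lit 3, nat_lit 2, nat_lit 3, nat_lit 2, nat_lit 3, nat_lit 2, nat_lit 3])) (.node (nat_lit 4793) (.leaf (nat_lit 3817) (nat_lit 3) [nat_lit 2, nat_lit 3, nat_lit 2, nat_lit 3, nat_lit 2, nat_lit 3, nat_lit 2, nat_lit 3, nat_lit 2, nat_lit 3, nat_lit 2, nat_lit 3, nat_lit 2, nat_lit 3, nat_lit 2, nat_lit 3, nat_lit 2]) (.node (nat_lit 4794) (.leaf (nat_lit 3816) (nat_lit 2) [nat_lit 3, nat_lit 2, nat_lit 3, nat_lit 2, nat_lit 3, nat_lit 2, nat_lit 3, nat_lit 2, nat_lit 3, nat_lit 2, nat_lit 3, nat_lit 2, nat_lit 3, nat_lit 2, nat_lit 3, nat_lit 2, nat_lit 3]) (.leaf (nat_lit 3817) (nat_lit 3) [nat_lit 2, nat_lit 3, nat_lit 2, nat_lit 3, nat_lit 2, nat_lit 3, nat_lit 2, nat_lit 3, nat_lit 2, nat_lit 3, nat_lit 2, nat_lit 3, nat_lit 2, nat_lit 3, nat_lit 2, nat_lit 3, nat_lit 2]))))) (.node (nat_lit 4800) (.node (nat_lit 4797) (.node (nat_lit 4796) (.leaf (nat_lit 3816) (nat_lit 2) [nat_lit 3, nat_lit 2, nat_lit 3, nat_lit 2, nat_lit 3, nat_lit 2, nat_lit 3, nat_lit 2, nat_lit 3, nat_lit 2, nat_lit 3, nat_lit 2, nat_lit 3, nat_lit 2, nat_lit 3, nat_lit 2, nat_lit 3]) (.leaf (nat_lit 3817) (nat_lit 3) [nat_lit 2, nat_lit 3, nat_lit 2, nat_lit 3, nat_lit 2, nat_lit 3, nat_lit 2, nat_lit 3, nat_lit 2, nat_lit 3, nat_lit 2, nat_lit 3, nat_lit 2, nat_lit 3, nat_lit 2, nat_lit 3, nat_lit 2])) (.node (nat_lit 4798) (.leaf (nat_lit 3816) (nat_lit 2) [nat_lit 3, nat_lit 2, nat_lit 3, nat_lit 2, nat_lit 3, nat_lit 2, nat_lit 3, nat_lit 2, nat_lit 3, nat_lit 2, nat_lit 3, nat_lit 2, nat_lit 3, nat_lit 2, nat_lit 3, nat_lit 2, nat_lit 3]) (.node (nat_lit 4799) (.leaf (nat_lit 3817) (nat_lit 3) [nat_lit 2, nat_lit 3, nat_lit 2, nat_lit 3, nat_lit 2, nat_lit 3, nat_lit 2, nat_lit 3, nat_lit 2, nat_lit 3, nat_lit 2, nat_lit 3, nat_lit 2, nat_lit 3, nat_lit 2, nat_lit 3, nat_lit 2]) (.leaf (nat_lit 3816) (nat_lit 2) [nat_lit 3, nat_lit 2, nat_lit 3, nat_lit 2, nat_lit 3, nat_lit 2, nat_lit 3, nat_lit 2, nat_lit 3, nat_lit 2, nat_lit 3, nat_lit 2, nat_lit 3, nat_lit 2, nat_lit 3, nat_lit 2, nat_lit 3])))) (.node (nat_lit 4802) (.node (nat_lit 4801) (.leaf (nat_lit 3817) (nat_lit 3) [nat_lit 2, nat_lit 3, nat_lit 2, nat_lit 3, nat_lit 2, nat_lit 3, nat_lit 2, nat_lit 3, nat_lit 2, nat_lit 3, nat_lit 2, nat_lit 3, nat_lit 2, nat_lit 3, nat_lit 2, nat_lit 3, nat_lit 2]) (.leaf (nat_lit 3816) (nat_lit 2) [nat_lit 3, nat_lit 2, nat_lit 3, nat_lit 2, nat_lit 3, nat_lit 2, nat_lit 3, nat_lit 2, nat_lit 3, nat_lit 2, nat_lit 3, nat_lit 2, nat_lit 3, nat_lit 2, nat_lit 3, nat_lit 2, nat_lit 3])) (.node (nat_lit 4803) (.leaf (nat_lit 3817) (nat_lit 3) [nat_lit 2, nat_lit 3, nat_lit 2, nat_lit 3, nat_lit 2, nat_lit 3, nat_lit 2, nat_lit 3, nat_lit 2, nat_lit 3, nat_lit 2, nat_lit 3, nat_lit 2, nat_lit 3, nat_lit 2, nat_lit 3, nat_lit 2]) (.node (nat_lit 4804) (.leaf (nat_lit 3816) (nat_lit 2) [nat_lit 3, nat_lit 2, nat_lit 3, nat_lit 2, nat_lit 3, nat_lit 2, nat_lit 3, nat_lit 2, nat_lit 3, nat_lit 2, nat_lit 3, nat_lit 2, nat_lit 3, nat_lit 2, nat_lit 3, nat_lit 2, nat_lit 3]) (.leaf (nat_lit 3817) (nat_lit 3) [nat_lit 2, nat_lit 3, nat_lit 2, nat_lit 3, nat_lit 2, nat_lit 3, nat_lit 2, nat_lit 3, nat_lit 2, nat_lit 3, nat_lit 2, nat_lit 3, nat_lit 2, nat_lit 3, nat_lit 2, nat_lit 3, nat_lit 2])))))) (.node (nat_lit 4814) (.node (nat_lit 4809) (.node (nat_lit 4807) (.node (nat_lit 4806) (.leaf (nat_lit 3816) (nat_lit 2) [nat_lit 3, nat_lit 2, nat_lit 3, nat_lit 2, nat_lit 3, nat_lit 2, nat_lit 3, nat_lit 2, nat_lit 3, nat_lit 2, nat_lit 3, nat_lit 2, nat_lit 3, nat_lit 2, nat_lit 3, nat_lit 2, nat_lit 3]) (.leaf (nat_lit 3816) (nat_lit 2) [nat_lit 3, nat_lit 2, nat_lit 3, nat_lit 2, nat_lit 3, nat_lit 2, nat_lit 3, nat_lit 2, nat_lit 3, nat_lit 2, nat_lit 3, nat_lit 2, nat_lit 3, nat_lit 2, nat_lit 3, nat_lit 2, nat_lit 3])) (.node (nat_lit 4808) (.leaf (nat_lit 3817) (nat_lit 3) [nat_lit 2, nat_lit 3, nat_lit 2, nat_lit 3, nat_lit 2, nat_lit 3, nat_lit 2, nat_lit 3, nat_lit 2, nat_lit 3, nat_lit 2, nat_lit 3, nat_lit 2, nat_lit 3, nat_lit 2, nat_lit 3, nat_lit 2]) (.leaf (nat_lit 3816) (nat_lit 2) [nat_lit 3, nat_lit 2, nat_lit 3, nat_lit 2, nat_lit 3, nat_lit 2, nat_lit 3, nat_lit 2, nat_lit 3, nat_lit 2, nat_lit 3, nat_lit 2, nat_lit 3, nat_lit 2, nat_lit 3, nat_lit 2, nat_lit 3]))) (.node (nat_lit 4811) (.node (nat_lit 4810) (.leaf (nat_lit 3817) (nat_lit 3) [nat_lit 2, nat_lit 3, nat_lit 2, nat_lit 3, nat_lit 2, nat_lit 3, nat_lit 2, nat_lit 3, nat_lit 2, nat_lit 3, nat_lit 2, nat_lit 3, nat_lit 2, nat_lit 3, nat_lit 2, nat_lit 3, nat_lit 2]) (.leaf (nat_lit 3816) (nat_lit 2) [nat_lit 3, nat_lit 2, nat_lit 3, nat_lit 2, nat_lit 3, nat_lit 2, nat_lit 3, nat_lit 2, nat_lit 3, nat_lit 2, nat_lit 3, nat_lit 2, nat_lit 3, nat_lit 2, nat_lit 3, nat_lit 2, nat_lit 3])) (.node (nat_lit 4812) (.leaf (nat_lit 3817) (nat_lit 3) [nat_lit 2, nat_lit 3, nat_lit 2, nat_lit 3, nat_lit 2, nat_lit 3, nat_lit 2, nat_lit 3, nat_lit 2, nat_lit 3, nat_lit 2, nat_lit 3, nat_lit 2, nat_lit 3, nat_lit 2, nat_lit 3, nat_lit 2]) (.node (nat_lit 4813) (.leaf (nat_lit 3816) (nat_lit 2) [nat_lit 3, nat_lit 2, nat_lit 3, nat_lit 2, nat_lit 3, nat_lit 2, nat_lit 3, nat_lit 2, nat_lit 3, nat_lit 2, nat_lit 3, nat_lit 2, nat_lit 3, nat_lit 2, nat_lit 3, nat_lit 2, nat_lit 3]) (.leaf (nat_lit 3817) (nat_lit 3) [nat_lit 2, nat_lit 3, nat_lit 2, nat_lit 3, nat_lit 2, nat_lit 3, nat_lit 2, nat_lit 3, nat_lit 2, nat_lit 3, nat_lit 2, nat_lit 3, nat_lit 2, nat_lit 3, nat_lit 2, nat_lit 3, nat_lit 2]))))) (.node (nat_lit 4819) (.node (nat_lit 4816) (.node (nat_lit 4815) (.leaf (nat_lit 3816) (nat_lit 2) [nat_lit 3, nat_lit 2, nat_lit 3, nat_lit 2, nat_lit 3, nat_lit 2, nat_lit 3, nat_lit 2, nat_lit 3, nat_lit 2, nat_lit 3, nat_lit 2, nat_lit 3, nat_lit 2, nat_lit 3, nat_lit 2, nat_lit 3]) (.leaf (nat_lit 3817) (nat_lit 3) [nat_lit 2, nat_lit 3, nat_lit 2, nat_lit 3, nat_lit 2, nat_lit 3, nat_lit 2, nat_lit 3, nat_lit 2, nat_lit 3, nat_lit 2, nat_lit 3, nat_lit 2, nat_lit 3, nat_lit 2, nat_lit 3, nat_lit 2])) (.node (nat_lit 4817) (.leaf (nat_lit 3816) (nat_lit 2) [nat_lit 3, nat_lit 2, nat_lit 3, nat_lit 2, nat_lit 3, nat_lit 2, nat_lit 3, nat_lit 2, nat_lit 3, nat_lit 2, nat_lit 3, nat_lit 2, nat_lit 3, nat_lit 2, nat_lit 3, nat_lit 2, nat_lit 3]) (.node (nat_lit 4818) (.leaf (nat_lit 3817) (nat_lit 3) [nat_lit 2, nat_lit 3, nat_lit 2, nat_lit 3, nat_lit 2, nat_lit 3, nat_lit 2, nat_lit 3, nat_lit 2, nat_lit 3, nat_lit 2, nat_lit 3, nat_lit 2, nat_lit 3, nat_lit 2, nat_lit 3, nat_lit 2]) (.leaf (nat_lit 3816) (nat_lit 2) [nat_lit 3, nat_lit 2, nat_lit 3, nat_lit 2, nat_lit 3, nat_lit 2, nat_lit 3, nat_lit 2, nat_lit 3, nat_lit 2, nat_lit 3, nat_lit 2, nat_lit 3, nat_lit 2, nat_lit 3, nat_lit 2, nat_lit 3])))) (.node (nat_lit 4821) (.node (nat_lit 4820) (.leaf (nat_lit 3817) (nat_lit 3) [nat_lit 2, nat_lit 3, nat_lit 2, nat_lit 3, nat_lit 2, nat_lit 3, nat_lit 2, nat_lit 3, nat_lit 2, nat_lit 3, nat_lit 2, nat_lit 3, nat_lit 2, nat_lit 3, nat_lit 2, nat_lit 3, nat_lit 2]) (.leaf (nat_lit 3816) (nat_lit 2) [nat_lit 3, nat_lit 2, nat_lit 3, nat_lit 2, nat_lit 3, nat_lit 2, nat_lit 3, nat_lit 2, nat_lit 3, nat_lit 2, nat_lit 3, nat_lit 2, nat_lit 3, nat_lit 2, nat_lit 3, nat_lit 2, nat_lit 3])) (.node (nat_lit 4822) (.leaf (nat_lit 3817) (nat_lit 3) [nat_lit 2, nat_lit 3, nat_lit 2, nat_lit 3, nat_lit 2, nat_lit 3, nat_lit 2, nat_lit 3, nat_lit 2, nat_lit 3, nat_lit 2, nat_lit 3, nat_lit 2, nat_lit 3, nat_lit 2, nat_lit 3, nat_lit 2]) (.node (nat_lit 4823) (.leaf (nat_lit 3816) (nat_lit 2) [nat_lit 3, nat_lit 2, nat_lit 3, nat_lit 2, nat_lit 3, nat_lit 2, nat_lit 3, nat_lit 2, nat_lit 3, nat_lit 2, nat_lit 3, nat_lit 2, nat_lit 3, nat_lit 2, nat_lit 3, nat_lit 2, nat_lit 3]) (.leaf (nat_lit 3817) (nat_lit 3) [nat_lit 2, nat_lit 3, nat_lit 2, nat_lit 3, nat_lit 2, nat_lit 3, nat_lit 2, nat_lit 3, nat_lit 2, nat_lit 3, nat_lit 2, nat_lit 3, nat_lit 2, nat_lit 3, nat_lit 2, nat_lit 3, nat_lit 2])))))))))))))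
/-- the relators -/
def relsL : List (List ℕ) := [[nat_lit 1, nat_lit 0, nat_lit 1, nat_lit 0, nat_lit 1, nat_lit 0],
  [nat_lit 2, nat_lit 0, nat_lit 2, nat_lit 0, nat_lit 2, nat_lit 0],
  [nat_lit 3, nat_lit 0, nat_lit 3, nat_lit 0, nat_lit 3, nat_lit 0],
  [nat_lit 2, nat_lit 1, nat_lit 2, nat_lit 1, nat_lit 2, nat_lit 1],
  [nat_lit 3, nat_lit 1, nat_lit 3, nat_lit 1, nat_lit 3, nat_lit 1],
  [nat_lit 3, nat_lit 2, nat_lit 3, nat_lit 2, nat_lit 3, nat_lit 2],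
  [nat_lit 0, nat_lit 1, nat_lit 0, nat_lit 1, nat_lit 0, nat_lit 1, nat_lit 0, nat_lit 1, nat_lit 0, nat_lit 1, nat_lit 0, nat_lit 1],
  [nat_lit 0, nat_lit 2, nat_lit 0, nat_lit 1, nat_lit 0, nat_lit 2, nat_lit 0, nat_lit 1, nat_lit 0, nat_lit 2, nat_lit 0, nat_lit 1],
  [nat_lit 0, nat_lit 3, nat_lit 0, nat_lit 1, nat_lit 0, nat_lit 3, nat_lit 0, nat_lit 1, nat_lit 0, nat_lit 3, nat_lit 0, nat_lit 1],
  [nat_lit 0, nat_lit 1, nat_lit 0, nat_lit 2, nat_lit 0, nat_lit 1, nat_lit 0, nat_lit 2, nat_lit 0, nat_lit 1, nat_lit 0, nat_lit 2],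
  [nat_lit 0, nat_lit 2, nat_lit 0, nat_lit 2, nat_lit 0, nat_lit 2, nat_lit 0, nat_lit 2, nat_lit 0, nat_lit 2, nat_lit 0, nat_lit 2],
  [nat_lit 0, nat_lit 3, nat_lit 0, nat_lit 2, nat_lit 0, nat_lit 3, nat_lit 0, nat_lit 2, nat_lit 0, nat_lit 3, nat_lit 0, nat_lit 2],
  [nat_lit 0, nat_lit 1, nat_lit 0, nat_lit 3, nat_lit 0, nat_lit 1, nat_lit 0, nat_lit 3, nat_lit 0, nat_lit 1, nat_lit 0, nat_lit 3],
  [nat_lit 0, nat_lit 2, nat_lit 0, nat_lit 3, nat_lit 0, nat_lit 2, nat_lit 0, nat_lit 3, nat_lit 0, nat_lit 2, nat_lit 0, nat_lit 3],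
  [nat_lit 0, nat_lit 3, nat_lit 0, nat_lit 3, nat_lit 0, nat_lit 3, nat_lit 0, nat_lit 3, nat_lit 0, nat_lit 3, nat_lit 0, nat_lit 3],
  [nat_lit 1, nat_lit 0, nat_lit 1, nat_lit 0, nat_lit 1, nat_lit 0, nat_lit 1, nat_lit 0, nat_lit 1, nat_lit 0, nat_lit 1, nat_lit 0],
  [nat_lit 1, nat_lit 2, nat_lit 1, nat_lit 0, nat_lit 1, nat_lit 2, nat_lit 1, nat_lit 0, nat_lit 1, nat_lit 2, nat_lit 1, nat_lit 0],
  [nat_lit 1, nat_lit 3, nat_lit 1, nat_lit 0, nat_lit 1, nat_lit 3, nat_lit 1, nat_lit 0, nat_lit 1, nat_lit 3, nat_lit 1, nat_lit 0],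
  [nat_lit 1, nat_lit 0, nat_lit 1, nat_lit 2, nat_lit 1, nat_lit 0, nat_lit 1, nat_lit 2, nat_lit 1, nat_lit 0, nat_lit 1, nat_lit 2],
  [nat_lit 1, nat_lit 2, nat_lit 1, nat_lit 2, nat_lit 1, nat_lit 2, nat_lit 1, nat_lit 2, nat_lit 1, nat_lit 2, nat_lit 1, nat_lit 2],
  [nat_lit 1, nat_lit 3, nat_lit 1, nat_lit 2, nat_lit 1, nat_lit 3, nat_lit 1, nat_lit 2, nat_lit 1, nat_lit 3, nat_lit 1, nat_lit 2],
  [nat_lit 1, nat_lit 0, nat_lit 1, nat_lit 3, nat_lit 1, nat_lit 0, nat_lit 1, nat_lit 3, nat_lit 1, nat_lit 0, nat_lit 1, nat_lit 3],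
  [nat_lit 1, nat_lit 2, nat_lit 1, nat_lit 3, nat_lit 1, nat_lit 2, nat_lit 1, nat_lit 3, nat_lit 1, nat_lit 2, nat_lit 1, nat_lit 3],
  [nat_lit 1, nat_lit 3, nat_lit 1, nat_lit 3, nat_lit 1, nat_lit 3, nat_lit 1, nat_lit 3, nat_lit 1, nat_lit 3, nat_lit 1, nat_lit 3],
  [nat_lit 2, nat_lit 0, nat_lit 2, nat_lit 0, nat_lit 2, nat_lit 0, nat_lit 2, nat_lit 0, nat_lit 2, nat_lit 0, nat_lit 2, nat_lit 0],
  [nat_lit 2, nat_lit 1, nat_lit 2, nat_lit 0, nat_lit 2, nat_lit 1, nat_lit 2, nat_lit 0, nat_lit 2, nat_lit 1, nat_lit 2, nat_lit 0],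
  [nat_lit 2, nat_lit 3, nat_lit 2, nat_lit 0, nat_lit 2, nat_lit 3, nat_lit 2, nat_lit 0, nat_lit 2, nat_lit 3, nat_lit 2, nat_lit 0],
  [nat_lit 2, nat_lit 0, nat_lit 2, nat_lit 1, nat_lit 2, nat_lit 0, nat_lit 2, nat_lit 1, nat_lit 2, nat_lit 0, nat_lit 2, nat_lit 1],
  [nat_lit 2, nat_lit 1, nat_lit 2, nat_lit 1, nat_lit 2, nat_lit 1, nat_lit 2, nat_lit 1, nat_lit 2, nat_lit 1, nat_lit 2, nat_lit 1],
  [nat_lit 2, nat_lit 3, nat_lit 2, nat_lit 1, nat_lit 2, nat_lit 3, nat_lit 2, nat_lit 1, nat_lit 2, nat_lit 3, nat_lit 2, nat_lit 1],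
  [nat_lit 2, nat_lit 0, nat_lit 2, nat_lit 3, nat_lit 2, nat_lit 0, nat_lit 2, nat_lit 3, nat_lit 2, nat_lit 0, nat_lit 2, nat_lit 3],
  [nat_lit 2, nat_lit 1, nat_lit 2, nat_lit 3, nat_lit 2, nat_lit 1, nat_lit 2, nat_lit 3, nat_lit 2, nat_lit 1, nat_lit 2, nat_lit 3],
  [nat_lit 2, nat_lit 3, nat_lit 2, nat_lit 3, nat_lit 2, nat_lit 3, nat_lit 2, nat_lit 3, nat_lit 2, nat_lit 3, nat_lit 2, nat_lit 3],
  [nat_lit 3, nat_lit 0, nat_lit 3, nat_lit 0, nat_lit 3, nat_lit 0, nat_lit 3, nat_lit 0, nat_lit 3, nat_lit 0, nat_lit 3, nat_lit 0],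
  [nat_lit 3, nat_lit 1, nat_lit 3, nat_lit 0, nat_lit 3, nat_lit 1, nat_lit 3, nat_lit 0, nat_lit 3, nat_lit 1, nat_lit 3, nat_lit 0],
  [nat_lit 3, nat_lit 2, nat_lit 3, nat_lit 0, nat_lit 3, nat_lit 2, nat_lit 3, nat_lit 0, nat_lit 3, nat_lit 2, nat_lit 3, nat_lit 0],
  [nat_lit 3, nat_lit 0, nat_lit 3, nat_lit 1, nat_lit 3, nat_lit 0, nat_lit 3, nat_lit 1, nat_lit 3, nat_lit 0, nat_lit 3, nat_lit 1],
  [nat_lit 3, nat_lit 1, nat_lit 3, nat_lit 1, nat_lit 3, nat_lit 1, nat_lit 3, nat_lit 1, nat_lit 3, nat_lit 1, nat_lit 3, nat_lit 1],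
  [nat_lit 3, nat_lit 2, nat_lit 3, nat_lit 1, nat_lit 3, nat_lit 2, nat_lit 3, nat_lit 1, nat_lit 3, nat_lit 2, nat_lit 3, nat_lit 1],
  [nat_lit 3, nat_lit 0, nat_lit 3, nat_lit 2, nat_lit 3, nat_lit 0, nat_lit 3, nat_lit 2, nat_lit 3, nat_lit 0, nat_lit 3, nat_lit 2],
  [nat_lit 3, nat_lit 1, nat_lit 3, nat_lit 2, nat_lit 3, nat_lit 1, nat_lit 3, nat_lit 2, nat_lit 3, nat_lit 1, nat_lit 3, nat_lit 2],
  [nat_lit 3, nat_lit 2, nat_lit 3, nat_lit 2, nat_lit 3, nat_lit 2, nat_lit 3, nat_lit 2, nat_lit 3, nat_lit 2, nat_lit 3, nat_lit 2],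
  [nat_lit 0, nat_lit 1, nat_lit 0, nat_lit 1, nat_lit 0, nat_lit 1, nat_lit 0, nat_lit 1, nat_lit 0, nat_lit 1, nat_lit 0, nat_lit 1, nat_lit 0, nat_lit 1, nat_lit 0, nat_lit 1, nat_lit 0, nat_lit 1],
  [nat_lit 0, nat_lit 1, nat_lit 2, nat_lit 1, nat_lit 0, nat_lit 1, nat_lit 0, nat_lit 1, nat_lit 2, nat_lit 1, nat_lit 0, nat_lit 1, nat_lit 0, nat_lit 1, nat_lit 2, nat_lit 1, nat_lit 0, nat_lit 1],
  [nat_lit 0, nat_lit 1, nat_lit 3, nat_lit 1, nat_lit 0, nat_lit 1, nat_lit 0, nat_lit 1, nat_lit 3, nat_lit 1, nat_lit 0, nat_lit 1, nat_lit 0, nat_lit 1, nat_lit 3, nat_lit 1, nat_lit 0, nat_lit 1],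
  [nat_lit 0, nat_lit 1, nat_lit 0, nat_lit 1, nat_lit 0, nat_lit 2, nat_lit 0, nat_lit 1, nat_lit 0, nat_lit 1, nat_lit 0, nat_lit 2, nat_lit 0, nat_lit 1, nat_lit 0, nat_lit 1, nat_lit 0, nat_lit 2],
  [nat_lit 0, nat_lit 1, nat_lit 2, nat_lit 1, nat_lit 0, nat_lit 2, nat_lit 0, nat_lit 1, nat_lit 2, nat_lit 1, nat_lit 0, nat_lit 2, nat_lit 0, nat_lit 1, nat_lit 2, nat_lit 1, nat_lit 0, nat_lit 2],
  [nat_lit 0, nat_lit 1, nat_lit 3, nat_lit 1, nat_lit 0, nat_lit 2, nat_lit 0, nat_lit 1, nat_lit 3, nat_lit 1, nat_lit 0, nat_lit 2, nat_lit 0, nat_lit 1, nat_lit 3, nat_lit 1, nat_lit 0, nat_lit 2],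
  [nat_lit 0, nat_lit 1, nat_lit 0, nat_lit 1, nat_lit 0, nat_lit 3, nat_lit 0, nat_lit 1, nat_lit 0, nat_lit 1, nat_lit 0, nat_lit 3, nat_lit 0, nat_lit 1, nat_lit 0, nat_lit 1, nat_lit 0, nat_lit 3],
  [nat_lit 0, nat_lit 1, nat_lit 2, nat_lit 1, nat_lit 0, nat_lit 3, nat_lit 0, nat_lit 1, nat_lit 2, nat_lit 1, nat_lit 0, nat_lit 3, nat_lit 0, nat_lit 1, nat_lit 2, nat_lit 1, nat_lit 0, nat_lit 3],
  [nat_lit 0, nat_lit 1, nat_lit 3, nat_lit 1, nat_lit 0, nat_lit 3, nat_lit 0, nat_lit 1, nat_lit 3, nat_lit 1, nat_lit 0, nat_lit 3, nat_lit 0, nat_lit 1, nat_lit 3, nat_lit 1, nat_lit 0, nat_lit 3],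
  [nat_lit 0, nat_lit 2, nat_lit 0, nat_lit 2, nat_lit 0, nat_lit 1, nat_lit 0, nat_lit 2, nat_lit 0, nat_lit 2, nat_lit 0, nat_lit 1, nat_lit 0, nat_lit 2, nat_lit 0, nat_lit 2, nat_lit 0, nat_lit 1],
  [nat_lit 0, nat_lit 2, nat_lit 1, nat_lit 2, nat_lit 0, nat_lit 1, nat_lit 0, nat_lit 2, nat_lit 1, nat_lit 2, nat_lit 0, nat_lit 1, nat_lit 0, nat_lit 2, nat_lit 1, nat_lit 2, nat_lit 0, nat_lit 1],
  [nat_lit 0, nat_lit 2, nat_lit 3, nat_lit 2, nat_lit 0, nat_lit 1, nat_lit 0, nat_lit 2, nat_lit 3, nat_lit 2, nat_lit 0, nat_lit 1, nat_lit 0, nat_lit 2, nat_lit 3, nat_lit 2, nat_lit 0, nat_lit 1],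
  [nat_lit 0, nat_lit 2, nat_lit 0, nat_lit 2, nat_lit 0, nat_lit 2, nat_lit 0, nat_lit 2, nat_lit 0, nat_lit 2, nat_lit 0, nat_lit 2, nat_lit 0, nat_lit 2, nat_lit 0, nat_lit 2, nat_lit 0, nat_lit 2],
  [nat_lit 0, nat_lit 2, nat_lit 1, nat_lit 2, nat_lit 0, nat_lit 2, nat_lit 0, nat_lit 2, nat_lit 1, nat_lit 2, nat_lit 0, nat_lit 2, nat_lit 0, nat_lit 2, nat_lit 1, nat_lit 2, nat_lit 0, nat_lit 2],
  [nat_lit 0, nat_lit 2, nat_lit 3, nat_lit 2, nat_lit 0, nat_lit 2, nat_lit 0, nat_lit 2, nat_lit 3, nat_lit 2, nat_lit 0, nat_lit 2, nat_lit 0, nat_lit 2, nat_lit 3, nat_lit 2, nat_lit 0, nat_lit 2],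
  [nat_lit 0, nat_lit 2, nat_lit 0, nat_lit 2, nat_lit 0, nat_lit 3, nat_lit 0, nat_lit 2, nat_lit 0, nat_lit 2, nat_lit 0, nat_lit 3, nat_lit 0, nat_lit 2, nat_lit 0, nat_lit 2, nat_lit 0, nat_lit 3],
  [nat_lit 0, nat_lit 2, nat_lit 1, nat_lit 2, nat_lit 0, nat_lit 3, nat_lit 0, nat_lit 2, nat_lit 1, nat_lit 2, nat_lit 0, nat_lit 3, nat_lit 0, nat_lit 2, nat_lit 1, nat_lit 2, nat_lit 0, nat_lit 3],
  [nat_lit 0, nat_lit 2, nat_lit 3, nat_lit 2, nat_lit 0, nat_lit 3, nat_lit 0, nat_lit 2, nat_lit 3, nat_lit 2, nat_lit 0, nat_lit 3, nat_lit 0, nat_lit 2, nat_lit 3, nat_lit 2, nat_lit 0, nat_lit 3],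
  [nat_lit 0, nat_lit 3, nat_lit 0, nat_lit 3, nat_lit 0, nat_lit 1, nat_lit 0, nat_lit 3, nat_lit 0, nat_lit 3, nat_lit 0, nat_lit 1, nat_lit 0, nat_lit 3, nat_lit 0, nat_lit 3, nat_lit 0, nat_lit 1],
  [nat_lit 0, nat_lit 3, nat_lit 1, nat_lit 3, nat_lit 0, nat_lit 1, nat_lit 0, nat_lit 3, nat_lit 1, nat_lit 3, nat_lit 0, nat_lit 1, nat_lit 0, nat_lit 3, nat_lit 1, nat_lit 3, nat_lit 0, nat_lit 1],
  [nat_lit 0, nat_lit 3, nat_lit 2, nat_lit 3, nat_lit 0, nat_lit 1, nat_lit 0, nat_lit 3, nat_lit 2, nat_lit 3, nat_lit 0, nat_lit 1, nat_lit 0, nat_lit 3, nat_lit 2, nat_lit 3, nat_lit 0, nat_lit 1],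
  [nat_lit 0, nat_lit 3, nat_lit 0, nat_lit 3, nat_lit 0, nat_lit 2, nat_lit 0, nat_lit 3, nat_lit 0, nat_lit 3, nat_lit 0, nat_lit 2, nat_lit 0, nat_lit 3, nat_lit 0, nat_lit 3, nat_lit 0, nat_lit 2],
  [nat_lit 0, nat_lit 3, nat_lit 1, nat_lit 3, nat_lit 0, nat_lit 2, nat_lit 0, nat_lit 3, nat_lit 1, nat_lit 3, nat_lit 0, nat_lit 2, nat_lit 0, nat_lit 3, nat_lit 1, nat_lit 3, nat_lit 0, nat_lit 2],
  [nat_lit 0, nat_lit 3, nat_lit 2, nat_lit 3, nat_lit 0, nat_lit 2, nat_lit 0, nat_lit 3, nat_lit 2, nat_lit 3, nat_lit 0, nat_lit 2, nat_lit 0, nat_lit 3, nat_lit 2, nat_lit 3, nat_lit 0, nat_lit 2],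
  [nat_lit 0, nat_lit 3, nat_lit 0, nat_lit 3, nat_lit 0, nat_lit 3, nat_lit 0, nat_lit 3, nat_lit 0, nat_lit 3, nat_lit 0, nat_lit 3, nat_lit 0, nat_lit 3, nat_lit 0, nat_lit 3, nat_lit 0, nat_lit 3],
  [nat_lit 0, nat_lit 3, nat_lit 1, nat_lit 3, nat_lit 0, nat_lit 3, nat_lit 0, nat_lit 3, nat_lit 1, nat_lit 3, nat_lit 0, nat_lit 3, nat_lit 0, nat_lit 3, nat_lit 1, nat_lit 3, nat_lit 0, nat_lit 3],
  [nat_lit 0, nat_lit 3, nat_lit 2, nat_lit 3, nat_lit 0, nat_lit 3, nat_lit 0, nat_lit 3, nat_lit 2, nat_lit 3, nat_lit 0, nat_lit 3, nat_lit 0, nat_lit 3, nat_lit 2, nat_lit 3, nat_lit 0, nat_lit 3],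
  [nat_lit 1, nat_lit 0, nat_lit 1, nat_lit 0, nat_lit 1, nat_lit 0, nat_lit 1, nat_lit 0, nat_lit 1, nat_lit 0, nat_lit 1, nat_lit 0, nat_lit 1, nat_lit 0, nat_lit 1, nat_lit 0, nat_lit 1, nat_lit 0],
  [nat_lit 1, nat_lit 0, nat_lit 2, nat_lit 0, nat_lit 1, nat_lit 0, nat_lit 1, nat_lit 0, nat_lit 2, nat_lit 0, nat_lit 1, nat_lit 0, nat_lit 1, nat_lit 0, nat_lit 2, nat_lit 0, nat_lit 1, nat_lit 0],
  [nat_lit 1, nat_lit 0, nat_lit 3, nat_lit 0, nat_lit 1, nat_lit 0, nat_lit 1, nat_lit 0, nat_lit 3, nat_lit 0, nat_lit 1, nat_lit 0, nat_lit 1, nat_lit 0, nat_lit 3, nat_lit 0, nat_lit 1, nat_lit 0],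
  [nat_lit 1, nat_lit 0, nat_lit 1, nat_lit 0, nat_lit 1, nat_lit 2, nat_lit 1, nat_lit 0, nat_lit 1, nat_lit 0, nat_lit 1, nat_lit 2, nat_lit 1, nat_lit 0, nat_lit 1, nat_lit 0, nat_lit 1, nat_lit 2],
  [nat_lit 1, nat_lit 0, nat_lit 2, nat_lit 0, nat_lit 1, nat_lit 2, nat_lit 1, nat_lit 0, nat_lit 2, nat_lit 0, nat_lit 1, nat_lit 2, nat_lit 1, nat_lit 0, nat_lit 2, nat_lit 0, nat_lit 1, nat_lit 2],
  [nat_lit 1, nat_lit 0, nat_lit 3, nat_lit 0, nat_lit 1, nat_lit 2, nat_lit 1, nat_lit 0, nat_lit 3, nat_lit 0, nat_lit 1, nat_lit 2, nat_lit 1, nat_lit 0, nat_lit 3, nat_lit 0, nat_lit 1, nat_lit 2],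
  [nat_lit 1, nat_lit 0, nat_lit 1, nat_lit 0, nat_lit 1, nat_lit 3, nat_lit 1, nat_lit 0, nat_lit 1, nat_lit 0, nat_lit 1, nat_lit 3, nat_lit 1, nat_lit 0, nat_lit 1, nat_lit 0, nat_lit 1, nat_lit 3],
  [nat_lit 1, nat_lit 0, nat_lit 2, nat_lit 0, nat_lit 1, nat_lit 3, nat_lit 1, nat_lit 0, nat_lit 2, nat_lit 0, nat_lit 1, nat_lit 3, nat_lit 1, nat_lit 0, nat_lit 2, nat_lit 0, nat_lit 1, nat_lit 3],
  [nat_lit 1, nat_lit 0, nat_lit 3, nat_lit 0, nat_lit 1, nat_lit 3, nat_lit 1, nat_lit 0, nat_lit 3, nat_lit 0, nat_lit 1, nat_lit 3, nat_lit 1, nat_lit 0, nat_lit 3, nat_lit 0, nat_lit 1, nat_lit 3],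
  [nat_lit 1, nat_lit 2, nat_lit 0, nat_lit 2, nat_lit 1, nat_lit 0, nat_lit 1, nat_lit 2, nat_lit 0, nat_lit 2, nat_lit 1, nat_lit 0, nat_lit 1, nat_lit 2, nat_lit 0, nat_lit 2, nat_lit 1, nat_lit 0],
  [nat_lit 1, nat_lit 2, nat_lit 1, nat_lit 2, nat_lit 1, nat_lit 0, nat_lit 1, nat_lit 2, nat_lit 1, nat_lit 2, nat_lit 1, nat_lit 0, nat_lit 1, nat_lit 2, nat_lit 1, nat_lit 2, nat_lit 1, nat_lit 0],
  [nat_lit 1, nat_lit 2, nat_lit 3, nat_lit 2, nat_lit 1, nat_lit 0, nat_lit 1, nat_lit 2, nat_lit 3, nat_lit 2, nat_lit 1, nat_lit 0, nat_lit 1, nat_lit 2, nat_lit 3, nat_lit 2, nat_lit 1, nat_lit 0],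
  [nat_lit 1, nat_lit 2, nat_lit 0, nat_lit 2, nat_lit 1, nat_lit 2, nat_lit 1, nat_lit 2, nat_lit 0, nat_lit 2, nat_lit 1, nat_lit 2, nat_lit 1, nat_lit 2, nat_lit 0, nat_lit 2, nat_lit 1, nat_lit 2],
  [nat_lit 1, nat_lit 2, nat_lit 1, nat_lit 2, nat_lit 1, nat_lit 2, nat_lit 1, nat_lit 2, nat_lit 1, nat_lit 2, nat_lit 1, nat_lit 2, nat_lit 1, nat_lit 2, nat_lit 1, nat_lit 2, nat_lit 1, nat_lit 2],
  [nat_lit 1, nat_lit 2, nat_lit 3, nat_lit 2, nat_lit 1, nat_lit 2, nat_lit 1, nat_lit 2, nat_lit 3, nat_lit 2, nat_lit 1, nat_lit 2, nat_lit 1, nat_lit 2, nat_lit 3, nat_lit 2, nat_lit 1, nat_lit 2],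
  [nat_lit 1, nat_lit 2, nat_lit 0, nat_lit 2, nat_lit 1, nat_lit 3, nat_lit 1, nat_lit 2, nat_lit 0, nat_lit 2, nat_lit 1, nat_lit 3, nat_lit 1, nat_lit 2, nat_lit 0, nat_lit 2, nat_lit 1, nat_lit 3],
  [nat_lit 1, nat_lit 2, nat_lit 1, nat_lit 2, nat_lit 1, nat_lit 3, nat_lit 1, nat_lit 2, nat_lit 1, nat_lit 2, nat_lit 1, nat_lit 3, nat_lit 1, nat_lit 2, nat_lit 1, nat_lit 2, nat_lit 1, nat_lit 3],
  [nat_lit 1, nat_lit 2, nat_lit 3, nat_lit 2, nat_lit 1, nat_lit 3, nat_lit 1, nat_lit 2, nat_lit 3, nat_lit 2, nat_lit 1, nat_lit 3, nat_lit 1, nat_lit 2, nat_lit 3, nat_lit 2, nat_lit 1, nat_lit 3],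
  [nat_lit 1, nat_lit 3, nat_lit 0, nat_lit 3, nat_lit 1, nat_lit 0, nat_lit 1, nat_lit 3, nat_lit 0, nat_lit 3, nat_lit 1, nat_lit 0, nat_lit 1, nat_lit 3, nat_lit 0, nat_lit 3, nat_lit 1, nat_lit 0],
  [nat_lit 1, nat_lit 3, nat_lit 1, nat_lit 3, nat_lit 1, nat_lit 0, nat_lit 1, nat_lit 3, nat_lit 1, nat_lit 3, nat_lit 1, nat_lit 0, nat_lit 1, nat_lit 3, nat_lit 1, nat_lit 3, nat_lit 1, nat_lit 0],
  [nat_lit 1, nat_lit 3, nat_lit 2, nat_lit 3, nat_lit 1, nat_lit 0, nat_lit 1, nat_lit 3, nat_lit 2, nat_lit 3, nat_lit 1, nat_lit 0, nat_lit 1, nat_lit 3, nat_lit 2, nat_lit 3, nat_lit 1, nat_lit 0],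
  [nat_lit 1, nat_lit 3, nat_lit 0, nat_lit 3, nat_lit 1, nat_lit 2, nat_lit 1, nat_lit 3, nat_lit 0, nat_lit 3, nat_lit 1, nat_lit 2, nat_lit 1, nat_lit 3, nat_lit 0, nat_lit 3, nat_lit 1, nat_lit 2],
  [nat_lit 1, nat_lit 3, nat_lit 1, nat_lit 3, nat_lit 1, nat_lit 2, nat_lit 1, nat_lit 3, nat_lit 1, nat_lit 3, nat_lit 1, nat_lit 2, nat_lit 1, nat_lit 3, nat_lit 1, nat_lit 3, nat_lit 1, nat_lit 2],
  [nat_lit 1, nat_lit 3, nat_lit 2, nat_lit 3, nat_lit 1, nat_lit 2, nat_lit 1, nat_lit 3, nat_lit 2, nat_lit 3, nat_lit 1, nat_lit 2, nat_lit 1, nat_lit 3, nat_lit 2, nat_lit 3, nat_lit 1, nat_lit 2],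
  [nat_lit 1, nat_lit 3, nat_lit 0, nat_lit 3, nat_lit 1, nat_lit 3, nat_lit 1, nat_lit 3, nat_lit 0, nat_lit 3, nat_lit 1, nat_lit 3, nat_lit 1, nat_lit 3, nat_lit 0, nat_lit 3, nat_lit 1, nat_lit 3],
  [nat_lit 1, nat_lit 3, nat_lit 1, nat_lit 3, nat_lit 1, nat_lit 3, nat_lit 1, nat_lit 3, nat_lit 1, nat_lit 3, nat_lit 1, nat_lit 3, nat_lit 1, nat_lit 3, nat_lit 1, nat_lit 3, nat_lit 1, nat_lit 3],
  [nat_lit 1, nat_lit 3, nat_lit 2, nat_lit 3, nat_lit 1, nat_lit 3, nat_lit 1, nat_lit 3, nat_lit 2, nat_lit 3, nat_lit 1, nat_lit 3, nat_lit 1, nat_lit 3, nat_lit 2, nat_lit 3, nat_lit 1, nat_lit 3],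
  [nat_lit 2, nat_lit 0, nat_lit 1, nat_lit 0, nat_lit 2, nat_lit 0, nat_lit 2, nat_lit 0, nat_lit 1, nat_lit 0, nat_lit 2, nat_lit 0, nat_lit 2, nat_lit 0, nat_lit 1, nat_lit 0, nat_lit 2, nat_lit 0],
  [nat_lit 2, nat_lit 0, nat_lit 2, nat_lit 0, nat_lit 2, nat_lit 0, nat_lit 2, nat_lit 0, nat_lit 2, nat_lit 0, nat_lit 2, nat_lit 0, nat_lit 2, nat_lit 0, nat_lit 2, nat_lit 0, nat_lit 2, nat_lit 0],
  [nat_lit 2, nat_lit 0, nat_lit 3, nat_lit 0, nat_lit 2, nat_lit 0, nat_lit 2, nat_lit 0, nat_lit 3, nat_lit 0, nat_lit 2, nat_lit 0, nat_lit 2, nat_lit 0, nat_lit 3, nat_lit 0, nat_lit 2, nat_lit 0],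
  [nat_lit 2, nat_lit 0, nat_lit 1, nat_lit 0, nat_lit 2, nat_lit 1, nat_lit 2, nat_lit 0, nat_lit 1, nat_lit 0, nat_lit 2, nat_lit 1, nat_lit 2, nat_lit 0, nat_lit 1, nat_lit 0, nat_lit 2, nat_lit 1],
  [nat_lit 2, nat_lit 0, nat_lit 2, nat_lit 0, nat_lit 2, nat_lit 1, nat_lit 2, nat_lit 0, nat_lit 2, nat_lit 0, nat_lit 2, nat_lit 1, nat_lit 2, nat_lit 0, nat_lit 2, nat_lit 0, nat_lit 2, nat_lit 1],
  [nat_lit 2, nat_lit 0, nat_lit 3, nat_lit 0, nat_lit 2, nat_lit 1, nat_lit 2, nat_lit 0, nat_lit 3, nat_lit 0, nat_lit 2, nat_lit 1, nat_lit 2, nat_lit 0, nat_lit 3, nat_lit 0, nat_lit 2, nat_lit 1],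
  [nat_lit 2, nat_lit 0, nat_lit 1, nat_lit 0, nat_lit 2, nat_lit 3, nat_lit 2, nat_lit 0, nat_lit 1, nat_lit 0, nat_lit 2, nat_lit 3, nat_lit 2, nat_lit 0, nat_lit 1, nat_lit 0, nat_lit 2, nat_lit 3],
  [nat_lit 2, nat_lit 0, nat_lit 2, nat_lit 0, nat_lit 2, nat_lit 3, nat_lit 2, nat_lit 0, nat_lit 2, nat_lit 0, nat_lit 2, nat_lit 3, nat_lit 2, nat_lit 0, nat_lit 2, nat_lit 0, nat_lit 2, nat_lit 3],
  [nat_lit 2, nat_lit 0, nat_lit 3, nat_lit 0, nat_lit 2, nat_lit 3, nat_lit 2, nat_lit 0, nat_lit 3, nat_lit 0, nat_lit 2, nat_lit 3, nat_lit 2, nat_lit 0, nat_lit 3, nat_lit 0, nat_lit 2, nat_lit 3],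
  [nat_lit 2, nat_lit 1, nat_lit 0, nat_lit 1, nat_lit 2, nat_lit 0, nat_lit 2, nat_lit 1, nat_lit 0, nat_lit 1, nat_lit 2, nat_lit 0, nat_lit 2, nat_lit 1, nat_lit 0, nat_lit 1, nat_lit 2, nat_lit 0],
  [nat_lit 2, nat_lit 1, nat_lit 2, nat_lit 1, nat_lit 2, nat_lit 0, nat_lit 2, nat_lit 1, nat_lit 2, nat_lit 1, nat_lit 2, nat_lit 0, nat_lit 2, nat_lit 1, nat_lit 2, nat_lit 1, nat_lit 2, nat_lit 0],
  [nat_lit 2, nat_lit 1, nat_lit 3, nat_lit 1, nat_lit 2, nat_lit 0, nat_lit 2, nat_lit 1, nat_lit 3, nat_lit 1, nat_lit 2, nat_lit 0, nat_lit 2, nat_lit 1, nat_lit 3, nat_lit 1, nat_lit 2, nat_lit 0],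
  [nat_lit 2, nat_lit 1, nat_lit 0, nat_lit 1, nat_lit 2, nat_lit 1, nat_lit 2, nat_lit 1, nat_lit 0, nat_lit 1, nat_lit 2, nat_lit 1, nat_lit 2, nat_lit 1, nat_lit 0, nat_lit 1, nat_lit 2, nat_lit 1],
  [nat_lit 2, nat_lit 1, nat_lit 2, nat_lit 1, nat_lit 2, nat_lit 1, nat_lit 2, nat_lit 1, nat_lit 2, nat_lit 1, nat_lit 2, nat_lit 1, nat_lit 2, nat_lit 1, nat_lit 2, nat_lit 1, nat_lit 2, nat_lit 1],
  [nat_lit 2, nat_lit 1, nat_lit 3, nat_lit 1, nat_lit 2, nat_lit 1, nat_lit 2, nat_lit 1, nat_lit 3, nat_lit 1, nat_lit 2, nat_lit 1, nat_lit 2, nat_lit 1, nat_lit 3, nat_lit 1, nat_lit 2, nat_lit 1],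
  [nat_lit 2, nat_lit 1, nat_lit 0, nat_lit 1, nat_lit 2, nat_lit 3, nat_lit 2, nat_lit 1, nat_lit 0, nat_lit 1, nat_lit 2, nat_lit 3, nat_lit 2, nat_lit 1, nat_lit 0, nat_lit 1, nat_lit 2, nat_lit 3],
  [nat_lit 2, nat_lit 1, nat_lit 2, nat_lit 1, nat_lit 2, nat_lit 3, nat_lit 2, nat_lit 1, nat_lit 2, nat_lit 1, nat_lit 2, nat_lit 3, nat_lit 2, nat_lit 1, nat_lit 2, nat_lit 1, nat_lit 2, nat_lit 3],
  [nat_lit 2, nat_lit 1, nat_lit 3, nat_lit 1, nat_lit 2, nat_lit 3, nat_lit 2, nat_lit 1, nat_lit 3, nat_lit 1, nat_lit 2, nat_lit 3, nat_lit 2, nat_lit 1, nat_lit 3, nat_lit 1, nat_lit 2, nat_lit 3],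
  [nat_lit 2, nat_lit 3, nat_lit 0, nat_lit 3, nat_lit 2, nat_lit 0, nat_lit 2, nat_lit 3, nat_lit 0, nat_lit 3, nat_lit 2, nat_lit 0, nat_lit 2, nat_lit 3, nat_lit 0, nat_lit 3, nat_lit 2, nat_lit 0],
  [nat_lit 2, nat_lit 3, nat_lit 1, nat_lit 3, nat_lit 2, nat_lit 0, nat_lit 2, nat_lit 3, nat_lit 1, nat_lit 3, nat_lit 2, nat_lit 0, nat_lit 2, nat_lit 3, nat_lit 1, nat_lit 3, nat_lit 2, nat_lit 0],
  [nat_lit 2, nat_lit 3, nat_lit 2, nat_lit 3, nat_lit 2, nat_lit 0, nat_lit 2, nat_lit 3, nat_lit 2, nat_lit 3, nat_lit 2, nat_lit 0, nat_lit 2, nat_lit 3, nat_lit 2, nat_lit 3, nat_lit 2, nat_lit 0],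
  [nat_lit 2, nat_lit 3, nat_lit 0, nat_lit 3, nat_lit 2, nat_lit 1, nat_lit 2, nat_lit 3, nat_lit 0, nat_lit 3, nat_lit 2, nat_lit 1, nat_lit 2, nat_lit 3, nat_lit 0, nat_lit 3, nat_lit 2, nat_lit 1],
  [nat_lit 2, nat_lit 3, nat_lit 1, nat_lit 3, nat_lit 2, nat_lit 1, nat_lit 2, nat_lit 3, nat_lit 1, nat_lit 3, nat_lit 2, nat_lit 1, nat_lit 2, nat_lit 3, nat_lit 1, nat_lit 3, nat_lit 2, nat_lit 1],
  [nat_lit 2, nat_lit 3, nat_lit 2, nat_lit 3, nat_lit 2, nat_lit 1, nat_lit 2, nat_lit 3, nat_lit 2, nat_lit 3, nat_lit 2, nat_lit 1, nat_lit 2, nat_lit 3, nat_lit 2, nat_lit 3, nat_lit 2, nat_lit 1],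
  [nat_lit 2, nat_lit 3, nat_lit 0, nat_lit 3, nat_lit 2, nat_lit 3, nat_lit 2, nat_lit 3, nat_lit 0, nat_lit 3, nat_lit 2, nat_lit 3, nat_lit 2, nat_lit 3, nat_lit 0, nat_lit 3, nat_lit 2, nat_lit 3],
  [nat_lit 2, nat_lit 3, nat_lit 1, nat_lit 3, nat_lit 2, nat_lit 3, nat_lit 2, nat_lit 3, nat_lit 1, nat_lit 3, nat_lit 2, nat_lit 3, nat_lit 2, nat_lit 3, nat_lit 1, nat_lit 3, nat_lit 2, nat_lit 3],
  [nat_lit 2, nat_lit 3, nat_lit 2, nat_lit 3, nat_lit 2, nat_lit 3, nat_lit 2, nat_lit 3, nat_lit 2, nat_lit 3, nat_lit 2, nat_lit 3, nat_lit 2, nat_lit 3, nat_lit 2, nat_lit 3, nat_lit 2, nat_lit 3],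
  [nat_lit 3, nat_lit 0, nat_lit 1, nat_lit 0, nat_lit 3, nat_lit 0, nat_lit 3, nat_lit 0, nat_lit 1, nat_lit 0, nat_lit 3, nat_lit 0, nat_lit 3, nat_lit 0, nat_lit 1, nat_lit 0, nat_lit 3, nat_lit 0],
  [nat_lit 3, nat_lit 0, nat_lit 2, nat_lit 0, nat_lit 3, nat_lit 0, nat_lit 3, nat_lit 0, nat_lit 2, nat_lit 0, nat_lit 3, nat_lit 0, nat_lit 3, nat_lit 0, nat_lit 2, nat_lit 0, nat_lit 3, nat_lit 0],
  [nat_lit 3, nat_lit 0, nat_lit 3, nat_lit 0, nat_lit 3, nat_lit 0, nat_lit 3, nat_lit 0, nat_lit 3, nat_lit 0, nat_lit 3, nat_lit 0, nat_lit 3, nat_lit 0, nat_lit 3, nat_lit 0, nat_lit 3, nat_lit 0],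
  [nat_lit 3, nat_lit 0, nat_lit 1, nat_lit 0, nat_lit 3, nat_lit 1, nat_lit 3, nat_lit 0, nat_lit 1, nat_lit 0, nat_lit 3, nat_lit 1, nat_lit 3, nat_lit 0, nat_lit 1, nat_lit 0, nat_lit 3, nat_lit 1],
  [nat_lit 3, nat_lit 0, nat_lit 2, nat_lit 0, nat_lit 3, nat_lit 1, nat_lit 3, nat_lit 0, nat_lit 2, nat_lit 0, nat_lit 3, nat_lit 1, nat_lit 3, nat_lit 0, nat_lit 2, nat_lit 0, nat_lit 3, nat_lit 1],
  [nat_lit 3, nat_lit 0, nat_lit 3, nat_lit 0, nat_lit 3, nat_lit 1, nat_lit 3, nat_lit 0, nat_lit 3, nat_lit 0, nat_lit 3, nat_lit 1, nat_lit 3, nat_lit 0, nat_lit 3, nat_lit 0, nat_lit 3, nat_lit 1],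
  [nat_lit 3, nat_lit 0, nat_lit 1, nat_lit 0, nat_lit 3, nat_lit 2, nat_lit 3, nat_lit 0, nat_lit 1, nat_lit 0, nat_lit 3, nat_lit 2, nat_lit 3, nat_lit 0, nat_lit 1, nat_lit 0, nat_lit 3, nat_lit 2],
  [nat_lit 3, nat_lit 0, nat_lit 2, nat_lit 0, nat_lit 3, nat_lit 2, nat_lit 3, nat_lit 0, nat_lit 2, nat_lit 0, nat_lit 3, nat_lit 2, nat_lit 3, nat_lit 0, nat_lit 2, nat_lit 0, nat_lit 3, nat_lit 2],
  [nat_lit 3, nat_lit 0, nat_lit 3, nat_lit 0, nat_lit 3, nat_lit 2, nat_lit 3, nat_lit 0, nat_lit 3, nat_lit 0, nat_lit 3, nat_lit 2, nat_lit 3, nat_lit 0, nat_lit 3, nat_lit 0, nat_lit 3, nat_lit 2],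
  [nat_lit 3, nat_lit 1, nat_lit 0, nat_lit 1, nat_lit 3, nat_lit 0, nat_lit 3, nat_lit 1, nat_lit 0, nat_lit 1, nat_lit 3, nat_lit 0, nat_lit 3, nat_lit 1, nat_lit 0, nat_lit 1, nat_lit 3, nat_lit 0],
  [nat_lit 3, nat_lit 1, nat_lit 2, nat_lit 1, nat_lit 3, nat_lit 0, nat_lit 3, nat_lit 1, nat_lit 2, nat_lit 1, nat_lit 3, nat_lit 0, nat_lit 3, nat_lit 1, nat_lit 2, nat_lit 1, nat_lit 3, nat_lit 0],
  [nat_lit 3, nat_lit 1, nat_lit 3, nat_lit 1, nat_lit 3, nat_lit 0, nat_lit 3, nat_lit 1, nat_lit 3, nat_lit 1, nat_lit 3, nat_lit 0, nat_lit 3, nat_lit 1, nat_lit 3, nat_lit 1, nat_lit 3, nat_lit 0],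
  [nat_lit 3, nat_lit 1, nat_lit 0, nat_lit 1, nat_lit 3, nat_lit 1, nat_lit 3, nat_lit 1, nat_lit 0, nat_lit 1, nat_lit 3, nat_lit 1, nat_lit 3, nat_lit 1, nat_lit 0, nat_lit 1, nat_lit 3, nat_lit 1],
  [nat_lit 3, nat_lit 1, nat_lit 2, nat_lit 1, nat_lit 3, nat_lit 1, nat_lit 3, nat_lit 1, nat_lit 2, nat_lit 1, nat_lit 3, nat_lit 1, nat_lit 3, nat_lit 1, nat_lit 2, nat_lit 1, nat_lit 3, nat_lit 1],
  [nat_lit 3, nat_lit 1, nat_lit 3, nat_lit 1, nat_lit 3, nat_lit 1, nat_lit 3, nat_lit 1, nat_lit 3, nat_lit 1, nat_lit 3, nat_lit 1, nat_lit 3, nat_lit 1, nat_lit 3, nat_lit 1, nat_lit 3, nat_lit 1],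
  [nat_lit 3, nat_lit 1, nat_lit 0, nat_lit 1, nat_lit 3, nat_lit 2, nat_lit 3, nat_lit 1, nat_lit 0, nat_lit 1, nat_lit 3, nat_lit 2, nat_lit 3, nat_lit 1, nat_lit 0, nat_lit 1, nat_lit 3, nat_lit 2],
  [nat_lit 3, nat_lit 1, nat_lit 2, nat_lit 1, nat_lit 3, nat_lit 2, nat_lit 3, nat_lit 1, nat_lit 2, nat_lit 1, nat_lit 3, nat_lit 2, nat_lit 3, nat_lit 1, nat_lit 2, nat_lit 1, nat_lit 3, nat_lit 2],
  [nat_lit 3, nat_lit 1, nat_lit 3, nat_lit 1, nat_lit 3, nat_lit 2, nat_lit 3, nat_lit 1, nat_lit 3, nat_lit 1, nat_lit 3, nat_lit 2, nat_lit 3, nat_lit 1, nat_lit 3, nat_lit 1, nat_lit 3, nat_lit 2],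
  [nat_lit 3, nat_lit 2, nat_lit 0, nat_lit 2, nat_lit 3, nat_lit 0, nat_lit 3, nat_lit 2, nat_lit 0, nat_lit 2, nat_lit 3, nat_lit 0, nat_lit 3, nat_lit 2, nat_lit 0, nat_lit 2, nat_lit 3, nat_lit 0],
  [nat_lit 3, nat_lit 2, nat_lit 1, nat_lit 2, nat_lit 3, nat_lit 0, nat_lit 3, nat_lit 2, nat_lit 1, nat_lit 2, nat_lit 3, nat_lit 0, nat_lit 3, nat_lit 2, nat_lit 1, nat_lit 2, nat_lit 3, nat_lit 0],
  [nat_lit 3, nat_lit 2, nat_lit 3, nat_lit 2, nat_lit 3, nat_lit 0, nat_lit 3, nat_lit 2, nat_lit 3, nat_lit 2, nat_lit 3, nat_lit 0, nat_lit 3, nat_lit 2, nat_lit 3, nat_lit 2, nat_lit 3, nat_lit 0],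
  [nat_lit 3, nat_lit 2, nat_lit 0, nat_lit 2, nat_lit 3, nat_lit 1, nat_lit 3, nat_lit 2, nat_lit 0, nat_lit 2, nat_lit 3, nat_lit 1, nat_lit 3, nat_lit 2, nat_lit 0, nat_lit 2, nat_lit 3, nat_lit 1],
  [nat_lit 3, nat_lit 2, nat_lit 1, nat_lit 2, nat_lit 3, nat_lit 1, nat_lit 3, nat_lit 2, nat_lit 1, nat_lit 2, nat_lit 3, nat_lit 1, nat_lit 3, nat_lit 2, nat_lit 1, nat_lit 2, nat_lit 3, nat_lit 1],
  [nat_lit 3, nat_lit 2, nat_lit 3, nat_lit 2, nat_lit 3, nat_lit 1, nat_lit 3, nat_lit 2, nat_lit 3, nat_lit 2, nat_lit 3, nat_lit 1, nat_lit 3, nat_lit 2, nat_lit 3, nat_lit 2, nat_lit 3, nat_lit 1],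
  [nat_lit 3, nat_lit 2, nat_lit 0, nat_lit 2, nat_lit 3, nat_lit 2, nat_lit 3, nat_lit 2, nat_lit 0, nat_lit 2, nat_lit 3, nat_lit 2, nat_lit 3, nat_lit 2, nat_lit 0, nat_lit 2, nat_lit 3, nat_lit 2],
  [nat_lit 3, nat_lit 2, nat_lit 1, nat_lit 2, nat_lit 3, nat_lit 2, nat_lit 3, nat_lit 2, nat_lit 1, nat_lit 2, nat_lit 3, nat_lit 2, nat_lit 3, nat_lit 2, nat_lit 1, nat_lit 2, nat_lit 3, nat_lit 2],
  [nat_lit 3, nat_lit 2, nat_lit 3, nat_lit 2, nat_lit 3, nat_lit 2, nat_lit 3, nat_lit 2, nat_lit 3, nat_lit 2, nat_lit 3, nat_lit 2, nat_lit 3, nat_lit 2, nat_lit 3, nat_lit 2, nat_lit 3, nat_lit 2],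
  [nat_lit 0, nat_lit 0],
  [nat_lit 1, nat_lit 1],
  [nat_lit 2, nat_lit 2],
  [nat_lit 3, nat_lit 3]]
/-- the subgroup words -/
def hwL : List (List ℕ) := [[nat_lit 0],
  [nat_lit 1],
  [nat_lit 2]]

/-- the certificate -/
noncomputable def cfg : Cfg :=
  mkCfg (fun k => TT.fld tE (nat_lit 92) (nat_lit 1023) (nat_lit 4951760157141521099596496895) k)
    (nat_lit 11085) (nat_lit 2187) (nat_lit 2217) (nat_lit 4) (nat_lit 5)
    (fun x => x)
    (fun k => TT.fld tP (nat_lit 32) (nat_lit 1023) (nat_lit 4294967295) k)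
    (fun k => TT.fld tQ (nat_lit 32) (nat_lit 1023) (nat_lit 4294967295) k)
    rT hwL

/-- the orbit certificate -/
noncomputable def oc : OCert where
  oid := fun j => Nat.land (TT.fld tO (nat_lit 64) (nat_lit 1023) (nat_lit 18446744073709551615) j) (nat_lit 65535)
  prnt := fun j => Nat.land (Nat.shiftRight (TT.fld tO (nat_lit 64) (nat_lit 1023) (nat_lit 18446744073709551615) j) (nat_lit 16)) (nat_lit 16777215)
  pw := fun j => Nat.land (Nat.shiftRight (TT.fld tO (nat_lit 64) (nat_lit 1023) (nat_lit 18446744073709551615) j) (nat_lit 40)) (nat_lit 255)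
  rk := fun j => Nat.shiftRight (TT.fld tO (nat_lit 64) (nat_lit 1023) (nat_lit 18446744073709551615) j) (nat_lit 48)
  rep := fun d => List.getD [] d 0

/-- the relators -/
def rsL : List (FreeGroup (Fin 4)) := [(FreeGroup.of (0 : Fin 4)) * (FreeGroup.of (0 : Fin 4)),
  (FreeGroup.of (1 : Fin 4)) * (FreeGroup.of (1 : Fin 4)),
  (FreeGroup.of (2 : Fin 4)) * (FreeGroup.of (2 : Fin 4)),
  (FreeGroup.of (3 : Fin 4)) * (FreeGroup.of (3 : Fin 4)),
  ((FreeGroup.of (0 : Fin 4)) * (FreeGroup.of (1 : Fin 4))) ^ 3,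
  ((FreeGroup.of (0 : Fin 4)) * (FreeGroup.of (2 : Fin 4))) ^ 3,
  ((FreeGroup.of (0 : Fin 4)) * (FreeGroup.of (3 : Fin 4))) ^ 3,
  ((FreeGroup.of (1 : Fin 4)) * (FreeGroup.of (2 : Fin 4))) ^ 3,
  ((FreeGroup.of (1 : Fin 4)) * (FreeGroup.of (3 : Fin 4))) ^ 3,
  ((FreeGroup.of (2 : Fin 4)) * (FreeGroup.of (3 : Fin 4))) ^ 3,
  ((FreeGroup.of (1 : Fin 4)) * (FreeGroup.of (0 : Fin 4)) * (FreeGroup.of (1 : Fin 4)) * (FreeGroup.of (0 : Fin 4))) ^ 3,
  ((FreeGroup.of (1 : Fin 4)) * (FreeGroup.of (0 : Fin 4)) * (FreeGroup.of (2 : Fin 4)) * (FreeGroup.of (0 : Fin 4))) ^ 3,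
  ((FreeGroup.of (1 : Fin 4)) * (FreeGroup.of (0 : Fin 4)) * (FreeGroup.of (3 : Fin 4)) * (FreeGroup.of (0 : Fin 4))) ^ 3,
  ((FreeGroup.of (2 : Fin 4)) * (FreeGroup.of (0 : Fin 4)) * (FreeGroup.of (1 : Fin 4)) * (FreeGroup.of (0 : Fin 4))) ^ 3,
  ((FreeGroup.of (2 : Fin 4)) * (FreeGroup.of (0 : Fin 4)) * (FreeGroup.of (2 : Fin 4)) * (FreeGroup.of (0 : Fin 4))) ^ 3,
  ((FreeGroup.of (2 : Fin 4)) * (FreeGroup.of (0 : Fin 4)) * (FreeGroup.of (3 : Fin 4)) * (FreeGroup.of (0 : Fin 4))) ^ 3,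
  ((FreeGroup.of (3 : Fin 4)) * (FreeGroup.of (0 : Fin 4)) * (FreeGroup.of (1 : Fin 4)) * (FreeGroup.of (0 : Fin 4))) ^ 3,
  ((FreeGroup.of (3 : Fin 4)) * (FreeGroup.of (0 : Fin 4)) * (FreeGroup.of (2 : Fin 4)) * (FreeGroup.of (0 : Fin 4))) ^ 3,
  ((FreeGroup.of (3 : Fin 4)) * (FreeGroup.of (0 : Fin 4)) * (FreeGroup.of (3 : Fin 4)) * (FreeGroup.of (0 : Fin 4))) ^ 3,
  ((FreeGroup.of (0 : Fin 4)) * (FreeGroup.of (1 : Fin 4)) * (FreeGroup.of (0 : Fin 4)) * (FreeGroup.of (1 : Fin 4))) ^ 3,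
  ((FreeGroup.of (0 : Fin 4)) * (FreeGroup.of (1 : Fin 4)) * (FreeGroup.of (2 : Fin 4)) * (FreeGroup.of (1 : Fin 4))) ^ 3,
  ((FreeGroup.of (0 : Fin 4)) * (FreeGroup.of (1 : Fin 4)) * (FreeGroup.of (3 : Fin 4)) * (FreeGroup.of (1 : Fin 4))) ^ 3,
  ((FreeGroup.of (2 : Fin 4)) * (FreeGroup.of (1 : Fin 4)) * (FreeGroup.of (0 : Fin 4)) * (FreeGroup.of (1 : Fin 4))) ^ 3,
  ((FreeGroup.of (2 : Fin 4)) * (FreeGroup.of (1 : Fin 4)) * (FreeGroup.of (2 : Fin 4)) * (FreeGroup.of (1 : Fin 4))) ^ 3,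
  ((FreeGroup.of (2 : Fin 4)) * (FreeGroup.of (1 : Fin 4)) * (FreeGroup.of (3 : Fin 4)) * (FreeGroup.of (1 : Fin 4))) ^ 3,
  ((FreeGroup.of (3 : Fin 4)) * (FreeGroup.of (1 : Fin 4)) * (FreeGroup.of (0 : Fin 4)) * (FreeGroup.of (1 : Fin 4))) ^ 3,
  ((FreeGroup.of (3 : Fin 4)) * (FreeGroup.of (1 : Fin 4)) * (FreeGroup.of (2 : Fin 4)) * (FreeGroup.of (1 : Fin 4))) ^ 3,
  ((FreeGroup.of (3 : Fin 4)) * (FreeGroup.of (1 : Fin 4)) * (FreeGroup.of (3 : Fin 4)) * (FreeGroup.of (1 : Fin 4))) ^ 3,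
  ((FreeGroup.of (0 : Fin 4)) * (FreeGroup.of (2 : Fin 4)) * (FreeGroup.of (0 : Fin 4)) * (FreeGroup.of (2 : Fin 4))) ^ 3,
  ((FreeGroup.of (0 : Fin 4)) * (FreeGroup.of (2 : Fin 4)) * (FreeGroup.of (1 : Fin 4)) * (FreeGroup.of (2 : Fin 4))) ^ 3,
  ((FreeGroup.of (0 : Fin 4)) * (FreeGroup.of (2 : Fin 4)) * (FreeGroup.of (3 : Fin 4)) * (FreeGroup.of (2 : Fin 4))) ^ 3,
  ((FreeGroup.of (1 : Fin 4)) * (FreeGroup.of (2 : Fin 4)) * (FreeGroup.of (0 : Fin 4)) * (FreeGroup.of (2 : Fin 4))) ^ 3,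
  ((FreeGroup.of (1 : Fin 4)) * (FreeGroup.of (2 : Fin 4)) * (FreeGroup.of (1 : Fin 4)) * (FreeGroup.of (2 : Fin 4))) ^ 3,
  ((FreeGroup.of (1 : Fin 4)) * (FreeGroup.of (2 : Fin 4)) * (FreeGroup.of (3 : Fin 4)) * (FreeGroup.of (2 : Fin 4))) ^ 3,
  ((FreeGroup.of (3 : Fin 4)) * (FreeGroup.of (2 : Fin 4)) * (FreeGroup.of (0 : Fin 4)) * (FreeGroup.of (2 : Fin 4))) ^ 3,
  ((FreeGroup.of (3 : Fin 4)) * (FreeGroup.of (2 : Fin 4)) * (FreeGroup.of (1 : Fin 4)) * (FreeGroup.of (2 : Fin 4))) ^ 3,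
  ((FreeGroup.of (3 : Fin 4)) * (FreeGroup.of (2 : Fin 4)) * (FreeGroup.of (3 : Fin 4)) * (FreeGroup.of (2 : Fin 4))) ^ 3,
  ((FreeGroup.of (0 : Fin 4)) * (FreeGroup.of (3 : Fin 4)) * (FreeGroup.of (0 : Fin 4)) * (FreeGroup.of (3 : Fin 4))) ^ 3,
  ((FreeGroup.of (0 : Fin 4)) * (FreeGroup.of (3 : Fin 4)) * (FreeGroup.of (1 : Fin 4)) * (FreeGroup.of (3 : Fin 4))) ^ 3,
  ((FreeGroup.of (0 : Fin 4)) * (FreeGroup.of (3 : Fin 4)) * (FreeGroup.of (2 : Fin 4)) * (FreeGroup.of (3 : Fin 4))) ^ 3,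
  ((FreeGroup.of (1 : Fin 4)) * (FreeGroup.of (3 : Fin 4)) * (FreeGroup.of (0 : Fin 4)) * (FreeGroup.of (3 : Fin 4))) ^ 3,
  ((FreeGroup.of (1 : Fin 4)) * (FreeGroup.of (3 : Fin 4)) * (FreeGroup.of (1 : Fin 4)) * (FreeGroup.of (3 : Fin 4))) ^ 3,
  ((FreeGroup.of (1 : Fin 4)) * (FreeGroup.of (3 : Fin 4)) * (FreeGroup.of (2 : Fin 4)) * (FreeGroup.of (3 : Fin 4))) ^ 3,
  ((FreeGroup.of (2 : Fin 4)) * (FreeGroup.of (3 : Fin 4)) * (FreeGroup.of (0 : Fin 4)) * (FreeGroup.of (3 : Fin 4))) ^ 3,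
  ((FreeGroup.of (2 : Fin 4)) * (FreeGroup.of (3 : Fin 4)) * (FreeGroup.of (1 : Fin 4)) * (FreeGroup.of (3 : Fin 4))) ^ 3,
  ((FreeGroup.of (2 : Fin 4)) * (FreeGroup.of (3 : Fin 4)) * (FreeGroup.of (2 : Fin 4)) * (FreeGroup.of (3 : Fin 4))) ^ 3,
  ((FreeGroup.of (1 : Fin 4)) * (FreeGroup.of (0 : Fin 4)) * (FreeGroup.of (1 : Fin 4)) * (FreeGroup.of (0 : Fin 4)) * (FreeGroup.of (1 : Fin 4)) * (FreeGroup.of (0 : Fin 4))) ^ 3,
  ((FreeGroup.of (1 : Fin 4)) * (FreeGroup.of (0 : Fin 4)) * (FreeGroup.of (1 : Fin 4)) * (FreeGroup.of (2 : Fin 4)) * (FreeGroup.of (1 : Fin 4)) * (FreeGroup.of (0 : Fin 4))) ^ 3,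
  ((FreeGroup.of (1 : Fin 4)) * (FreeGroup.of (0 : Fin 4)) * (FreeGroup.of (1 : Fin 4)) * (FreeGroup.of (3 : Fin 4)) * (FreeGroup.of (1 : Fin 4)) * (FreeGroup.of (0 : Fin 4))) ^ 3,
  ((FreeGroup.of (2 : Fin 4)) * (FreeGroup.of (0 : Fin 4)) * (FreeGroup.of (1 : Fin 4)) * (FreeGroup.of (0 : Fin 4)) * (FreeGroup.of (1 : Fin 4)) * (FreeGroup.of (0 : Fin 4))) ^ 3,
  ((FreeGroup.of (2 : Fin 4)) * (FreeGroup.of (0 : Fin 4)) * (FreeGroup.of (1 : Fin 4)) * (FreeGroup.of (2 : Fin 4)) * (FreeGroup.of (1 : Fin 4)) * (FreeGroup.of (0 : Fin 4))) ^ 3,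
  ((FreeGroup.of (2 : Fin 4)) * (FreeGroup.of (0 : Fin 4)) * (FreeGroup.of (1 : Fin 4)) * (FreeGroup.of (3 : Fin 4)) * (FreeGroup.of (1 : Fin 4)) * (FreeGroup.of (0 : Fin 4))) ^ 3,
  ((FreeGroup.of (3 : Fin 4)) * (FreeGroup.of (0 : Fin 4)) * (FreeGroup.of (1 : Fin 4)) * (FreeGroup.of (0 : Fin 4)) * (FreeGroup.of (1 : Fin 4)) * (FreeGroup.of (0 : Fin 4))) ^ 3,
  ((FreeGroup.of (3 : Fin 4)) * (FreeGroup.of (0 : Fin 4)) * (FreeGroup.of (1 : Fin 4)) * (FreeGroup.of (2 : Fin 4)) * (FreeGroup.of (1 : Fin 4)) * (FreeGroup.of (0 : Fin 4))) ^ 3,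
  ((FreeGroup.of (3 : Fin 4)) * (FreeGroup.of (0 : Fin 4)) * (FreeGroup.of (1 : Fin 4)) * (FreeGroup.of (3 : Fin 4)) * (FreeGroup.of (1 : Fin 4)) * (FreeGroup.of (0 : Fin 4))) ^ 3,
  ((FreeGroup.of (1 : Fin 4)) * (FreeGroup.of (0 : Fin 4)) * (FreeGroup.of (2 : Fin 4)) * (FreeGroup.of (0 : Fin 4)) * (FreeGroup.of (2 : Fin 4)) * (FreeGroup.of (0 : Fin 4))) ^ 3,
  ((FreeGroup.of (1 : Fin 4)) * (FreeGroup.of (0 : Fin 4)) * (FreeGroup.of (2 : Fin 4)) * (FreeGroup.of (1 : Fin 4)) * (FreeGroup.of (2 : Fin 4)) * (FreeGroup.of (0 : Fin 4))) ^ 3,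
  ((FreeGroup.of (1 : Fin 4)) * (FreeGroup.of (0 : Fin 4)) * (FreeGroup.of (2 : Fin 4)) * (FreeGroup.of (3 : Fin 4)) * (FreeGroup.of (2 : Fin 4)) * (FreeGroup.of (0 : Fin 4))) ^ 3,
  ((FreeGroup.of (2 : Fin 4)) * (FreeGroup.of (0 : Fin 4)) * (FreeGroup.of (2 : Fin 4)) * (FreeGroup.of (0 : Fin 4)) * (FreeGroup.of (2 : Fin 4)) * (FreeGroup.of (0 : Fin 4))) ^ 3,
  ((FreeGroup.of (2 : Fin 4)) * (FreeGroup.of (0 : Fin 4)) * (FreeGroup.of (2 : Fin 4)) * (FreeGroup.of (1 : Fin 4)) * (FreeGroup.of (2 : Fin 4)) * (FreeGroup.of (0 : Fin 4))) ^ 3,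
  ((FreeGroup.of (2 : Fin 4)) * (FreeGroup.of (0 : Fin 4)) * (FreeGroup.of (2 : Fin 4)) * (FreeGroup.of (3 : Fin 4)) * (FreeGroup.of (2 : Fin 4)) * (FreeGroup.of (0 : Fin 4))) ^ 3,
  ((FreeGroup.of (3 : Fin 4)) * (FreeGroup.of (0 : Fin 4)) * (FreeGroup.of (2 : Fin 4)) * (FreeGroup.of (0 : Fin 4)) * (FreeGroup.of (2 : Fin 4)) * (FreeGroup.of (0 : Fin 4))) ^ 3,
  ((FreeGroup.of (3 : Fin 4)) * (FreeGroup.of (0 : Fin 4)) * (FreeGroup.of (2 : Fin 4)) * (FreeGroup.of (1 : Fin 4)) * (FreeGroup.of (2 : Fin 4)) * (FreeGroup.of (0 : Fin 4))) ^ 3,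
  ((FreeGroup.of (3 : Fin 4)) * (FreeGroup.of (0 : Fin 4)) * (FreeGroup.of (2 : Fin 4)) * (FreeGroup.of (3 : Fin 4)) * (FreeGroup.of (2 : Fin 4)) * (FreeGroup.of (0 : Fin 4))) ^ 3,
  ((FreeGroup.of (1 : Fin 4)) * (FreeGroup.of (0 : Fin 4)) * (FreeGroup.of (3 : Fin 4)) * (FreeGroup.of (0 : Fin 4)) * (FreeGroup.of (3 : Fin 4)) * (FreeGroup.of (0 : Fin 4))) ^ 3,
  ((FreeGroup.of (1 : Fin 4)) * (FreeGroup.of (0 : Fin 4)) * (FreeGroup.of (3 : Fin 4)) * (FreeGroup.of (1 : Fin 4)) * (FreeGroup.of (3 : Fin 4)) * (FreeGroup.of (0 : Fin 4))) ^ 3,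
  ((FreeGroup.of (1 : Fin 4)) * (FreeGroup.of (0 : Fin 4)) * (FreeGroup.of (3 : Fin 4)) * (FreeGroup.of (2 : Fin 4)) * (FreeGroup.of (3 : Fin 4)) * (FreeGroup.of (0 : Fin 4))) ^ 3,
  ((FreeGroup.of (2 : Fin 4)) * (FreeGroup.of (0 : Fin 4)) * (FreeGroup.of (3 : Fin 4)) * (FreeGroup.of (0 : Fin 4)) * (FreeGroup.of (3 : Fin 4)) * (FreeGroup.of (0 : Fin 4))) ^ 3,
  ((FreeGroup.of (2 : Fin 4)) * (FreeGroup.of (0 : Fin 4)) * (FreeGroup.of (3 : Fin 4)) * (FreeGroup.of (1 : Fin 4)) * (FreeGroup.of (3 : Fin 4)) * (FreeGroup.of (0 : Fin 4))) ^ 3,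
  ((FreeGroup.of (2 : Fin 4)) * (FreeGroup.of (0 : Fin 4)) * (FreeGroup.of (3 : Fin 4)) * (FreeGroup.of (2 : Fin 4)) * (FreeGroup.of (3 : Fin 4)) * (FreeGroup.of (0 : Fin 4))) ^ 3,
  ((FreeGroup.of (3 : Fin 4)) * (FreeGroup.of (0 : Fin 4)) * (FreeGroup.of (3 : Fin 4)) * (FreeGroup.of (0 : Fin 4)) * (FreeGroup.of (3 : Fin 4)) * (FreeGroup.of (0 : Fin 4))) ^ 3,
  ((FreeGroup.of (3 : Fin 4)) * (FreeGroup.of (0 : Fin 4)) * (FreeGroup.of (3 : Fin 4)) * (FreeGroup.of (1 : Fin 4)) * (FreeGroup.of (3 : Fin 4)) * (FreeGroup.of (0 : Fin 4))) ^ 3,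
  ((FreeGroup.of (3 : Fin 4)) * (FreeGroup.of (0 : Fin 4)) * (FreeGroup.of (3 : Fin 4)) * (FreeGroup.of (2 : Fin 4)) * (FreeGroup.of (3 : Fin 4)) * (FreeGroup.of (0 : Fin 4))) ^ 3,
  ((FreeGroup.of (0 : Fin 4)) * (FreeGroup.of (1 : Fin 4)) * (FreeGroup.of (0 : Fin 4)) * (FreeGroup.of (1 : Fin 4)) * (FreeGroup.of (0 : Fin 4)) * (FreeGroup.of (1 : Fin 4))) ^ 3,
  ((FreeGroup.of (0 : Fin 4)) * (FreeGroup.of (1 : Fin 4)) * (FreeGroup.of (0 : Fin 4)) * (FreeGroup.of (2 : Fin 4)) * (FreeGroup.of (0 : Fin 4)) * (FreeGroup.of (1 : Fin 4))) ^ 3,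
  ((FreeGroup.of (0 : Fin 4)) * (FreeGroup.of (1 : Fin 4)) * (FreeGroup.of (0 : Fin 4)) * (FreeGroup.of (3 : Fin 4)) * (FreeGroup.of (0 : Fin 4)) * (FreeGroup.of (1 : Fin 4))) ^ 3,
  ((FreeGroup.of (2 : Fin 4)) * (FreeGroup.of (1 : Fin 4)) * (FreeGroup.of (0 : Fin 4)) * (FreeGroup.of (1 : Fin 4)) * (FreeGroup.of (0 : Fin 4)) * (FreeGroup.of (1 : Fin 4))) ^ 3,
  ((FreeGroup.of (2 : Fin 4)) * (FreeGroup.of (1 : Fin 4)) * (FreeGroup.of (0 : Fin 4)) * (FreeGroup.of (2 : Fin 4)) * (FreeGroup.of (0 : Fin 4)) * (FreeGroup.of (1 : Fin 4))) ^ 3,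
  ((FreeGroup.of (2 : Fin 4)) * (FreeGroup.of (1 : Fin 4)) * (FreeGroup.of (0 : Fin 4)) * (FreeGroup.of (3 : Fin 4)) * (FreeGroup.of (0 : Fin 4)) * (FreeGroup.of (1 : Fin 4))) ^ 3,
  ((FreeGroup.of (3 : Fin 4)) * (FreeGroup.of (1 : Fin 4)) * (FreeGroup.of (0 : Fin 4)) * (FreeGroup.of (1 : Fin 4)) * (FreeGroup.of (0 : Fin 4)) * (FreeGroup.of (1 : Fin 4))) ^ 3,
  ((FreeGroup.of (3 : Fin 4)) * (FreeGroup.of (1 : Fin 4)) * (FreeGroup.of (0 : Fin 4)) * (FreeGroup.of (2 : Fin 4)) * (FreeGroup.of (0 : Fin 4)) * (FreeGroup.of (1 : Fin 4))) ^ 3,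
  ((FreeGroup.of (3 : Fin 4)) * (FreeGroup.of (1 : Fin 4)) * (FreeGroup.of (0 : Fin 4)) * (FreeGroup.of (3 : Fin 4)) * (FreeGroup.of (0 : Fin 4)) * (FreeGroup.of (1 : Fin 4))) ^ 3,
  ((FreeGroup.of (0 : Fin 4)) * (FreeGroup.of (1 : Fin 4)) * (FreeGroup.of (2 : Fin 4)) * (FreeGroup.of (0 : Fin 4)) * (FreeGroup.of (2 : Fin 4)) * (FreeGroup.of (1 : Fin 4))) ^ 3,
  ((FreeGroup.of (0 : Fin 4)) * (FreeGroup.of (1 : Fin 4)) * (FreeGroup.of (2 : Fin 4)) * (FreeGroup.of (1 : Fin 4)) * (FreeGroup.of (2 : Fin 4)) * (FreeGroup.of (1 : Fin 4))) ^ 3,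
  ((FreeGroup.of (0 : Fin 4)) * (FreeGroup.of (1 : Fin 4)) * (FreeGroup.of (2 : Fin 4)) * (FreeGroup.of (3 : Fin 4)) * (FreeGroup.of (2 : Fin 4)) * (FreeGroup.of (1 : Fin 4))) ^ 3,
  ((FreeGroup.of (2 : Fin 4)) * (FreeGroup.of (1 : Fin 4)) * (FreeGroup.of (2 : Fin 4)) * (FreeGroup.of (0 : Fin 4)) * (FreeGroup.of (2 : Fin 4)) * (FreeGroup.of (1 : Fin 4))) ^ 3,
  ((FreeGroup.of (2 : Fin 4)) * (FreeGroup.of (1 : Fin 4)) * (FreeGroup.of (2 : Fin 4)) * (FreeGroup.of (1 : Fin 4)) * (FreeGroup.of (2 : Fin 4)) * (FreeGroup.of (1 : Fin 4))) ^ 3,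
  ((FreeGroup.of (2 : Fin 4)) * (FreeGroup.of (1 : Fin 4)) * (FreeGroup.of (2 : Fin 4)) * (FreeGroup.of (3 : Fin 4)) * (FreeGroup.of (2 : Fin 4)) * (FreeGroup.of (1 : Fin 4))) ^ 3,
  ((FreeGroup.of (3 : Fin 4)) * (FreeGroup.of (1 : Fin 4)) * (FreeGroup.of (2 : Fin 4)) * (FreeGroup.of (0 : Fin 4)) * (FreeGroup.of (2 : Fin 4)) * (FreeGroup.of (1 : Fin 4))) ^ 3,
  ((FreeGroup.of (3 : Fin 4)) * (FreeGroup.of (1 : Fin 4)) * (FreeGroup.of (2 : Fin 4)) * (FreeGroup.of (1 : Fin 4)) * (FreeGroup.of (2 : Fin 4)) * (FreeGroup.of (1 : Fin 4))) ^ 3,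
  ((FreeGroup.of (3 : Fin 4)) * (FreeGroup.of (1 : Fin 4)) * (FreeGroup.of (2 : Fin 4)) * (FreeGroup.of (3 : Fin 4)) * (FreeGroup.of (2 : Fin 4)) * (FreeGroup.of (1 : Fin 4))) ^ 3,
  ((FreeGroup.of (0 : Fin 4)) * (FreeGroup.of (1 : Fin 4)) * (FreeGroup.of (3 : Fin 4)) * (FreeGroup.of (0 : Fin 4)) * (FreeGroup.of (3 : Fin 4)) * (FreeGroup.of (1 : Fin 4))) ^ 3,
  ((FreeGroup.of (0 : Fin 4)) * (FreeGroup.of (1 : Fin 4)) * (FreeGroup.of (3 : Fin 4)) * (FreeGroup.of (1 : Fin 4)) * (FreeGroup.of (3 : Fin 4)) * (FreeGroup.of (1 : Fin 4))) ^ 3,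
  ((FreeGroup.of (0 : Fin 4)) * (FreeGroup.of (1 : Fin 4)) * (FreeGroup.of (3 : Fin 4)) * (FreeGroup.of (2 : Fin 4)) * (FreeGroup.of (3 : Fin 4)) * (FreeGroup.of (1 : Fin 4))) ^ 3,
  ((FreeGroup.of (2 : Fin 4)) * (FreeGroup.of (1 : Fin 4)) * (FreeGroup.of (3 : Fin 4)) * (FreeGroup.of (0 : Fin 4)) * (FreeGroup.of (3 : Fin 4)) * (FreeGroup.of (1 : Fin 4))) ^ 3,
  ((FreeGroup.of (2 : Fin 4)) * (FreeGroup.of (1 : Fin 4)) * (FreeGroup.of (3 : Fin 4)) * (FreeGroup.of (1 : Fin 4)) * (FreeGroup.of (3 : Fin 4)) * (FreeGroup.of (1 : Fin 4))) ^ 3,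
  ((FreeGroup.of (2 : Fin 4)) * (FreeGroup.of (1 : Fin 4)) * (FreeGroup.of (3 : Fin 4)) * (FreeGroup.of (2 : Fin 4)) * (FreeGroup.of (3 : Fin 4)) * (FreeGroup.of (1 : Fin 4))) ^ 3,
  ((FreeGroup.of (3 : Fin 4)) * (FreeGroup.of (1 : Fin 4)) * (FreeGroup.of (3 : Fin 4)) * (FreeGroup.of (0 : Fin 4)) * (FreeGroup.of (3 : Fin 4)) * (FreeGroup.of (1 : Fin 4))) ^ 3,
  ((FreeGroup.of (3 : Fin 4)) * (FreeGroup.of (1 : Fin 4)) * (FreeGroup.of (3 : Fin 4)) * (FreeGroup.of (1 : Fin 4)) * (FreeGroup.of (3 : Fin 4)) * (FreeGroup.of (1 : Fin 4))) ^ 3,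
  ((FreeGroup.of (3 : Fin 4)) * (FreeGroup.of (1 : Fin 4)) * (FreeGroup.of (3 : Fin 4)) * (FreeGroup.of (2 : Fin 4)) * (FreeGroup.of (3 : Fin 4)) * (FreeGroup.of (1 : Fin 4))) ^ 3,
  ((FreeGroup.of (0 : Fin 4)) * (FreeGroup.of (2 : Fin 4)) * (FreeGroup.of (0 : Fin 4)) * (FreeGroup.of (1 : Fin 4)) * (FreeGroup.of (0 : Fin 4)) * (FreeGroup.of (2 : Fin 4))) ^ 3,
  ((FreeGroup.of (0 : Fin 4)) * (FreeGroup.of (2 : Fin 4)) * (FreeGroup.of (0 : Fin 4)) * (FreeGroup.of (2 : Fin 4)) * (FreeGroup.of (0 : Fin 4)) * (FreeGroup.of (2 : Fin 4))) ^ 3,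
  ((FreeGroup.of (0 : Fin 4)) * (FreeGroup.of (2 : Fin 4)) * (FreeGroup.of (0 : Fin 4)) * (FreeGroup.of (3 : Fin 4)) * (FreeGroup.of (0 : Fin 4)) * (FreeGroup.of (2 : Fin 4))) ^ 3,
  ((FreeGroup.of (1 : Fin 4)) * (FreeGroup.of (2 : Fin 4)) * (FreeGroup.of (0 : Fin 4)) * (FreeGroup.of (1 : Fin 4)) * (FreeGroup.of (0 : Fin 4)) * (FreeGroup.of (2 : Fin 4))) ^ 3,
  ((FreeGroup.of (1 : Fin 4)) * (FreeGroup.of (2 : Fin 4)) * (FreeGroup.of (0 : Fin 4)) * (FreeGroup.of (2 : Fin 4)) * (FreeGroup.of (0 : Fin 4)) * (FreeGroup.of (2 : Fin 4))) ^ 3,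
  ((FreeGroup.of (1 : Fin 4)) * (FreeGroup.of (2 : Fin 4)) * (FreeGroup.of (0 : Fin 4)) * (FreeGroup.of (3 : Fin 4)) * (FreeGroup.of (0 : Fin 4)) * (FreeGroup.of (2 : Fin 4))) ^ 3,
  ((FreeGroup.of (3 : Fin 4)) * (FreeGroup.of (2 : Fin 4)) * (FreeGroup.of (0 : Fin 4)) * (FreeGroup.of (1 : Fin 4)) * (FreeGroup.of (0 : Fin 4)) * (FreeGroup.of (2 : Fin 4))) ^ 3,
  ((FreeGroup.of (3 : Fin 4)) * (FreeGroup.of (2 : Fin 4)) * (FreeGroup.of (0 : Fin 4)) * (FreeGroup.of (2 : Fin 4)) * (FreeGroup.of (0 : Fin 4)) * (FreeGroup.of (2 : Fin 4))) ^ 3,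
  ((FreeGroup.of (3 : Fin 4)) * (FreeGroup.of (2 : Fin 4)) * (FreeGroup.of (0 : Fin 4)) * (FreeGroup.of (3 : Fin 4)) * (FreeGroup.of (0 : Fin 4)) * (FreeGroup.of (2 : Fin 4))) ^ 3,
  ((FreeGroup.of (0 : Fin 4)) * (FreeGroup.of (2 : Fin 4)) * (FreeGroup.of (1 : Fin 4)) * (FreeGroup.of (0 : Fin 4)) * (FreeGroup.of (1 : Fin 4)) * (FreeGroup.of (2 : Fin 4))) ^ 3,
  ((FreeGroup.of (0 : Fin 4)) * (FreeGroup.of (2 : Fin 4)) * (FreeGroup.of (1 : Fin 4)) * (FreeGroup.of (2 : Fin 4)) * (FreeGroup.of (1 : Fin 4)) * (FreeGroup.of (2 : Fin 4))) ^ 3,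
  ((FreeGroup.of (0 : Fin 4)) * (FreeGroup.of (2 : Fin 4)) * (FreeGroup.of (1 : Fin 4)) * (FreeGroup.of (3 : Fin 4)) * (FreeGroup.of (1 : Fin 4)) * (FreeGroup.of (2 : Fin 4))) ^ 3,
  ((FreeGroup.of (1 : Fin 4)) * (FreeGroup.of (2 : Fin 4)) * (FreeGroup.of (1 : Fin 4)) * (FreeGroup.of (0 : Fin 4)) * (FreeGroup.of (1 : Fin 4)) * (FreeGroup.of (2 : Fin 4))) ^ 3,
  ((FreeGroup.of (1 : Fin 4)) * (FreeGroup.of (2 : Fin 4)) * (FreeGroup.of (1 : Fin 4)) * (FreeGroup.of (2 : Fin 4)) * (FreeGroup.of (1 : Fin 4)) * (FreeGroup.of (2 : Fin 4))) ^ 3,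
  ((FreeGroup.of (1 : Fin 4)) * (FreeGroup.of (2 : Fin 4)) * (FreeGroup.of (1 : Fin 4)) * (FreeGroup.of (3 : Fin 4)) * (FreeGroup.of (1 : Fin 4)) * (FreeGroup.of (2 : Fin 4))) ^ 3,
  ((FreeGroup.of (3 : Fin 4)) * (FreeGroup.of (2 : Fin 4)) * (FreeGroup.of (1 : Fin 4)) * (FreeGroup.of (0 : Fin 4)) * (FreeGroup.of (1 : Fin 4)) * (FreeGroup.of (2 : Fin 4))) ^ 3,
  ((FreeGroup.of (3 : Fin 4)) * (FreeGroup.of (2 : Fin 4)) * (FreeGroup.of (1 : Fin 4)) * (FreeGroup.of (2 : Fin 4)) * (FreeGroup.of (1 : Fin 4)) * (FreeGroup.of (2 : Fin 4))) ^ 3,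
  ((FreeGroup.of (3 : Fin 4)) * (FreeGroup.of (2 : Fin 4)) * (FreeGroup.of (1 : Fin 4)) * (FreeGroup.of (3 : Fin 4)) * (FreeGroup.of (1 : Fin 4)) * (FreeGroup.of (2 : Fin 4))) ^ 3,
  ((FreeGroup.of (0 : Fin 4)) * (FreeGroup.of (2 : Fin 4)) * (FreeGroup.of (3 : Fin 4)) * (FreeGroup.of (0 : Fin 4)) * (FreeGroup.of (3 : Fin 4)) * (FreeGroup.of (2 : Fin 4))) ^ 3,
  ((FreeGroup.of (0 : Fin 4)) * (FreeGroup.of (2 : Fin 4)) * (FreeGroup.of (3 : Fin 4)) * (FreeGroup.of (1 : Fin 4)) * (FreeGroup.of (3 : Fin 4)) * (FreeGroup.of (2 : Fin 4))) ^ 3,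
  ((FreeGroup.of (0 : Fin 4)) * (FreeGroup.of (2 : Fin 4)) * (FreeGroup.of (3 : Fin 4)) * (FreeGroup.of (2 : Fin 4)) * (FreeGroup.of (3 : Fin 4)) * (FreeGroup.of (2 : Fin 4))) ^ 3,
  ((FreeGroup.of (1 : Fin 4)) * (FreeGroup.of (2 : Fin 4)) * (FreeGroup.of (3 : Fin 4)) * (FreeGroup.of (0 : Fin 4)) * (FreeGroup.of (3 : Fin 4)) * (FreeGroup.of (2 : Fin 4))) ^ 3,
  ((FreeGroup.of (1 : Fin 4)) * (FreeGroup.of (2 : Fin 4)) * (FreeGroup.of (3 : Fin 4)) * (FreeGroup.of (1 : Fin 4)) * (FreeGroup.of (3 : Fin 4)) * (FreeGroup.of (2 : Fin 4))) ^ 3,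
  ((FreeGroup.of (1 : Fin 4)) * (FreeGroup.of (2 : Fin 4)) * (FreeGroup.of (3 : Fin 4)) * (FreeGroup.of (2 : Fin 4)) * (FreeGroup.of (3 : Fin 4)) * (FreeGroup.of (2 : Fin 4))) ^ 3,
  ((FreeGroup.of (3 : Fin 4)) * (FreeGroup.of (2 : Fin 4)) * (FreeGroup.of (3 : Fin 4)) * (FreeGroup.of (0 : Fin 4)) * (FreeGroup.of (3 : Fin 4)) * (FreeGroup.of (2 : Fin 4))) ^ 3,
  ((FreeGroup.of (3 : Fin 4)) * (FreeGroup.of (2 : Fin 4)) * (FreeGroup.of (3 : Fin 4)) * (FreeGroup.of (1 : Fin 4)) * (FreeGroup.of (3 : Fin 4)) * (FreeGroup.of (2 : Fin 4))) ^ 3,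
  ((FreeGroup.of (3 : Fin 4)) * (FreeGroup.of (2 : Fin 4)) * (FreeGroup.of (3 : Fin 4)) * (FreeGroup.of (2 : Fin 4)) * (FreeGroup.of (3 : Fin 4)) * (FreeGroup.of (2 : Fin 4))) ^ 3,
  ((FreeGroup.of (0 : Fin 4)) * (FreeGroup.of (3 : Fin 4)) * (FreeGroup.of (0 : Fin 4)) * (FreeGroup.of (1 : Fin 4)) * (FreeGroup.of (0 : Fin 4)) * (FreeGroup.of (3 : Fin 4))) ^ 3,
  ((FreeGroup.of (0 : Fin 4)) * (FreeGroup.of (3 : Fin 4)) * (FreeGroup.of (0 : Fin 4)) * (FreeGroup.of (2 : Fin 4)) * (FreeGroup.of (0 : Fin 4)) * (FreeGroup.of (3 : Fin 4))) ^ 3,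
  ((FreeGroup.of (0 : Fin 4)) * (FreeGroup.of (3 : Fin 4)) * (FreeGroup.of (0 : Fin 4)) * (FreeGroup.of (3 : Fin 4)) * (FreeGroup.of (0 : Fin 4)) * (FreeGroup.of (3 : Fin 4))) ^ 3,
  ((FreeGroup.of (1 : Fin 4)) * (FreeGroup.of (3 : Fin 4)) * (FreeGroup.of (0 : Fin 4)) * (FreeGroup.of (1 : Fin 4)) * (FreeGroup.of (0 : Fin 4)) * (FreeGroup.of (3 : Fin 4))) ^ 3,
  ((FreeGroup.of (1 : Fin 4)) * (FreeGroup.of (3 : Fin 4)) * (FreeGroup.of (0 : Fin 4)) * (FreeGroup.of (2 : Fin 4)) * (FreeGroup.of (0 : Fin 4)) * (FreeGroup.of (3 : Fin 4))) ^ 3,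
  ((FreeGroup.of (1 : Fin 4)) * (FreeGroup.of (3 : Fin 4)) * (FreeGroup.of (0 : Fin 4)) * (FreeGroup.of (3 : Fin 4)) * (FreeGroup.of (0 : Fin 4)) * (FreeGroup.of (3 : Fin 4))) ^ 3,
  ((FreeGroup.of (2 : Fin 4)) * (FreeGroup.of (3 : Fin 4)) * (FreeGroup.of (0 : Fin 4)) * (FreeGroup.of (1 : Fin 4)) * (FreeGroup.of (0 : Fin 4)) * (FreeGroup.of (3 : Fin 4))) ^ 3,
  ((FreeGroup.of (2 : Fin 4)) * (FreeGroup.of (3 : Fin 4)) * (FreeGroup.of (0 : Fin 4)) * (FreeGroup.of (2 : Fin 4)) * (FreeGroup.of (0 : Fin 4)) * (FreeGroup.of (3 : Fin 4))) ^ 3,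
  ((FreeGroup.of (2 : Fin 4)) * (FreeGroup.of (3 : Fin 4)) * (FreeGroup.of (0 : Fin 4)) * (FreeGroup.of (3 : Fin 4)) * (FreeGroup.of (0 : Fin 4)) * (FreeGroup.of (3 : Fin 4))) ^ 3,
  ((FreeGroup.of (0 : Fin 4)) * (FreeGroup.of (3 : Fin 4)) * (FreeGroup.of (1 : Fin 4)) * (FreeGroup.of (0 : Fin 4)) * (FreeGroup.of (1 : Fin 4)) * (FreeGroup.of (3 : Fin 4))) ^ 3,
  ((FreeGroup.of (0 : Fin 4)) * (FreeGroup.of (3 : Fin 4)) * (FreeGroup.of (1 : Fin 4)) * (FreeGroup.of (2 : Fin 4)) * (FreeGroup.of (1 : Fin 4)) * (FreeGroup.of (3 : Fin 4))) ^ 3,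
  ((FreeGroup.of (0 : Fin 4)) * (FreeGroup.of (3 : Fin 4)) * (FreeGroup.of (1 : Fin 4)) * (FreeGroup.of (3 : Fin 4)) * (FreeGroup.of (1 : Fin 4)) * (FreeGroup.of (3 : Fin 4))) ^ 3,
  ((FreeGroup.of (1 : Fin 4)) * (FreeGroup.of (3 : Fin 4)) * (FreeGroup.of (1 : Fin 4)) * (FreeGroup.of (0 : Fin 4)) * (FreeGroup.of (1 : Fin 4)) * (FreeGroup.of (3 : Fin 4))) ^ 3,
  ((FreeGroup.of (1 : Fin 4)) * (FreeGroup.of (3 : Fin 4)) * (FreeGroup.of (1 : Fin 4)) * (FreeGroup.of (2 : Fin 4)) * (FreeGroup.of (1 : Fin 4)) * (FreeGroup.of (3 : Fin 4))) ^ 3,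
  ((FreeGroup.of (1 : Fin 4)) * (FreeGroup.of (3 : Fin 4)) * (FreeGroup.of (1 : Fin 4)) * (FreeGroup.of (3 : Fin 4)) * (FreeGroup.of (1 : Fin 4)) * (FreeGroup.of (3 : Fin 4))) ^ 3,
  ((FreeGroup.of (2 : Fin 4)) * (FreeGroup.of (3 : Fin 4)) * (FreeGroup.of (1 : Fin 4)) * (FreeGroup.of (0 : Fin 4)) * (FreeGroup.of (1 : Fin 4)) * (FreeGroup.of (3 : Fin 4))) ^ 3,
  ((FreeGroup.of (2 : Fin 4)) * (FreeGroup.of (3 : Fin 4)) * (FreeGroup.of (1 : Fin 4)) * (FreeGroup.of (2 : Fin 4)) * (FreeGroup.of (1 : Fin 4)) * (FreeGroup.of (3 : Fin 4))) ^ 3,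
  ((FreeGroup.of (2 : Fin 4)) * (FreeGroup.of (3 : Fin 4)) * (FreeGroup.of (1 : Fin 4)) * (FreeGroup.of (3 : Fin 4)) * (FreeGroup.of (1 : Fin 4)) * (FreeGroup.of (3 : Fin 4))) ^ 3,
  ((FreeGroup.of (0 : Fin 4)) * (FreeGroup.of (3 : Fin 4)) * (FreeGroup.of (2 : Fin 4)) * (FreeGroup.of (0 : Fin 4)) * (FreeGroup.of (2 : Fin 4)) * (FreeGroup.of (3 : Fin 4))) ^ 3,
  ((FreeGroup.of (0 : Fin 4)) * (FreeGroup.of (3 : Fin 4)) * (FreeGroup.of (2 : Fin 4)) * (FreeGroup.of (1 : Fin 4)) * (FreeGroup.of (2 : Fin 4)) * (FreeGroup.of (3 : Fin 4))) ^ 3,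
  ((FreeGroup.of (0 : Fin 4)) * (FreeGroup.of (3 : Fin 4)) * (FreeGroup.of (2 : Fin 4)) * (FreeGroup.of (3 : Fin 4)) * (FreeGroup.of (2 : Fin 4)) * (FreeGroup.of (3 : Fin 4))) ^ 3,
  ((FreeGroup.of (1 : Fin 4)) * (FreeGroup.of (3 : Fin 4)) * (FreeGroup.of (2 : Fin 4)) * (FreeGroup.of (0 : Fin 4)) * (FreeGroup.of (2 : Fin 4)) * (FreeGroup.of (3 : Fin 4))) ^ 3,
  ((FreeGroup.of (1 : Fin 4)) * (FreeGroup.of (3 : Fin 4)) * (FreeGroup.of (2 : Fin 4)) * (FreeGroup.of (1 : Fin 4)) * (FreeGroup.of (2 : Fin 4)) * (FreeGroup.of (3 : Fin 4))) ^ 3,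
  ((FreeGroup.of (1 : Fin 4)) * (FreeGroup.of (3 : Fin 4)) * (FreeGroup.of (2 : Fin 4)) * (FreeGroup.of (3 : Fin 4)) * (FreeGroup.of (2 : Fin 4)) * (FreeGroup.of (3 : Fin 4))) ^ 3,
  ((FreeGroup.of (2 : Fin 4)) * (FreeGroup.of (3 : Fin 4)) * (FreeGroup.of (2 : Fin 4)) * (FreeGroup.of (0 : Fin 4)) * (FreeGroup.of (2 : Fin 4)) * (FreeGroup.of (3 : Fin 4))) ^ 3,
  ((FreeGroup.of (2 : Fin 4)) * (FreeGroup.of (3 : Fin 4)) * (FreeGroup.of (2 : Fin 4)) * (FreeGroup.of (1 : Fin 4)) * (FreeGroup.of (2 : Fin 4)) * (FreeGroup.of (3 : Fin 4))) ^ 3,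
  ((FreeGroup.of (2 : Fin 4)) * (FreeGroup.of (3 : Fin 4)) * (FreeGroup.of (2 : Fin 4)) * (FreeGroup.of (3 : Fin 4)) * (FreeGroup.of (2 : Fin 4)) * (FreeGroup.of (3 : Fin 4))) ^ 3]

/-- the group side of the certificate -/
def D : Data (Fin 4) where
  lets := [(0,true),(1,true),(2,true),(3,true)]
  rs := rsL
  Hs := [(FreeGroup.of (0 : Fin 4)), (FreeGroup.of (1 : Fin 4)), (FreeGroup.of (2 : Fin 4))]
  rels := relsL
  hw := hwL

end Cfsg.Agent.Lib.Compute.TC.Fw4
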